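import Groth.Prelude.Def_Coh
import Mathlib.AlgebraicGeometry.Morphisms.Proper
import Mathlib.AlgebraicGeometry.Morphisms.FiniteType
import Mathlib.AlgebraicGeometry.Noetherian
import Mathlib.FieldTheory.IsAlgClosed.Basic
import Mathlib.RingTheory.Finiteness.Basic
import Mathlib.LinearAlgebra.FiniteDimensional.Defs

/-!
# `H⁰` as global sections; global functions of a proper integral scheme over a field
-/

set_option autoImplicit false
universe u

open CategoryTheory CategoryTheory.Limits AlgebraicGeometry Opposite TopologicalSpace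

namespace Groth.Agent.Lib.Curves.GlobalSections

variable {A : Type u} [CommRing A] {X : Scheme.{u}} [X.Over (Spec (CommRingCat.of A))]

variable (A) in
/-- Global sections as a module over the base ring. -/
@[reducible] noncomputable def secModule (M : X.Modules) : Module A (M.val.obj (op ⊤)) :=
  Module.compHom _ (Coh.toGlobal (X ↘ Spec (CommRingCat.of A)))

/-- `H⁰(X, M) ≃ Γ(M, X)`, additively. -/
noncomputable def h0Equiv (M : X.Modules) : Coh.HH X M 0 ≃+ (M.val.obj (op ⊤) : Type u) :=
  Sheaf.H.equiv₀ (Coh.toAb M) (isTerminalTop (α := Opens X))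

omit [X.Over (Spec (CommRingCat.of A))] in
lemma h0Equiv_smul (M : X.Modules) (r : Coh.Γtop X) (z : Coh.HH X M 0) :
    h0Equiv M (r • z) = r • h0Equiv M z := by
  change Sheaf.H.equiv₀ (Coh.toAb M) _ (Sheaf.H.map (Coh.smulAb M r) 0 z) = _
  rw [← Sheaf.H.equiv₀_naturality, Coh.smulAb_app]
  congr 1
  change (X.ringCatSheaf.obj.map (𝟙 (op ⊤))).hom r = r
  rw [CategoryTheory.Functor.map_id]
  rfl

variable (A) in
/-- `H⁰(X, M) ≃ Γ(M, X)`, linearly over the base. -/
noncomputable def h0Linear (M : X.Modules) :
    letI := secModule A M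
    Coh.HH X M 0 ≃ₗ[A] (M.val.obj (op ⊤) : Type u) :=
  letI := secModule A M
  { h0Equiv M with map_smul' := fun a z => h0Equiv_smul M (Coh.toGlobal _ a) z }

section Field

variable (k : Type u) [Field k] (X : Scheme.{u}) [X.Over (Spec (CommRingCat.of k))]

theorem finite_toGlobal [IsIntegral X] [UniversallyClosed (X ↘ Spec (CommRingCat.of k))]
    [LocallyOfFiniteType (X ↘ Spec (CommRingCat.of k))] :
    RingHom.Finite (B := Γ(X, ⊤)) (Coh.toGlobal (X ↘ Spec (CommRingCat.of k))) :=
  (finite_appTop_of_universallyClosed k (X ↘ Spec (CommRingCat.of k))).comp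
    (RingHom.Finite.of_surjective _
      (Scheme.ΓSpecIso (CommRingCat.of k)).commRingCatIsoToRingEquiv.symm.surjective)

/-- Global functions of a proper integral scheme over a field are finite dimensional. -/
theorem finite_h0_structure [IsIntegral X] [IsProper (X ↘ Spec (CommRingCat.of k))] :
    FiniteDimensional k (Coh.HH X (Coh.structureModule X) 0) :=
  letI := secModule k (Coh.structureModule X)
  haveI : Module.Finite k ((Coh.structureModule X).val.obj (op ⊤) : Type u) := finite_toGlobal k X
  Module.Finite.equiv (h0Linear k (Coh.structureModule X)).symm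

/-- Over an algebraically closed field they are the constants. -/
theorem finrank_h0_structure [IsAlgClosed k] [IsIntegral X]
    [IsProper (X ↘ Spec (CommRingCat.of k))] :
    Module.finrank k (Coh.HH X (Coh.structureModule X) 0) = 1 := by
  letI := secModule k (Coh.structureModule X)
  rw [(h0Linear k (Coh.structureModule X)).finrank_eq]
  haveI : IsDomain Γ(X, ⊤) := inferInstance
  letI : Algebra k Γ(X, ⊤) := RingHom.toAlgebra (S := Γ(X, ⊤)) (Coh.toGlobal (X ↘ Spec (CommRingCat.of k)))
  haveI : Module.Finite k Γ(X, ⊤) := finite_toGlobal k X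
  exact (Module.finrank_self k ▸ (AlgEquiv.ofBijective (Algebra.ofId k Γ(X, ⊤))
    IsAlgClosed.algebraMap_bijective_of_isIntegral).toLinearEquiv.finrank_eq).symm

/-- A proper scheme over a field is noetherian. -/
theorem isNoetherian_of_proper [IsProper (X ↘ Spec (CommRingCat.of k))] : IsNoetherian X := by
  haveI : IsLocallyNoetherian X :=
    LocallyOfFiniteType.isLocallyNoetherian (X ↘ Spec (CommRingCat.of k))
  haveI : CompactSpace X :=
    QuasiCompact.compactSpace_of_compactSpace (X ↘ Spec (CommRingCat.of k))
  exact {}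

theorem noetherianSpace_of_proper [IsProper (X ↘ Spec (CommRingCat.of k))] : NoetherianSpace X :=
  haveI := isNoetherian_of_proper k X
  inferInstance

end Field

end Groth.Agent.Lib.Curves.GlobalSections
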