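import Groth.Prelude.Def_Coh
import Groth.Agent.Lib.Modules.ToSheaf
import Mathlib.Algebra.Homology.DerivedCategory.Ext.ExactSequences
import Mathlib.Algebra.Homology.ShortComplex.ExactFunctor
import Mathlib.Algebra.Category.ModuleCat.Sheaf.Limits

/-!
# The long exact sequence of `Coh.HH`, linear over a base ring

For a short exact sequence `S` of `O_X`-modules (`X` over `Spec A`) we give the maps `mapK A φ n` and
`δK A hS n n' h` as `A`-linear maps (`mapL`, `δL` are the versions linear over global functions),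
with exactness `exactK₁`, `exactK₂`, `exactK₃` and `mapK_injective_of_mono`.
-/

set_option autoImplicit false
universe u v w

open CategoryTheory CategoryTheory.Limits AlgebraicGeometry Opposite TopologicalSpace Abelian

namespace Groth.Agent.Lib.Curves.LES

/-- Naturality of the connecting map for an endomorphism of a short exact sequence. -/
lemma postcomp_extClass_natural {C : Type v} [Category.{u} C] [Abelian C] [HasExt.{u} C] {Y : C}
    {S : ShortComplex C} (hS : S.ShortExact) (φ : S ⟶ S) {n n' : ℕ} (h : n + 1 = n')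
    (x : Ext Y S.X₃ n) :
    (x.comp (Ext.mk₀ φ.τ₃) (add_zero n)).comp hS.extClass h =
      (x.comp hS.extClass h).comp (Ext.mk₀ φ.τ₁) (add_zero n') := by
  rw [Ext.comp_assoc_of_second_deg_zero, Ext.comp_assoc_of_third_deg_zero,
    ShortComplex.ShortExact.extClass_naturality hS hS φ]

lemma postcomp_exact₂ {C : Type v} [Category.{u} C] [Abelian C] [HasExt.{u} C] (Y : C)
    {S : ShortComplex C} (hS : S.ShortExact) (n : ℕ) :
    Function.Exact ((Ext.mk₀ S.f).postcomp Y (add_zero n)) ((Ext.mk₀ S.g).postcomp Y (add_zero n)) := by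
  have h := Ext.covariant_sequence_exact₂' Y hS n
  rw [ShortComplex.ab_exact_iff_function_exact] at h
  exact h

lemma postcomp_exact₃ {C : Type v} [Category.{u} C] [Abelian C] [HasExt.{u} C] (Y : C)
    {S : ShortComplex C} (hS : S.ShortExact) (n n' : ℕ) (h : n + 1 = n') :
    Function.Exact ((Ext.mk₀ S.g).postcomp Y (add_zero n)) (hS.extClass.postcomp Y h) := by
  have h' := Ext.covariant_sequence_exact₃' Y hS n n' h
  rw [ShortComplex.ab_exact_iff_function_exact] at h'
  exact h'

lemma postcomp_exact₁ {C : Type v} [Category.{u} C] [Abelian C] [HasExt.{u} C] (Y : C)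
    {S : ShortComplex C} (hS : S.ShortExact) (n n' : ℕ) (h : n + 1 = n') :
    Function.Exact (hS.extClass.postcomp Y h) ((Ext.mk₀ S.f).postcomp Y (add_zero n')) := by
  have h' := Ext.covariant_sequence_exact₁' Y hS n n' h
  rw [ShortComplex.ab_exact_iff_function_exact] at h'
  exact h'

variable {X : Scheme.{u}}

/-- The underlying abelian sheaf functor. -/
noncomputable abbrev F (X : Scheme.{u}) :
    X.Modules ⥤ Sheaf (Opens.grothendieckTopology X) AddCommGrpCat.{u} :=
  SheafOfModules.toSheaf.{u} X.ringCatSheaf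

instance additive_F (X : Scheme.{u}) : (F X).Additive where

noncomputable instance preservesFiniteLimits_F (X : Scheme.{u}) : PreservesFiniteLimits (F X) :=
  inferInstanceAs (PreservesFiniteLimits (SheafOfModules.toSheaf.{u} X.ringCatSheaf))

noncomputable instance preservesFiniteColimits_F (X : Scheme.{u}) : PreservesFiniteColimits (F X) :=
  inferInstanceAs (PreservesFiniteColimits (SheafOfModules.toSheaf.{u} X.ringCatSheaf))

/-- The underlying map of abelian sheaves. -/
noncomputable abbrev toAbMap {M N : X.Modules} (φ : M ⟶ N) : Coh.toAb M ⟶ Coh.toAb N :=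
  (F X).map φ

lemma smulAb_naturality {M N : X.Modules} (φ : M ⟶ N) (r : Coh.Γtop X) :
    Coh.smulAb M r ≫ toAbMap φ = toAbMap φ ≫ Coh.smulAb N r := by
  ext U m
  exact (φ.val.app U).hom.map_smul (Coh.resTop X U r) m

lemma smul_eq (M : X.Modules) (n : ℕ) (r : Coh.Γtop X) (x : Coh.HH X M n) :
    r • x = Sheaf.H.map (Coh.smulAb M r) n x := rfl

/-- The map on cohomology, linear over global functions. -/
noncomputable def mapL {M N : X.Modules} (φ : M ⟶ N) (n : ℕ) :
    Coh.HH X M n →ₗ[Coh.Γtop X] Coh.HH X N n :=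
  { (Sheaf.H.map (toAbMap φ) n : Coh.HH X M n →+ Coh.HH X N n) with
    map_smul' := fun r x =>
      (congrArg (Sheaf.H.map (toAbMap φ) n) (smul_eq M n r x)).trans
        (((Sheaf.H.map_comp_apply _ _ _).symm.trans
          ((congrArg (fun g => Sheaf.H.map g n x) (smulAb_naturality φ r)).trans
            (Sheaf.H.map_comp_apply _ _ _))).trans (smul_eq N n r _).symm) }

/-- An abelian-sheaf level short exact sequence from one of modules. -/
noncomputable abbrev abSES (S : ShortComplex X.Modules) :
    ShortComplex (Sheaf (Opens.grothendieckTopology X) AddCommGrpCat.{u}) :=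
  S.map (F X)

lemma shortExact_abSES {S : ShortComplex X.Modules} (hS : S.ShortExact) : (abSES S).ShortExact :=
  hS.map_of_exact (F X)

/-- Multiplication by a global function on the sheaf level sequence. -/
noncomputable def smulSES (S : ShortComplex X.Modules) (r : Coh.Γtop X) : abSES S ⟶ abSES S where
  τ₁ := Coh.smulAb S.X₁ r
  τ₂ := Coh.smulAb S.X₂ r
  τ₃ := Coh.smulAb S.X₃ r
  comm₁₂ := smulAb_naturality S.f r
  comm₂₃ := smulAb_naturality S.g r

/-- The constant sheaf `ℤ`, whose `Ext`-groups define cohomology. -/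
noncomputable abbrev cst (X : Scheme.{u}) : Sheaf (Opens.grothendieckTopology X) AddCommGrpCat.{u} :=
  (constantSheaf _ AddCommGrpCat.{u}).obj (AddCommGrpCat.of (ULift.{u} ℤ))

/-- The connecting map, linear over global functions. -/
noncomputable def δL {S : ShortComplex X.Modules} (hS : S.ShortExact) (n n' : ℕ) (h : n + 1 = n') :
    Coh.HH X S.X₃ n →ₗ[Coh.Γtop X] Coh.HH X S.X₁ n' :=
  { ((shortExact_abSES hS).extClass.postcomp (cst X) h :
      Coh.HH X S.X₃ n →+ Coh.HH X S.X₁ n') with
    map_smul' := fun r x => by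
      refine (congrArg ((shortExact_abSES hS).extClass.postcomp (cst X) h)
        (smul_eq S.X₃ n r x)).trans (Eq.trans ?_ (smul_eq S.X₁ n' r _).symm)
      exact @postcomp_extClass_natural (Sheaf (Opens.grothendieckTopology X) AddCommGrpCat.{u}) _ _ _
        (cst X) (abSES S) (shortExact_abSES hS) (smulSES S r) n n' h x }

variable (A : Type u) [CommRing A] [X.Over (Spec (CommRingCat.of A))]

/-- The map on cohomology, linear over the base ring. -/
noncomputable def mapK {M N : X.Modules} (φ : M ⟶ N) (n : ℕ) :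
    Coh.HH X M n →ₗ[A] Coh.HH X N n :=
  { (mapL φ n).toAddMonoidHom with
    map_smul' := fun a x => (mapL φ n).map_smul (Coh.toGlobal (X ↘ Spec (CommRingCat.of A)) a) x }

/-- The connecting map, linear over the base ring. -/
noncomputable def δK {S : ShortComplex X.Modules} (hS : S.ShortExact) (n n' : ℕ) (h : n + 1 = n') :
    Coh.HH X S.X₃ n →ₗ[A] Coh.HH X S.X₁ n' :=
  { (δL hS n n' h).toAddMonoidHom with
    map_smul' := fun a x =>
      (δL hS n n' h).map_smul (Coh.toGlobal (X ↘ Spec (CommRingCat.of A)) a) x }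

lemma mapK_comp {M N P : X.Modules} (φ : M ⟶ N) (ψ : N ⟶ P) (n : ℕ) :
    mapK A (φ ≫ ψ) n = (mapK A ψ n).comp (mapK A φ n) :=
  LinearMap.ext fun x =>
    (congrArg (fun g => Sheaf.H.map g n x) (Functor.map_comp _ φ ψ)).trans
      (Sheaf.H.map_comp_apply _ _ _)

lemma mapK_id (M : X.Modules) (n : ℕ) : mapK A (𝟙 M) n = LinearMap.id :=
  LinearMap.ext fun x =>
    (congrArg (fun g => Sheaf.H.map g n x) (CategoryTheory.Functor.map_id _ M)).trans
      (Sheaf.H.map_id_apply _)

/-- An isomorphism of modules induces a linear equivalence on cohomology. -/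
noncomputable def isoK {M N : X.Modules} (e : M ≅ N) (n : ℕ) :
    Coh.HH X M n ≃ₗ[A] Coh.HH X N n :=
  LinearEquiv.ofLinearMap (mapK A e.hom n) (mapK A e.inv n)
    (by rw [← mapK_comp, Iso.inv_hom_id, mapK_id]) (by rw [← mapK_comp, Iso.hom_inv_id, mapK_id])

lemma mapK_injective_of_mono {M N : X.Modules} (φ : M ⟶ N) [Mono φ] :
    Function.Injective (mapK A φ 0) :=
  have : Mono (toAbMap φ) := Functor.map_mono (F X) φ
  Ext.postcomp_mk₀_injective_of_mono (cst X) (toAbMap φ)

variable {S : ShortComplex X.Modules} (hS : S.ShortExact)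

include hS in
lemma exactK₂ (n : ℕ) : Function.Exact (mapK A S.f n) (mapK A S.g n) :=
  postcomp_exact₂ (cst X) (shortExact_abSES hS) n

lemma exactK₃ (n n' : ℕ) (h : n + 1 = n') : Function.Exact (mapK A S.g n) (δK A hS n n' h) :=
  postcomp_exact₃ (cst X) (shortExact_abSES hS) n n' h

lemma exactK₁ (n n' : ℕ) (h : n + 1 = n') : Function.Exact (δK A hS n n' h) (mapK A S.f n') :=
  postcomp_exact₁ (cst X) (shortExact_abSES hS) n n' h

end Groth.Agent.Lib.Curves.LES
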