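import Groth.Prelude.Def_CurvBase
import Groth.Agent.Lib.Curves.LES
import Mathlib.LinearAlgebra.FiniteDimensional.Lemmas
import Mathlib.LinearAlgebra.Dimension.Constructions

/-!
# Euler characteristic of modules with cohomology in degrees `≤ 1`

`IsGood k X F`: `H⁰` and `H¹` finite dimensional, `Hⁱ = 0` for `i ≥ 2`.
-/

set_option autoImplicit false
universe u v

open CategoryTheory CategoryTheory.Limits AlgebraicGeometry

namespace Groth.Agent.Lib.Curves.Euler

open Groth.Agent.Lib.Curves.LES

section LinearAlgebra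

variable {k : Type u} [Field k] {A B C : Type v} [AddCommGroup A] [AddCommGroup B] [AddCommGroup C]
  [Module k A] [Module k B] [Module k C]

lemma finrank_range_add_finrank_range [FiniteDimensional k B] {f : A →ₗ[k] B} {g : B →ₗ[k] C}
    (h : Function.Exact f g) :
    Module.finrank k (LinearMap.range f) + Module.finrank k (LinearMap.range g) =
      Module.finrank k B := by
  rw [← LinearMap.exact_iff.mp h, add_comm, LinearMap.finrank_range_add_finrank_ker]

lemma finite_of_exact [FiniteDimensional k A] [FiniteDimensional k C] {f : A →ₗ[k] B}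
    {g : B →ₗ[k] C} (h : Function.Exact f g) : FiniteDimensional k B := by
  have h1 : (LinearMap.ker g).FG := by
    rw [LinearMap.exact_iff.mp h]; exact Submodule.fg_iff_finiteDimensional _ |>.mpr inferInstance
  have h2 : ((⊤ : Submodule k B).map g).FG :=
    Submodule.fg_iff_finiteDimensional _ |>.mpr inferInstance
  exact ⟨Submodule.fg_of_fg_map_of_fg_inf_ker g h2 (by rwa [top_inf_eq])⟩

lemma finrank_six {A₁ A₂ A₃ B₁ B₂ B₃ : Type v} [AddCommGroup A₁] [AddCommGroup A₂] [AddCommGroup A₃]
    [AddCommGroup B₁] [AddCommGroup B₂] [AddCommGroup B₃] [Module k A₁] [Module k A₂] [Module k A₃]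
    [Module k B₁] [Module k B₂] [Module k B₃] [FiniteDimensional k A₁] [FiniteDimensional k A₂]
    [FiniteDimensional k A₃] [FiniteDimensional k B₁] [FiniteDimensional k B₂] [FiniteDimensional k B₃]
    {f₁ : A₁ →ₗ[k] A₂} {g₁ : A₂ →ₗ[k] A₃} {d : A₃ →ₗ[k] B₁} {f₂ : B₁ →ₗ[k] B₂} {g₂ : B₂ →ₗ[k] B₃}
    (hf : Function.Injective f₁) (h₁ : Function.Exact f₁ g₁) (h₂ : Function.Exact g₁ d)
    (h₃ : Function.Exact d f₂) (h₄ : Function.Exact f₂ g₂) (hg : Function.Surjective g₂) :
    (Module.finrank k A₂ : ℤ) - Module.finrank k B₂ =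
      ((Module.finrank k A₁ : ℤ) - Module.finrank k B₁) +
        ((Module.finrank k A₃ : ℤ) - Module.finrank k B₃) := by
  have e₁ := LinearMap.finrank_range_of_inj hf
  have e₂ := finrank_range_add_finrank_range h₁
  have e₃ := finrank_range_add_finrank_range h₂
  have e₄ := finrank_range_add_finrank_range h₃
  have e₅ := finrank_range_add_finrank_range h₄
  have e₆ : Module.finrank k (LinearMap.range g₂) = Module.finrank k B₃ := by
    rw [LinearMap.range_eq_top.mpr hg, finrank_top]
  omega

end LinearAlgebra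

variable (k : Type u) [Field k] (X : Scheme.{u}) [X.Over (Spec (CommRingCat.of k))]

/-- Finite dimensional cohomology, concentrated in degrees `0` and `1`. -/
structure IsGood (F : X.Modules) : Prop where
  fin₀ : FiniteDimensional k (Coh.HH X F 0)
  fin₁ : FiniteDimensional k (Coh.HH X F 1)
  vanish : ∀ i : ℕ, 2 ≤ i → Subsingleton (Coh.HH X F i)

/-- `dim_k Hⁱ(X, F)`. -/
noncomputable abbrev hdim (F : X.Modules) (i : ℕ) : ℕ := Module.finrank k (Coh.HH X F i)

variable {k X}

lemma hdim_eq_of_iso {F G : X.Modules} (e : F ≅ G) (i : ℕ) : hdim k X F i = hdim k X G i :=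
  (isoK k e i).finrank_eq

lemma euler_eq_of_iso {F G : X.Modules} (e : F ≅ G) : Curv2.euler k X F = Curv2.euler k X G := by
  unfold Curv2.euler
  exact finsum_congr fun i => by rw [(isoK k e i).finrank_eq]

lemma deg_eq_of_iso {F G : X.Modules} (e : F ≅ G) (n : ℕ) :
    Curv2.deg k X F n = Curv2.deg k X G n := by
  unfold Curv2.deg
  rw [euler_eq_of_iso e]

lemma IsGood.of_iso {F G : X.Modules} (e : F ≅ G) (h : IsGood k X F) : IsGood k X G where
  fin₀ := haveI := h.fin₀; Module.Finite.equiv (isoK k e 0)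
  fin₁ := haveI := h.fin₁; Module.Finite.equiv (isoK k e 1)
  vanish i hi := haveI := h.vanish i hi; (isoK k e i).symm.toEquiv.subsingleton

/-- For cohomology in degrees `≤ 1` the Euler characteristic is `h⁰ - h¹`. -/
lemma euler_eq {F : X.Modules} (h : ∀ i : ℕ, 2 ≤ i → Subsingleton (Coh.HH X F i)) :
    Curv2.euler k X F = (hdim k X F 0 : ℤ) - hdim k X F 1 := by
  unfold Curv2.euler
  rw [finsum_eq_sum_of_support_subset _ (s := Finset.range 2) ?_, Finset.sum_range_succ,
    Finset.sum_range_one]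
  · simp only [pow_zero, one_mul, pow_one, neg_one_mul]
    ring
  · intro i hi
    by_contra hc
    have : 2 ≤ i := by
      simp only [Finset.coe_range, Set.mem_Iio, not_lt] at hc
      exact hc
    haveI := h i this
    exact hi (by simp [Module.finrank_zero_of_subsingleton])

lemma IsGood.euler {F : X.Modules} (h : IsGood k X F) :
    Curv2.euler k X F = (hdim k X F 0 : ℤ) - hdim k X F 1 :=
  euler_eq h.vanish

variable {S : ShortComplex X.Modules}

/-- The middle term is good if the outer ones are. -/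
lemma IsGood.middle (hS : S.ShortExact) (h₁ : IsGood k X S.X₁) (h₃ : IsGood k X S.X₃) :
    IsGood k X S.X₂ where
  fin₀ := haveI := h₁.fin₀; haveI := h₃.fin₀; finite_of_exact (exactK₂ k hS 0)
  fin₁ := haveI := h₁.fin₁; haveI := h₃.fin₁; finite_of_exact (exactK₂ k hS 1)
  vanish i hi := by
    haveI := h₁.vanish i hi
    haveI := h₃.vanish i hi
    refine subsingleton_of_forall_eq 0 fun x => ?_
    obtain ⟨y, rfl⟩ := (exactK₂ k hS i x).mp (Subsingleton.elim _ _)
    rw [Subsingleton.elim y 0, map_zero]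

/-- The first term is good if the last two are. -/
lemma IsGood.left (hS : S.ShortExact) (h₂ : IsGood k X S.X₂) (h₃ : IsGood k X S.X₃)
    (hv : ∀ i : ℕ, 2 ≤ i → Subsingleton (Coh.HH X S.X₁ i)) :
    IsGood k X S.X₁ where
  fin₀ := haveI := h₂.fin₀; Module.Finite.of_injective _
    (haveI := hS.mono_f; mapK_injective_of_mono k S.f)
  fin₁ := haveI := h₃.fin₀; haveI := h₂.fin₁; finite_of_exact (exactK₁ k hS 0 1 rfl)
  vanish := hv

/-- Additivity of the Euler characteristic. -/
theorem euler_add (hS : S.ShortExact) (h₁ : IsGood k X S.X₁) (h₂ : IsGood k X S.X₂)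
    (h₃ : IsGood k X S.X₃) :
    Curv2.euler k X S.X₂ = Curv2.euler k X S.X₁ + Curv2.euler k X S.X₃ := by
  haveI := h₁.fin₀; haveI := h₁.fin₁; haveI := h₂.fin₀
  haveI := h₂.fin₁; haveI := h₃.fin₀; haveI := h₃.fin₁
  haveI := h₁.vanish 2 le_rfl
  haveI := hS.mono_f
  rw [h₁.euler, h₂.euler, h₃.euler]
  refine finrank_six (mapK_injective_of_mono k S.f) (exactK₂ k hS 0) (exactK₃ k hS 0 1 rfl)
    (exactK₁ k hS 0 1 rfl) (exactK₂ k hS 1) fun x => ?_
  exact (exactK₃ k hS 1 2 rfl x).mp (Subsingleton.elim _ _)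

lemma hdim_zero_le_of_mono {F G : X.Modules} (φ : F ⟶ G) [Mono φ]
    [FiniteDimensional k (Coh.HH X G 0)] : hdim k X F 0 ≤ hdim k X G 0 :=
  LinearMap.finrank_le_finrank_of_injective (mapK_injective_of_mono k φ)

/-- Sections grow by at most `h⁰` of the quotient. -/
lemma hdim_zero_le_add (hS : S.ShortExact) [FiniteDimensional k (Coh.HH X S.X₁ 0)]
    [FiniteDimensional k (Coh.HH X S.X₃ 0)] :
    hdim k X S.X₂ 0 ≤ hdim k X S.X₁ 0 + hdim k X S.X₃ 0 := by
  haveI := finite_of_exact (exactK₂ k hS 0)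
  have h := finrank_range_add_finrank_range (exactK₂ k hS 0)
  have h1 := LinearMap.finrank_range_le (mapK k S.f 0)
  have h3 := Submodule.finrank_le (LinearMap.range (mapK k S.g 0))
  unfold hdim
  omega

/-- `H¹` of the middle term surjects onto `H¹` of the last when `H²` of the first vanishes. -/
lemma surjective_h1 (hS : S.ShortExact) (h : Subsingleton (Coh.HH X S.X₁ 2)) :
    Function.Surjective (mapK k S.g 1 : Coh.HH X S.X₂ 1 →ₗ[k] Coh.HH X S.X₃ 1) := fun x =>
  (exactK₃ k hS 1 2 rfl x).mp (Subsingleton.elim _ _)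

include k in
lemma subsingleton_h1_of_quotient (hS : S.ShortExact) (h : Subsingleton (Coh.HH X S.X₂ 1))
    (h' : Subsingleton (Coh.HH X S.X₁ 2)) : Subsingleton (Coh.HH X S.X₃ 1) :=
  (surjective_h1 (k := k) hS h').subsingleton

end Groth.Agent.Lib.Curves.Euler
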