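import Groth.Prelude.Def_CurvBase
import Groth.Agent.Lib.Curves.Euler
import Groth.Agent.H34.VanishOne
import Groth.Agent.Lib.Modules.StalkModule
import Groth.Agent.Lib.Modules.Support
import Groth.Agent.Lib.TensorMod.Integral
import Mathlib.AlgebraicGeometry.Noetherian
import Mathlib.AlgebraicGeometry.FunctionField

/-!
# Positivity of the degree on a curve

Sheaves without stalks at generic points are flasque; a nonzero map of invertible modules on an
integral curve is mono with such a cokernel, so `deg` is monotone, and rigid when equal.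
-/

set_option autoImplicit false
universe u

open CategoryTheory CategoryTheory.Limits AlgebraicGeometry Opposite TopologicalSpace

namespace Groth.Agent.Lib.Curves.Positivity

open Groth.Agent.Lib.Curves.LES Groth.Agent.Lib.Curves.Euler

variable {X : Scheme.{u}} [NoetherianSpace X]

/-- Cohomology vanishes in degrees `≥ 2` in dimension `≤ 1`. -/
theorem subsingleton_HH_of_two_le (hdim : topologicalKrullDim X ≤ 1) (F : X.Modules) (i : ℕ)
    (hi : 2 ≤ i) : Subsingleton (Coh.HH X F i) := by
  obtain ⟨n, rfl⟩ : ∃ n, i = n + 2 := ⟨i - 2, by omega⟩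
  exact H34.VanishOne.H_subsingleton hdim (Coh.toAb F) n

/-- No stalk at any generic point of an irreducible component. -/
def IsTorsion (Q : X.Modules) : Prop :=
  ∀ x : X, H34.VanishOne.IsGenPt (X := X.toTopCat) x → Subsingleton (Q.presheaf.stalk x)

lemma IsTorsion.flasque (hdim : topologicalKrullDim X ≤ 1) {Q : X.Modules} (h : IsTorsion Q) :
    TopCat.Sheaf.IsFlasque (Coh.toAb Q) :=
  H34.VanishOne.isFlasque_of_isZero_stalk hdim (Coh.toAb Q) fun x hx =>
    @AddCommGrpCat.isZero_of_subsingleton _ (h x hx)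

lemma IsTorsion.subsingleton_HH_succ (hdim : topologicalKrullDim X ≤ 1) {Q : X.Modules}
    (h : IsTorsion Q) (n : ℕ) : Subsingleton (Coh.HH X Q (n + 1)) :=
  haveI := h.flasque hdim
  Lib.ZarCoh.Basic.H_flasque (Coh.toAb Q) n

omit [NoetherianSpace X] in
/-- A flasque module without cohomology in degree zero vanishes. -/
lemma isZero_of_flasque {Q : X.Modules} [TopCat.Sheaf.IsFlasque (Coh.toAb Q)]
    (h0 : Subsingleton (Coh.HH X Q 0)) : IsZero Q := by
  rw [Modules.Stalk.isZero_iff_stalk_subsingleton]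
  intro x
  have hglob : ∀ t : Γ(Q, ⊤), t = 0 := fun t => by
    have := congrArg (Sheaf.H.equiv₀ (Coh.toAb Q) (isTerminalTop (α := Opens X)))
      (Subsingleton.elim ((Sheaf.H.equiv₀ (Coh.toAb Q) (isTerminalTop (α := Opens X))).symm t) 0)
    rw [AddEquiv.apply_symm_apply, map_zero] at this
    exact this
  refine subsingleton_of_forall_eq 0 fun z => ?_
  obtain ⟨U, hx, m, rfl⟩ := TopCat.Presheaf.germ_exist (F := Q.presheaf) z
  obtain ⟨t, rfl⟩ := (AddCommGrpCat.epi_iff_surjective _).mp
    (TopCat.Presheaf.IsFlasque.epi (F := (Coh.toAb Q).obj) (homOfLE (le_top : U ≤ ⊤)).op) m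
  exact (congrArg (fun t => Q.presheaf.germ U x hx (Q.presheaf.map (homOfLE le_top).op t))
    (hglob t)).trans (by rw [map_zero, map_zero])

section Maps

open Groth.Agent.Lib.TensorMod Gen Dual HomGlue

variable [IsIntegral X] {L M : X.Modules}

omit [NoetherianSpace X] in
lemma eq_genericPoint_of_isGenPt {x : X} (hx : H34.VanishOne.IsGenPt (X := X.toTopCat) x) :
    x = genericPoint X := by
  haveI : T0Space X.toTopCat := inferInstanceAs (T0Space X)
  have h : (genericPoint X) ⤳ x := genericPoint_specializes x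
  exact ((specializes_iff_closure_subset.2
    (hx.2 isIrreducible_singleton.closure (specializes_iff_closure_subset.1 h))).antisymm h).eq

omit [NoetherianSpace X] in
/-- A nonzero map of invertible modules on an integral scheme is mono. -/
theorem mono_of_ne_zero (hL : PicF.IsInvertible L) (hM : PicF.IsInvertible M) {φ : L ⟶ M}
    (hφ : φ ≠ 0) : Mono φ := by
  rw [Modules.Stalk.mono_iff_app_injective]
  intro W
  rw [injective_iff_map_eq_zero]
  intro m hm
  choose U e e' e'' hxU he he' he'' using Integral.gen_cover₃ hL hM hM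
  refine HomGlue.sections_ext_cover U L (V := W) (fun y _ => Opens.mem_iSup.2 ⟨y, hxU y⟩) fun x => ?_
  obtain ⟨a, ha⟩ := (he x (W ⊓ U x) inf_le_right).2 (rs L inf_le_left m)
  obtain ⟨b, hb⟩ := (he' x (W ⊓ U x) inf_le_right).2 (φ.app _ (rs L inf_le_right (e x)))
  simp only at ha hb
  suffices a = 0 by
    rw [← ha, this, zero_smul]
    exact (map_zero (L.presheaf.map _).hom).symm
  rcases isEmpty_or_nonempty ↥(W ⊓ U x : X.Opens) with hem | hne
  · have : Subsingleton Γ(X, W ⊓ U x) := by
      have : (W ⊓ U x : X.Opens) = ⊥ := le_bot_iff.mp fun p hp => (hem.false ⟨p, hp⟩).elim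
      rw [this]; infer_instance
    exact Subsingleton.elim _ _
  have h1 : φ.app (W ⊓ U x) (rs L inf_le_left m) = 0 := by
    rw [← rs_app, hm]
    exact map_zero (M.presheaf.map _).hom
  rw [← ha, Scheme.Modules.Hom.app_smul, ← hb, smul_smul] at h1
  have h2 : a * b = 0 := (he' x _ inf_le_right).1 (by simpa only [zero_smul] using h1)
  haveI : IsDomain Γ(X, W ⊓ U x) := @IsIntegral.component_integral X _ (W ⊓ U x) hne
  refine (mul_eq_zero.mp h2).resolve_right fun hb0 => ?_
  exact Integral.app_gen_ne_zero hL hM hφ ((he x).res inf_le_right) hne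
    (by rw [← hb, hb0, zero_smul])

omit [NoetherianSpace X] in
/-- The cokernel of a nonzero map of invertible modules has no generic stalk. -/
theorem isTorsion_cokernel (hL : PicF.IsInvertible L) (hM : PicF.IsInvertible M) {φ : L ⟶ M}
    (hφ : φ ≠ 0) : IsTorsion (cokernel φ) := by
  intro x hx
  rw [eq_genericPoint_of_isGenPt hx]
  clear hx x
  obtain ⟨U, e, e', -, hηU, he, he', -⟩ := Integral.gen_cover₃ hL hM hM (genericPoint X)
  obtain ⟨b, hb⟩ := (he' U le_rfl).2 (φ.app U e)
  simp only [rs_self] at hb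
  have hb0 : b ≠ 0 := fun h =>
    Integral.app_gen_ne_zero hL hM hφ he ⟨⟨_, hηU⟩⟩ (by rw [← hb, h, zero_smul])
  have hbu : IsUnit (X.presheaf.germ U _ hηU b) :=
    (isUnit_iff_ne_zero (G₀ := X.functionField)).mpr fun h =>
      hb0 (germ_injective_of_isIntegral X _ hηU (h.trans (map_zero _).symm))
  obtain ⟨c, hc⟩ := hbu.exists_left_inv
  have hsurj : Function.Surjective (Modules.StalkModule.stalkMapₗ φ (genericPoint X)) := by
    intro z
    obtain ⟨V, hηV, m, rfl⟩ := TopCat.Presheaf.germ_exist (F := M.presheaf) z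
    have hη : genericPoint X ∈ V ⊓ U := ⟨hηV, hηU⟩
    obtain ⟨a, ha⟩ := (he' (V ⊓ U) inf_le_right).2 (rs M inf_le_left m)
    simp only at ha
    refine ⟨(X.presheaf.germ _ _ hη a * c) • L.presheaf.germ U _ hηU e, ?_⟩
    rw [map_smul, Modules.StalkModule.stalkMapₗ_germ, ← hb, Modules.StalkModule.germ_smul,
      smul_smul, mul_assoc, hc, mul_one,
      ← TopCat.Presheaf.germ_res_apply M.presheaf (homOfLE (inf_le_right : V ⊓ U ≤ U)) _ hη e',
      ← Modules.StalkModule.germ_smul]
    refine Eq.trans ?_ (TopCat.Presheaf.germ_res_apply M.presheaf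
      (homOfLE (inf_le_left : V ⊓ U ≤ V)) _ hη m)
    exact congrArg _ ha
  have hepi : Epi ((Modules.Stalk.stalkFunctor X (genericPoint X)).map φ) :=
    (AddCommGrpCat.epi_iff_surjective _).mpr hsurj
  have hz : IsZero ((Modules.Stalk.stalkFunctor X (genericPoint X)).obj (cokernel φ)) := by
    refine IsZero.of_epi_eq_zero ((Modules.Stalk.stalkFunctor X _).map (cokernel.π φ)) ?_
    rw [← cancel_epi ((Modules.Stalk.stalkFunctor X _).map φ), comp_zero, ← Functor.map_comp,
      cokernel.condition, Functor.map_zero]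
  exact AddCommGrpCat.subsingleton_of_isZero hz

omit [NoetherianSpace X] [IsIntegral X] in
/-- A nonzero class in degree zero gives a nonzero map from `O_X`. -/
lemma exists_section_of_nontrivial (h : Nontrivial (Coh.HH X L 0)) :
    ∃ s : Coh.structureModule X ⟶ L, s ≠ 0 := by
  obtain ⟨z, hz⟩ := exists_ne (0 : Coh.HH X L 0)
  let t : Γ(L, ⊤) := Sheaf.H.equiv₀ (Coh.toAb L) (isTerminalTop (α := Opens X)) z
  obtain ⟨s, hs⟩ := exists_hom_of_family (M := L) (fun W => rs L le_top t)
    fun V W h => rs_rs L le_top h t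
  refine ⟨s, fun h0 => hz ?_⟩
  have ht : t = 0 := by
    rw [← rs_self L (le_top : (⊤ : X.Opens) ≤ ⊤) t, ← hs ⊤, h0]
    rfl
  exact (Sheaf.H.equiv₀ (Coh.toAb L) (isTerminalTop (α := Opens X))).injective
    (ht.trans (map_zero _).symm)

end Maps

section Field

variable {k : Type u} [Field k] [X.Over (Spec (CommRingCat.of k))]

lemma IsTorsion.isGood (hdim : topologicalKrullDim X ≤ 1) {Q : X.Modules} (h : IsTorsion Q)
    (h0 : FiniteDimensional k (Coh.HH X Q 0)) : IsGood k X Q where
  fin₀ := h0
  fin₁ := by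
    haveI := h.subsingleton_HH_succ hdim 0
    exact Module.Finite.of_finite
  vanish := subsingleton_HH_of_two_le hdim Q

lemma IsTorsion.euler (hdim : topologicalKrullDim X ≤ 1) {Q : X.Modules} (h : IsTorsion Q) :
    Curv2.euler k X Q = (Module.finrank k (Coh.HH X Q 0) : ℤ) := by
  haveI := h.subsingleton_HH_succ hdim 0
  rw [euler_eq (subsingleton_HH_of_two_le hdim Q)]
  simp [Euler.hdim, Module.finrank_zero_of_subsingleton]

section Degree

variable [IsIntegral X] {L M : X.Modules}

/-- The short exact sequence of a map with its cokernel. -/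
noncomputable abbrev cokerSES (φ : L ⟶ M) : ShortComplex X.Modules :=
  ShortComplex.mk φ (cokernel.π φ) (cokernel.condition φ)

omit [NoetherianSpace X] [IsIntegral X] in
lemma cokerSES_shortExact (φ : L ⟶ M) [Mono φ] : (cokerSES φ).ShortExact :=
  { exact := ShortComplex.exact_cokernel φ
    mono_f := inferInstanceAs (Mono φ)
    epi_g := inferInstanceAs (Epi (cokernel.π φ)) }

/-- The degree is monotone along a nonzero map of invertible modules, with the defect `h⁰` of the
cokernel, which is good. -/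
theorem deg_add_hdim_cokernel (hdim : topologicalKrullDim X ≤ 1) (hL : PicF.IsInvertible L)
    (hM : PicF.IsInvertible M) (gL : IsGood k X L) (gM : IsGood k X M) {φ : L ⟶ M} (hφ : φ ≠ 0) :
    IsGood k X (cokernel φ) ∧
      Curv2.deg k X M 1 = Curv2.deg k X L 1 + Euler.hdim k X (cokernel φ) 0 := by
  haveI := mono_of_ne_zero hL hM hφ
  have hS := cokerSES_shortExact φ
  have hT := isTorsion_cokernel hL hM hφ
  haveI := gL.fin₁
  haveI := gM.fin₀
  have h0 : FiniteDimensional k (Coh.HH X (cokerSES φ).X₃ 0) :=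
    finite_of_exact (exactK₃ k hS 0 1 rfl)
  have gQ : IsGood k X (cokerSES φ).X₃ := hT.isGood hdim h0
  refine ⟨gQ, ?_⟩
  have h := euler_add hS gL gM gQ
  have hQ : Curv2.euler k X (cokerSES φ).X₃ = (Euler.hdim k X (cokernel φ) 0 : ℤ) := hT.euler hdim
  unfold Curv2.deg
  linarith

/-- `deg L ≤ deg M` for a nonzero map `L ⟶ M` of invertible modules. -/
theorem deg_le_of_ne_zero (hdim : topologicalKrullDim X ≤ 1) (hL : PicF.IsInvertible L)
    (hM : PicF.IsInvertible M) (gL : IsGood k X L) (gM : IsGood k X M) {φ : L ⟶ M} (hφ : φ ≠ 0) :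
    Curv2.deg k X L 1 ≤ Curv2.deg k X M 1 := by
  rw [(deg_add_hdim_cokernel hdim hL hM gL gM hφ).2]
  exact le_add_of_nonneg_right (Int.natCast_nonneg _)

/-- A nonzero map of invertible modules of the same degree is an isomorphism. -/
theorem isIso_of_deg_eq (hdim : topologicalKrullDim X ≤ 1) (hL : PicF.IsInvertible L)
    (hM : PicF.IsInvertible M) (gL : IsGood k X L) (gM : IsGood k X M) {φ : L ⟶ M} (hφ : φ ≠ 0)
    (h : Curv2.deg k X L 1 = Curv2.deg k X M 1) : IsIso φ := by
  haveI := mono_of_ne_zero hL hM hφ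
  obtain ⟨gQ, hQ⟩ := deg_add_hdim_cokernel hdim hL hM gL gM hφ
  haveI := gQ.fin₀
  have h0 : Subsingleton (Coh.HH X (cokernel φ) 0) := by
    rw [← Module.finrank_zero_iff (R := k)]
    have : (Euler.hdim k X (cokernel φ) 0 : ℤ) = 0 := by linarith
    exact_mod_cast this
  haveI := (isTorsion_cokernel hL hM hφ).flasque hdim
  have hz : IsZero (cokernel φ) := isZero_of_flasque h0
  haveI : Epi φ := Abelian.epi_of_cokernel_π_eq_zero φ (hz.eq_of_tgt _ _)
  exact isIso_of_mono_of_epi φ

/-- `h⁰(L) ≤ h⁰(O) + deg L` for an invertible module with a nonzero section. -/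
theorem hdim_zero_le_add_deg (hdim : topologicalKrullDim X ≤ 1) (hL : PicF.IsInvertible L)
    (gO : IsGood k X (Coh.structureModule X)) (gL : IsGood k X L)
    (h : Nontrivial (Coh.HH X L 0)) :
    (Euler.hdim k X L 0 : ℤ) ≤
      Euler.hdim k X (Coh.structureModule X) 0 + Curv2.deg k X L 1 := by
  obtain ⟨s, hs⟩ := exists_section_of_nontrivial h
  have hO := PicLoc.isInvertible_structureModule X
  haveI := mono_of_ne_zero hO hL hs
  obtain ⟨gQ, hQ⟩ := deg_add_hdim_cokernel hdim hO hL gO gL hs
  haveI : FiniteDimensional k (Coh.HH X (cokerSES s).X₁ 0) := gO.fin₀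
  haveI : FiniteDimensional k (Coh.HH X (cokerSES s).X₃ 0) := gQ.fin₀
  have hle := hdim_zero_le_add (k := k) (cokerSES_shortExact s)
  have h0 : Curv2.deg k X (Coh.structureModule X) 1 = 0 := by simp [Curv2.deg]
  rw [h0] at hQ
  have : (Euler.hdim k X L 0 : ℤ) ≤ Euler.hdim k X (Coh.structureModule X) 0 +
      Euler.hdim k X (cokernel s) 0 := by exact_mod_cast hle
  linarith

/-- Invertible modules of negative degree have no sections. -/
theorem deg_nonneg_of_nontrivial (hdim : topologicalKrullDim X ≤ 1) (hL : PicF.IsInvertible L)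
    (gO : IsGood k X (Coh.structureModule X)) (gL : IsGood k X L)
    (h : Nontrivial (Coh.HH X L 0)) : 0 ≤ Curv2.deg k X L 1 := by
  obtain ⟨s, hs⟩ := exists_section_of_nontrivial h
  have := deg_le_of_ne_zero hdim (PicLoc.isInvertible_structureModule X) hL gO gL hs
  simpa [Curv2.deg] using this

/-- An invertible module of degree zero with a section is trivial. -/
theorem nonempty_iso_of_deg_eq_zero (hdim : topologicalKrullDim X ≤ 1) (hL : PicF.IsInvertible L)
    (gO : IsGood k X (Coh.structureModule X)) (gL : IsGood k X L)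
    (h : Nontrivial (Coh.HH X L 0)) (hdeg : Curv2.deg k X L 1 = 0) :
    Nonempty (L ≅ Coh.structureModule X) := by
  obtain ⟨s, hs⟩ := exists_section_of_nontrivial h
  haveI := isIso_of_deg_eq hdim (PicLoc.isInvertible_structureModule X) hL gO gL hs
    (by rw [hdeg]; simp [Curv2.deg])
  exact ⟨(asIso s).symm⟩

end Degree

end Field

end Groth.Agent.Lib.Curves.Positivity
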