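import Groth.Agent.Lib.Curves.PolePoint
import Groth.Agent.Lib.Curves.GlobalSections
import Groth.Agent.Lib.ProjSpace.Basic
import Groth.Agent.Lib.Dim.Integral
import Groth.Agent.H34.DimOne
import Mathlib.AlgebraicGeometry.ZariskisMainTheorem
import Mathlib.RingTheory.NoetherNormalization
import Mathlib.RingTheory.KrullDimension.Field
import Mathlib.RingTheory.KrullDimension.Polynomial

/-!
# A proper scheme of dimension `≤ 1` over a field is finite over the projective line

* `exists_affine_finite_compl`: an affine open with finite complement consisting of closed points;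
* `exists_finite_evalAt`: a function `t` on it making it finite over `k[t]`;
* `exists_isFinite_toP1`: a finite `k`-morphism to `P¹`.
-/

set_option autoImplicit false

universe u

open CategoryTheory CategoryTheory.Limits AlgebraicGeometry Opposite TopologicalSpace
open Groth.Agent.Lib.ProjSpace Groth.Agent.Lib.ProjSpace.Charts Groth.Agent.Lib.ProjSpace.Basic
open Groth.Agent.Lib.Curves.PolePoint

noncomputable section

namespace Groth.Agent.Lib.Curves.FiniteToP1

section ProjLine

variable {k Γ : Type u} [Field k] [CommRing Γ]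

/-- The two charts of `P¹` agree where the coordinates are inverse to each other. -/
theorem chart_agree (f₀ f₁ : MvPolynomial (Fin 1) k →+* Γ)
    (hC : f₀.comp MvPolynomial.C = f₁.comp MvPolynomial.C)
    (hX : f₀ (MvPolynomial.X 0) * f₁ (MvPolynomial.X 0) = 1) :
    Spec.map (CommRingCat.ofHom f₀) ≫ chartι k (0 : Fin 2) =
      Spec.map (CommRingCat.ofHom f₁) ≫ chartι k (1 : Fin 2) := by
  set 𝒜 := CohB1.polyGrading 1 k
  set F₀ := f₀.comp (chartEquiv k (0 : Fin 2)).symm.toRingHom with hF₀
  set F₁ := f₁.comp (chartEquiv k (1 : Fin 2)).symm.toRingHom with hF₁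
  set x := (MvPolynomial.X 0 : MvPolynomial (Fin 2) k) * MvPolynomial.X 1 with hx
  set m₀ := HomogeneousLocalization.awayMap 𝒜 (X_mem_one (R := k) (1 : Fin 2)) hx
  set m₁ := HomogeneousLocalization.awayMap 𝒜 (X_mem_one (R := k) (0 : Fin 2))
    (hx.trans (mul_comm _ _))
  have h01 : F₀ (coord k 0 1) = f₀ (MvPolynomial.X 0) := by
    rw [hF₀, RingHom.comp_apply]
    congr 1
    exact (chartEquiv k (0 : Fin 2)).symm_apply_eq.mpr (chartEquiv_X (0 : Fin 2) (0 : Fin 1)).symm
  have h10 : F₁ (coord k 1 0) = f₁ (MvPolynomial.X 0) := by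
    rw [hF₁, RingHom.comp_apply]
    congr 1
    exact (chartEquiv k (1 : Fin 2)).symm_apply_eq.mpr (chartEquiv_X (1 : Fin 2) (0 : Fin 1)).symm
  letI := m₀.toAlgebra
  haveI := HomogeneousLocalization.Away.isLocalization_mul (X_mem_one (R := k) (0 : Fin 2))
    (X_mem_one (R := k) (1 : Fin 2)) hx one_ne_zero
  have helem : HomogeneousLocalization.Away.isLocalizationElem (X_mem_one (R := k) (0 : Fin 2))
      (X_mem_one (R := k) (1 : Fin 2)) = coord k 0 1 := by
    apply HomogeneousLocalization.val_injective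
    simp [HomogeneousLocalization.Away.isLocalizationElem, HomogeneousLocalization.Away.val_mk,
      val_coord]
  have hunit : IsUnit (F₀ (HomogeneousLocalization.Away.isLocalizationElem
      (X_mem_one (R := k) (0 : Fin 2)) (X_mem_one (R := k) (1 : Fin 2)))) := by
    rw [helem, h01]; exact IsUnit.of_mul_eq_one _ hX
  let f : HomogeneousLocalization.Away 𝒜 x →+* Γ := IsLocalization.Away.lift _ hunit
  have hf₀ : f.comp m₀ = F₀ := IsLocalization.Away.lift_comp _ hunit
  have hprod : m₀ (coord k 0 1) * m₁ (coord k 1 0) = 1 := by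
    have c : ∀ i j : Fin 2, coord k i j = HomogeneousLocalization.Away.mk 𝒜 (X_mem_one (R := k) i) 1
        (MvPolynomial.X j) (by rw [smul_eq_mul, one_mul]; exact X_mem_one (R := k) j) := fun i j =>
      HomogeneousLocalization.val_injective _ (by
        rw [val_coord]
        erw [HomogeneousLocalization.Away.val_mk]
        simp)
    apply HomogeneousLocalization.val_injective
    simp only [m₀, m₁, c, HomogeneousLocalization.awayMap_mk, HomogeneousLocalization.val_mul,
      HomogeneousLocalization.val_one, HomogeneousLocalization.Away.val_mk, Localization.mk_mul]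
    rw [← Localization.mk_one, Localization.mk_eq_mk_iff, Localization.r_iff_exists]
    refine ⟨1, ?_⟩
    simp [hx]
    ring
  have hf₁ : f.comp m₁ = F₁ := by
    suffices (f.comp m₁).comp (chartEquiv k (1 : Fin 2)).toRingHom = f₁ by
      rw [hF₁, ← this]
      ext z; simp
    refine MvPolynomial.ringHom_ext (fun r => ?_) fun i => ?_
    · have h0 := DFunLike.congr_fun hC r
      simp only [RingHom.comp_apply, RingEquiv.toRingHom_eq_coe, RingHom.coe_coe, chartEquiv_C]
      simp only [RingHom.comp_apply] at h0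
      rw [← h0, show f₀ (MvPolynomial.C r) = F₀ (constHom k 0 r) by
        rw [hF₀, RingHom.comp_apply, ← chartEquiv_C (0 : Fin 2) r]
        exact congrArg f₀ ((chartEquiv k (0 : Fin 2)).symm_apply_apply _).symm, ← hf₀,
        RingHom.comp_apply]
      congr 1
      exact (HomogeneousLocalization.awayMap_fromZeroRingHom ..).trans
        (HomogeneousLocalization.awayMap_fromZeroRingHom ..).symm
    · obtain rfl : i = 0 := Subsingleton.elim _ _
      simp only [RingHom.comp_apply, RingEquiv.toRingHom_eq_coe, RingHom.coe_coe, chartEquiv_X]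
      rw [show Fin.succAbove (1 : Fin 2) 0 = 0 from rfl]
      have h0 : f (m₀ (coord k 0 1)) = f₀ (MvPolynomial.X 0) :=
        (DFunLike.congr_fun hf₀ _).trans h01
      have h1 : f₀ (MvPolynomial.X 0) * f (m₁ (coord k 1 0)) = 1 := by
        rw [← h0, ← map_mul, hprod, map_one]
      calc f (m₁ (coord k 1 0)) = f₁ (MvPolynomial.X 0) *
            (f₀ (MvPolynomial.X 0) * f (m₁ (coord k 1 0))) := by
              rw [← mul_assoc, mul_comm (f₁ _) (f₀ _), hX, one_mul]
        _ = _ := by rw [h1, mul_one]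
  have e₀ : Spec.map (CommRingCat.ofHom F₀) ≫ awayχ k (0 : Fin 2) =
      Spec.map (CommRingCat.ofHom f₀) ≫ chartι k (0 : Fin 2) := by
    rw [chartι, ← Spec.map_comp_assoc]; rfl
  have e₁ : Spec.map (CommRingCat.ofHom F₁) ≫ awayχ k (1 : Fin 2) =
      Spec.map (CommRingCat.ofHom f₁) ≫ chartι k (1 : Fin 2) := by
    rw [chartι, ← Spec.map_comp_assoc]; rfl
  rw [← e₀, ← e₁, ← hf₀, ← hf₁, CommRingCat.ofHom_comp, CommRingCat.ofHom_comp, Spec.map_comp,
    Spec.map_comp, Category.assoc, Category.assoc]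
  congr 1
  exact (Proj.SpecMap_awayMap_awayι 𝒜 _ one_pos (X_mem_one (R := k) (1 : Fin 2)) hx).trans
    (Proj.SpecMap_awayMap_awayι 𝒜 _ one_pos (X_mem_one (R := k) (0 : Fin 2))
      (hx.trans (mul_comm _ _))).symm

end ProjLine

variable {k : Type u} [Field k] {X : Scheme.{u}} [X.Over (Spec (CommRingCat.of k))]

omit [X.Over (Spec (CommRingCat.of k))] in
open scoped Function in
/-- An affine open whose complement is finite. -/
theorem exists_affine_finite_compl [NoetherianSpace X] (hdim : topologicalKrullDim X ≤ 1) :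
    ∃ U : X.Opens, IsAffineOpen U ∧ ((U : Set X)ᶜ).Finite ∧
      ∀ s ∉ U, IsClosed ({s} : Set X) := by
  have hfin := NoetherianSpace.finite_irreducibleComponents (α := X)
  have hV : ∀ Z : irreducibleComponents X, ∃ V : X.Opens, IsAffineOpen V ∧
      ((V : Set X) ∩ Z.1).Nonempty ∧ ∀ Z' : irreducibleComponents X, Z' ≠ Z →
        ∀ x ∈ V, x ∉ Z'.1 := by
    intro Z
    let O : X.Opens := ⟨(⋃₀ (irreducibleComponents X \ {Z.1}))ᶜ,
      (Set.sUnion_eq_biUnion ▸ hfin.sdiff.isClosed_biUnion fun W hW =>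
        isClosed_of_mem_irreducibleComponents W hW.1 : IsClosed _).isOpen_compl⟩
    obtain ⟨x, hxZ, hxO⟩ : ∃ x ∈ Z.1, x ∈ O := by
      by_contra h
      push_neg at h
      have hsub : Z.1 ⊆ ⋃₀ (irreducibleComponents X \ {Z.1}) := fun x hx =>
        Classical.not_not.mp (h x hx)
      obtain ⟨W, hW, hZW⟩ := isIrreducible_iff_sUnion_isClosed.mp Z.2.prop hfin.sdiff.toFinset
        (fun W hW => isClosed_of_mem_irreducibleComponents W ((Set.Finite.mem_toFinset _).mp hW).1)
        (by rwa [Set.Finite.coe_toFinset])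
      rw [Set.Finite.mem_toFinset] at hW
      exact hW.2 (le_antisymm (Z.2.le_of_ge hW.1.prop hZW) hZW)
    obtain ⟨V, hV, hxV, hVO⟩ := exists_isAffineOpen_mem_and_subset (X := X) (x := x) (U := O) hxO
    exact ⟨V, hV, ⟨x, hxV, hxZ⟩, fun Z' hne y hy hyZ' =>
      hVO hy (Set.mem_sUnion.mpr ⟨Z'.1, ⟨Z'.2, fun h => hne (Subtype.ext h)⟩, hyZ'⟩)⟩
  choose V hVaff hVne hVout using hV
  haveI : Finite (irreducibleComponents X) := hfin.to_subtype
  have hdisj : Pairwise (Disjoint on V) := fun Z Z' hne => by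
    show Disjoint (V Z) (V Z')
    rw [disjoint_iff_inf_le]
    rintro y ⟨hy, hy'⟩
    obtain ⟨W, hW, hyW⟩ : ∃ W ∈ irreducibleComponents X, y ∈ W :=
      ⟨irreducibleComponent y, irreducibleComponent_mem_irreducibleComponents y,
        mem_irreducibleComponent⟩
    have h1 : (⟨W, hW⟩ : irreducibleComponents X) = Z := by
      by_contra h; exact hVout Z _ h y hy hyW
    have h2 : (⟨W, hW⟩ : irreducibleComponents X) = Z' := by
      by_contra h; exact hVout Z' _ h y hy' hyW
    exact absurd (h1.symm.trans h2) hne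
  refine ⟨iSup V, IsAffineOpen.iSup_of_disjoint hVaff hdisj, ?_, fun s hs => ?_⟩
  · refine H34.DimOne.finite_of_no_component hdim (iSup V).isOpen.isClosed_compl fun Z hZ _ hsub => ?_
    obtain ⟨x, hxV, hxZ⟩ := hVne ⟨Z, hZ⟩
    exact hsub hxZ (Opens.mem_iSup.mpr ⟨_, hxV⟩)
  · rcases H34.DimOne.isClosed_or_component hdim s with h | h
    · exact h
    · obtain ⟨x, hxV, hxZ⟩ := hVne ⟨_, h⟩
      have : s ⤳ x := specializes_iff_mem_closure.mpr hxZ
      exact absurd (Opens.mem_iSup.mpr ⟨_, this.mem_open (V _).isOpen hxV⟩) hs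

/-- A function `t` making an affine open finite over `k[t]`. -/
theorem exists_finite_evalAt [LocallyOfFiniteType (X ↘ Spec (CommRingCat.of k))]
    (hdim : topologicalKrullDim X ≤ 1) {U : X.Opens} (hU : IsAffineOpen U) :
    ∃ t : Γ(X, U), (evalAt k t).Finite := by
  rcases subsingleton_or_nontrivial Γ(X, U) with h | h
  · exact ⟨0, RingHom.Finite.of_surjective _ fun x => ⟨0, Subsingleton.elim _ _⟩⟩
  letI : Algebra k Γ(X, U) := (cst k U).toAlgebra
  haveI : Algebra.FiniteType k Γ(X, U) := finiteType_cst hU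
  obtain ⟨s, g, hinj, hfin⟩ := exists_finite_inj_algHom_of_fg k Γ(X, U)
  have hs : s ≤ 1 := by
    letI := g.toRingHom.toAlgebra
    haveI : Module.Finite (MvPolynomial (Fin s) k) Γ(X, U) := hfin
    haveI : FaithfulSMul (MvPolynomial (Fin s) k) Γ(X, U) :=
      (faithfulSMul_iff_algebraMap_injective _ _).mpr hinj
    have h1 : ringKrullDim Γ(X, U) = ringKrullDim (MvPolynomial (Fin s) k) :=
      Dim.Integral.ringKrullDim_eq_of_isIntegral
    have h2 : ringKrullDim Γ(X, U) ≤ 1 := by
      rw [← PrimeSpectrum.topologicalKrullDim_eq_ringKrullDim]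
      exact (hU.fromSpec.isOpenEmbedding.isInducing.topologicalKrullDim_le).trans hdim
    rw [h1, MvPolynomial.ringKrullDim_of_isNoetherianRing, ringKrullDim_eq_zero_of_field,
      zero_add, Nat.card_fin] at h2
    exact_mod_cast h2
  haveI : Subsingleton (Fin s) := Fin.subsingleton_iff_le_one.mpr hs
  let t : Γ(X, U) := if h : 0 < s then g (MvPolynomial.X ⟨0, h⟩) else 0
  refine ⟨t, RingHom.Finite.of_comp_finite
    (f := (MvPolynomial.rename (R := k) (fun _ : Fin s => (0 : Fin 1))).toRingHom) ?_⟩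
  have e : (evalAt k t).comp
      (MvPolynomial.rename (R := k) (fun _ : Fin s => (0 : Fin 1))).toRingHom = g.toRingHom := by
    refine MvPolynomial.ringHom_ext (fun r => ?_) fun i => ?_
    · simp only [RingHom.comp_apply, AlgHom.toRingHom_eq_coe, RingHom.coe_coe, MvPolynomial.rename_C,
        evalAt, MvPolynomial.eval₂Hom_C]
      exact (g.commutes r).symm
    · simp only [RingHom.comp_apply, AlgHom.toRingHom_eq_coe, RingHom.coe_coe, MvPolynomial.rename_X,
        evalAt, MvPolynomial.eval₂Hom_X', t]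
      rw [dif_pos i.pos]
      congr 2
      exact Subsingleton.elim _ _
  rw [e]
  exact hfin

/-- Powers of a finite coordinate are finite coordinates. -/
theorem finite_evalAt_pow [LocallyOfFiniteType (X ↘ Spec (CommRingCat.of k))] {U : X.Opens}
    (hU : IsAffineOpen U) {t : Γ(X, U)} (ht : (evalAt k t).Finite) {n : ℕ} (hn : 0 < n) :
    (evalAt k (t ^ n)).Finite := by
  letI : Algebra (MvPolynomial (Fin 1) k) Γ(X, U) := (evalAt k (t ^ n)).toAlgebra
  have hint : (evalAt k (t ^ n)).IsIntegral := by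
    have hev : ∀ p, IsIntegral (MvPolynomial (Fin 1) k) (evalAt k t p) := by
      intro p
      induction p using MvPolynomial.induction_on with
      | C r =>
        have : IsIntegral (MvPolynomial (Fin 1) k)
            (algebraMap (MvPolynomial (Fin 1) k) Γ(X, U) (MvPolynomial.C r)) := isIntegral_algebraMap
        simpa [RingHom.algebraMap_toAlgebra, evalAt] using this
      | add p q hp hq => rw [map_add]; exact hp.add hq
      | mul_X p i hp =>
        rw [map_mul]
        refine hp.mul (IsIntegral.of_pow hn ?_)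
        have : IsIntegral (MvPolynomial (Fin 1) k)
            (algebraMap (MvPolynomial (Fin 1) k) Γ(X, U) (MvPolynomial.X i)) := isIntegral_algebraMap
        simpa [RingHom.algebraMap_toAlgebra, evalAt] using this
    intro a
    let S : Subalgebra (MvPolynomial (Fin 1) k) Γ(X, U) := integralClosure _ _
    let f : MvPolynomial (Fin 1) k →+* S := (evalAt k t).codRestrict S.toSubring hev
    obtain ⟨q, hq1, hq2⟩ := ht.to_isIntegral a
    refine isIntegral_trans (R := MvPolynomial (Fin 1) k) (A := S) a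
      ⟨q.map f, hq1.map _, ?_⟩
    rw [Polynomial.eval₂_map]
    exact hq2
  refine hint.to_finite (RingHom.FiniteType.of_comp_finiteType (f := MvPolynomial.C) ?_)
  convert finiteType_cst (k := k) hU using 1
  ext r
  simp [evalAt]

/-- The morphism `V → Spec R` of a ring map `R → Γ(X, V)`. -/
def toSpec {R : Type u} [CommRing R] (V : X.Opens) (φ : R →+* Γ(X, V)) :
    V.toScheme ⟶ Spec (CommRingCat.of R) :=
  V.toSpecΓ ≫ Spec.map (CommRingCat.ofHom φ)

omit [X.Over (Spec (CommRingCat.of k))] in
lemma homOfLE_toSpec {R : Type u} [CommRing R] {V W : X.Opens} (h : V ≤ W) (φ : R →+* Γ(X, W)) :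
    X.homOfLE h ≫ toSpec W φ = toSpec V ((res h).comp φ) := by
  rw [toSpec, toSpec, ← Scheme.Opens.toSpecΓ_SpecMap_presheaf_map_assoc _ _ h, ← Spec.map_comp]
  rfl

lemma toSpec_evalAt_over (i : Fin 2) {V : X.Opens} (a : Γ(X, V)) :
    (toSpec V (evalAt k a) ≫ chartι k i) ≫ CohB1.ProjSpace.toSpec 1 k =
      V.ι ≫ (X ↘ Spec (CommRingCat.of k)) := by
  rw [Category.assoc, chartι_toSpec, toSpec, Category.assoc, ← Spec.map_comp,
    ← CommRingCat.ofHom_comp,
    show (evalAt k a).comp MvPolynomial.C = cst k V from RingHom.ext fun r => by simp [evalAt]]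
  have h := Scheme.Opens.toSpecΓ_SpecMap_appLE (X ↘ Spec (CommRingCat.of k)) ⊤ V le_top
  rw [cst, CommRingCat.ofHom_hom, Spec.map_comp, ← Category.assoc, h, Category.assoc,
    Scheme.Opens.toSpecΓ_top, Category.assoc, toSpecΓ_SpecMap_ΓSpecIso_inv,
    Category.comp_id]
  exact Scheme.Hom.resLE_comp_ι _ _

/-- The coordinate charts glue along the points at infinity. -/
theorem exists_isFinite_toP1 [IsProper (X ↘ Spec (CommRingCat.of k))]
    (hdim : topologicalKrullDim X ≤ 1) :
    ∃ π : X ⟶ CohB1.ProjSpace 1 k,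
      IsFinite π ∧ π ≫ CohB1.ProjSpace.toSpec 1 k = (X ↘ Spec (CommRingCat.of k)) := by
  classical
  haveI := GlobalSections.isNoetherian_of_proper k X
  obtain ⟨U, hU, hfin, hcl⟩ := exists_affine_finite_compl hdim
  obtain ⟨t, ht⟩ := exists_finite_evalAt (k := k) hdim hU
  haveI : Finite ↥((U : Set X)ᶜ) := hfin.to_subtype
  -- a neighbourhood of each missing point meeting the others nowhere
  have hNcl : ∀ s : X, IsClosed ((U : Set X)ᶜ \ {s}) := fun s => by
    have h := (hfin.sdiff (t := {s})).isClosed_biUnion (f := fun x => ({x} : Set X))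
      fun x hx => hcl x hx.1
    rwa [Set.biUnion_of_singleton] at h
  let N : ↥((U : Set X)ᶜ) → X.Opens := fun s => ⟨((U : Set X)ᶜ \ {s.1})ᶜ, (hNcl s.1).isOpen_compl⟩
  have hN : ∀ s : ↥((U : Set X)ᶜ), s.1 ∈ N s ∧ (N s : Set X) ⊆ insert s.1 (U : Set X) := fun s =>
    ⟨fun h => h.2 rfl, fun x hx => by
      by_contra h
      exact hx ⟨fun hxU => h (Or.inr hxU), fun hxs => h (Or.inl hxs)⟩⟩
  choose W hWaff u n hsW hWN hn hun using fun s : ↥((U : Set X)ᶜ) =>
    exists_pole (k := k) hU t ht.to_isIntegral s.1 s.2 (hcl _ s.2) (N s) (hN s).1 (hN s).2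
  haveI : Fintype ↥((U : Set X)ᶜ) := Fintype.ofFinite _
  -- a common order
  set M := ∏ s, n s
  have hM : 0 < M := Finset.prod_pos fun s _ => hn s
  have hdvd : ∀ s, n s * (M / n s) = M := fun s =>
    Nat.mul_div_cancel' (Finset.dvd_prod_of_mem n (Finset.mem_univ s))
  set T := t ^ M
  let u' : ∀ s, Γ(X, W s) := fun s => u s ^ (M / n s)
  have hu' : ∀ s, res (inf_le_left : U ⊓ W s ≤ U) T * res (inf_le_right : U ⊓ W s ≤ W s) (u' s) = 1 :=
    fun s => by
      have h := congrArg (fun z => z ^ (M / n s)) (hun s)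
      simp only [one_pow] at h
      rw [mul_pow, ← pow_mul, hdvd] at h
      rw [map_pow, map_pow, mul_comm]
      exact h
  -- the cover and the maps
  let O : Option ↥((U : Set X)ᶜ) → X.Opens := fun o => o.elim U W
  have hO : ⨆ o, O o = ⊤ := by
    rw [eq_top_iff]
    intro x _
    by_cases hx : x ∈ U
    · exact Opens.mem_iSup.mpr ⟨none, hx⟩
    · exact Opens.mem_iSup.mpr ⟨some ⟨x, hx⟩, hsW ⟨x, hx⟩⟩
  let g₀ : U.toScheme ⟶ CohB1.ProjSpace 1 k := toSpec U (evalAt k T) ≫ chartι k (0 : Fin 2)
  let g₁ : ∀ s, (W s).toScheme ⟶ CohB1.ProjSpace 1 k := fun s =>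
    toSpec (W s) (evalAt k (u' s)) ≫ chartι k (1 : Fin 2)
  let g : ∀ o, (O o).toScheme ⟶ CohB1.ProjSpace 1 k := fun o =>
    match o with
    | none => g₀
    | some s => g₁ s
  have h01 : ∀ s (V : X.Opens) (hU' : V ≤ U) (hW' : V ≤ W s),
      X.homOfLE hU' ≫ g₀ = X.homOfLE hW' ≫ g₁ s := by
    intro s V hU' hW'
    simp only [g₀, g₁]
    rw [← Category.assoc, ← Category.assoc, homOfLE_toSpec, homOfLE_toSpec, res_evalAt, res_evalAt,
      toSpec, toSpec, Category.assoc, Category.assoc]
    congr 1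
    refine chart_agree _ _ (RingHom.ext fun r => by simp [evalAt]) ?_
    simp only [evalAt, MvPolynomial.eval₂Hom_X']
    have := congrArg (res (le_inf hU' hW')) (hu' s)
    rwa [map_mul, map_one, res_res_apply, res_res_apply] at this
  have hcompat : ∀ a b, X.homOfLE (inf_le_left : O a ⊓ O b ≤ O a) ≫ g a =
      X.homOfLE (inf_le_right : O a ⊓ O b ≤ O b) ≫ g b := by
    rintro (_ | s) (_ | s')
    · rfl
    · exact h01 s' _ inf_le_left inf_le_right
    · exact (h01 s _ inf_le_right inf_le_left).symm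
    · by_cases hss : s = s'
      · subst hss; rfl
      · have hle : O (some s) ⊓ O (some s') ≤ U := by
          rintro x ⟨hx, hx'⟩
          rcases (hN s).2 (hWN s hx) with rfl | h
          · rcases (hN s').2 (hWN s' hx') with h | h
            · exact absurd (Subtype.ext h) hss
            · exact h
          · exact h
        exact (h01 s _ hle inf_le_left).symm.trans (h01 s' _ hle inf_le_right)
  let 𝒰 := X.openCoverOfIsOpenCover O hO
  let π : X ⟶ CohB1.ProjSpace 1 k := 𝒰.glueMorphisms g fun a b => by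
    refine (cancel_epi (isPullback_opens_inf (O a) (O b)).isoPullback.hom).mp ?_
    erw [IsPullback.isoPullback_hom_fst_assoc, IsPullback.isoPullback_hom_snd_assoc]
    exact hcompat a b
  have hπ : ∀ o, (O o).ι ≫ π = g o := fun o => 𝒰.ι_glueMorphisms g _ o
  have hover : π ≫ CohB1.ProjSpace.toSpec 1 k = X ↘ Spec (CommRingCat.of k) := by
    refine 𝒰.hom_ext _ _ fun o => ?_
    show (O o).ι ≫ π ≫ _ = (O o).ι ≫ _
    rw [reassoc_of% hπ o]
    rcases o with _ | s
    · exact toSpec_evalAt_over 0 T
    · exact toSpec_evalAt_over 1 (u' s)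
  haveI : IsProper (π ≫ CohB1.ProjSpace.toSpec 1 k) := by rw [hover]; infer_instance
  haveI : IsProper π := IsProper.of_comp π (CohB1.ProjSpace.toSpec 1 k)
  haveI : LocallyQuasiFinite π := by
    refine LocallyQuasiFinite.of_finite_preimage_singleton π fun y => ?_
    haveI : IsAffine U.toScheme := hU
    haveI : IsFinite (Spec.map (CommRingCat.ofHom (evalAt k T))) :=
      (IsFinite.SpecMap_iff _).mpr (finite_evalAt_pow hU ht hM)
    haveI : IsIso U.toSpecΓ := by rw [← hU.isoSpec_hom]; infer_instance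
    haveI : IsFinite (toSpec U (evalAt k T)) := by rw [toSpec]; infer_instance
    have hfib : ((g none) ⁻¹' {y}).Finite := by
      show (g₀ ⁻¹' {y}).Finite
      simp only [g₀, Scheme.Hom.comp_base, TopCat.coe_comp, Set.preimage_comp]
      exact (toSpec U (evalAt k T)).finite_preimage
        ((Set.subsingleton_singleton.preimage (chartι k (0 : Fin 2)).isOpenEmbedding.injective).finite)
    refine ((hfib.image U.ι).union hfin).subset fun x hx => ?_
    by_cases hxU : x ∈ U
    · refine Or.inl ⟨⟨x, hxU⟩, ?_, rfl⟩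
      show (g none) ⟨x, hxU⟩ = y
      rw [← hπ none]
      exact hx
    · exact Or.inr hxU
  exact ⟨π, IsFinite.of_isProper_of_locallyQuasiFinite π, hover⟩

end Groth.Agent.Lib.Curves.FiniteToP1
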