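import Groth.Agent.Lib.Curves.Degree
import Groth.Agent.Lib.ZarCoh.FlatBC.Equiv
import Groth.Agent.H52.FBase.DimBC
import Groth.Prelude.Def_ProjUP
import Groth.Prelude.Def_PicLoc
import Mathlib.AlgebraicGeometry.Geometrically.Integral
import Mathlib.RingTheory.TensorProduct.Free
import Mathlib.LinearAlgebra.Dimension.Constructions

/-!
# Curves under extension of the base field

Cohomology dimensions, degree, genus and dimension are unchanged; pulled back sections span.
-/

set_option autoImplicit false
set_option linter.style.haveILetI false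
universe u

open CategoryTheory CategoryTheory.Limits CategoryTheory.Abelian AlgebraicGeometry Opposite
open TopologicalSpace
open scoped TensorProduct

noncomputable section

namespace Groth.Agent.Lib.Curves.BaseChange

open Groth.Agent.Lib

variable {k K : Type u} [Field k] [Field K] [Algebra k K] {X X' : Scheme.{u}}
  [X.Over (Spec (CommRingCat.of k))] [X'.Over (Spec (CommRingCat.of K))] {g : X' ⟶ X}
  (h : IsPullback g (X' ↘ Spec (CommRingCat.of K)) (X ↘ Spec (CommRingCat.of k))
    (Spec.map (CommRingCat.ofHom (algebraMap k K))))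

include h in
theorem isProper [IsProper (X ↘ Spec (CommRingCat.of k))] :
    IsProper (X' ↘ Spec (CommRingCat.of K)) :=
  MorphismProperty.of_isPullback h inferInstance

include h in
theorem isIntegral [GeometricallyIntegral (X ↘ Spec (CommRingCat.of k))] : IsIntegral X' :=
  GeometricallyIntegral.geometrically_isIntegral (f := X ↘ Spec (CommRingCat.of k))
    (Spec.map (CommRingCat.ofHom (algebraMap k K))) g (X' ↘ Spec (CommRingCat.of K)) h

include h in
theorem topologicalKrullDim_eq [IsIntegral X] [IsIntegral X']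
    [LocallyOfFiniteType (X ↘ Spec (CommRingCat.of k))] :
    topologicalKrullDim X' = topologicalKrullDim X := by
  let f := X ↘ Spec (CommRingCat.of k)
  have e : topologicalKrullDim X' = topologicalKrullDim ↥(_root_.FBase.bc f K) :=
    h.isoPullback.hom.homeomorph.isHomeomorph.topologicalKrullDim_eq
  haveI : IrreducibleSpace ↥(_root_.FBase.bc f K) :=
    Function.Surjective.irreducibleSpace h.isoPullback.hom.continuous
      h.isoPullback.hom.homeomorph.surjective
  have hu : ∀ (T : Scheme.{u}), topologicalKrullDim ↥(Set.univ : Set T) = topologicalKrullDim T :=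
    fun T => (Homeomorph.Set.univ T).isHomeomorph.topologicalKrullDim_eq
  have hi := H52.FBase.DimBC.image_dim_components (K := K) f
  rw [irreducibleComponents_eq_singleton, irreducibleComponents_eq_singleton, Set.image_singleton,
    Set.image_singleton, Set.singleton_eq_singleton_iff, hu, hu] at hi
  rw [e, hi]

include h in
/-- Extension of the field does not change the dimensions of cohomology. -/
theorem finrank_HH [CompactSpace X] [QuasiSeparatedSpace X] (M : X.Modules) [M.IsQuasicoherent]
    (n : ℕ) : Module.finrank K (Coh.HH X' ((Scheme.Modules.pullback g).obj M) n) =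
      Module.finrank k (Coh.HH X M n) := by
  obtain ⟨e⟩ := ZarCoh.FlatBC.Equiv.nonempty_linearEquiv h M n
  rw [← e.finrank_eq, Module.finrank_baseChange]

variable [IsProper (X ↘ Spec (CommRingCat.of k))]

include h in
theorem hdim_eq {M : X.Modules} (hM : PicF.IsInvertible M) (n : ℕ) :
    Euler.hdim K X' ((Scheme.Modules.pullback g).obj M) n = Euler.hdim k X M n := by
  haveI := GlobalSections.isNoetherian_of_proper k X
  haveI := TensorMod.QCohInv.isQCoh_of_isInvertible hM
  exact finrank_HH h M n

include h in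
theorem hdim_structureModule (n : ℕ) :
    Euler.hdim K X' (Coh.structureModule X') n = Euler.hdim k X (Coh.structureModule X) n := by
  rw [← Euler.hdim_eq_of_iso (PicLoc.pullbackStructureIso g) n]
  exact hdim_eq h (PicLoc.isInvertible_structureModule X) n

include h in
theorem genus_eq : Curv2.genus K X' = Curv2.genus k X := hdim_structureModule h 1

include h in
theorem deg_eq (hdim : topologicalKrullDim X ≤ 1) (hdim' : topologicalKrullDim X' ≤ 1)
    {L : X.Modules} (hL : PicF.IsInvertible L) :
    Curv2.deg K X' ((Scheme.Modules.pullback g).obj L) 1 = Curv2.deg k X L 1 := by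
  haveI := isProper h
  rw [Degree.deg_eq, Degree.deg_eq,
    Euler.euler_eq (Degree.isGood (k := K) hdim' (PicLoc.isInvertible_pullback g hL)).vanish,
    Euler.euler_eq (Degree.isGood (k := K) hdim'
      (PicLoc.isInvertible_structureModule X')).vanish,
    Euler.euler_eq (Degree.isGood (k := k) hdim hL).vanish,
    Euler.euler_eq (Degree.isGood_structureModule (k := k) hdim).vanish,
    hdim_eq h hL, hdim_eq h hL, hdim_structureModule h, hdim_structureModule h]

omit [IsProper (X ↘ Spec (CommRingCat.of k))] in
include h in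
theorem pullSec_smul (M : X.Modules) (c : k) (m : (M.val.obj (op ⊤) : Type u)) :
    letI := GlobalSections.secModule k M
    letI := GlobalSections.secModule K ((Scheme.Modules.pullback g).obj M)
    (show (((Scheme.Modules.pullback g).obj M).val.obj (op ⊤) : Type u) from
        ProjUP.pullSec g M (c • m)) =
      algebraMap k K c • (show (((Scheme.Modules.pullback g).obj M).val.obj (op ⊤) : Type u) from
        ProjUP.pullSec g M m) := by
  refine (((Scheme.Modules.pullbackPushforwardAdjunction g).unit.app M).app_smul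
    (Coh.toGlobal (X ↘ Spec (CommRingCat.of k)) c) m).trans ?_
  exact congrArg (fun r : Γ(X', ⊤) =>
      r • (show Γ((Scheme.Modules.pullback g).obj M, ⊤) from ProjUP.pullSec g M m))
    (ZarCoh.FlatBC.Main.toGlobal_comm h c).symm

omit [IsProper (X ↘ Spec (CommRingCat.of k))] in
include h in
/-- Pulled back sections span all sections. -/
theorem span_pullSec [CompactSpace X] [QuasiSeparatedSpace X] (M : X.Modules) [M.IsQuasicoherent] :
    letI := GlobalSections.secModule K ((Scheme.Modules.pullback g).obj M)
    Submodule.span K (Set.range fun m : Γ(M, ⊤) =>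
      (show (((Scheme.Modules.pullback g).obj M).val.obj (op ⊤) : Type u) from ProjUP.pullSec g M m))
      = ⊤ := by
  letI := GlobalSections.secModule K ((Scheme.Modules.pullback g).obj M)
  let p := X ↘ Spec (CommRingCat.of k)
  let p' := X' ↘ Spec (CommRingCat.of K)
  let G := Coh.toAb ((Coh.push g).obj ((Scheme.Modules.pullback g).obj M))
  let S : Submodule K ((((Scheme.Modules.pullback g).obj M).val.obj (op ⊤)) : Type u) :=
    Submodule.span K (Set.range fun m : Γ(M, ⊤) =>
      (show (((Scheme.Modules.pullback g).obj M).val.obj (op ⊤) : Type u) from ProjUP.pullSec g M m))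
  letI := ZarCoh.FlatBC.actModule (ZarCoh.FlatBC.Main.ρ p M) (ZarCoh.Basic.Zs.obj (⊤ : X.Opens)) 0
  have key : ∀ (z : K ⊗[k] Ext.{u} (ZarCoh.Basic.Zs.obj (⊤ : X.Opens)) (Coh.toAb M) 0)
      (y : ZarCoh.Basic.Zs.obj (⊤ : X.Opens) ⟶ G),
      ZarCoh.FlatBC.Φ (ZarCoh.FlatBC.Main.ρ p M) K (ZarCoh.FlatBC.Main.σ p' g M)
        (ZarCoh.FlatBC.Main.σ_smul h M) (ZarCoh.Basic.Zs.obj ⊤) 0 z = Ext.mk₀ y →
      (show (((Scheme.Modules.pullback g).obj M).val.obj (op ⊤) : Type u) from
        ZarCoh.Basic.homEquiv ⊤ G y) ∈ S := by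
    intro z
    induction z using TensorProduct.induction_on with
    | zero =>
      intro y hy
      rw [map_zero, ← Ext.mk₀_zero] at hy
      rw [← (Ext.mk₀_bijective _ _).1 hy, ZarCoh.Basic.homEquiv_apply]
      exact S.zero_mem
    | tmul b x =>
      intro y hy
      obtain ⟨x, rfl⟩ := (Ext.mk₀_bijective _ _).2 x
      rw [ZarCoh.FlatBC.Φ_tmul, Ext.mk₀_comp_mk₀] at hy
      rw [← (Ext.mk₀_bijective _ _).1 hy, ZarCoh.Basic.homEquiv_comp]
      have hres : Coh.resTop X' (op (⊤ : X'.Opens)) (Coh.toGlobal p' b) = Coh.toGlobal p' b :=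
        congr($(X'.ringCatSheaf.obj.map_id (op ⊤)) _)
      have hmem := S.smul_mem b (Submodule.subset_span
        ⟨(show Γ(M, ⊤) from ZarCoh.Basic.homEquiv ⊤ (Coh.toAb M) x), rfl⟩)
      refine Set.mem_of_eq_of_mem ?_ hmem
      change Coh.resTop X' (op (⊤ : X'.Opens)) (Coh.toGlobal p' b) •
        (show (((Scheme.Modules.pullback g).obj M).val.obj (op ⊤) : Type u) from
          ProjUP.pullSec g M (ZarCoh.Basic.homEquiv ⊤ (Coh.toAb M) x)) = _
      rw [hres]
      rfl
    | add z z' hz hz' =>
      intro y hy
      obtain ⟨y₁, hy₁⟩ := (Ext.mk₀_bijective _ G).2 (ZarCoh.FlatBC.Φ (ZarCoh.FlatBC.Main.ρ p M) K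
        (ZarCoh.FlatBC.Main.σ p' g M) (ZarCoh.FlatBC.Main.σ_smul h M) (ZarCoh.Basic.Zs.obj ⊤) 0 z)
      obtain ⟨y₂, hy₂⟩ := (Ext.mk₀_bijective _ G).2 (ZarCoh.FlatBC.Φ (ZarCoh.FlatBC.Main.ρ p M) K
        (ZarCoh.FlatBC.Main.σ p' g M) (ZarCoh.FlatBC.Main.σ_smul h M) (ZarCoh.Basic.Zs.obj ⊤) 0 z')
      rw [map_add, ← hy₁, ← hy₂, ← Ext.mk₀_add] at hy
      rw [← (Ext.mk₀_bijective _ _).1 hy, ZarCoh.Basic.homEquiv_add]
      exact S.add_mem (hz y₁ hy₁.symm) (hz' y₂ hy₂.symm)
  refine top_le_iff.mp fun s _ => ?_
  obtain ⟨z, hz⟩ := (ZarCoh.FlatBC.Main.bij_top h M 0).2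
    (Ext.mk₀ ((ZarCoh.Basic.homEquiv ⊤ G).symm s))
  exact (ZarCoh.Basic.homEquiv ⊤ G).apply_symm_apply s ▸ key z _ hz

omit [IsProper (X ↘ Spec (CommRingCat.of k))] in
include h in
/-- The pullbacks of spanning sections span. -/
theorem span_pullSec_of_span [CompactSpace X] [QuasiSeparatedSpace X] (M : X.Modules)
    [M.IsQuasicoherent] {ι : Type*} (t : ι → Γ(M, ⊤))
    (ht : letI := GlobalSections.secModule k M
      Submodule.span k (Set.range fun j => (show (M.val.obj (op ⊤) : Type u) from t j)) = ⊤) :
    letI := GlobalSections.secModule K ((Scheme.Modules.pullback g).obj M)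
    Submodule.span K (Set.range fun j =>
      (show (((Scheme.Modules.pullback g).obj M).val.obj (op ⊤) : Type u) from
        ProjUP.pullSec g M (t j))) = ⊤ := by
  letI := GlobalSections.secModule k M
  letI := GlobalSections.secModule K ((Scheme.Modules.pullback g).obj M)
  refine top_le_iff.mp ?_
  rw [← span_pullSec h M, Submodule.span_le]
  suffices key : ∀ m ∈ Submodule.span k (Set.range fun j => (show (M.val.obj (op ⊤) : Type u) from t j)),
      (show (((Scheme.Modules.pullback g).obj M).val.obj (op ⊤) : Type u) from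
        ProjUP.pullSec g M m) ∈ Submodule.span K (Set.range fun j =>
      (show (((Scheme.Modules.pullback g).obj M).val.obj (op ⊤) : Type u) from
        ProjUP.pullSec g M (t j))) by
    rintro _ ⟨m, rfl⟩
    exact key m (ht ▸ Submodule.mem_top)
  intro m hm
  induction hm using Submodule.span_induction with
  | mem x hx =>
    obtain ⟨j, rfl⟩ := hx
    exact Submodule.subset_span ⟨j, rfl⟩
  | zero =>
    exact Set.mem_of_eq_of_mem
      (map_zero (((Scheme.Modules.pullbackPushforwardAdjunction g).unit.app M).app ⊤).hom)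
      (Submodule.zero_mem _)
  | add x y _ _ hx hy =>
    exact Set.mem_of_eq_of_mem
      (map_add (((Scheme.Modules.pullbackPushforwardAdjunction g).unit.app M).app ⊤).hom x y)
      (Submodule.add_mem _ hx hy)
  | smul c x _ hx =>
    exact Set.mem_of_eq_of_mem (pullSec_smul h M c x) (Submodule.smul_mem _ (algebraMap k K c) hx)

end Groth.Agent.Lib.Curves.BaseChange
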