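import Groth.Agent.Lib.Curves.SectionMult

/-!
# `h⁰(L) = deg L + 1` with `deg L > 0` forces genus zero

Such an `L` is globally generated and `H¹(O) ≅ H¹(L)` by any nonzero section; multiplying by sections,
`h¹(L^n) = g` for all `n`, which must vanish for large `n`.
-/

set_option autoImplicit false
universe u

open CategoryTheory CategoryTheory.Limits AlgebraicGeometry Opposite TopologicalSpace
open Groth.Agent.Lib.Curves.LES Groth.Agent.Lib.Curves.Euler Groth.Agent.Lib.TensorMod
  Groth.Agent.Lib.TensorMod.Basic Groth.Agent.Lib.Curves.SectionMult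

noncomputable section

namespace Groth.Agent.Lib.Curves.EqualityCase

variable (k : Type u) [Field k] {X : Scheme.{u}} [X.Over (Spec (CommRingCat.of k))]
  [IsProper (X ↘ Spec (CommRingCat.of k))]

/-- In a short exact sequence with torsion right end and surjective `H⁰`, the `H¹`s agree. -/
theorem hdim_one_eq (hdim : topologicalKrullDim X ≤ 1) {S : ShortComplex X.Modules} (hS : S.ShortExact)
    (hT : Positivity.IsTorsion S.X₃) (hs : Function.Surjective (mapK k S.g 0)) :
    Euler.hdim k X S.X₁ 1 = Euler.hdim k X S.X₂ 1 := by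
  have := GlobalSections.noetherianSpace_of_proper k X
  have := hT.subsingleton_HH_succ hdim 0
  refine (LinearEquiv.ofBijective (mapK k S.f 1) ⟨?_, fun y =>
    (exactK₂ k hS 1 y).mp (Subsingleton.elim _ _)⟩).finrank_eq
  rw [injective_iff_map_eq_zero]
  intro a ha
  obtain ⟨c, rfl⟩ := (exactK₁ k hS 0 1 rfl a).mp ha
  exact (exactK₃ k hS 0 1 rfl c).mpr (hs c)

/-- If the `H¹`s agree, `H⁰` is onto. -/
theorem surjective_of_hdim_one_eq (hdim : topologicalKrullDim X ≤ 1) {S : ShortComplex X.Modules}
    (hS : S.ShortExact) (hT : Positivity.IsTorsion S.X₃) (g₁ : IsGood k X S.X₁) (g₂ : IsGood k X S.X₂)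
    (he : Euler.hdim k X S.X₁ 1 = Euler.hdim k X S.X₂ 1) :
    Function.Surjective (mapK k S.g 0) := by
  have := GlobalSections.noetherianSpace_of_proper k X
  have := hT.subsingleton_HH_succ hdim 0
  have := g₁.fin₁
  have := g₂.fin₁
  have hinj : Function.Injective (mapK k S.f 1) :=
    (LinearMap.injective_iff_surjective_of_finrank_eq_finrank he).mpr fun y =>
      (exactK₂ k hS 1 y).mp (Subsingleton.elim _ _)
  intro c
  refine (exactK₃ k hS 0 1 rfl c).mp (hinj ?_)
  rw [map_zero]
  exact (exactK₁ k hS 0 1 rfl _).mpr ⟨c, rfl⟩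

variable [IsIntegral X] (hdim : topologicalKrullDim X = 1)
  (h0 : Module.finrank k (Coh.HH X (Coh.structureModule X) 0) = 1)
  {L : X.Modules} (hL : PicF.IsInvertible L)
  (heq : (Euler.hdim k X L 0 : ℤ) = Curv2.deg k X L 1 + 1) (hd : 0 < Curv2.deg k X L 1)

include hdim h0 hL heq hd

/-- The equality case is globally generated. -/
theorem isGloballyGenerated : Curv2.IsGloballyGenerated L := by
  have hd1 : topologicalKrullDim X ≤ 1 := hdim.le
  rw [PointIdeal.isGloballyGenerated_iff (k := k) hd1 hL]
  intro x hx
  have hs : genericPoint X ∉ ((PointIdeal.ptI hx).support : Set X) :=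
    IdealTwist.genericPoint_not_mem hdim (by
      rw [PointIdeal.support_ptI]
      exact topologicalKrullDim_zero_of_discreteTopology ({x} : Set X))
  have hg := IdealTwist.isGood_twist (k := k) hd1 (PointIdeal.ptI hx) hL
  have hb := PointIdeal.hdim_twist_ideal_point (k := k) hx hd1 hL
  rcases Nat.eq_zero_or_pos (Euler.hdim k X (ClSub.quotMod (PointIdeal.ptI hx)) 0) with hq | hq
  · exfalso
    rw [PointIdeal.hdim_quot_point hx] at hq
    have hfin := (Finiteness.isGood_of_isCoh (k := k) hd1
      (IdealTwist.isCoh_quot (PointIdeal.ptI hx))).fin₀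
    have hne : Nontrivial (Coh.HH X (ClSub.quotMod (PointIdeal.ptI hx)) 0) := by
      by_contra hc
      rw [not_nontrivial_iff_subsingleton] at hc
      have := GlobalSections.noetherianSpace_of_proper k X
      have := (Degree.isTorsion_of_generic (Degree.isTorsion_quotMod hs)).flasque hd1
      have hz := Positivity.isZero_of_flasque hc
      have hx' : x ∈ CohB1.support (ClSub.quotMod (PointIdeal.ptI hx)) := by
        rw [ClSub.Quot.support_quotMod, PointIdeal.support_ptI]; rfl
      exact hx' (Modules.Stalk.isZero_iff_stalk_subsingleton.mp hz x)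
    rw [← PointIdeal.hdim_quot_point (k := k) hx] at hq
    exact (Module.finrank_pos (R := k)).ne' hq
  · refine lt_of_le_of_ne hb.1 fun he => ?_
    have hpos : Nontrivial (Coh.HH X (CohB1.tensorMod (ClSub.idealMod (PointIdeal.ptI hx)) L) 0) := by
      refine Module.nontrivial_of_finrank_pos (R := k) ?_
      change 0 < Euler.hdim k X (CohB1.tensorMod (ClSub.idealMod (PointIdeal.ptI hx)) L) 0
      omega
    have := IdealTwist.mono_incl (PointIdeal.ptI hx) hL
    have h1 := Clifford.hdim_one_le_genus k hd1 hL (IdealTwist.incl (PointIdeal.ptI hx) L) hpos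
    have hχ := IdealTwist.euler_twist_ideal (k := k) hd1 hs hL
    rw [Euler.euler_eq hg.vanish, Degree.euler_eq_deg_add hd1 h0] at hχ
    omega

/-- The genus vanishes. -/
theorem genus_eq_zero : Curv2.genus k X = 0 := by
  have hd1 : topologicalKrullDim X ≤ 1 := hdim.le
  have := GlobalSections.noetherianSpace_of_proper k X
  have := GlobalSections.isNoetherian_of_proper k X
  have hgg := isGloballyGenerated k hdim h0 hL heq hd
  have hnt : Nontrivial (Coh.HH X L 0) := Module.nontrivial_of_finrank_pos (R := k) (by
    change 0 < Euler.hdim k X L 0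
    omega)
  obtain ⟨s, hs⟩ := Positivity.exists_section_of_nontrivial hnt
  have hO := PicLoc.isInvertible_structureModule X
  have hrr := Degree.riemann_roch hd1 h0 hL
  have hOL : PicF.IsInvertible (CohB1.tensorMod (Coh.structureModule X) L) :=
    Invertible.isInvertible_tensorMod hO hL
  have hν : ν s (Coh.structureModule X) ≠ 0 := fun hz => hs (by
    have h : (rightUnit (Coh.structureModule X)).inv ≫ tmap (𝟙 _) s ≫ (leftUnit L).hom = 0 := by
      rw [← Category.assoc]
      exact (congrArg (· ≫ (leftUnit L).hom) hz).trans zero_comp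
    rw [leftUnit_natural, ← Category.assoc] at h
    rwa [← cancel_epi ((rightUnit (Coh.structureModule X)).inv ≫
      (leftUnit (Coh.structureModule X)).hom), comp_zero])
  have := Positivity.mono_of_ne_zero hO hOL hν
  let S : ℕ → ShortComplex X.Modules := fun n => n.rec
    (ShortComplex.mk (ν s (Coh.structureModule X)) (cokernel.π _) (cokernel.condition _))
    fun _ T => twistSC L T
  have key : ∀ n, (S n).ShortExact ∧ PicF.IsInvertible (S n).X₁ ∧ PicF.IsInvertible (S n).X₂ ∧
      Curv2.deg k X (S n).X₁ 1 = n * Curv2.deg k X L 1 ∧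
      Euler.hdim k X (S n).X₁ 1 = Curv2.genus k X ∧
      (S (n + 1)).X₁ = (S n).X₂ ∧
      Subsingleton ((S n).X₃.presheaf.stalk (genericPoint X)) ∧
      Function.Surjective (mapK k (S n).g 0) := by
    intro n
    induction n with
    | zero =>
      have hS : (S 0).ShortExact :=
        Positivity.cokerSES_shortExact (ν s (Coh.structureModule X))
      have hT := Positivity.isTorsion_cokernel hO hOL hν
      refine ⟨hS, hO, hOL, ?_, rfl, rfl, ?_, ?_⟩
      · rw [Nat.cast_zero, zero_mul]
        exact Degree.deg_structureModule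
      · exact hT _ ⟨isIrreducible_singleton.closure, fun Z hZ hle => by
          exact (genericPoint_spec X).symm ▸ Set.subset_univ _⟩
      · refine surjective_of_hdim_one_eq k hd1 hS hT (Degree.isGood_structureModule hd1)
          (Degree.isGood hd1 hOL) ?_
        change Euler.hdim k X (Coh.structureModule X) 1 =
          Euler.hdim k X (CohB1.tensorMod (Coh.structureModule X) L) 1
        rw [Euler.hdim_eq_of_iso (leftUnit L) 1]
        simp only [Euler.hdim, Curv2.genus] at hrr heq ⊢
        omega
    | succ n ih =>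
      obtain ⟨hS, h1, h2, hdeg, hg, hnext, hT, hsurj⟩ := ih
      refine ⟨CurveBundle.Twist.shortExact hL hS, Invertible.isInvertible_tensorMod h1 hL,
        Invertible.isInvertible_tensorMod h2 hL, ?_, ?_,
        congrArg (fun M : X.Modules => CohB1.tensorMod M L) hnext,
        Degree.subsingleton_stalk_twist hL hT, surjective_twist hd1 hL hgg hT hsurj⟩
      · change Curv2.deg k X (CohB1.tensorMod (S n).X₁ L) 1 = _
        rw [Degree.deg_tensor hd1 h1 hL, hdeg]
        push_cast
        ring
      · rw [hnext, ← hdim_one_eq k hd1 hS (Degree.isTorsion_of_generic hT) hsurj]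
        exact hg
  obtain ⟨-, h1, -, hdeg, hg, -, -, -⟩ := key (2 * Curv2.genus k X)
  have := Clifford.subsingleton_one_of_deg k hd1 h0 h1 (by
    rw [hdeg]
    push_cast
    nlinarith)
  rw [← hg]
  exact Module.finrank_zero_of_subsingleton

end Groth.Agent.Lib.Curves.EqualityCase
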