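import Groth.Agent.Lib.Curves.GenusZero
import Groth.Agent.Lib.Curves.EqualityCase
import Groth.Agent.Lib.CurveMaps.Basic
import Groth.Agent.Lib.CohBasics.Closure
import Groth.Agent.Lib.Cyc.SmoothReg
import Groth.Agent.Lib.Regular.UFD
import Groth.Agent.S7830
import Groth.Agent.Lib.ProjCoh.Twist
import Groth.Agent.Lib.ProjCoh.GlobalFun

/-!
# An invertible module of degree one with two sections gives the projective line

Any field, any singularities.
-/

set_option autoImplicit false
set_option linter.style.haveILetI false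
universe u

open CategoryTheory CategoryTheory.Limits AlgebraicGeometry Opposite TopologicalSpace
open Groth.Agent.Lib.TensorMod Groth.Agent.Lib.TensorMod.Dual Groth.Agent.Lib.TensorMod.Gen
  Groth.Agent.Lib.TensorMod.HomGlue

noncomputable section

namespace Groth.Agent.Lib.Curves.DegreeOne

variable {k : Type u} [Field k] {X : Scheme.{u}} [X.Over (Spec (CommRingCat.of k))]
  [IsProper (X ↘ Spec (CommRingCat.of k))] [IsIntegral X]

/-- Cohomology dimensions are multiples of the degree of the field of constants. -/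
theorem finrank_dvd (F : X.Modules) (n : ℕ) :
    Module.finrank k (Coh.HH X (Coh.structureModule X) 0) ∣ Module.finrank k (Coh.HH X F n) := by
  letI := GlobalSections.secModule k (Coh.structureModule X)
  letI : Algebra k Γ(X, ⊤) :=
    RingHom.toAlgebra (S := Γ(X, ⊤)) (Coh.toGlobal (X ↘ Spec (CommRingCat.of k)))
  haveI : Module.Finite k Γ(X, ⊤) := GlobalSections.finite_toGlobal k X
  haveI : IsDomain Γ(X, ⊤) := inferInstance
  letI : Field Γ(X, ⊤) :=
    (isField_of_isIntegral_of_isField' (R := k) (S := Γ(X, ⊤)) (Field.toIsField k)).toField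
  letI : Module Γ(X, ⊤) (Coh.HH X F n) := Coh.moduleΓtop F n
  haveI : IsScalarTower k Γ(X, ⊤) (Coh.HH X F n) :=
    IsScalarTower.of_algebraMap_smul fun _ _ => rfl
  have h0 : Module.finrank k (Coh.HH X (Coh.structureModule X) 0) = Module.finrank k Γ(X, ⊤) :=
    (GlobalSections.h0Linear k (Coh.structureModule X)).finrank_eq
  rw [h0, ← Module.finrank_mul_finrank k Γ(X, ⊤) (Coh.HH X F n)]
  exact Dvd.intro _ rfl

/-- A module of degree one forces the constants to be `k`. -/
theorem h0_eq_one (hdim : topologicalKrullDim X ≤ 1) {L : X.Modules} (hL : PicF.IsInvertible L)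
    (hd : Curv2.deg k X L 1 = 1) :
    Module.finrank k (Coh.HH X (Coh.structureModule X) 0) = 1 := by
  have h : ∀ (F : X.Modules), Euler.IsGood k X F →
      (Module.finrank k (Coh.HH X (Coh.structureModule X) 0) : ℤ) ∣ Curv2.euler k X F :=
    fun F hF => by
      rw [Euler.euler_eq hF.vanish]
      exact dvd_sub (Int.natCast_dvd_natCast.mpr (finrank_dvd F 0))
        (Int.natCast_dvd_natCast.mpr (finrank_dvd F 1))
  have h1 : (Module.finrank k (Coh.HH X (Coh.structureModule X) 0) : ℤ) ∣ 1 := by
    rw [← hd, Degree.deg_eq]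
    exact dvd_sub (h L (Degree.isGood hdim hL)) (h _ (Degree.isGood_structureModule hdim))
  exact Nat.dvd_one.mp (by exact_mod_cast h1)

omit [X.Over (Spec (CommRingCat.of k))] [IsProper (X ↘ Spec (CommRingCat.of k))] [IsIntegral X] in
lemma nonempty_iso_of_gen {L : X.Modules} {e : Γ(L, ⊤)} (he : IsGen L ⊤ e) :
    Nonempty (L ≅ Coh.structureModule X) := by
  obtain ⟨φ, -⟩ := HomGlue.exists_iso_of_gen (ι := PUnit.{u + 1}) (U := fun _ => ⊤) (iSup_const) (fun _ => e)
    (fun _ => he) (fun _ => TensorMod.Gen.one X ⊤) (fun _ => Ample.GenLocus.isGen_one ⊤)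
    fun i j W hi hj c hc => by
      have : c = 1 := ((he W hi).1 (show (1 : Γ(X, W)) • rs L hi e = c • rs L hi e from
        (one_smul _ _).trans hc)).symm
      rw [this, one_smul]
  exact ⟨φ⟩

/-- Values at the point of a section. -/
theorem exists_scalar_of_section {Y : Scheme.{u}} [Y.Over (Spec (CommRingCat.of k))]
    (t : Spec (CommRingCat.of k) ⟶ Y) (ht : t ≫ (Y ↘ Spec (CommRingCat.of k)) = 𝟙 _)
    {D : Y.Opens} (hD : IsAffineOpen D) (hyD : t default ∈ D) (b : Γ(Y, D)) :
    ∃ c : k, b - SepCriterion.scl (k := k) Y D c ∈ (hD.primeIdealOf ⟨t default, hyD⟩).asIdeal := by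
  have hle : (⊤ : (Spec (CommRingCat.of k)).Opens) ≤ t ⁻¹ᵁ D := fun z _ => by
    rw [Subsingleton.elim z default]; exact hyD
  refine ⟨(Scheme.ΓSpecIso (CommRingCat.of k)).hom (t.appLE D ⊤ hle b), ?_⟩
  have hscl : ∀ c : k, t.appLE D ⊤ hle (SepCriterion.scl (k := k) Y D c) =
      (Scheme.ΓSpecIso (CommRingCat.of k)).inv c := fun c => by
    have h1 : t.appTop (Coh.toGlobal (Y ↘ Spec (CommRingCat.of k)) c) =
        (Scheme.ΓSpecIso (CommRingCat.of k)).inv c :=
      congrArg (fun φ : Spec (CommRingCat.of k) ⟶ Spec (CommRingCat.of k) =>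
        φ.appTop ((Scheme.ΓSpecIso (CommRingCat.of k)).inv c)) ht
    refine Eq.trans ?_ h1
    refine (ConcreteCategory.congr_hom (t.map_appLE hle (homOfLE (le_top : D ≤ ⊤)).op)
      (Coh.toGlobal (Y ↘ Spec (CommRingCat.of k)) c)).trans ?_
    exact congrArg (fun φ => φ (Coh.toGlobal (Y ↘ Spec (CommRingCat.of k)) c))
      (Scheme.Hom.appLE_eq_app t)
  set v := b - SepCriterion.scl (k := k) Y D ((Scheme.ΓSpecIso (CommRingCat.of k)).hom
    (t.appLE D ⊤ hle b)) with hv
  have h0 : t.appLE D ⊤ hle v = 0 := by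
    rw [hv, map_sub, hscl, sub_eq_zero]
    exact (ConcreteCategory.congr_hom (Scheme.ΓSpecIso (CommRingCat.of k)).hom_inv_id _).symm
  by_contra hmem
  have hy : t default ∈ Y.basicOpen v := by
    have hp : hD.primeIdealOf ⟨t default, hyD⟩ ∈ hD.fromSpec ⁻¹ᵁ Y.basicOpen v :=
      (IsAffineOpen.fromSpec_preimage_basicOpen hD v).ge hmem
    have : hD.fromSpec (hD.primeIdealOf ⟨t default, hyD⟩) ∈ Y.basicOpen v := hp
    rwa [hD.fromSpec_primeIdealOf] at this
  have hmem' : default ∈ (Spec (CommRingCat.of k)).basicOpen (t.appLE D ⊤ hle v) := by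
    rw [Scheme.basicOpen_appLE]
    exact ⟨trivial, hy⟩
  rw [h0, Scheme.basicOpen_zero] at hmem'
  exact hmem'

/-- **Degree one and two sections: the projective line.** -/
theorem exists_iso_line (hdim : topologicalKrullDim X = 1) {L : X.Modules} (hL : PicF.IsInvertible L)
    (hd : Curv2.deg k X L 1 = 1) (h2 : 2 ≤ Euler.hdim k X L 0) :
    ∃ e : X ≅ CohB1.ProjSpace 1 k,
      e.hom ≫ CohB1.ProjSpace.toSpec 1 k = X ↘ Spec (CommRingCat.of k) := by
  classical
  have hd1 : topologicalKrullDim X ≤ 1 := hdim.le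
  have h0 := h0_eq_one hd1 hL hd
  haveI := GlobalSections.isNoetherian_of_proper k X
  haveI := GlobalSections.noetherianSpace_of_proper k X
  have hn : Euler.hdim k X L 0 = 1 + 1 := by
    have hnt : Nontrivial (Coh.HH X L 0) := Module.nontrivial_of_finrank_pos (R := k) (by
      change 0 < Euler.hdim k X L 0; omega)
    have := Degree.hdim_zero_le (k := k) hd1 hL hnt
    have e0 : Euler.hdim k X (Coh.structureModule X) 0 = 1 := h0
    omega
  have hgg := EqualityCase.isGloballyGenerated k hdim h0 hL (by omega) (by omega)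
  letI := GlobalSections.secModule k L
  haveI : Module.Finite k (L.val.obj (op ⊤) : Type u) := by
    haveI := (Degree.isGood (k := k) hd1 hL).fin₀
    exact Module.Finite.equiv (GlobalSections.h0Linear k L)
  have hfr : Module.finrank k (L.val.obj (op ⊤) : Type u) = 1 + 1 :=
    (GlobalSections.h0Linear k L).finrank_eq.symm.trans hn
  let b := Module.finBasisOfFinrankEq k (L.val.obj (op ⊤) : Type u) hfr
  let s : Fin (1 + 1) → Γ(L, ⊤) := fun i => b i
  have hspan : Submodule.span k (Set.range fun j =>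
      (show (L.val.obj (op ⊤) : Type u) from s j)) = ⊤ := b.span_eq
  obtain ⟨r, hr, τ, hτ⟩ := ProjMor.Poly.exists_map 1 k (X ↘ Spec (CommRingCat.of k)) L hL s
    (VeryAmple.generatedBy_of_span hgg s hspan)
  let P := CohB1.ProjSpace 1 k
  letI : P.Over (Spec (CommRingCat.of k)) := ⟨CohB1.ProjSpace.toSpec 1 k⟩
  haveI : IsProper (P ↘ Spec (CommRingCat.of k)) := ProjSpace.Basic.isProper_toSpec 1 k
  haveI : Smooth (P ↘ Spec (CommRingCat.of k)) := ProjSpace.Basic.smooth_toSpec 1 k
  haveI : IsNoetherian P := GlobalSections.isNoetherian_of_proper k P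
  have hdP : topologicalKrullDim P = 1 := by
    rw [ProjSpace.Dim.topologicalKrullDim_projSpace]; simp
  have hr' : r ≫ (P ↘ Spec (CommRingCat.of k)) = X ↘ Spec (CommRingCat.of k) := hr
  -- `r` is not constant
  have hξ : r (genericPoint X) = genericPoint P := by
    rcases H34.DimOne.isClosed_or_component hdP.le (r (genericPoint X)) with hc | hc
    · exfalso
      obtain ⟨D, i, a, hD, hxD, he, -⟩ := VeryAmple.exists_charts s r τ hτ (genericPoint X)
      have htop : (⊤ : X.Opens) ≤ r ⁻¹ᵁ D := fun z _ => by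
        have := ((genericPoint_specializes z).map r.continuous).mem_closed hc rfl
        show r z ∈ D
        rw [Set.mem_singleton_iff.mp this]
        exact hxD
      obtain ⟨e⟩ := nonempty_iso_of_gen (he.res htop)
      rw [Euler.deg_eq_of_iso e 1, Degree.deg_structureModule] at hd
      exact absurd hd (by norm_num)
    · rw [irreducibleComponents_eq_singleton, Set.mem_singleton_iff] at hc
      exact ((specializes_iff_mem_closure.mpr (hc ▸ Set.mem_univ _)).antisymm
        (genericPoint_specializes _)).eq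
  haveI : IsProper (r ≫ (P ↘ Spec (CommRingCat.of k))) := hr' ▸ inferInstance
  haveI : IsProper r := IsProper.of_comp r (P ↘ Spec (CommRingCat.of k))
  haveI : LocallyQuasiFinite r := CurveMaps.Basic.locallyQuasiFinite (X ↘ Spec (CommRingCat.of k))
    (P ↘ Spec (CommRingCat.of k)) r hdim hdP hr' hξ
  haveI : IsFinite r := IsFinite.of_isProper_of_locallyQuasiFinite r
  -- a rational point in the image
  obtain ⟨t, ht⟩ := GenusZero.exists_section_line k
  have ht' : t ≫ (P ↘ Spec (CommRingCat.of k)) = 𝟙 _ := ht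
  haveI : IsClosedImmersion (t ≫ (P ↘ Spec (CommRingCat.of k))) := ht' ▸ inferInstance
  haveI : IsClosedImmersion t := IsClosedImmersion.of_comp t (P ↘ Spec (CommRingCat.of k))
  have hy : IsClosed ({t default} : Set P) := by
    have h := t.isClosedEmbedding.isClosed_range
    rwa [show Set.range t = {t default} from Set.Subset.antisymm
      (by rintro _ ⟨w, rfl⟩; rw [Subsingleton.elim w default]; rfl)
      (by rintro _ rfl; exact ⟨default, rfl⟩)] at h
  obtain ⟨x, hx⟩ : t default ∈ Set.range r :=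
    (genericPoint_specializes (t default)).mem_closed r.isClosedMap.isClosed_range
      ⟨genericPoint X, hξ⟩
  obtain ⟨D, i, a, hD, hxD, he, ha⟩ := VeryAmple.exists_charts s r τ hτ x
  rw [hx] at hxD
  obtain ⟨hη, hnum⟩ := SepCriterion.fibre r hr' hdim hL s hspan (by omega) hy hD hxD
    (exists_scalar_of_section t ht' hD hxD) he ha
  set J := (PointIdeal.ptI hy).comap r with hJdef
  have hlen : Euler.hdim k X (ClSub.quotMod J) 0 ≤ 1 := by
    let F := CohB1.tensorMod (ClSub.idealMod J) L
    have hgF : Euler.IsGood k X F := IdealTwist.isGood_twist hd1 J hL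
    haveI := hgF.fin₀
    haveI : Nontrivial (F.val.obj (op ⊤) : Type u) :=
      Clifford.nontrivial_sections (Module.nontrivial_of_finrank_pos (R := k) (by
        change 0 < Euler.hdim k X (CohB1.tensorMod (ClSub.idealMod J) L) 0; omega))
    obtain ⟨z, hz⟩ := exists_ne (0 : (F.val.obj (op ⊤) : Type u))
    haveI := IdealTwist.mono_incl J hL
    obtain ⟨hmono, hT⟩ := Clifford.section_good hL (IdealTwist.incl J L) (t := z) hz
    haveI := hmono
    have hC : Coh.IsCoh (cokernel (Clifford.σ F z)) := CohBasics.Closure.isCoh_cokernel _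
      Degree.isCoh_structureModule.1 (CurveBundle.Twist.isCoh hL (IdealTwist.isCoh_ideal J))
    have hgC := Finiteness.isGood_of_isCoh (k := k) hd1 hC
    have hadd := Euler.euler_add (Positivity.cokerSES_shortExact (Clifford.σ F z))
      (Degree.isGood_structureModule (k := k) hd1) hgF hgC
    have hQ : Curv2.euler k X (cokernel (Clifford.σ F z)) =
        (Euler.hdim k X (cokernel (Clifford.σ F z)) 0 : ℤ) := hT.euler hd1
    have hχ : Curv2.euler k X F = Curv2.euler k X L - Euler.hdim k X (ClSub.quotMod J) 0 :=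
      IdealTwist.euler_twist_ideal (k := k) hd1 hη hL
    rw [Degree.deg_eq] at hd
    change Curv2.euler k X F = Curv2.euler k X (Coh.structureModule X) +
      Curv2.euler k X (cokernel (Clifford.σ F z)) at hadd
    omega
  obtain ⟨σ, hσ1, hσ⟩ := SepCriterion.exists_smul_mem_range r hr' hdim hy hD hxD hlen
  -- birationality
  have hηD : genericPoint X ∈ r ⁻¹ᵁ D := by
    show r (genericPoint X) ∈ D
    rw [hξ]
    exact (genericPoint_specializes (t default)).mem_open D.2 hxD
  have hfield : IsField (P.presheaf.stalk (r (genericPoint X))) :=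
    hξ.symm ▸ (Field.toIsField P.functionField)
  letI := hfield.toField
  have hinj : Function.Injective (r.stalkMap (genericPoint X)) :=
    (r.stalkMap (genericPoint X)).hom.injective
  have hσ0 : σ ≠ 0 := fun h => by
    rw [h, zero_sub] at hσ1
    exact (hD.primeIdealOf ⟨t default, hxD⟩).2.ne_top
      ((Ideal.eq_top_iff_one _).mpr (neg_neg (1 : Γ(P, D)) ▸ (Ideal.neg_mem_iff _).mpr hσ1))
  have hgσ : P.presheaf.germ D (r (genericPoint X)) hηD σ ≠ 0 := fun h =>
    hσ0 (germ_injective_of_isIntegral P (r (genericPoint X)) hηD (h.trans (map_zero _).symm))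
  haveI : Nonempty (r ⁻¹ᵁ D : X.Opens) := ⟨⟨genericPoint X, hηD⟩⟩
  haveI := functionField_isFractionRing_of_isAffineOpen X (r ⁻¹ᵁ D) (hD.preimage r)
  have hgerm : ∀ v : Γ(X, r ⁻¹ᵁ D), ∃ q, r.stalkMap (genericPoint X) q =
      X.presheaf.germ (r ⁻¹ᵁ D) (genericPoint X) hηD v := fun v => by
    obtain ⟨u, hu⟩ := hσ v
    refine ⟨P.presheaf.germ D (r (genericPoint X)) hηD u *
      (P.presheaf.germ D (r (genericPoint X)) hηD σ)⁻¹, ?_⟩
    rw [map_mul, map_inv₀, mul_inv_eq_iff_eq_mul₀ (fun h => hgσ (hinj (h.trans (map_zero _).symm))),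
      mul_comm]
    exact (Scheme.Hom.germ_stalkMap_apply r D _ hηD u).trans ((congrArg _ hu).trans ((map_mul _ _ _).trans
      (congrArg (· * _) (Scheme.Hom.germ_stalkMap_apply r D _ hηD σ).symm)))
  have hbij : Function.Bijective (r.stalkMap (genericPoint X)) := by
    refine ⟨hinj, fun z => ?_⟩
    obtain ⟨v, w, -, hvw⟩ := IsFractionRing.div_surjective (A := Γ(X, r ⁻¹ᵁ D)) (K := X.functionField) z
    obtain ⟨qv, hqv⟩ := hgerm v
    obtain ⟨qw, hqw⟩ := hgerm w
    exact ⟨qv * qw⁻¹, by rw [map_mul, map_inv₀, hqv, hqw]; exact (div_eq_mul_inv _ _).symm.trans hvw⟩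
  have hN : Pi1.IsNormalScheme P := fun z => by
    haveI := Cyc.SmoothReg.isRegularLocalRing_stalk (P ↘ Spec (CommRingCat.of k)) z
    haveI := Regular.Quotient.isDomain (P.presheaf.stalk z)
    haveI := Regular.UFD.uniqueFactorizationMonoid (P.presheaf.stalk z)
    exact ⟨inferInstance, inferInstance⟩
  haveI := Groth.Agent.S7830.result k (X ↘ Spec (CommRingCat.of k)) (P ↘ Spec (CommRingCat.of k))
    hdim hdP hN r hr' hξ ((ConcreteCategory.isIso_iff_bijective _).mpr hbij)
  exact ⟨asIso r, hr⟩

omit [IsProper (X ↘ Spec (CommRingCat.of k))] [IsIntegral X] in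
/-- Constants and genus of the projective line. -/
theorem h0_genus_of_iso_line {e : X ≅ CohB1.ProjSpace 1 k}
    (he : e.hom ≫ CohB1.ProjSpace.toSpec 1 k = X ↘ Spec (CommRingCat.of k)) :
    Module.finrank k (Coh.HH X (Coh.structureModule X) 0) = 1 ∧ Curv2.genus k X = 0 := by
  let P := CohB1.ProjSpace 1 k
  letI : P.Over (Spec (CommRingCat.of k)) := ⟨CohB1.ProjSpace.toSpec 1 k⟩
  haveI : IsProper (P ↘ Spec (CommRingCat.of k)) := ProjSpace.Basic.isProper_toSpec 1 k
  haveI : IsProper (X ↘ Spec (CommRingCat.of k)) := he ▸ inferInstance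
  have hid : Spec.map (CommRingCat.ofHom (algebraMap k k)) = 𝟙 _ := by
    rw [show CommRingCat.ofHom (algebraMap k k) = 𝟙 _ from rfl, Spec.map_id]
  have h : IsPullback e.hom (X ↘ Spec (CommRingCat.of k)) (P ↘ Spec (CommRingCat.of k))
      (Spec.map (CommRingCat.ofHom (algebraMap k k))) := by
    rw [hid]
    exact IsPullback.of_horiz_isIso ⟨he.trans (Category.comp_id _).symm⟩
  have hdP : topologicalKrullDim P ≤ 1 := by
    rw [ProjSpace.Dim.topologicalKrullDim_projSpace]; simp
  haveI : Nonempty X := ⟨e.inv (genericPoint P)⟩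
  haveI : IsIntegral X := isIntegral_of_isOpenImmersion e.hom
  have hH1 : Subsingleton (Coh.HH P (Coh.structureModule P) 1) :=
    ProjCoh.Twist.subsingleton_HH_structureModule 1 k one_ne_zero
  refine ⟨?_, (BaseChange.genus_eq h).trans Module.finrank_zero_of_subsingleton⟩
  refine (BaseChange.hdim_structureModule h 0).trans ?_
  letI := GlobalSections.secModule k (Coh.structureModule P)
  haveI : IsIso (CohB1.ProjSpace.toSpec 1 k).appTop := ProjCoh.GlobalFun.isIso_appTop 1 k
  have hbij : Function.Bijective (Coh.toGlobal (CohB1.ProjSpace.toSpec 1 k)) :=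
    (ConcreteCategory.bijective_of_isIso (CohB1.ProjSpace.toSpec 1 k).appTop).comp
      (ConcreteCategory.bijective_of_isIso (Scheme.ΓSpecIso (CommRingCat.of k)).inv)
  let L : k →ₗ[k] ((Coh.structureModule P).val.obj (op ⊤) : Type u) :=
    { toFun := fun c => (show Γ(P, ⊤) from Coh.toGlobal (CohB1.ProjSpace.toSpec 1 k) c)
      map_add' := fun a b => map_add _ a b
      map_smul' := fun a b => map_mul (Coh.toGlobal (CohB1.ProjSpace.toSpec 1 k)) a b }
  exact ((GlobalSections.h0Linear k (Coh.structureModule P)).trans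
    (LinearEquiv.ofBijective L hbij).symm).finrank_eq.trans (Module.finrank_self k)

/-- A point with principal local ring gives a module of that degree. -/
theorem exists_deg_of_point (hdim : topologicalKrullDim X = 1) {x : X} (hx : IsClosed ({x} : Set X))
    (hP : IsPrincipalIdealRing (X.presheaf.stalk x)) :
    ∃ M : X.Modules, PicF.IsInvertible M ∧
      Curv2.deg k X M 1 = Euler.hdim k X (ClSub.quotMod (PointIdeal.ptI hx)) 0 := by
  haveI := GlobalSections.isNoetherian_of_proper k X
  have hI := GenusZero.isInvertible_ptI hdim hx hP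
  obtain ⟨M, hM, ⟨eM⟩⟩ := Invertible.exists_inverse hI
  have hdI := Degree.deg_of_isInverseOf (k := k) hdim.le hI hM ⟨eM⟩
  rw [Degree.deg_idealMod hdim.le hI (IdealTwist.genericPoint_not_mem hdim (by
    rw [PointIdeal.support_ptI]
    exact topologicalKrullDim_zero_of_discreteTopology ({x} : Set X)))] at hdI
  exact ⟨M, hM, by linarith⟩

end Groth.Agent.Lib.Curves.DegreeOne
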