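import Groth.Agent.Lib.Curves.DegreeOne
import Groth.Agent.Lib.Modules.Free

/-!
# Rational points of curves as effective divisors of degree one
-/

set_option autoImplicit false
universe u

open CategoryTheory CategoryTheory.Limits AlgebraicGeometry Opposite TopologicalSpace
open Groth.Agent.Lib.TensorMod Groth.Agent.Lib.TensorMod.Dual Groth.Agent.Lib.TensorMod.Gen
  Groth.Agent.Lib.TensorMod.HomGlue Groth.Agent.Lib.TensorMod.Basic Groth.Agent.Lib.Modules

noncomputable section

namespace Groth.Agent.Lib.Curves.RationalPoint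

variable {k : Type u} [Field k] {X : Scheme.{u}} [X.Over (Spec (CommRingCat.of k))]

/-- The point of a section of the structure map. -/
def pt (s : Spec (CommRingCat.of k) ⟶ X) : X :=
  s.base (default : PrimeSpectrum k)

variable (s : Spec (CommRingCat.of k) ⟶ X) (hs : s ≫ (X ↘ Spec (CommRingCat.of k)) = 𝟙 _)

omit [X.Over (Spec (CommRingCat.of k))] in
lemma range_eq : Set.range s.base = {pt s} := by
  have : Subsingleton (Spec (CommRingCat.of k)) := inferInstanceAs (Subsingleton (PrimeSpectrum k))
  ext y
  refine ⟨?_, fun h => ⟨_, h.symm⟩⟩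
  rintro ⟨p, rfl⟩
  exact congrArg _ (Subsingleton.elim p _)

include hs in
lemma isClosed_pt [IsSeparated (X ↘ Spec (CommRingCat.of k))] : IsClosed ({pt s} : Set X) := by
  have : IsClosedImmersion (s ≫ (X ↘ Spec (CommRingCat.of k))) := by rw [hs]; infer_instance
  have : IsClosedImmersion s := IsClosedImmersion.of_comp s (X ↘ Spec (CommRingCat.of k))
  rw [← range_eq]
  exact s.isClosedEmbedding.isClosed_range

include hs in
/-- The kernel of a section is the ideal of its point. -/
theorem ker_eq [IsSeparated (X ↘ Spec (CommRingCat.of k))] (hx : IsClosed ({pt s} : Set X)) :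
    s.ker = PointIdeal.ptI hx := by
  have : IsClosedImmersion (s ≫ (X ↘ Spec (CommRingCat.of k))) := by rw [hs]; infer_instance
  have : IsClosedImmersion s := IsClosedImmersion.of_comp s (X ↘ Spec (CommRingCat.of k))
  rw [H75.RedKer.ker_eq_vanishingIdeal]
  congr 1
  ext1
  change closure (Set.range s.base) = {pt s}
  rw [range_eq, hx.closure_eq]

include hs in
/-- The point of a section has residue degree one. -/
theorem finrank_residueField :
    (letI := Curv2.resAlgebra k X (pt s); Module.finrank k (X.residueField (pt s))) = 1 := by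
  letI := Curv2.resAlgebra k X (pt s)
  let p : Spec (CommRingCat.of k) := (default : PrimeSpectrum k)
  have : Subsingleton (Spec (CommRingCat.of k)) := inferInstanceAs (Subsingleton (PrimeSpectrum k))
  let ψ : X.residueField (pt s) →+* (Spec (CommRingCat.of k)).residueField p :=
    (s.residueFieldMap p).hom
  have hcomp : ∀ c : k, ψ (Curv2.resMap k X (pt s) c) =
      (Spec (CommRingCat.of k)).Γevaluation p ((Scheme.ΓSpecIso (CommRingCat.of k)).inv c) := fun c => by
    have h1 := Scheme.Γevaluation_naturality_apply s p (Coh.toGlobal (X ↘ Spec (CommRingCat.of k)) c)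
    refine h1.trans (congrArg _ ?_)
    change (s.appTop) ((X ↘ Spec (CommRingCat.of k)).appTop
      ((Scheme.ΓSpecIso (CommRingCat.of k)).inv c)) = _
    rw [← CommRingCat.comp_apply, ← Scheme.Hom.comp_appTop, hs, Scheme.Hom.id_appTop]
    rfl
  have hsurj : Function.Surjective
      (fun c => (Spec (CommRingCat.of k)).Γevaluation p ((Scheme.ΓSpecIso (CommRingCat.of k)).inv c)) := by
    intro v
    obtain ⟨w, rfl⟩ := (Spec (CommRingCat.of k)).residue_surjective p v
    obtain ⟨W, hW, f, rfl⟩ := TopCat.Presheaf.exists_germ_eq (Spec (CommRingCat.of k)).presheaf w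
    obtain rfl : W = ⊤ := eq_top_iff.mpr fun q _ => Subsingleton.elim p q ▸ hW
    obtain ⟨c, rfl⟩ := (ConcreteCategory.bijective_of_isIso (Scheme.ΓSpecIso (CommRingCat.of k)).inv).2 f
    exact ⟨c, rfl⟩
  refine (finrank_eq_one_iff_of_nonzero' (1 : X.residueField (pt s)) one_ne_zero).mpr fun v => ?_
  obtain ⟨c, hc⟩ := hsurj (ψ v)
  refine ⟨c, ?_⟩
  rw [Algebra.smul_def, mul_one]
  exact ψ.injective ((hcomp c).trans hc)

variable [IsProper (X ↘ Spec (CommRingCat.of k))] [IsIntegral X]

/-- If two distinct points of degree one are linearly equivalent, then the dual of their common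
class has two independent sections. -/
theorem two_le_h0 (hdim : topologicalKrullDim X ≤ 1) {x y : X} (hx : IsClosed ({x} : Set X))
    (hy : IsClosed ({y} : Set X)) (hxy : x ≠ y)
    (e : ClSub.idealMod (PointIdeal.ptI hx) ≅ ClSub.idealMod (PointIdeal.ptI hy))
    {M : X.Modules} (hM : PicF.IsInvertible M)
    (eM : CohB1.tensorMod (ClSub.idealMod (PointIdeal.ptI hx)) M ≅ Coh.structureModule X) :
    2 ≤ Euler.hdim k X M 0 := by
  by_contra hlt
  have hfin : FiniteDimensional k (Coh.HH X M 0) := PointIdeal.finite_h0 (k := k) hdim hM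
  have hO : 0 < Euler.hdim k X (Coh.structureModule X) 0 := by
    haveI := GlobalSections.finite_h0_structure k X
    haveI : Nontrivial (Coh.HH X (Coh.structureModule X) 0) :=
      (GlobalSections.h0Equiv (Coh.structureModule X)).toEquiv.nontrivial_congr.mpr
        (inferInstanceAs (Nontrivial Γ(X, ⊤)))
    exact Module.finrank_pos
  let eMy : CohB1.tensorMod (ClSub.idealMod (PointIdeal.ptI hy)) M ≅ Coh.structureModule X :=
    (tensorIso e.symm (Iso.refl M)) ≪≫ eM
  have hle := (PointIdeal.hdim_twist_ideal_point (k := k) hx hdim hM).1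
  rw [Euler.hdim_eq_of_iso eM 0] at hle
  have heq : Euler.hdim k X (CohB1.tensorMod (ClSub.idealMod (PointIdeal.ptI hx)) M) 0 =
      Euler.hdim k X M 0 := by
    rw [Euler.hdim_eq_of_iso eM 0]; omega
  have hall := (PointIdeal.hdim_eq_iff (k := k) hx hdim hM).mp heq
  let g : Coh.structureModule X ⟶ M := eMy.inv ≫ IdealTwist.incl (PointIdeal.ptI hy) M
  have hg : g ≫ PointIdeal.evQ hx M = 0 := Free.unitHom_ext (by
    rw [Scheme.Modules.Hom.comp_app]
    exact hall _)
  have hg' : IdealTwist.incl (PointIdeal.ptI hy) M ≫ PointIdeal.evQ hx M = 0 := by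
    rw [← cancel_epi eMy.inv, ← Category.assoc, comp_zero]
    exact hg
  have hxs : x ∈ CohB1.support (CohB1.tensorMod (ClSub.quotMod (PointIdeal.ptI hx)) M) := by
    rw [PointIdeal.support_twist_quot hx hM]; rfl
  haveI := PointIdeal.epi_evQ hx hM
  refine hxs (subsingleton_of_forall_eq 0 fun w => ?_)
  obtain ⟨v, rfl⟩ := (StalkModule.epi_iff_stalkMapₗ_surjective (PointIdeal.evQ hx M)).1 inferInstance x w
  obtain ⟨v', rfl⟩ : v ∈ Set.range (StalkModule.stalkMapₗ (IdealTwist.incl (PointIdeal.ptI hy) M) x) := by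
    have hex := (ShortComplex.ab_exact_iff_function_exact _).mp ((Stalk.exact_iff_stalk _).mp
      (CurveBundle.Twist.shortExact hM (ClSub.Quot.idealSeq_shortExact (PointIdeal.ptI hy))).exact x)
    haveI : Subsingleton ((CohB1.tensorMod (ClSub.quotMod (PointIdeal.ptI hy)) M).presheaf.stalk x) := by
      by_contra hns
      exact hxy ((PointIdeal.support_twist_quot hy hM).le hns)
    obtain ⟨u', hu'⟩ := (hex (StalkModule.stalkMapₗ (leftUnit M).inv x v)).mp
      (@Subsingleton.elim _ this _ _)
    refine ⟨u', ?_⟩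
    rw [IdealTwist.incl, StalkModule.stalkMapₗ_comp, LinearMap.comp_apply]
    refine (congrArg _ hu').trans ?_
    rw [← LinearMap.comp_apply, ← StalkModule.stalkMapₗ_comp, Iso.inv_hom_id, StalkModule.stalkMapₗ_id]
    rfl
  rw [← LinearMap.comp_apply, ← StalkModule.stalkMapₗ_comp, hg', StalkModule.stalkMapₗ_zero]
  rfl

end Groth.Agent.Lib.Curves.RationalPoint
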