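import Groth.Agent.Lib.Curves.IdealTwist
import Groth.Agent.H75.RedSub
import Groth.Agent.H34.GlobGen

/-!
# The ideal of a closed point on a proper scheme over a field; criterion for global generation
-/

set_option autoImplicit false
universe u

open CategoryTheory CategoryTheory.Limits AlgebraicGeometry Opposite TopologicalSpace
open Groth.Agent.Lib.Curves.LES Groth.Agent.Lib.Curves.Euler Groth.Agent.Lib.TensorMod
  Groth.Agent.Lib.TensorMod.Basic Groth.Agent.Lib.TensorMod.Dual Groth.Agent.Lib.TensorMod.Gen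
  Groth.Agent.Lib.Modules

noncomputable section

namespace Groth.Agent.Lib.Curves.PointIdeal

variable {X : Scheme.{u}} {x : X} (hx : IsClosed ({x} : Set X))

/-- The ideal of a closed point. -/
abbrev ptI : X.IdealSheafData := Scheme.IdealSheafData.vanishingIdeal ⟨{x}, hx⟩

/-- The kernel of `Spec κ(x) ⟶ X` is the vanishing ideal of `x`. -/
theorem ker_fromSpecResidueField : (X.fromSpecResidueField x).ker = ptI hx := by
  rw [H75.RedKer.ker_eq_vanishingIdeal]
  congr 1
  ext1
  simp only [Scheme.range_fromSpecResidueField, hx.closure_eq]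

lemma support_ptI : ((ptI hx).support : Set X) = {x} := by
  rw [Scheme.IdealSheafData.coe_support_vanishingIdeal]
  rfl

lemma mem_ideal_of_germ {W : X.affineOpens} (hxW : x ∈ W.1) (a : Γ(X, W.1))
    (ha : ¬ IsUnit (X.presheaf.germ W.1 x hxW a)) : a ∈ (ptI hx).ideal W := by
  rw [Scheme.IdealSheafData.vanishingIdeal_ideal, PrimeSpectrum.mem_vanishingIdeal]
  intro p hp
  by_contra hc
  apply ha
  have h1 : W.2.fromSpec p ∈ X.basicOpen a :=
    (IsAffineOpen.fromSpec_preimage_basicOpen W.2 a).ge hc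
  rw [show W.2.fromSpec p = x from hp] at h1
  exact (X.mem_basicOpen a x hxW).mp h1

/-- The map to the quotient by the ideal of a point, twisted. -/
def evQ (L : X.Modules) : L ⟶ CohB1.tensorMod (ClSub.quotMod (ptI hx)) L :=
  (leftUnit L).inv ≫ tmap (ClSub.toSubscheme (ptI hx)) (𝟙 L)

lemma support_twist_quot {L : X.Modules} (hL : PicF.IsInvertible L) :
    CohB1.support (CohB1.tensorMod (ClSub.quotMod (ptI hx)) L) = {x} := by
  rw [CurveBundle.Twist.support_twist hL, ClSub.Quot.support_quotMod, support_ptI]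

lemma epi_evQ {L : X.Modules} (hL : PicF.IsInvertible L) : Epi (evQ hx L) := by
  haveI := (CurveBundle.Twist.shortExact hL (ClSub.Quot.idealSeq_shortExact (ptI hx))).epi_g
  haveI : Epi (tmap (ClSub.toSubscheme (ptI hx)) (𝟙 L)) := this
  exact epi_comp _ _

/-- Functions vanishing at the point kill `L ⊗ κ(x)`. -/
lemma smul_stalk_eq_zero {L : X.Modules} (hL : PicF.IsInvertible L) (a : X.presheaf.stalk x)
    (ha : ¬ IsUnit a) (v : (CohB1.tensorMod (ClSub.quotMod (ptI hx)) L).presheaf.stalk x) :
    a • v = 0 := by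
  obtain ⟨U, hxU, r, m, rfl, rfl⟩ := StalkModule.exists_germ_eq₂ a v
  obtain ⟨V, hxV, ⟨i⟩⟩ := hL x
  obtain ⟨_, ⟨W, hW, rfl⟩, hxW, hWle⟩ :=
    X.isBasis_affineOpens.exists_subset_of_mem_open (show x ∈ (U ⊓ V : X.Opens) from ⟨hxU, hxV⟩)
      (U ⊓ V).2
  have hWU : W ≤ U := fun y hy => (hWle hy).1
  obtain ⟨e, he⟩ := CurveBundle.Twist.exists_sections_equiv
    (CurveBundle.Twist.localIso i (ClSub.quotMod (ptI hx))) W fun y hy => (hWle hy).2
  let r' : Γ(X, W) := X.presheaf.map (homOfLE hWU).op r
  let m' : Γ(CohB1.tensorMod (ClSub.quotMod (ptI hx)) L, W) :=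
    (CohB1.tensorMod (ClSub.quotMod (ptI hx)) L).presheaf.map (homOfLE hWU).op m
  have hg : X.presheaf.germ W x hxW r' = X.presheaf.germ U x hxU r :=
    TopCat.Presheaf.germ_res_apply _ _ _ _ _
  have hm : (CohB1.tensorMod (ClSub.quotMod (ptI hx)) L).presheaf.germ W x hxW m' =
      (CohB1.tensorMod (ClSub.quotMod (ptI hx)) L).presheaf.germ U x hxU m :=
    TopCat.Presheaf.germ_res_apply _ _ _ _ _
  have hr : r' ∈ (ptI hx).ideal ⟨W, hW⟩ :=
    mem_ideal_of_germ hx (W := ⟨W, hW⟩) hxW r' (fun h => ha (hg ▸ h))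
  rw [← hg, ← hm, ← StalkModule.germ_smul]
  have h0 : r' • m' = 0 := e.injective (by
    rw [he, map_zero]
    have h1 : (ptI hx).subschemeι.app W r' = 0 := by
      rw [← (ptI hx).ker_subschemeι_app ⟨W, hW⟩] at hr
      exact hr
    change (ptI hx).subschemeι.app W r' *
      (show Γ((ptI hx).subscheme, (ptI hx).subschemeι ⁻¹ᵁ W) from e m') = 0
    rw [h1, zero_mul])
  rw [h0, map_zero]

/-- A global section lies in `I ⊗ L` or generates `L` at the point. -/
lemma span_or_app_eq_zero {L : X.Modules} (hL : PicF.IsInvertible L) (t : Γ(L, ⊤)) :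
    (∀ y : X, y ⤳ x →
      Submodule.span (X.presheaf.stalk y) {L.presheaf.germ ⊤ y trivial t} = ⊤) ∨
      (evQ hx L).app ⊤ t = 0 := by
  obtain ⟨U, e, hxU, he⟩ := Gen.isInvertible_iff.1 hL x
  obtain ⟨b, hb⟩ := (he U le_rfl).2 (rs L le_top t)
  simp only [rs_self] at hb
  by_cases hu : IsUnit (X.presheaf.germ U x hxU b)
  · left
    intro y hy
    have hyU : y ∈ U := hy.mem_open U.2 hxU
    have huy : IsUnit (X.presheaf.germ U y hyU b) :=
      (X.mem_basicOpen b y hyU).mp
        (hy.mem_open (X.basicOpen b).2 ((X.mem_basicOpen b x hxU).mpr hu))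
    rw [eq_top_iff]
    intro v _
    obtain ⟨W, hyW, m, rfl⟩ := TopCat.Presheaf.germ_exist (F := L.presheaf) v
    obtain ⟨c, hc⟩ := (he (W ⊓ U) inf_le_right).2 (rs L inf_le_left m)
    simp only at hc
    have hyWU : y ∈ W ⊓ U := ⟨hyW, hyU⟩
    have h1 : L.presheaf.germ W y hyW m =
        X.presheaf.germ _ y hyWU c • L.presheaf.germ U y hyU e := by
      rw [← TopCat.Presheaf.germ_res_apply L.presheaf
        (homOfLE (inf_le_left : W ⊓ U ≤ W)) y hyWU m,
        ← TopCat.Presheaf.germ_res_apply L.presheaf (homOfLE (inf_le_right : W ⊓ U ≤ U)) y hyWU e,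
        ← StalkModule.germ_smul]
      exact congrArg _ hc.symm
    have h2 : L.presheaf.germ ⊤ y trivial t =
        X.presheaf.germ U y hyU b • L.presheaf.germ U y hyU e := by
      rw [← StalkModule.germ_smul, hb]
      exact (TopCat.Presheaf.germ_res_apply L.presheaf (homOfLE (le_top : U ≤ ⊤)) y hyU t).symm
    obtain ⟨d, hd⟩ := huy.exists_left_inv
    rw [h1, Submodule.mem_span_singleton]
    exact ⟨X.presheaf.germ _ y hyWU c * d, by
      rw [h2, smul_smul, mul_assoc, hd, mul_one]⟩
  · right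
    refine Support.eq_zero_of_germ_eq_zero _ fun z hz hzs => ?_
    rw [support_twist_quot hx hL, Set.mem_singleton_iff] at hzs
    subst hzs
    rw [← StalkModule.stalkMapₗ_germ,
      ← TopCat.Presheaf.germ_res_apply L.presheaf (homOfLE (le_top : U ≤ ⊤)) z hxU t]
    change StalkModule.stalkMapₗ (evQ hx L) z (L.presheaf.germ U z hxU (rs L le_top t)) = 0
    rw [← hb, StalkModule.germ_smul, map_smul]
    exact smul_stalk_eq_zero hx hL _ hu _

/-- `evQ` is nonzero on some germ. -/
lemma exists_app_ne_zero {L : X.Modules} (hL : PicF.IsInvertible L)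
    (h : Curv2.IsGloballyGenerated L) : ∃ t : Γ(L, ⊤), (evQ hx L).app ⊤ t ≠ 0 := by
  by_contra hc
  push Not at hc
  have hxs : x ∈ CohB1.support (CohB1.tensorMod (ClSub.quotMod (ptI hx)) L) := by
    rw [support_twist_quot hx hL]; rfl
  haveI := epi_evQ hx hL
  refine hxs (subsingleton_of_forall_eq 0 fun w => ?_)
  obtain ⟨v, rfl⟩ := (StalkModule.epi_iff_stalkMapₗ_surjective (evQ hx L)).1 inferInstance x w
  have hv : v ∈ H34.GlobGen.Gl L x := H34.GlobGen.gl_eq_top_of_gg h x ▸ Submodule.mem_top
  have hle : H34.GlobGen.Gl L x ≤ LinearMap.ker (StalkModule.stalkMapₗ (evQ hx L) x) := by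
    rw [H34.GlobGen.Gl, Submodule.span_le]
    rintro _ ⟨m, rfl⟩
    rw [SetLike.mem_coe, LinearMap.mem_ker]
    exact (StalkModule.stalkMapₗ_germ (evQ hx L) (U := ⊤) trivial m).trans
      ((congrArg _ (hc m)).trans (map_zero _))
  exact hle hv

/-- Restriction to a neighbourhood of the only point of the support. -/
lemma bijective_res {M : X.Modules} (hx : IsClosed ({x} : Set X))
    (hM : CohB1.support M ⊆ {x}) {U : X.Opens} (hxU : x ∈ U) :
    Function.Bijective (fun t : Γ(M, ⊤) => (show Γ(M, U) from M.presheaf.map (homOfLE le_top).op t)) := by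
  refine ⟨fun t t' h => ?_, fun s => ?_⟩
  · rw [← sub_eq_zero]
    refine Support.eq_zero_of_germ_eq_zero _ fun z _ hz => ?_
    obtain rfl : z = x := hM hz
    rw [map_sub, sub_eq_zero,
      ← TopCat.Presheaf.germ_res_apply M.presheaf (homOfLE (le_top : U ≤ ⊤)) z hxU t,
      ← TopCat.Presheaf.germ_res_apply M.presheaf (homOfLE (le_top : U ≤ ⊤)) z hxU t']
    exact congrArg _ h
  · let U' : Bool → X.Opens := fun b => cond b U ⟨{x}ᶜ, hx.isOpen_compl⟩
    let f : ∀ b, Γ(M, U' b) := fun b => Bool.rec (0 : Γ(M, U' false)) s b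
    have hz : ∀ (W : X.Opens), (W : Set X) ⊆ {x}ᶜ → ∀ m : Γ(M, W), m = 0 := fun W hW m =>
      Support.eq_zero_of_germ_eq_zero m fun z hz hzs => absurd (hM hzs) (hW hz)
    obtain ⟨t, ht, -⟩ := TopCat.Sheaf.existsUnique_gluing' (⟨M.presheaf, M.isSheaf⟩ : TopCat.Sheaf _ X)
      U' ⊤ (fun b => homOfLE le_top) (fun y _ => Opens.mem_iSup.mpr (by
        by_cases hy : y = x
        · exact ⟨true, hy ▸ hxU⟩
        · exact ⟨false, hy⟩)) f fun a b => by
        cases a <;> cases b
        · rfl
        · exact (hz (U' false ⊓ U' true) (fun y hy => hy.1) _).trans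
            (hz (U' false ⊓ U' true) (fun y hy => hy.1) _).symm
        · exact (hz (U' true ⊓ U' false) (fun y hy => hy.2) _).trans
            (hz (U' true ⊓ U' false) (fun y hy => hy.2) _).symm
        · rfl
    exact ⟨t, ht true⟩

variable {k : Type u} [Field k] [X.Over (Spec (CommRingCat.of k))]

/-- A module supported at a point does not see a twist. -/
theorem hdim_twist_point {L : X.Modules} (hL : PicF.IsInvertible L) :
    Euler.hdim k X (CohB1.tensorMod (ClSub.quotMod (ptI hx)) L) 0 =
      Euler.hdim k X (ClSub.quotMod (ptI hx)) 0 := by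
  obtain ⟨V, hxV, ⟨i⟩⟩ := hL x
  obtain ⟨e, he⟩ := CurveBundle.Twist.exists_sections_equiv
    (CurveBundle.Twist.localIso i (ClSub.quotMod (ptI hx))) V le_rfl
  let A := CohB1.tensorMod (ClSub.quotMod (ptI hx)) L
  let B := ClSub.quotMod (ptI hx)
  have hA : CohB1.support A ⊆ {x} := (support_twist_quot hx hL).subset
  have hB : CohB1.support B ⊆ {x} := by rw [ClSub.Quot.support_quotMod, support_ptI]
  let a := AddEquiv.ofBijective
    (AddMonoidHom.mk' (fun t : Γ(A, ⊤) => (show Γ(A, V) from A.presheaf.map (homOfLE le_top).op t))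
      fun _ _ => map_add _ _ _) (bijective_res hx hA hxV)
  let b := AddEquiv.ofBijective
    (AddMonoidHom.mk' (fun t : Γ(B, ⊤) => (show Γ(B, V) from B.presheaf.map (homOfLE le_top).op t))
      fun _ _ => map_add _ _ _) (bijective_res hx hB hxV)
  let g : Γ(A, ⊤) ≃+ Γ(B, ⊤) := a.trans (e.trans b.symm)
  have hg : ∀ (r : Γ(X, ⊤)) (m : Γ(A, ⊤)), g (r • m) = r • g m := fun r m => by
    apply b.injective
    simp only [g, AddEquiv.trans_apply, AddEquiv.apply_symm_apply]
    change e (A.presheaf.map (homOfLE le_top).op (r • m)) =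
      B.presheaf.map (homOfLE le_top).op (r • b.symm _)
    rw [Scheme.Modules.map_smul, he, Scheme.Modules.map_smul]
    exact congrArg _ (b.apply_symm_apply (e (a m))).symm
  letI := GlobalSections.secModule k A
  letI := GlobalSections.secModule k B
  let g' : (A.val.obj (op ⊤) : Type u) ≃ₗ[k] (B.val.obj (op ⊤) : Type u) :=
    { g with map_smul' := fun c m => hg _ m }
  exact ((GlobalSections.h0Linear k A).trans
    (g'.trans (GlobalSections.h0Linear k B).symm)).finrank_eq

/-- Global functions of an integral one-point closed subscheme form the residue field of the point. -/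
lemma hdim_quot_aux (I : X.IdealSheafData) (z : I.subscheme) [Subsingleton I.subscheme]
    [IsIntegral I.subscheme] :
    Euler.hdim k X (ClSub.quotMod I) 0 =
      (letI := Curv2.resAlgebra k X (I.subschemeι z);
        Module.finrank k (X.residueField (I.subschemeι z))) := by
  have hbij : Function.Bijective (I.subscheme.Γevaluation z) := by
    constructor
    · refine (injective_iff_map_eq_zero _).mpr fun f hf => ?_
      have hb : I.subscheme.basicOpen f = ⊥ := by
        rw [Scheme.basicOpen_eq_bot_iff_forall_evaluation_eq_zero]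
        intro p
        obtain ⟨p, hp⟩ := p
        obtain rfl : p = z := Subsingleton.elim p z
        exact hf
      exact (basicOpen_eq_bot_iff f).mp hb
    · intro v
      obtain ⟨w, rfl⟩ := I.subscheme.residue_surjective z v
      obtain ⟨W, hW, f, rfl⟩ := TopCat.Presheaf.exists_germ_eq I.subscheme.presheaf w
      obtain rfl : W = ⊤ := eq_top_iff.mpr fun p _ => Subsingleton.elim z p ▸ hW
      exact ⟨f, rfl⟩
  have hbij' : Function.Bijective (I.subschemeι.residueFieldMap z) := by
    refine ⟨RingHom.injective _, fun v => ?_⟩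
    obtain ⟨w, rfl⟩ := I.subscheme.residue_surjective z v
    obtain ⟨w', rfl⟩ := I.subschemeι.stalkMap_surjective z w
    exact ⟨X.residue _ w', ConcreteCategory.congr_hom (Scheme.residue_residueFieldMap I.subschemeι z) w'⟩
  letI := Curv2.resAlgebra k X (I.subschemeι z)
  let ε : Γ(I.subscheme, ⊤) ≃+* X.residueField (I.subschemeι z) :=
    (RingEquiv.ofBijective (I.subscheme.Γevaluation z).hom hbij).trans
      (RingEquiv.ofBijective (I.subschemeι.residueFieldMap z).hom hbij').symm
  letI := GlobalSections.secModule k (ClSub.quotMod I)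
  let ε' : ((ClSub.quotMod I).val.obj (op ⊤) : Type u) ≃ₗ[k] X.residueField (I.subschemeι z) :=
    { ε.toAddEquiv with
      map_smul' := fun c m => by
        change ε (I.subschemeι.app ⊤ (Coh.toGlobal (X ↘ Spec (CommRingCat.of k)) c) *
          (show Γ(I.subscheme, I.subschemeι ⁻¹ᵁ ⊤) from m)) =
          Curv2.resMap k X _ c * ε (show Γ(I.subscheme, ⊤) from m)
        refine (map_mul ε _ _).trans (congrArg (· * _) ?_)
        apply (RingEquiv.ofBijective (I.subschemeι.residueFieldMap z).hom hbij').injective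
        simp only [ε, RingEquiv.trans_apply, RingEquiv.apply_symm_apply]
        exact (Scheme.Γevaluation_naturality_apply I.subschemeι z
          (Coh.toGlobal (X ↘ Spec (CommRingCat.of k)) c)).symm }
  exact ((GlobalSections.h0Linear k (ClSub.quotMod I)).trans ε').finrank_eq

/-- The residue degree is `h⁰` of the structure sheaf of the point. -/
theorem hdim_quot_point :
    Euler.hdim k X (ClSub.quotMod (ptI hx)) 0 =
      (letI := Curv2.resAlgebra k X x; Module.finrank k (X.residueField x)) := by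
  let I := ptI hx
  have hr : Set.range I.subschemeι = {x} := by
    rw [Scheme.IdealSheafData.range_subschemeι, support_ptI]
  have : AlgebraicGeometry.IsReduced I.subscheme := H75.RedSub.isReduced_vanishingIdeal _
  obtain ⟨z, hz⟩ : x ∈ Set.range I.subschemeι := hr ▸ rfl
  have : Nonempty I.subscheme := ⟨z⟩
  have : Subsingleton I.subscheme := ⟨fun p q => I.subschemeι.isClosedEmbedding.injective
    ((show I.subschemeι p ∈ ({x} : Set X) from hr ▸ ⟨p, rfl⟩).trans
      (show I.subschemeι q ∈ ({x} : Set X) from hr ▸ ⟨q, rfl⟩).symm)⟩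
  have : IrreducibleSpace I.subscheme :=
    { toNonempty := inferInstance
      isPreirreducible_univ := Set.subsingleton_univ.isPreirreducible }
  have : IsIntegral I.subscheme := isIntegral_of_irreducibleSpace_of_isReduced _
  exact (hdim_quot_aux (k := k) I z).trans
    (congrArg (fun y : X => letI := Curv2.resAlgebra k X y; Module.finrank k (X.residueField y)) hz)

variable [IsProper (X ↘ Spec (CommRingCat.of k))]

lemma hdim_ses_ideal (hdim : topologicalKrullDim X ≤ 1) (I : X.IdealSheafData) {L : X.Modules}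
    (hL : PicF.IsInvertible L) :
    Euler.hdim k X (CohB1.tensorMod (ClSub.idealMod I) L) 0 ≤ Euler.hdim k X L 0 ∧
      Euler.hdim k X L 0 ≤ Euler.hdim k X (CohB1.tensorMod (ClSub.idealMod I) L) 0 +
        Euler.hdim k X (CohB1.tensorMod (ClSub.quotMod I) L) 0 := by
  have := GlobalSections.isNoetherian_of_proper k X
  have hb := Degree.hdim_ses (A := CohB1.tensorMod (ClSub.idealMod I) L)
    (B := CohB1.tensorMod (Coh.structureModule X) L) (C := CohB1.tensorMod (ClSub.quotMod I) L)
    (CurveBundle.Twist.shortExact hL (ClSub.Quot.idealSeq_shortExact I))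
    (Finiteness.isGood_of_isCoh (k := k) hdim (CurveBundle.Twist.isCoh hL (IdealTwist.isCoh_ideal I)))
    (Finiteness.isGood_of_isCoh (k := k) hdim
      (CurveBundle.Twist.isCoh hL (Degree.isCoh_structureModule (X := X))))
    (Finiteness.isGood_of_isCoh (k := k) hdim (CurveBundle.Twist.isCoh hL (IdealTwist.isCoh_quot I)))
  rw [Euler.hdim_eq_of_iso (leftUnit L) 0] at hb
  exact hb

/-- `h⁰(I ⊗ L) ≤ h⁰(L) ≤ h⁰(I ⊗ L) + [κ(x):k]`. -/
theorem hdim_twist_ideal_point (hdim : topologicalKrullDim X ≤ 1) {L : X.Modules}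
    (hL : PicF.IsInvertible L) :
    Euler.hdim k X (CohB1.tensorMod (ClSub.idealMod (ptI hx)) L) 0 ≤ Euler.hdim k X L 0 ∧
      Euler.hdim k X L 0 ≤ Euler.hdim k X (CohB1.tensorMod (ClSub.idealMod (ptI hx)) L) 0 +
        Euler.hdim k X (ClSub.quotMod (ptI hx)) 0 := by
  rw [← hdim_twist_point (k := k) hx hL]
  exact hdim_ses_ideal hdim (ptI hx) hL

/-- Over an algebraically closed field a closed point has degree one. -/
theorem hdim_quot_point_algClosed [IsAlgClosed k] (hdim : topologicalKrullDim X ≤ 1) :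
    Euler.hdim k X (ClSub.quotMod (ptI hx)) 0 = 1 := by
  have hfin := (Finiteness.isGood_of_isCoh (k := k) hdim (IdealTwist.isCoh_quot (ptI hx))).fin₀
  have h := hdim_quot_point (k := k) hx
  have hpos : 0 < Euler.hdim k X (ClSub.quotMod (ptI hx)) 0 := by
    have hn : Nontrivial (Coh.HH X (ClSub.quotMod (ptI hx)) 0) := by
      refine (GlobalSections.h0Equiv (ClSub.quotMod (ptI hx))).toEquiv.nontrivial_congr.mpr ?_
      by_contra hc
      rw [not_nontrivial_iff_subsingleton] at hc
      have hx' : x ∈ CohB1.support (ClSub.quotMod (ptI hx)) := by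
        rw [ClSub.Quot.support_quotMod, support_ptI]; rfl
      refine hx' (subsingleton_of_forall_eq 0 fun v => ?_)
      obtain ⟨U, hxU, m, rfl⟩ :=
        TopCat.Presheaf.exists_germ_eq (ClSub.quotMod (ptI hx)).presheaf v
      obtain ⟨t, rfl⟩ := (bijective_res hx
        (by rw [ClSub.Quot.support_quotMod, support_ptI]) hxU).2 m
      exact (congrArg (fun t => (ClSub.quotMod (ptI hx)).presheaf.germ U x hxU
        ((ClSub.quotMod (ptI hx)).presheaf.map (homOfLE le_top).op t))
        (@Subsingleton.elim _ hc t 0)).trans ((congrArg _ (map_zero _)).trans (map_zero _))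
    exact Module.finrank_pos
  letI := Curv2.resAlgebra k X x
  rw [h] at hpos ⊢
  have : Module.Finite k (X.residueField x) := Module.finite_of_finrank_pos hpos
  exact (Module.finrank_self k ▸ (AlgEquiv.ofBijective (Algebra.ofId k (X.residueField x))
    IsAlgClosed.algebraMap_bijective_of_isIntegral).toLinearEquiv.finrank_eq).symm

lemma finite_h0 (hdim : topologicalKrullDim X ≤ 1) {L : X.Modules} (hL : PicF.IsInvertible L) :
    FiniteDimensional k (Coh.HH X L 0) :=
  (Degree.isGood (k := k) hdim hL).fin₀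

omit [IsProper (X ↘ Spec (CommRingCat.of k))] in
lemma exact_incl {L : X.Modules} (hL : PicF.IsInvertible L) :
    Function.Exact (mapK k (IdealTwist.incl (ptI hx) L) 0) (mapK k (evQ hx L) 0) := by
  have h : Function.Exact (mapK k (tmap (ClSub.idealModι (ptI hx)) (𝟙 L)) 0)
      (mapK k (tmap (ClSub.toSubscheme (ptI hx)) (𝟙 L)) 0) :=
    exactK₂ k (CurveBundle.Twist.shortExact hL (ClSub.Quot.idealSeq_shortExact (ptI hx))) 0
  intro y
  rw [IdealTwist.incl, evQ, mapK_comp, mapK_comp, LinearMap.comp_apply, h]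
  refine ⟨fun ⟨a, ha⟩ => ⟨a, ?_⟩, fun ⟨a, ha⟩ => ⟨a, ?_⟩⟩
  · rw [LinearMap.comp_apply, ha, ← LinearMap.comp_apply, ← mapK_comp, Iso.inv_hom_id, mapK_id]
    rfl
  · rw [← ha, LinearMap.comp_apply, ← LinearMap.comp_apply, ← mapK_comp, Iso.hom_inv_id, mapK_id]
    rfl

/-- `h⁰(I ⊗ L) = h⁰(L)` exactly when all sections vanish at the point. -/
theorem hdim_eq_iff (hdim : topologicalKrullDim X ≤ 1) {L : X.Modules} (hL : PicF.IsInvertible L) :
    Euler.hdim k X (CohB1.tensorMod (ClSub.idealMod (ptI hx)) L) 0 = Euler.hdim k X L 0 ↔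
      ∀ t : Γ(L, ⊤), (evQ hx L).app ⊤ t = 0 := by
  haveI := finite_h0 (k := k) hdim hL
  haveI := IdealTwist.mono_incl (ptI hx) hL
  have hinj := mapK_injective_of_mono k (IdealTwist.incl (ptI hx) L)
  haveI : FiniteDimensional k (Coh.HH X (CohB1.tensorMod (ClSub.idealMod (ptI hx)) L) 0) :=
    FiniteDimensional.of_injective _ hinj
  have hzero : (∀ t : Γ(L, ⊤), (evQ hx L).app ⊤ t = 0) ↔ ∀ z, mapK k (evQ hx L) 0 z = 0 := by
    let e := GlobalSections.h0Equiv L
    let e' := GlobalSections.h0Equiv (CohB1.tensorMod (ClSub.quotMod (ptI hx)) L)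
    have nat : ∀ z, (evQ hx L).app ⊤ (e z) = e' (mapK k (evQ hx L) 0 z) := fun z =>
      Sheaf.H.equiv₀_naturality (F := Coh.toAb L)
        (G := Coh.toAb (CohB1.tensorMod (ClSub.quotMod (ptI hx)) L)) (isTerminalTop (α := Opens X))
        (toAbMap (evQ hx L)) z
    refine ⟨fun h z => e'.injective ?_, fun h t => ?_⟩
    · exact ((nat z).symm.trans (h _)).trans (map_zero _).symm
    · obtain ⟨z, rfl⟩ := e.surjective t
      exact (nat z).trans ((congrArg e' (h z)).trans (map_zero _))
  rw [hzero]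
  constructor
  · intro heq z
    exact (exact_incl hx hL z).mpr
      ((LinearMap.injective_iff_surjective_of_finrank_eq_finrank heq).mp hinj z)
  · intro h
    exact (LinearEquiv.ofBijective _ ⟨hinj, fun z => (exact_incl hx hL z).mp (h z)⟩).finrank_eq

/-- Global generation is `h⁰(I_x ⊗ L) < h⁰(L)` at all closed points. -/
theorem isGloballyGenerated_iff (hdim : topologicalKrullDim X ≤ 1) {L : X.Modules}
    (hL : PicF.IsInvertible L) :
    Curv2.IsGloballyGenerated L ↔ ∀ (x : X) (hx : IsClosed ({x} : Set X)),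
      Euler.hdim k X (CohB1.tensorMod (ClSub.idealMod (ptI hx)) L) 0 < Euler.hdim k X L 0 := by
  refine ⟨fun h x hx => lt_of_le_of_ne (hdim_twist_ideal_point hx hdim hL).1 fun he => ?_,
    fun h => H34.GlobGen.gg_of_gl_eq_top fun y => ?_⟩
  · obtain ⟨t, ht⟩ := exists_app_ne_zero hx hL h
    exact ht ((hdim_eq_iff hx hdim hL).mp he t)
  · haveI := GlobalSections.isNoetherian_of_proper k X
    obtain ⟨x, hxy, hx⟩ := (isClosed_closure (s := ({y} : Set X))).exists_closed_singleton
      ⟨y, subset_closure rfl⟩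
    have hyx : y ⤳ x := specializes_iff_mem_closure.mpr hxy
    obtain ⟨t, ht⟩ : ∃ t : Γ(L, ⊤), (evQ hx L).app ⊤ t ≠ 0 := by
      by_contra hc
      push Not at hc
      exact (h x hx).ne ((hdim_eq_iff hx hdim hL).mpr hc)
    rw [eq_top_iff, ← ((span_or_app_eq_zero hx hL t).resolve_right ht) y hyx]
    exact Submodule.span_le.mpr (Set.singleton_subset_iff.mpr (Submodule.subset_span ⟨t, rfl⟩))

end Groth.Agent.Lib.Curves.PointIdeal
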