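import Groth.Agent.Lib.Curves.VeryAmple
import Groth.Agent.H4.CartierUFD
import Groth.Agent.Lib.CurveBundle.SmoothField
import Groth.Agent.Lib.ProjSpace.Dim
import Groth.Agent.Lib.JacCrit.OverField
import Groth.Agent.S1533
import Mathlib.AlgebraicGeometry.Morphisms.LocalFlatDescent

/-!
# Geometrically integral curves of genus zero
-/

set_option autoImplicit false
set_option linter.style.haveILetI false
universe u

open CategoryTheory CategoryTheory.Limits AlgebraicGeometry Opposite TopologicalSpace

noncomputable section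

namespace Groth.Agent.Lib.Curves.GenusZero

variable {k : Type u} [Field k] {X : Scheme.{u}} [X.Over (Spec (CommRingCat.of k))]

omit [X.Over (Spec (CommRingCat.of k))] in
lemma one_le_dim_stalk [IsIntegral X] (hdim : topologicalKrullDim X = 1) {y : X}
    (hy : IsClosed ({y} : Set X)) : ringKrullDim (X.presheaf.stalk y) = 1 := by
  rw [ringKrullDim_stalk_eq_coheight]
  have hle := (SmoothCurve.Stalk.coheight_le_topologicalKrullDim y).trans hdim.le
  refine le_antisymm hle ?_
  have hne : y ≠ genericPoint X := fun he =>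
    IdealTwist.genericPoint_not_mem hdim (Z := PointIdeal.ptI hy) (by
      rw [PointIdeal.support_ptI]
      exact topologicalKrullDim_zero_of_discreteTopology ({y} : Set X))
      (by rw [PointIdeal.support_ptI, he]; rfl)
  have hlt : y < genericPoint X := lt_of_le_not_ge (genericPoint_specializes y)
    fun h => hne ((Specializes.antisymm h (genericPoint_specializes y)).eq)
  have : (1 : ℕ∞) ≤ Order.coheight y := by
    refine Order.one_le_iff_ne_zero.mpr fun h0 => ?_
    exact (Order.coheight_eq_zero.mp h0).not_lt hlt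
  exact_mod_cast this

omit [X.Over (Spec (CommRingCat.of k))] in
/-- A closed point with principal local ring has an invertible ideal. -/
theorem isInvertible_ptI [IsIntegral X] [IsLocallyNoetherian X] (hdim : topologicalKrullDim X = 1)
    {x : X} (hx : IsClosed ({x} : Set X)) (hP : IsPrincipalIdealRing (X.presheaf.stalk x)) :
    PicF.IsInvertible (ClSub.idealMod (PointIdeal.ptI hx)) := by
  have hmem : ∀ y ∈ (PointIdeal.ptI hx).support, y = x := fun y hy => by
    have : y ∈ ((PointIdeal.ptI hx).support : Set X) := hy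
    rwa [PointIdeal.support_ptI] at this
  refine ClSub.Cartier.isInvertible_idealMod
    (H4.CartierUFD.isEffCartier_of_assoc _ (fun y hy _ => ?_) fun y hy => ?_)
  · obtain rfl := hmem y hy
    exact one_le_dim_stalk hdim hx
  · obtain rfl := hmem y hy
    exact ⟨inferInstance, inferInstance⟩

variable [IsProper (X ↘ Spec (CommRingCat.of k))]

omit [X.Over (Spec (CommRingCat.of k))] [IsProper (X ↘ Spec (CommRingCat.of k))] in
/-- A closed curve in the projective line is the whole line. -/
theorem isIso_closedImmersion [IsIntegral X] (hdim : topologicalKrullDim X = 1)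
    (i : X ⟶ CohB1.ProjSpace 1 k) [IsClosedImmersion i] : IsIso i := by
  have hd : topologicalKrullDim (CohB1.ProjSpace 1 k) ≤ 1 := by
    rw [ProjSpace.Dim.topologicalKrullDim_projSpace]
    simp
  haveI := ProjSpace.Basic.isProper_toSpec 1 k
  haveI : IsLocallyNoetherian (CohB1.ProjSpace 1 k) :=
    LocallyOfFiniteType.isLocallyNoetherian (CohB1.ProjSpace.toSpec 1 k)
  haveI : CompactSpace (CohB1.ProjSpace 1 k) :=
    QuasiCompact.compactSpace_of_compactSpace (CohB1.ProjSpace.toSpec 1 k)
  haveI : IsNoetherian (CohB1.ProjSpace 1 k) := ⟨⟩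
  haveI : NoetherianSpace (CohB1.ProjSpace 1 k) := inferInstance
  have hgen : i (genericPoint X) = genericPoint (CohB1.ProjSpace 1 k) := by
    rcases H34.DimOne.isClosed_or_component hd (i (genericPoint X)) with hc | hc
    · exfalso
      have hall : ∀ x : X, x = genericPoint X := fun x => i.isClosedEmbedding.injective
        (((genericPoint_specializes x).map i.continuous).mem_closed hc rfl)
      have : Subsingleton X := ⟨fun a b => (hall a).trans (hall b).symm⟩
      have : Subsingleton (IrreducibleCloseds X) := ⟨fun A B => IrreducibleCloseds.ext (by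
        obtain ⟨a, ha⟩ := A.isIrreducible.nonempty
        obtain ⟨b, hb⟩ := B.isIrreducible.nonempty
        ext z
        exact ⟨fun _ => Subsingleton.elim b z ▸ hb, fun _ => Subsingleton.elim a z ▸ ha⟩)⟩
      have h0 : topologicalKrullDim X ≤ 0 := Order.krullDim_nonpos_of_subsingleton
      rw [hdim] at h0
      exact absurd h0 (by decide)
    · rw [irreducibleComponents_eq_singleton, Set.mem_singleton_iff] at hc
      exact ((specializes_iff_mem_closure.mpr (hc ▸ Set.mem_univ _)).antisymm
        (genericPoint_specializes _)).eq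
  haveI : Surjective i := by
    refine ⟨fun y => ?_⟩
    have : y ∈ Set.range i := (genericPoint_specializes y).mem_closed i.isClosedEmbedding.isClosed_range
      ⟨genericPoint X, hgen⟩
    exact this
  exact isIso_of_isClosedImmersion_of_surjective i

/-- A curve of genus zero with a regular point of degree one is the projective line. -/
theorem exists_iso_line [GeometricallyIntegral (X ↘ Spec (CommRingCat.of k))]
    (hdim : topologicalKrullDim X = 1)
    (h0 : Module.finrank k (Coh.HH X (Coh.structureModule X) 0) = 1)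
    (hg : Curv2.genus k X = 0) {x : X} (hx : IsClosed ({x} : Set X))
    (hP : IsPrincipalIdealRing (X.presheaf.stalk x))
    (h1 : Euler.hdim k X (ClSub.quotMod (PointIdeal.ptI hx)) 0 = 1) :
    ∃ e : X ≅ CohB1.ProjSpace 1 k,
      e.hom ≫ CohB1.ProjSpace.toSpec 1 k = X ↘ Spec (CommRingCat.of k) := by
  haveI : IsIntegral X := GeometricallyIntegral.geometrically_isIntegral
    (f := X ↘ Spec (CommRingCat.of k)) (𝟙 _) (𝟙 X) (X ↘ Spec (CommRingCat.of k))
    (IsPullback.of_id_fst)
  haveI := GlobalSections.isNoetherian_of_proper k X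
  have hI := isInvertible_ptI hdim hx hP
  obtain ⟨M, hM, ⟨eM⟩⟩ := TensorMod.Invertible.exists_inverse hI
  have hdI := Degree.deg_of_isInverseOf (k := k) hdim.le hI hM ⟨eM⟩
  rw [Degree.deg_idealMod hdim.le hI (IdealTwist.genericPoint_not_mem hdim (by
    rw [PointIdeal.support_ptI]
    exact topologicalKrullDim_zero_of_discreteTopology ({x} : Set X))), h1] at hdI
  have hd : Curv2.deg k X M 1 = 1 := by push_cast at hdI; omega
  obtain ⟨n, i, hn, hci, hi, -⟩ := VeryAmple.exists_closedImmersion_of_deg hdim h0 hM
    (Groth.Agent.S1533.result k X hdim h0 M hM (by omega)) (by omega)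
  obtain rfl : n = 1 := by omega
  haveI := hci
  haveI := isIso_closedImmersion hdim i
  exact ⟨asIso i, hi⟩

/-- Over an algebraically closed field a curve of genus zero is the projective line. -/
theorem exists_iso_line_algClosed [IsAlgClosed k] [GeometricallyIntegral (X ↘ Spec (CommRingCat.of k))]
    (hdim : topologicalKrullDim X = 1) (hg : Curv2.genus k X = 0) :
    ∃ e : X ≅ CohB1.ProjSpace 1 k,
      e.hom ≫ CohB1.ProjSpace.toSpec 1 k = X ↘ Spec (CommRingCat.of k) := by
  haveI : IsIntegral X := GeometricallyIntegral.geometrically_isIntegral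
    (f := X ↘ Spec (CommRingCat.of k)) (𝟙 _) (𝟙 X) (X ↘ Spec (CommRingCat.of k))
    (IsPullback.of_id_fst)
  haveI : IsLocallyNoetherian X :=
    LocallyOfFiniteType.isLocallyNoetherian (X ↘ Spec (CommRingCat.of k))
  haveI : JacobsonSpace X := LocallyOfFiniteType.jacobsonSpace (X ↘ Spec (CommRingCat.of k))
  have hne : ((X ↘ Spec (CommRingCat.of k)).smoothLocus : Set X).Nonempty :=
    ⟨_, (X ↘ Spec (CommRingCat.of k)).genericPoint_mem_smoothLocus_of_perfectField⟩
  obtain ⟨x, hxU, hxc⟩ := (nonempty_inter_closedPoints hne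
    (X ↘ Spec (CommRingCat.of k)).smoothLocus.2.isLocallyClosed)
  let U := (X ↘ Spec (CommRingCat.of k)).smoothLocus
  letI : (U : Scheme.{u}).Over (Spec (CommRingCat.of k)) := ⟨U.ι ≫ (X ↘ Spec (CommRingCat.of k))⟩
  haveI : Smooth ((U : Scheme.{u}) ↘ Spec (CommRingCat.of k)) :=
    (Scheme.Hom.smoothLocus_eq_top_iff (f := U.ι ≫ (X ↘ Spec (CommRingCat.of k)))).mp (by
      rw [← Scheme.Hom.preimage_smoothLocus_eq]
      exact top_le_iff.mp fun z _ => z.2)
  have hx : IsClosed ({x} : Set X) := hxc
  have hd : topologicalKrullDim (U : Scheme.{u}) ≤ 1 :=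
    (Topology.IsInducing.topologicalKrullDim_le U.ι.isOpenEmbedding.isInducing).trans hdim.le
  have hclU : IsClosed ({(⟨x, hxU⟩ : U)} : Set (U : Scheme.{u})) := by
    have := hx.preimage U.ι.continuous
    rwa [show U.ι ⁻¹' {x} = {(⟨x, hxU⟩ : U)} from Set.ext fun z => ⟨fun h => Subtype.ext h, fun h => congrArg Subtype.val h⟩] at this
  obtain ⟨-, hP'⟩ := CurveBundle.SmoothField.closed_stalk k (X := (U : Scheme.{u})) hd hclU
  have hP : IsPrincipalIdealRing (X.presheaf.stalk x) :=
    IsPrincipalIdealRing.of_surjective (U.stalkIso ⟨x, hxU⟩).hom.hom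
      (ConcreteCategory.bijective_of_isIso _).2
  exact exists_iso_line hdim (GlobalSections.finrank_h0_structure k X) hg hx hP
    (PointIdeal.hdim_quot_point_algClosed hx hdim.le)

/-- A geometrically integral curve of genus zero is smooth. -/
theorem smooth_of_genus_zero [GeometricallyIntegral (X ↘ Spec (CommRingCat.of k))]
    (hdim : topologicalKrullDim X = 1) (hg : Curv2.genus k X = 0) :
    Smooth (X ↘ Spec (CommRingCat.of k)) := by
  haveI : IsIntegral X := GeometricallyIntegral.geometrically_isIntegral
    (f := X ↘ Spec (CommRingCat.of k)) (𝟙 _) (𝟙 X) (X ↘ Spec (CommRingCat.of k))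
    (IsPullback.of_id_fst)
  let σ := Spec.map (CommRingCat.ofHom (algebraMap k (AlgebraicClosure k)))
  let X' : Scheme.{u} := pullback (X ↘ Spec (CommRingCat.of k)) σ
  letI : X'.Over (Spec (CommRingCat.of (AlgebraicClosure k))) := ⟨pullback.snd _ _⟩
  have hpb : IsPullback (pullback.fst (X ↘ Spec (CommRingCat.of k)) σ)
      (X' ↘ Spec (CommRingCat.of (AlgebraicClosure k))) (X ↘ Spec (CommRingCat.of k)) σ :=
    IsPullback.of_hasPullback _ _
  haveI := BaseChange.isProper hpb
  haveI : IsIntegral X' := BaseChange.isIntegral hpb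
  haveI : GeometricallyIntegral (X' ↘ Spec (CommRingCat.of (AlgebraicClosure k))) :=
    MorphismProperty.of_isPullback hpb inferInstance
  have hdim' : topologicalKrullDim X' = 1 := (BaseChange.topologicalKrullDim_eq hpb).trans hdim
  obtain ⟨e', he'⟩ := exists_iso_line_algClosed (k := AlgebraicClosure k) hdim'
    (by rw [BaseChange.genus_eq hpb, hg])
  haveI := ProjSpace.Basic.smooth_toSpec 1 (AlgebraicClosure k)
  have hs' : Smooth (X' ↘ Spec (CommRingCat.of (AlgebraicClosure k))) := he' ▸ inferInstance
  haveI : Flat σ := FibreDeg.Basic.flat_of_field _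
  haveI : Surjective σ := ⟨fun x => ⟨default, Subsingleton.elim _ _⟩⟩
  exact MorphismProperty.of_isPullback_of_descendsAlong (P := @Smooth)
    (Q := (@Surjective ⊓ @Flat ⊓ @QuasiCompact : MorphismProperty Scheme.{u})) hpb.flip
    ⟨⟨inferInstance, inferInstance⟩, inferInstance⟩ hs'

variable (k)

omit [IsProper (X ↘ Spec (CommRingCat.of k))] in
/-- The image of a section is a closed point of degree one. -/
theorem exists_point_of_section [IsSeparated (X ↘ Spec (CommRingCat.of k))]
    (s : Spec (CommRingCat.of k) ⟶ X) (hs : s ≫ (X ↘ Spec (CommRingCat.of k)) = 𝟙 _) :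
    ∃ (x : X) (hx : IsClosed ({x} : Set X)),
      Euler.hdim k X (ClSub.quotMod (PointIdeal.ptI hx)) 0 = 1 := by
  let z : Spec (CommRingCat.of k) := default
  haveI : IsClosedImmersion (s ≫ (X ↘ Spec (CommRingCat.of k))) := hs ▸ inferInstance
  haveI : IsClosedImmersion s := IsClosedImmersion.of_comp s (X ↘ Spec (CommRingCat.of k))
  have hx : IsClosed ({s z} : Set X) := by
    have h := s.isClosedEmbedding.isClosed_range
    rwa [show Set.range s = {s z} from Set.Subset.antisymm
      (by rintro _ ⟨w, rfl⟩; rw [Subsingleton.elim w z]; rfl)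
      (by rintro _ rfl; exact ⟨z, rfl⟩)] at h
  refine ⟨s z, hx, ?_⟩
  rw [PointIdeal.hdim_quot_point hx]
  letI := Curv2.resAlgebra k X (s z)
  have hkey : ∀ c, s.residueFieldMap z (Curv2.resMap k X (s z) c) =
      (Spec (CommRingCat.of k)).residue z ((Spec (CommRingCat.of k)).presheaf.germ ⊤ z trivial
        ((Scheme.ΓSpecIso (CommRingCat.of k)).inv c)) := by
    intro c
    have h1 : s.appTop (Coh.toGlobal (X ↘ Spec (CommRingCat.of k)) c) =
        (Scheme.ΓSpecIso (CommRingCat.of k)).inv c := by
      have h := congrArg (fun φ : Spec (CommRingCat.of k) ⟶ Spec (CommRingCat.of k) =>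
        φ.appTop ((Scheme.ΓSpecIso (CommRingCat.of k)).inv c)) hs
      exact h
    refine (ConcreteCategory.congr_hom (Scheme.residue_residueFieldMap s z) _).trans ?_
    refine congrArg ((Spec (CommRingCat.of k)).residue z) ?_
    refine (s.germ_stalkMap_apply ⊤ z trivial _).trans ?_
    exact congrArg ((Spec (CommRingCat.of k)).presheaf.germ ⊤ z trivial) h1
  have hsurj : Function.Surjective (Curv2.resMap k X (s z)) := by
    intro v
    obtain ⟨b, hb⟩ := (Spec (CommRingCat.of k)).residue_surjective z (s.residueFieldMap z v)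
    letI := (Spec (CommRingCat.of k)).presheaf.algebra_section_stalk (U := ⊤) ⟨z, trivial⟩
    haveI := (isAffineOpen_top (Spec (CommRingCat.of k))).isLocalization_stalk ⟨z, trivial⟩
    obtain ⟨a, ha⟩ := (IsField.localization_map_bijective
      (M := ((isAffineOpen_top (Spec (CommRingCat.of k))).primeIdealOf ⟨z, trivial⟩).asIdeal.primeCompl)
      (Rₘ := (Spec (CommRingCat.of k)).presheaf.stalk z)
      (fun h => h (Ideal.zero_mem _)) (JacCrit.OverField.isField_top (K := k))).2 b
    obtain ⟨c, rfl⟩ :=
      (Scheme.ΓSpecIso (CommRingCat.of k)).commRingCatIsoToRingEquiv.symm.surjective a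
    refine ⟨c, (s.residueFieldMap z).hom.injective ((hkey c).trans ?_)⟩
    rw [← hb]
    exact congrArg _ ha
  exact ((LinearEquiv.ofBijective (Algebra.linearMap k (X.residueField (s z)))
    ⟨RingHom.injective (Curv2.resMap k X (s z)), hsurj⟩).finrank_eq.symm.trans (Module.finrank_self k))

omit [IsProper (X ↘ Spec (CommRingCat.of k))] in
/-- The projective line has a rational point. -/
theorem exists_section_line : ∃ t : Spec (CommRingCat.of k) ⟶ CohB1.ProjSpace 1 k,
    t ≫ CohB1.ProjSpace.toSpec 1 k = 𝟙 _ := by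
  obtain ⟨t, ht, -⟩ := ProjMor.Poly.exists_map 1 k (𝟙 (Spec (CommRingCat.of k)))
    (Coh.structureModule _) (PicLoc.isInvertible_structureModule _)
    (fun _ => TensorMod.Gen.one (Spec (CommRingCat.of k)) ⊤)
    (ProjMor.Embed.generatedBy_of_locus _ fun x => ⟨0, ProjMor.Sec.le_locus (U := ⊤) (by
      have h := Ample.GenLocus.isGen_one (X := Spec (CommRingCat.of k)) ⊤
      rwa [ProjMor.Sec.gl, TensorMod.Dual.rs_self]) trivial⟩)
  exact ⟨t, ht⟩

end Groth.Agent.Lib.Curves.GenusZero
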