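import Groth.Agent.Lib.Curves.Finiteness
import Groth.Agent.Lib.CurveBundle.Twist
import Groth.Agent.Lib.ClSub.Quot
import Groth.Agent.Lib.ClSub.Cartier
import Groth.Agent.Lib.TensorMod.Invertible

/-!
# Degrees of invertible modules on integral proper curves (any field, any singularities)

`isGood`, `euler_twist_torsion`, `euler_twist`, `deg_tensor`, `deg_idealMod`, Riemann-Roch in the form
`euler_eq_deg_add` and its first consequences.
-/

set_option autoImplicit false

universe u

open CategoryTheory CategoryTheory.Limits AlgebraicGeometry Opposite TopologicalSpace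
open Groth.Agent.Lib.Curves.LES Groth.Agent.Lib.Curves.Euler Groth.Agent.Lib.TensorMod
  Groth.Agent.Lib.TensorMod.Basic

noncomputable section

namespace Groth.Agent.Lib.Curves.Degree

variable {k : Type u} [Field k] {X : Scheme.{u}} [X.Over (Spec (CommRingCat.of k))]
  [IsProper (X ↘ Spec (CommRingCat.of k))]

omit [X.Over (Spec (CommRingCat.of k))] [IsProper (X ↘ Spec (CommRingCat.of k))] in
/-- Invertible modules are coherent. -/
lemma isCoh_of_isInvertible {L : X.Modules} (hL : PicF.IsInvertible L) : Coh.IsCoh L :=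
  CurveBundle.Coherent.isCoh (LocFree.of_rank (LocFree.of_isInvertible hL))

omit [X.Over (Spec (CommRingCat.of k))] [IsProper (X ↘ Spec (CommRingCat.of k))] in
lemma isCoh_structureModule : Coh.IsCoh (Coh.structureModule X) :=
  isCoh_of_isInvertible (PicLoc.isInvertible_structureModule X)

/-- Invertible modules have finite cohomology. -/
lemma isGood (hdim : topologicalKrullDim X ≤ 1) {L : X.Modules} (hL : PicF.IsInvertible L) :
    IsGood k X L :=
  Finiteness.isGood_of_isCoh hdim (isCoh_of_isInvertible hL)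

lemma isGood_structureModule (hdim : topologicalKrullDim X ≤ 1) :
    IsGood k X (Coh.structureModule X) :=
  Finiteness.isGood_of_isCoh hdim isCoh_structureModule

omit [IsProper (X ↘ Spec (CommRingCat.of k))] in
lemma deg_eq (L : X.Modules) :
    Curv2.deg k X L 1 = Curv2.euler k X L - Curv2.euler k X (Coh.structureModule X) := by
  simp [Curv2.deg]

omit [IsProper (X ↘ Spec (CommRingCat.of k))] in
lemma deg_structureModule : Curv2.deg k X (Coh.structureModule X) 1 = 0 := by
  simp [Curv2.deg]

/-- `χ(O) = 1 - g` when `H⁰(O) = k`. -/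
lemma euler_structureModule (hdim : topologicalKrullDim X ≤ 1)
    (h0 : Module.finrank k (Coh.HH X (Coh.structureModule X) 0) = 1) :
    Curv2.euler k X (Coh.structureModule X) = 1 - (Curv2.genus k X : ℤ) := by
  rw [Euler.euler_eq (isGood_structureModule (k := k) hdim).vanish]
  simp only [Euler.hdim, Curv2.genus, h0, Nat.cast_one]

/-- Riemann's formula. -/
lemma euler_eq_deg_add (hdim : topologicalKrullDim X ≤ 1)
    (h0 : Module.finrank k (Coh.HH X (Coh.structureModule X) 0) = 1) (L : X.Modules) :
    Curv2.euler k X L = Curv2.deg k X L 1 + 1 - (Curv2.genus k X : ℤ) := by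
  rw [deg_eq, euler_structureModule hdim h0]; ring

/-- `h⁰ - h¹ = deg + 1 - g`. -/
lemma riemann_roch (hdim : topologicalKrullDim X ≤ 1)
    (h0 : Module.finrank k (Coh.HH X (Coh.structureModule X) 0) = 1) {L : X.Modules}
    (hL : PicF.IsInvertible L) :
    (Euler.hdim k X L 0 : ℤ) - Euler.hdim k X L 1 =
      Curv2.deg k X L 1 + 1 - (Curv2.genus k X : ℤ) := by
  rw [← euler_eq_deg_add hdim h0, Euler.euler_eq (isGood (k := k) hdim hL).vanish]

omit [IsProper (X ↘ Spec (CommRingCat.of k))] in
lemma euler_ses_aux {S : ShortComplex X.Modules} (h : S.ShortExact) {A B C : X.Modules}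
    (eA : S.X₁ = A) (eB : S.X₂ = B) (eC : S.X₃ = C) (hA : IsGood k X A) (hB : IsGood k X B)
    (hC : IsGood k X C) : Curv2.euler k X B = Curv2.euler k X A + Curv2.euler k X C := by
  subst eA eB eC
  exact Euler.euler_add h hA hB hC

omit [IsProper (X ↘ Spec (CommRingCat.of k))] in
lemma hdim_ses_aux {S : ShortComplex X.Modules} (h : S.ShortExact) {A B C : X.Modules}
    (eA : S.X₁ = A) (eB : S.X₂ = B) (eC : S.X₃ = C) (hA : IsGood k X A) (hB : IsGood k X B)
    (hC : IsGood k X C) :
    Euler.hdim k X A 0 ≤ Euler.hdim k X B 0 ∧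
      Euler.hdim k X B 0 ≤ Euler.hdim k X A 0 + Euler.hdim k X C 0 := by
  subst eA eB eC
  haveI := hA.fin₀
  haveI := hB.fin₀
  haveI := hC.fin₀
  haveI := h.mono_f
  exact ⟨Euler.hdim_zero_le_of_mono S.f, Euler.hdim_zero_le_add h⟩

omit [IsProper (X ↘ Spec (CommRingCat.of k))] in
/-- Additivity of `χ` with the three modules spelled out. -/
lemma euler_ses {A B C : X.Modules} {f : A ⟶ B} {g : B ⟶ C} {w : f ≫ g = 0}
    (h : (ShortComplex.mk f g w).ShortExact) (hA : IsGood k X A) (hB : IsGood k X B)
    (hC : IsGood k X C) : Curv2.euler k X B = Curv2.euler k X A + Curv2.euler k X C :=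
  euler_ses_aux h rfl rfl rfl hA hB hC

omit [IsProper (X ↘ Spec (CommRingCat.of k))] in
/-- The bounds on `h⁰` with the three modules spelled out. -/
lemma hdim_ses {A B C : X.Modules} {f : A ⟶ B} {g : B ⟶ C} {w : f ≫ g = 0}
    (h : (ShortComplex.mk f g w).ShortExact) (hA : IsGood k X A) (hB : IsGood k X B)
    (hC : IsGood k X C) :
    Euler.hdim k X A 0 ≤ Euler.hdim k X B 0 ∧
      Euler.hdim k X B 0 ≤ Euler.hdim k X A 0 + Euler.hdim k X C 0 :=
  hdim_ses_aux h rfl rfl rfl hA hB hC

variable [IsIntegral X]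

omit [X.Over (Spec (CommRingCat.of k))] [IsProper (X ↘ Spec (CommRingCat.of k))] in
lemma isTorsion_of_generic [NoetherianSpace X] {Q : X.Modules}
    (h : Subsingleton (Q.presheaf.stalk (genericPoint X))) : Positivity.IsTorsion Q :=
  fun x hx => by rw [Positivity.eq_genericPoint_of_isGenPt hx]; exact h

/-- Twisting a torsion module does not change its cohomology. -/
theorem hdim_twist_torsion (hdim : topologicalKrullDim X ≤ 1) {L Q : X.Modules}
    (hL : PicF.IsInvertible L) (hQ : Coh.IsCoh Q)
    (hs : Subsingleton (Q.presheaf.stalk (genericPoint X))) :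
    Euler.hdim k X (CohB1.tensorMod Q L) 0 = Euler.hdim k X Q 0 := by
  haveI := GlobalSections.noetherianSpace_of_proper k X
  obtain ⟨e, he⟩ := CurveBundle.Twist.exists_global_equiv hdim hL hQ
    (Modules.Support.not_mem_support_iff.mpr hs)
  letI := GlobalSections.secModule k (CohB1.tensorMod Q L)
  letI := GlobalSections.secModule k Q
  let e' : ((CohB1.tensorMod Q L).val.obj (op ⊤) : Type u) ≃ₗ[k] (Q.val.obj (op ⊤) : Type u) :=
    { e with map_smul' := fun c m => he _ m }
  exact ((GlobalSections.h0Linear k (CohB1.tensorMod Q L)).trans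
    (e'.trans (GlobalSections.h0Linear k Q).symm)).finrank_eq

omit [X.Over (Spec (CommRingCat.of k))] [IsProper (X ↘ Spec (CommRingCat.of k))] in
lemma subsingleton_stalk_twist {L Q : X.Modules} (hL : PicF.IsInvertible L)
    (hs : Subsingleton (Q.presheaf.stalk (genericPoint X))) :
    Subsingleton ((CohB1.tensorMod Q L).presheaf.stalk (genericPoint X)) :=
  Modules.Support.not_mem_support_iff.mp
    (by rw [CurveBundle.Twist.support_twist hL]; exact Modules.Support.not_mem_support_iff.mpr hs)

theorem euler_twist_torsion (hdim : topologicalKrullDim X ≤ 1) {L Q : X.Modules}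
    (hL : PicF.IsInvertible L) (hQ : Coh.IsCoh Q)
    (hs : Subsingleton (Q.presheaf.stalk (genericPoint X))) :
    Curv2.euler k X (CohB1.tensorMod Q L) = Curv2.euler k X Q := by
  haveI := GlobalSections.noetherianSpace_of_proper k X
  rw [(isTorsion_of_generic (subsingleton_stalk_twist hL hs)).euler hdim,
    (isTorsion_of_generic hs).euler hdim]
  exact congrArg Nat.cast (hdim_twist_torsion hdim hL hQ hs)

/-- `χ(M ⊗ L) - χ(M) = rank M · deg L`. -/
theorem euler_twist (hdim : topologicalKrullDim X ≤ 1) {L M : X.Modules}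
    (hL : PicF.IsInvertible L) (hM : Coh.IsCoh M) :
    Curv2.euler k X (CohB1.tensorMod M L) = Curv2.euler k X M +
      (CurveBundle.Rank.grank M : ℤ) * Curv2.deg k X L 1 := by
  haveI := GlobalSections.isNoetherian_of_proper k X
  have hg : ∀ {F : X.Modules}, Coh.IsCoh F → IsGood k X F := fun h =>
    Finiteness.isGood_of_isCoh hdim h
  have key := CurveBundle.Devissage.additive_eq (X := X) (A := ℤ)
    (fun M => Curv2.euler k X (CohB1.tensorMod M L) - Curv2.euler k X M)
    (fun S hS h₁ h₂ h₃ => by
      have e₁ := euler_ses (A := CohB1.tensorMod S.X₁ L) (B := CohB1.tensorMod S.X₂ L)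
        (C := CohB1.tensorMod S.X₃ L) (CurveBundle.Twist.shortExact hL hS)
        (hg (CurveBundle.Twist.isCoh hL h₁)) (hg (CurveBundle.Twist.isCoh hL h₂))
        (hg (CurveBundle.Twist.isCoh hL h₃))
      have e₂ := Euler.euler_add hS (hg h₁) (hg h₂) (hg h₃)
      omega)
    (fun Q hQ h => by
      rw [euler_twist_torsion hdim hL hQ
        (CurveBundle.Rank.subsingleton_of_grank_eq_zero hQ h), sub_self]) M hM
  rw [Euler.euler_eq_of_iso (leftUnit L), ← deg_eq, nsmul_eq_mul] at key
  linarith

omit [X.Over (Spec (CommRingCat.of k))] [IsProper (X ↘ Spec (CommRingCat.of k))] in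
lemma grank_of_isInvertible {L : X.Modules} (hL : PicF.IsInvertible L) :
    CurveBundle.Rank.grank L = 1 :=
  CurveBundle.Rank.grank_eq_of_rank (LocFree.of_isInvertible hL)

/-- The degree is additive. -/
theorem deg_tensor (hdim : topologicalKrullDim X ≤ 1) {L M : X.Modules}
    (hL : PicF.IsInvertible L) (hM : PicF.IsInvertible M) :
    Curv2.deg k X (CohB1.tensorMod L M) 1 = Curv2.deg k X L 1 + Curv2.deg k X M 1 := by
  rw [deg_eq, euler_twist hdim hM (isCoh_of_isInvertible hL), grank_of_isInvertible hL,
    Nat.cast_one, one_mul, deg_eq L]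
  ring

/-- The degree of an inverse. -/
theorem deg_of_isInverseOf (hdim : topologicalKrullDim X ≤ 1) {L M : X.Modules}
    (hL : PicF.IsInvertible L) (hM : PicF.IsInvertible M) (h : ClSub.IsInverseOf L M) :
    Curv2.deg k X L 1 = -Curv2.deg k X M 1 := by
  have e := deg_tensor (k := k) hdim hL hM
  rw [Euler.deg_eq_of_iso h.some 1, deg_structureModule] at e
  linarith

/-- Torsion modules stay good after twisting. -/
lemma isTorsion_quotMod [NoetherianSpace X] {I : X.IdealSheafData}
    (hI : genericPoint X ∉ (I.support : Set X)) :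
    Subsingleton ((ClSub.quotMod I).presheaf.stalk (genericPoint X)) :=
  Modules.Support.not_mem_support_iff.mp (by rw [ClSub.Quot.support_quotMod]; exact hI)

lemma isCoh_quotMod {I : X.IdealSheafData} (hI : PicF.IsInvertible (ClSub.idealMod I)) :
    Coh.IsCoh (ClSub.quotMod I) := by
  haveI := ClSub.Quot.epi_toSubscheme I
  haveI := (isCoh_of_isInvertible hI).1
  haveI := (isCoh_structureModule (X := X)).1
  refine CohBasics.Closure.isCoh_of_iso ?_ (CohBasics.Closure.isCoh_cokernel
    (ClSub.idealModι I) (isCoh_of_isInvertible hI).1 isCoh_structureModule)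
  exact IsColimit.coconePointUniqueUpToIso (cokernelIsCokernel (ClSub.idealModι I))
    (ClSub.Quot.idealSeq_shortExact I).gIsCokernel

/-- `deg (idealMod I) = - h⁰(O / I)`. -/
theorem deg_idealMod (hdim : topologicalKrullDim X ≤ 1) {I : X.IdealSheafData}
    (hI : PicF.IsInvertible (ClSub.idealMod I)) (hs : genericPoint X ∉ (I.support : Set X)) :
    Curv2.deg k X (ClSub.idealMod I) 1 = -(Euler.hdim k X (ClSub.quotMod I) 0 : ℤ) := by
  haveI := GlobalSections.noetherianSpace_of_proper k X
  have h := euler_ses (A := ClSub.idealMod I) (B := Coh.structureModule X) (C := ClSub.quotMod I)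
    (ClSub.Quot.idealSeq_shortExact I) (isGood (k := k) hdim hI)
    (isGood_structureModule (k := k) hdim) (Finiteness.isGood_of_isCoh hdim (isCoh_quotMod hI))
  have hq := (isTorsion_of_generic (isTorsion_quotMod hs)).euler (k := k) hdim
  rw [deg_eq]
  simp only [Euler.hdim]
  linarith

/-- `0 → L ⊗ I → L → L ⊗ O/I → 0`: dropping by at most `h⁰(O / I)`. -/
theorem hdim_twist_ideal (hdim : topologicalKrullDim X ≤ 1) {I : X.IdealSheafData}
    (hI : PicF.IsInvertible (ClSub.idealMod I)) (hs : genericPoint X ∉ (I.support : Set X))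
    {L : X.Modules} (hL : PicF.IsInvertible L) :
    Euler.hdim k X (CohB1.tensorMod L (ClSub.idealMod I)) 0 ≤ Euler.hdim k X L 0 ∧
      Euler.hdim k X L 0 ≤ Euler.hdim k X (CohB1.tensorMod L (ClSub.idealMod I)) 0 +
        Euler.hdim k X (ClSub.quotMod I) 0 := by
  haveI := GlobalSections.noetherianSpace_of_proper k X
  have hQ := isCoh_quotMod hI
  have hb := hdim_ses (A := CohB1.tensorMod (ClSub.idealMod I) L)
    (B := CohB1.tensorMod (Coh.structureModule X) L) (C := CohB1.tensorMod (ClSub.quotMod I) L)
    (CurveBundle.Twist.shortExact hL (ClSub.Quot.idealSeq_shortExact I))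
    (Finiteness.isGood_of_isCoh (k := k) hdim (CurveBundle.Twist.isCoh hL (isCoh_of_isInvertible hI)))
    (Finiteness.isGood_of_isCoh (k := k) hdim
      (CurveBundle.Twist.isCoh hL (isCoh_structureModule (X := X))))
    (Finiteness.isGood_of_isCoh (k := k) hdim (CurveBundle.Twist.isCoh hL hQ))
  rw [Euler.hdim_eq_of_iso (comm (ClSub.idealMod I) L) 0, Euler.hdim_eq_of_iso (leftUnit L) 0,
    hdim_twist_torsion hdim hL hQ (isTorsion_quotMod hs)] at hb
  exact hb

/-- `h⁰(L) ≤ h⁰(O) + deg L` for `L` with a section. -/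
theorem hdim_zero_le (hdim : topologicalKrullDim X ≤ 1) {L : X.Modules} (hL : PicF.IsInvertible L)
    (h : Nontrivial (Coh.HH X L 0)) :
    (Euler.hdim k X L 0 : ℤ) ≤
      Euler.hdim k X (Coh.structureModule X) 0 + Curv2.deg k X L 1 := by
  haveI := GlobalSections.noetherianSpace_of_proper k X
  exact Positivity.hdim_zero_le_add_deg hdim hL (isGood_structureModule hdim) (isGood hdim hL) h

/-- A module with a section has nonnegative degree. -/
theorem deg_nonneg (hdim : topologicalKrullDim X ≤ 1) {L : X.Modules} (hL : PicF.IsInvertible L)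
    (h : Nontrivial (Coh.HH X L 0)) : 0 ≤ Curv2.deg k X L 1 := by
  haveI := GlobalSections.noetherianSpace_of_proper k X
  exact Positivity.deg_nonneg_of_nontrivial hdim hL (isGood_structureModule hdim) (isGood hdim hL) h

end Groth.Agent.Lib.Curves.Degree
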