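import Mathlib.LinearAlgebra.FreeModule.PID
import Mathlib.Algebra.Module.Torsion.Basic
import Mathlib.RingTheory.Polynomial.Basic
import Mathlib.RingTheory.PrincipalIdealDomain
import Mathlib.FieldTheory.Separable
import Mathlib.LinearAlgebra.FiniteDimensional.Basic

/-!
# Gluing two finite `k[X]`-modules along a space on which `X` is invertible

`α : M₀ → N`, `β : M₁ → N` with `X` acting as `τ` resp. `τ⁻¹` and inducing localisations.  Then
`ker (α - β)` and `coker (α - β)` are finite dimensional (cohomology on the projective line).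
-/

set_option autoImplicit false

universe u v w

open Polynomial

namespace Groth.Agent.Lib.Curves.LaurentFinite

variable {k : Type u} [Field k]

section Torsion

variable {M : Type v} [AddCommGroup M] [Module k M] [Module k[X] M] [IsScalarTower k k[X] M]

/-- The torsion of a finite `k[X]`-module is finite dimensional. -/
theorem finite_torsion [Module.Finite k[X] M] :
    Module.Finite k ((Submodule.torsion k[X] M).restrictScalars k) := by
  classical
  set T := Submodule.torsion k[X] M
  obtain ⟨g₀, hg₀, hg0⟩ :=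
    Submodule.annihilator_top_inter_nonZeroDivisors (Submodule.torsion_isTorsion (R := k[X]) (M := M))
  have hne : g₀ ≠ 0 := nonZeroDivisors.ne_zero hg0
  set g := g₀ * C g₀.leadingCoeff⁻¹
  have hg : g.Monic := monic_mul_leadingCoeff_inv hne
  have hgm : ∀ m ∈ T, g • m = 0 := fun m hm => by
    have := congrArg Subtype.val
      (Submodule.mem_annihilator.mp hg₀ (⟨m, hm⟩ : T) Submodule.mem_top)
    rw [show g = C g₀.leadingCoeff⁻¹ * g₀ from mul_comm _ _, mul_smul, show g₀ • m = 0 from this,
      smul_zero]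
  obtain ⟨S, hS⟩ := (IsNoetherian.noetherian T : T.FG)
  rw [Module.Finite.iff_fg]
  refine ⟨((Finset.range (g.natDegree + 1)) ×ˢ S).image fun x => (X : k[X]) ^ x.1 • x.2,
    le_antisymm (Submodule.span_le.mpr fun y hy => ?_) fun m hm => ?_⟩
  · obtain ⟨x, hx, rfl⟩ := Finset.mem_image.mp hy
    exact T.smul_mem _ (hS ▸ Submodule.subset_span (Finset.mem_product.mp hx).2)
  obtain ⟨f, -, rfl⟩ := Submodule.mem_span_finset.mp (hS.ge hm)
  refine Submodule.sum_mem _ fun s hs => ?_
  have hmod : f s • s = (f s %ₘ g) • s := by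
    conv_lhs => rw [← modByMonic_add_div (f s) g]
    rw [add_smul, mul_comm, mul_smul, hgm s (hS ▸ Submodule.subset_span hs), smul_zero, add_zero]
  rw [hmod, (f s %ₘ g).as_sum_range' (g.natDegree + 1) (by
    have := natDegree_modByMonic_le (f s) hg
    omega), Finset.sum_smul]
  refine Submodule.sum_mem _ fun i hi => ?_
  rw [← C_mul_X_pow_eq_monomial, ← smul_eq_C_mul, smul_assoc]
  exact Submodule.smul_mem _ _ (Submodule.subset_span (Finset.mem_image.mpr
    ⟨(i, s), Finset.mem_product.mpr ⟨hi, hs⟩, rfl⟩))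

end Torsion

variable {M₀ : Type v} {M₁ : Type v} {N : Type w}
  [AddCommGroup M₀] [Module k M₀] [Module k[X] M₀] [IsScalarTower k k[X] M₀]
  [AddCommGroup M₁] [Module k M₁] [Module k[X] M₁] [IsScalarTower k k[X] M₁]
  [AddCommGroup N] [Module k N]
  (α : M₀ →ₗ[k] N) (β : M₁ →ₗ[k] N) (τ σ : Module.End k N)

omit [IsScalarTower k k[X] M₀] in
lemma map_X_pow_smul (hα : ∀ m, α ((X : k[X]) • m) = τ (α m)) (n : ℕ) (m : M₀) :
    α ((X : k[X]) ^ n • m) = (τ ^ n) (α m) := by
  induction n with
  | zero => simp
  | succ n ih => rw [pow_succ', mul_smul, hα, ih, pow_succ', Module.End.mul_apply]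

variable (hα : ∀ m, α ((X : k[X]) • m) = τ (α m)) (hβ : ∀ m, β ((X : k[X]) • m) = σ (β m))
  (hτσ : τ * σ = 1) (hστ : σ * τ = 1)
  (hsα : ∀ y, ∃ (n : ℕ) (m : M₀), (τ ^ n) y = α m)
  (hsβ : ∀ y, ∃ (n : ℕ) (m : M₁), (σ ^ n) y = β m)

include hα hβ hτσ hστ hsα hsβ in
omit [IsScalarTower k k[X] M₁] in
/-- `H¹` is finite dimensional. -/
theorem finite_coker [Module.Finite k[X] M₀] :
    Module.Finite k (N ⧸ (LinearMap.range α ⊔ LinearMap.range β)) := by
  classical
  obtain ⟨S, hS⟩ := Module.Finite.fg_top (R := k[X]) (M := M₀)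
  choose b l hl using fun s : M₀ => hsβ (α s)
  let V : Submodule k N :=
    Submodule.span k ↑(S.biUnion fun s => (Finset.range (b s)).image fun i => (σ ^ i) (α s))
  have hV : V.FG := ⟨_, rfl⟩
  set R := LinearMap.range α ⊔ LinearMap.range β
  have key : ∀ (m : M₀) (n : ℕ), (σ ^ n) (α m) ∈ R ⊔ V := by
    intro m
    have hm : m ∈ Submodule.span k[X] (S : Set M₀) := hS.ge Submodule.mem_top
    induction hm using Submodule.span_induction with
    | mem s hs =>
      intro n
      by_cases hn : n < b s
      · exact Submodule.mem_sup_right (Submodule.subset_span (Finset.mem_biUnion.mpr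
          ⟨s, hs, Finset.mem_image.mpr ⟨n, Finset.mem_range.mpr hn, rfl⟩⟩))
      · obtain ⟨j, rfl⟩ : ∃ j, n = j + b s := ⟨n - b s, by omega⟩
        rw [pow_add, Module.End.mul_apply, hl, ← map_X_pow_smul β σ hβ j (l s)]
        exact Submodule.mem_sup_left (Submodule.mem_sup_right ⟨_, rfl⟩)
    | zero => intro n; simp
    | add x y _ _ hx hy => intro n; rw [map_add, map_add]; exact add_mem (hx n) (hy n)
    | smul p x _ hx =>
      induction p using Polynomial.induction_on with
      | C a =>
        intro n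
        rw [show (C a : k[X]) • x = a • x by rw [← algebraMap_smul k[X] a x]; rfl, map_smul, map_smul]
        exact Submodule.smul_mem _ a (hx n)
      | add p q hp hq =>
        intro n; rw [add_smul, map_add, map_add]; exact add_mem (hp n) (hq n)
      | monomial j a ih =>
        intro n
        rw [pow_succ, ← mul_assoc, mul_comm, mul_smul, hα]
        cases n with
        | zero =>
          rw [pow_zero, Module.End.one_apply, ← hα]
          exact Submodule.mem_sup_left (Submodule.mem_sup_left ⟨_, rfl⟩)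
        | succ n => rw [pow_succ, Module.End.mul_apply, ← Module.End.mul_apply σ τ, hστ,
            Module.End.one_apply]; exact ih n
  have hall : R ⊔ V = ⊤ := by
    rw [eq_top_iff]
    intro y _
    obtain ⟨n, m, hm⟩ := hsα y
    have hc : Commute σ τ := (hστ.trans hτσ.symm : σ * τ = τ * σ)
    have : (σ ^ n) (α m) = y := by
      rw [← hm, ← Module.End.mul_apply, ← hc.mul_pow, hστ, one_pow, Module.End.one_apply]
    exact this ▸ key m n
  haveI : Module.Finite k V := Module.Finite.iff_fg.mpr hV
  refine Module.Finite.of_surjective ((R.mkQ).comp V.subtype) fun q => ?_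
  obtain ⟨y, rfl⟩ := R.mkQ_surjective q
  obtain ⟨r, hr, v, hv, rfl⟩ := Submodule.mem_sup.mp (hall ▸ Submodule.mem_top (x := y))
  exact ⟨⟨v, hv⟩, by simp [(Submodule.Quotient.mk_eq_zero R).mpr hr]⟩

variable (hkα : ∀ m, α m = 0 → ∃ n : ℕ, (X : k[X]) ^ n • m = 0)

include hα hkα in
omit [IsScalarTower k k[X] M₀] in
lemma linear_eq_of_map_eq (lam : M₀ →ₗ[k[X]] k[X]) {D : ℕ} {m g : M₀}
    (h : (τ ^ D) (α m) = α g) : (X : k[X]) ^ D * lam m = lam g := by
  obtain ⟨n, hn⟩ := hkα ((X : k[X]) ^ D • m - g) (by rw [map_sub, map_X_pow_smul α τ hα, h, sub_self])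
  have h1 := congrArg lam hn
  rw [map_smul, map_sub, map_smul, map_zero, smul_eq_mul, smul_eq_mul, mul_eq_zero] at h1
  exact sub_eq_zero.mp (h1.resolve_left (pow_ne_zero _ X_ne_zero))

include hα hβ hτσ hsα hkα in
/-- The part of `M₀` gluing to `M₁` is finite dimensional. -/
theorem finite_comap_range [Module.Finite k[X] M₀] [Module.Finite k[X] M₁] :
    Module.Finite k ((LinearMap.range β).comap α) := by
  classical
  let T := Submodule.torsion k[X] M₀
  haveI : Module.Free k[X] (M₀ ⧸ T) := Module.free_of_finite_type_torsion_free'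
  let bs := Module.Free.chooseBasis k[X] (M₀ ⧸ T)
  let lam : Module.Free.ChooseBasisIndex k[X] (M₀ ⧸ T) → (M₀ →ₗ[k[X]] k[X]) :=
    fun i => (bs.coord i).comp T.mkQ
  haveI : Fintype (Module.Free.ChooseBasisIndex k[X] (M₀ ⧸ T)) := Fintype.ofFinite _
  obtain ⟨S, hS⟩ := Module.Finite.fg_top (R := k[X]) (M := M₁)
  choose e g hg using fun s : M₁ => hsα (β s)
  let G := S.sup fun s => Finset.univ.sup fun i => (lam i (g s)).natDegree
  have key : ∀ l : M₁, ∃ (D : ℕ) (gl : M₀), (τ ^ D) (β l) = α gl ∧
      ∀ i, (lam i gl).natDegree ≤ D + G := by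
    intro l
    have hm : l ∈ Submodule.span k[X] (S : Set M₁) := hS.ge Submodule.mem_top
    induction hm using Submodule.span_induction with
    | mem s hs =>
      refine ⟨e s, g s, hg s, fun i => ?_⟩
      have h1 : (lam i (g s)).natDegree ≤ G :=
        (Finset.le_sup (f := fun i => (lam i (g s)).natDegree) (Finset.mem_univ i)).trans
          (Finset.le_sup (f := fun s => Finset.univ.sup fun i => (lam i (g s)).natDegree) hs)
      omega
    | zero => exact ⟨0, 0, by simp, fun i => by simp⟩
    | add x y _ _ hx hy =>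
      obtain ⟨D, gx, hx, hxd⟩ := hx
      obtain ⟨D', gy, hy, hyd⟩ := hy
      refine ⟨D' + D, (X : k[X]) ^ D' • gx + (X : k[X]) ^ D • gy, ?_, fun i => ?_⟩
      · rw [map_add, map_add, map_add, map_X_pow_smul α τ hα, map_X_pow_smul α τ hα, ← hx, ← hy,
          ← Module.End.mul_apply, ← Module.End.mul_apply, ← pow_add, ← pow_add, add_comm D D']
      · rw [map_add, map_smul, map_smul, smul_eq_mul, smul_eq_mul]
        refine (natDegree_add_le _ _).trans (max_le ?_ ?_)
        · exact natDegree_mul_le.trans (by rw [natDegree_X_pow]; have := hxd i; omega)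
        · exact natDegree_mul_le.trans (by rw [natDegree_X_pow]; have := hyd i; omega)
    | smul p x _ hx =>
      induction p using Polynomial.induction_on with
      | C a =>
        obtain ⟨D, gx, hx, hxd⟩ := hx
        refine ⟨D, (C a : k[X]) • gx, ?_, fun i => ?_⟩
        · rw [show (C a : k[X]) • x = a • x by rw [← algebraMap_smul k[X] a x]; rfl,
            show (C a : k[X]) • gx = a • gx by rw [← algebraMap_smul k[X] a gx]; rfl,
            map_smul, map_smul, map_smul, hx]
        · rw [map_smul, smul_eq_mul]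
          exact (natDegree_C_mul_le _ _).trans (hxd i)
      | add p q hp hq =>
        obtain ⟨D, gx, hx, hxd⟩ := hp
        obtain ⟨D', gy, hy, hyd⟩ := hq
        refine ⟨D' + D, (X : k[X]) ^ D' • gx + (X : k[X]) ^ D • gy, ?_, fun i => ?_⟩
        · rw [add_smul, map_add, map_add, map_add, map_X_pow_smul α τ hα, map_X_pow_smul α τ hα,
            ← hx, ← hy, ← Module.End.mul_apply, ← Module.End.mul_apply, ← pow_add, ← pow_add,
            add_comm D D']
        · rw [map_add, map_smul, map_smul, smul_eq_mul, smul_eq_mul]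
          refine (natDegree_add_le _ _).trans (max_le ?_ ?_)
          · exact natDegree_mul_le.trans (by rw [natDegree_X_pow]; have := hxd i; omega)
          · exact natDegree_mul_le.trans (by rw [natDegree_X_pow]; have := hyd i; omega)
      | monomial j a ih =>
        obtain ⟨D, gx, hx, hxd⟩ := ih
        refine ⟨D + 1, gx, ?_, fun i => by have := hxd i; omega⟩
        rw [pow_succ (X : k[X]), ← mul_assoc, mul_comm, mul_smul, hβ, pow_succ,
          Module.End.mul_apply, ← Module.End.mul_apply τ σ, hτσ, Module.End.one_apply, hx]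
  let Λ : M₀ →ₗ[k] (Module.Free.ChooseBasisIndex k[X] (M₀ ⧸ T) → k[X]) :=
    LinearMap.pi fun i => (lam i).restrictScalars k
  let I := (LinearMap.range β).comap α
  let P := Submodule.pi Set.univ fun _ : Module.Free.ChooseBasisIndex k[X] (M₀ ⧸ T) =>
    degreeLT k (G + 1)
  haveI : Module.Finite k (degreeLT k (G + 1)) := Module.Finite.equiv (degreeLTEquiv k (G + 1)).symm
  have hI : ∀ m : I, Λ m.1 ∈ P := by
    rintro ⟨m, l, hl⟩ i -
    obtain ⟨D, gl, h1, h2⟩ := key l
    have := linear_eq_of_map_eq α τ hα hkα (lam i) (hl ▸ h1 : (τ ^ D) (α m) = α gl)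
    have hd := h2 i
    rw [← this] at hd
    show lam i m ∈ degreeLT k (G + 1)
    rw [mem_degreeLT]
    by_cases h0 : lam i m = 0
    · rw [h0, degree_zero]; exact WithBot.bot_lt_coe _
    · rw [natDegree_mul (pow_ne_zero _ X_ne_zero) h0, natDegree_X_pow] at hd
      exact lt_of_le_of_lt degree_le_natDegree
        (by exact_mod_cast (by omega : (lam i m).natDegree < G + 1))
  let Λ' : I →ₗ[k] P := (Λ.comp I.subtype).codRestrict P hI
  haveI : Module.Finite k P := by
    let f : (Module.Free.ChooseBasisIndex k[X] (M₀ ⧸ T) → degreeLT k (G + 1)) →ₗ[k] P :=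
      (LinearMap.pi fun i => (degreeLT k (G + 1)).subtype.comp (LinearMap.proj i)).codRestrict P
        fun x i _ => (x i).2
    exact Module.Finite.of_surjective f fun x =>
      ⟨fun i => ⟨x.1 i, x.2 i trivial⟩, Subtype.ext rfl⟩
  haveI : Module.Finite k (T.restrictScalars k) := finite_torsion
  haveI : Module.Finite k (I ⧸ LinearMap.ker Λ') := Module.Finite.equiv Λ'.quotKerEquivRange.symm
  -- the kernel lies in the torsion
  have hkerT : ∀ m : M₀, Λ m = 0 → m ∈ T := fun m h0 => by
    rw [← Submodule.Quotient.mk_eq_zero T]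
    exact bs.forall_coord_eq_zero_iff.mp fun i => congrFun h0 i
  haveI : Module.Finite k (LinearMap.ker Λ') :=
    Module.Finite.of_injective
      (((I.subtype).comp (LinearMap.ker Λ').subtype).codRestrict (T.restrictScalars k)
        fun x => hkerT _ (congrArg Subtype.val x.2))
      fun x y h => Subtype.ext (Subtype.ext (congrArg Subtype.val h :))
  exact Module.Finite.of_submodule_quotient (LinearMap.ker Λ')

include hα hβ hτσ hsα hkα in
/-- `H⁰` is finite dimensional. -/
theorem finite_glue [Module.Finite k[X] M₀] [Module.Finite k[X] M₁]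
    (hkβ : ∀ m, β m = 0 → ∃ n : ℕ, (X : k[X]) ^ n • m = 0) :
    Module.Finite k (LinearMap.ker (α.comp (LinearMap.fst k M₀ M₁) -
      β.comp (LinearMap.snd k M₀ M₁))) := by
  set K := LinearMap.ker (α.comp (LinearMap.fst k M₀ M₁) - β.comp (LinearMap.snd k M₀ M₁))
  haveI := finite_comap_range α β τ σ hα hβ hτσ hsα hkα
  have hK : ∀ x : K, α x.1.1 = β x.1.2 := fun x => sub_eq_zero.mp x.2
  let f : K →ₗ[k] (LinearMap.range β).comap α :=
    ((LinearMap.fst k M₀ M₁).comp K.subtype).codRestrict _ fun x => ⟨_, (hK x).symm⟩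
  haveI : Module.Finite k ((Submodule.torsion k[X] M₁).restrictScalars k) := finite_torsion
  haveI : Module.Finite k (K ⧸ LinearMap.ker f) := Module.Finite.equiv f.quotKerEquivRange.symm
  haveI : Module.Finite k (LinearMap.ker f) :=
    Module.Finite.of_injective
      ((((LinearMap.snd k M₀ M₁).comp K.subtype).comp (LinearMap.ker f).subtype).codRestrict
        ((Submodule.torsion k[X] M₁).restrictScalars k) fun x => by
          have h0 : x.1.1.1 = 0 := congrArg Subtype.val x.2
          have := (hK x.1).symm.trans (by rw [h0, map_zero])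
          obtain ⟨n, hn⟩ := hkβ _ this
          exact ⟨⟨_, mem_nonZeroDivisors_of_ne_zero (pow_ne_zero n X_ne_zero)⟩, hn⟩)
      fun x y h => Subtype.ext (Subtype.ext (Prod.ext
        ((congrArg Subtype.val x.2).trans (congrArg Subtype.val y.2).symm)
        (congrArg Subtype.val h :)))
  exact Module.Finite.of_submodule_quotient (LinearMap.ker f)

end Groth.Agent.Lib.Curves.LaurentFinite
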