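import Groth.Agent.Lib.Curves.PoleAlgebra
import Mathlib.AlgebraicGeometry.Morphisms.Affine
import Mathlib.AlgebraicGeometry.Morphisms.Separated
import Mathlib.AlgebraicGeometry.Morphisms.FiniteType
import Mathlib.AlgebraicGeometry.Noetherian
import Mathlib.RingTheory.IntegralClosure.IsIntegralClosure.Basic
import Mathlib.Algebra.MvPolynomial.Eval

/-!
# Poles of a function at the closed points missing from an affine open

For `X` separated and locally noetherian over a field `k`, `U` affine open, `t ∈ Γ(X, U)` with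
`Γ(X, U)` integral over `k[t]`, and a closed point `s ∉ U` with `U ∪ {s}` a neighbourhood of `s`:
there is an affine neighbourhood `W` of `s` and `u ∈ Γ(X, W)` with `u * t ^ n = 1` on `U ⊓ W`, some
`n > 0`.
-/

set_option autoImplicit false

universe u

open CategoryTheory CategoryTheory.Limits AlgebraicGeometry Opposite TopologicalSpace

noncomputable section

namespace Groth.Agent.Lib.Curves.PolePoint

variable {k : Type u} [Field k] {X : Scheme.{u}} [X.Over (Spec (CommRingCat.of k))]

/-- Restriction of functions. -/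
abbrev res {V U : X.Opens} (h : V ≤ U) : Γ(X, U) →+* Γ(X, V) :=
  (X.presheaf.map (homOfLE h).op).hom

omit [X.Over (Spec (CommRingCat.of k))] in
lemma res_res {W V U : X.Opens} (h : V ≤ U) (h' : W ≤ V) :
    (res h').comp (res h) = res (h'.trans h) := by
  rw [← CommRingCat.hom_comp, ← Functor.map_comp]; rfl

omit [X.Over (Spec (CommRingCat.of k))] in
lemma res_res_apply {W V U : X.Opens} (h : V ≤ U) (h' : W ≤ V) (x : Γ(X, U)) :
    res h' (res h x) = res (h'.trans h) x :=
  DFunLike.congr_fun (res_res h h') x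

variable (k) in
/-- The constants in `Γ(X, V)`. -/
def cst (V : X.Opens) : k →+* Γ(X, V) :=
  ((Scheme.ΓSpecIso (CommRingCat.of k)).inv ≫
    (X ↘ Spec (CommRingCat.of k)).appLE ⊤ V le_top).hom

lemma res_cst {V U : X.Opens} (h : V ≤ U) : (res h).comp (cst k U) = cst k V := by
  rw [cst, cst, ← CommRingCat.hom_comp, Category.assoc, Scheme.Hom.appLE_map]

lemma finiteType_cst [LocallyOfFiniteType (X ↘ Spec (CommRingCat.of k))] {U : X.Opens}
    (hU : IsAffineOpen U) : (cst k U).FiniteType := by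
  rw [cst, CommRingCat.hom_comp]
  exact ((X ↘ Spec (CommRingCat.of k)).finiteType_appLE (isAffineOpen_top _) hU le_top).comp
    (RingHom.FiniteType.of_surjective _
      (Scheme.ΓSpecIso (CommRingCat.of k)).commRingCatIsoToRingEquiv.symm.surjective)

lemma fromSpec_comp_over {U : X.Opens} (hU : IsAffineOpen U) :
    hU.fromSpec ≫ (X ↘ Spec (CommRingCat.of k)) = Spec.map (CommRingCat.ofHom (cst k U)) := by
  rw [← IsAffineOpen.SpecMap_appLE_fromSpec _ (isAffineOpen_top _) hU le_top,
    IsAffineOpen.fromSpec_top, Scheme.isoSpec_Spec_inv, ← Spec.map_comp]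
  rfl

variable (k) in
/-- `k[T] → Γ(X, U)`, `T ↦ t`. -/
def evalAt {U : X.Opens} (t : Γ(X, U)) : MvPolynomial (Fin 1) k →+* Γ(X, U) :=
  MvPolynomial.eval₂Hom (cst k U) fun _ => t

lemma res_evalAt {V U : X.Opens} (h : V ≤ U) (t : Γ(X, U)) :
    (res h).comp (evalAt k t) = evalAt k (res h t) := by
  refine MvPolynomial.ringHom_ext (fun r => ?_) fun i => ?_
  · simp only [evalAt, RingHom.comp_apply, MvPolynomial.eval₂Hom_C]
    exact DFunLike.congr_fun (res_cst h) r
  · simp only [evalAt, RingHom.comp_apply, MvPolynomial.eval₂Hom_X']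

/-- On a separated `k`-scheme, functions on `U ⊓ W` come from functions on `U` and on `W`. -/
lemma closure_res_eq_top [IsSeparated (X ↘ Spec (CommRingCat.of k))] {U W : X.Opens}
    (hU : IsAffineOpen U) (hW : IsAffineOpen W) :
    Subring.closure (Set.range (res (inf_le_left : U ⊓ W ≤ U)) ∪
      Set.range (res (inf_le_right : U ⊓ W ≤ W))) = ⊤ := by
  set sk := X ↘ Spec (CommRingCat.of k)
  haveI : X.IsSeparated := ⟨by rw [← terminal.comp_from sk]; infer_instance⟩
  have hO : IsAffineOpen (U ⊓ W) := hU.inf hW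
  set a := res (inf_le_left : U ⊓ W ≤ U)
  set b := res (inf_le_right : U ⊓ W ≤ W)
  set D := Subring.closure (Set.range a ∪ Set.range b) with hD
  let jA : Γ(X, U) →+* D := a.codRestrict D fun x => Subring.subset_closure (Or.inl ⟨x, rfl⟩)
  let jB : Γ(X, W) →+* D := b.codRestrict D fun x => Subring.subset_closure (Or.inr ⟨x, rfl⟩)
  have e₁ : Spec.map (CommRingCat.ofHom a) ≫ hU.fromSpec = hO.fromSpec :=
    hU.map_fromSpec hO (homOfLE inf_le_left).op
  have e₂ : Spec.map (CommRingCat.ofHom b) ≫ hW.fromSpec = hO.fromSpec :=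
    hW.map_fromSpec hO (homOfLE inf_le_right).op
  haveI : IsOpenImmersion (Spec.map (CommRingCat.ofHom a)) := by
    haveI : IsOpenImmersion (Spec.map (CommRingCat.ofHom a) ≫ hU.fromSpec) := e₁ ▸ inferInstance
    exact IsOpenImmersion.of_comp _ hU.fromSpec
  have hpb : IsPullback (Spec.map (CommRingCat.ofHom b)) (Spec.map (CommRingCat.ofHom a))
      hW.fromSpec hU.fromSpec := by
    refine IsOpenImmersion.isPullback _ _ _ _ (e₁.trans e₂.symm) (Opens.ext ?_)
    have h1 := congrArg (fun f : Spec Γ(X, U ⊓ W) ⟶ X => Set.range f) e₁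
    simp only [Scheme.Hom.comp_base, TopCat.coe_comp, Set.range_comp, hO.range_fromSpec] at h1
    change hU.fromSpec ⁻¹' Set.range hW.fromSpec = Set.range (Spec.map (CommRingCat.ofHom a))
    rw [hW.range_fromSpec, ← hU.fromSpec.isOpenEmbedding.injective.image_injective.eq_iff, h1,
      Set.image_preimage_eq_inter_range, hU.range_fromSpec, Set.inter_comm]
    rfl
  let Φ := hpb.isoPullback.hom ≫ pullback.mapDesc hW.fromSpec hU.fromSpec sk
  haveI : IsClosedImmersion Φ := inferInstance
  have w : Spec.map (CommRingCat.ofHom jB) ≫ (hW.fromSpec ≫ sk) =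
      Spec.map (CommRingCat.ofHom jA) ≫ (hU.fromSpec ≫ sk) := by
    rw [fromSpec_comp_over, fromSpec_comp_over, ← Spec.map_comp, ← Spec.map_comp]
    congr 1
    refine CommRingCat.hom_ext (RingHom.ext fun r => Subtype.ext ?_)
    exact ((DFunLike.congr_fun (res_cst inf_le_right) r).trans
      (DFunLike.congr_fun (res_cst inf_le_left) r).symm)
  let g : Spec (CommRingCat.of D) ⟶ pullback (hW.fromSpec ≫ sk) (hU.fromSpec ≫ sk) :=
    pullback.lift _ _ w
  let incl := Spec.map (CommRingCat.ofHom D.subtype)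
  have hfac : incl ≫ g = Φ := by
    refine pullback.hom_ext ?_ ?_
    · simp only [g, Φ, incl, pullback.lift_fst, Category.assoc, pullback.mapDesc,
        pullback.map, Category.comp_id, IsPullback.isoPullback_hom_fst, ← Spec.map_comp]
      rfl
    · simp only [g, Φ, incl, pullback.lift_snd, Category.assoc, pullback.mapDesc,
        pullback.map, Category.comp_id, IsPullback.isoPullback_hom_snd, ← Spec.map_comp]
      rfl
  haveI : IsClosedImmersion (incl ≫ g) := by rw [hfac]; infer_instance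
  haveI : IsSeparated g := by
    haveI : IsSeparated (g ≫ pullback.fst _ _) := by
      rw [pullback.lift_fst]; infer_instance
    exact IsSeparated.of_comp g (pullback.fst _ _)
  haveI : IsClosedImmersion incl := IsClosedImmersion.of_comp incl g
  have hs := (IsClosedImmersion.isAffine_surjective_of_isAffine (f := incl)).2
  rw [eq_top_iff]
  intro c _
  obtain ⟨d, hd⟩ := hs ((Scheme.ΓSpecIso _).inv c)
  have hnat := ConcreteCategory.congr_hom
    (Scheme.ΓSpecIso_naturality (CommRingCat.ofHom D.subtype)) d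
  simp only [CommRingCat.comp_apply] at hnat
  erw [hd] at hnat
  have : c = D.subtype ((Scheme.ΓSpecIso (CommRingCat.of D)).hom d) := by
    refine Eq.trans ?_ hnat
    exact ((Scheme.ΓSpecIso _).commRingCatIsoToRingEquiv.apply_symm_apply c).symm
  rw [this]
  exact SetLike.coe_mem _

/-- The main construction: a pole of order `n` at `s`. -/
theorem exists_pole [IsSeparated (X ↘ Spec (CommRingCat.of k))] [IsLocallyNoetherian X]
    {U : X.Opens} (hU : IsAffineOpen U) (t : Γ(X, U)) (ht : (evalAt k t).IsIntegral)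
    (s : X) (hsU : s ∉ U) (hs : IsClosed ({s} : Set X)) (U' : X.Opens) (hsU' : s ∈ U')
    (hU' : (U' : Set X) ⊆ insert s (U : Set X)) :
    ∃ (W : X.Opens) (_ : IsAffineOpen W) (u : Γ(X, W)) (n : ℕ), s ∈ W ∧ W ≤ U' ∧ 0 < n ∧
      res (inf_le_right : U ⊓ W ≤ W) u * res (inf_le_left : U ⊓ W ≤ U) t ^ n = 1 := by
  obtain ⟨W, hW, hsW, hWU'⟩ :=
    exists_isAffineOpen_mem_and_subset (X := X) (x := s) (U := U') hsU'
  haveI : X.IsSeparated := ⟨by rw [← terminal.comp_from (X ↘ Spec (CommRingCat.of k))]; infer_instance⟩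
  haveI : IsNoetherianRing Γ(X, W) := IsLocallyNoetherian.component_noetherian ⟨W, hW⟩
  have hO : IsAffineOpen (U ⊓ W) := hU.inf hW
  set ρ := res (inf_le_right : U ⊓ W ≤ W)
  set p := (hW.primeIdealOf ⟨s, hsW⟩).asIdeal
  haveI : p.IsMaximal := hW.primeIdealOf_isMaximal_of_isClosed ⟨s, hsW⟩ hs
  have hp : ∀ q : Ideal Γ(X, U ⊓ W), q.IsPrime → q.comap ρ ≠ p := by
    intro q hq hqp
    have h1 : hW.fromSpec (Spec.map (CommRingCat.ofHom ρ) ⟨q, hq⟩) = hO.fromSpec ⟨q, hq⟩ := by
      rw [← hW.map_fromSpec hO (homOfLE inf_le_right).op, Scheme.Hom.comp_apply]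
      rfl
    have h2 : Spec.map (CommRingCat.ofHom ρ) ⟨q, hq⟩ = hW.primeIdealOf ⟨s, hsW⟩ :=
      PrimeSpectrum.ext hqp
    have hmem : hO.fromSpec ⟨q, hq⟩ ∈ ((U ⊓ W : X.Opens) : Set X) := by
      rw [← hO.range_fromSpec]; exact ⟨_, rfl⟩
    rw [← h1, h2, hW.fromSpec_primeIdealOf] at hmem
    exact hsU hmem.1
  -- integrality over `Γ(W)[t]`
  set tC := res (inf_le_left : U ⊓ W ≤ U) t
  have hint : (Polynomial.eval₂RingHom ρ tC).IsIntegral := by
    intro c
    refine IsIntegral.of_mem_closure'' (Set.range (res (inf_le_left : U ⊓ W ≤ U)) ∪ Set.range ρ)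
      ?_ c ((closure_res_eq_top (k := k) hU hW).symm ▸ Subring.mem_top c)
    rintro _ (⟨a, rfl⟩ | ⟨b, rfl⟩)
    · have e : (res inf_le_left).comp (evalAt k t) = (Polynomial.eval₂RingHom ρ tC).comp
          (MvPolynomial.eval₂Hom (Polynomial.C.comp (cst k W)) fun _ => Polynomial.X) := by
        refine MvPolynomial.ringHom_ext (fun r => ?_) fun i => ?_
        · simp only [evalAt, RingHom.comp_apply, MvPolynomial.eval₂Hom_C,
            Polynomial.coe_eval₂RingHom, Polynomial.eval₂_C]
          exact (DFunLike.congr_fun (res_cst _) r).trans (DFunLike.congr_fun (res_cst _) r).symm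
        · simp only [evalAt, RingHom.comp_apply, MvPolynomial.eval₂Hom_X',
            Polynomial.coe_eval₂RingHom, Polynomial.eval₂_X]
          rfl
      obtain ⟨q, hq1, hq2⟩ := ht a
      refine ⟨q.map (MvPolynomial.eval₂Hom (Polynomial.C.comp (cst k W)) fun _ => Polynomial.X),
        hq1.map _, ?_⟩
      rw [Polynomial.eval₂_map, ← e, ← Polynomial.hom_eval₂, hq2, map_zero]
    · have := (Polynomial.eval₂RingHom ρ tC).isIntegralElem_map (x := Polynomial.C b)
      rwa [Polynomial.coe_eval₂RingHom, Polynomial.eval₂_C] at this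
  obtain ⟨e, he, r, m, hr, hm, hsum⟩ := PoleAlgebra.exists_eq_sum ρ p tC hp hint
  -- shrink to `D(e)`
  set W' := X.basicOpen e
  have hW' : IsAffineOpen W' := hW.basicOpen e
  have hle : W' ≤ W := X.basicOpen_le e
  have hsW' : s ∈ W' := by
    have h1 : hW.primeIdealOf ⟨s, hsW⟩ ∈ PrimeSpectrum.basicOpen e := he
    rw [← hW.fromSpec_preimage_basicOpen] at h1
    have h2 : hW.fromSpec (hW.primeIdealOf ⟨s, hsW⟩) ∈ X.basicOpen e := h1
    rwa [hW.fromSpec_primeIdealOf] at h2
  haveI : IsNoetherianRing Γ(X, W') := IsLocallyNoetherian.component_noetherian ⟨W', hW'⟩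
  set p' := (hW'.primeIdealOf ⟨s, hsW'⟩).asIdeal
  have hpp' : p'.comap (res hle) = p := by
    have h1 : hW.fromSpec (Spec.map (CommRingCat.ofHom (res hle)) (hW'.primeIdealOf ⟨s, hsW'⟩)) =
        hW.fromSpec (hW.primeIdealOf ⟨s, hsW⟩) := by
      have h2 := hW'.fromSpec_primeIdealOf ⟨s, hsW'⟩
      rw [← hW.map_fromSpec hW' (homOfLE hle).op, Scheme.Hom.comp_apply] at h2
      exact h2.trans (hW.fromSpec_primeIdealOf ⟨s, hsW⟩).symm
    exact congrArg PrimeSpectrum.asIdeal (hW.fromSpec.isOpenEmbedding.injective h1)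
  obtain ⟨ε, hε⟩ : ∃ ε : Γ(X, W'), ε * res hle e = 1 := isUnit_iff_exists_inv'.mp (X.toRingedSpace.isUnit_res_basicOpen e : IsUnit (res hle e))
  have hOO : U ⊓ W' ≤ U ⊓ W := inf_le_inf_left U hle
  set ρ' := res (inf_le_right : U ⊓ W' ≤ W')
  set t' := res (inf_le_left : U ⊓ W' ≤ U) t
  have hρ : ∀ x, res hOO (ρ x) = ρ' (res hle x) := fun x =>
    (res_res_apply _ _ x).trans (res_res_apply _ _ x).symm
  have hsum' : ∑ i ∈ Finset.range r, ρ' (ε * res hle (m i)) * t' ^ (i + 1) = 1 := by
    calc _ = ρ' ε * res hOO (∑ i ∈ Finset.range r, ρ (m i) * tC ^ (i + 1)) := by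
          rw [map_sum, Finset.mul_sum]
          refine Finset.sum_congr rfl fun i _ => ?_
          rw [map_mul, map_mul, map_pow, hρ, mul_assoc]
          simp only [ρ', t', tC, res_res_apply]
      _ = 1 := by rw [← hsum, hρ, ← map_mul, hε, map_one]
  have hm' : ∀ i, ε * res hle (m i) ∈ p' := fun i =>
    p'.mul_mem_left _ (show m i ∈ p'.comap (res hle) from hpp'.symm ▸ hm i)
  have hbd : ∀ c, ∃ a : ℕ, ∀ b ∈ p' ^ a, ρ' b * c ∈ ρ'.range := by
    intro c
    refine PoleAlgebra.exists_pow_le ρ' p' (IsNoetherian.noetherian _) c fun f hf => ?_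
    have hfle : X.basicOpen f ≤ U ⊓ W' := by
      intro x hx
      have hxW' : x ∈ W' := X.basicOpen_le f hx
      rcases hU' (hWU' (hle hxW')) with rfl | hxU
      · exfalso
        have h1 : hW'.primeIdealOf ⟨x, hxW'⟩ ∈ hW'.fromSpec ⁻¹ᵁ X.basicOpen f := by
          show hW'.fromSpec (hW'.primeIdealOf ⟨x, hxW'⟩) ∈ X.basicOpen f
          rwa [hW'.fromSpec_primeIdealOf]
        rw [hW'.fromSpec_preimage_basicOpen] at h1
        exact h1 hf
      · exact ⟨hxU, hxW'⟩
    haveI := hW'.isLocalization_basicOpen f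
    obtain ⟨n, b, hb⟩ := IsLocalization.Away.surj (S := Γ(X, X.basicOpen f)) f (res hfle c)
    have hO' : IsAffineOpen (U ⊓ W') := hU.inf hW'
    haveI := hO'.isLocalization_basicOpen (ρ' f)
    have hbo : X.basicOpen (ρ' f) = X.basicOpen f := by
      rw [Scheme.basicOpen_res]; exact inf_eq_right.mpr hfle
    have heq : algebraMap Γ(X, U ⊓ W') Γ(X, X.basicOpen (ρ' f)) (c * ρ' f ^ n) =
        algebraMap Γ(X, U ⊓ W') Γ(X, X.basicOpen (ρ' f)) (ρ' b) := by
      rw [RingHom.algebraMap_toAlgebra]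
      change res (X.basicOpen_le _) (c * ρ' f ^ n) = res (X.basicOpen_le _) (ρ' b)
      have hb' : res hfle c * res (X.basicOpen_le f) f ^ n = res (X.basicOpen_le f) b := hb
      have := congrArg (res hbo.le) hb'
      simpa only [ρ', map_mul, map_pow, res_res_apply] using this
    obtain ⟨⟨_, j, rfl⟩, hj⟩ := (IsLocalization.eq_iff_exists (Submonoid.powers (ρ' f)) _).mp heq
    refine ⟨n + j, f ^ j * b, ?_⟩
    simp only [map_mul, map_pow] at hj ⊢
    rw [← hj]; ring
  obtain ⟨u, n, hn, hu⟩ := PoleAlgebra.exists_mul_pow_eq_one ρ' p' t' _ hm' hsum' hbd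
  exact ⟨W', hW', u, n, hsW', hle.trans hWU', hn, hu⟩

end Groth.Agent.Lib.Curves.PolePoint
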