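import Groth.Agent.Lib.Curves.MVConnecting
import Groth.Agent.Lib.Curves.GlobalSections
import Groth.Agent.Lib.Curves.PolePoint

/-!
# `H⁰` and `H¹` of a scheme covered by two opens, as modules over the base field
-/

set_option autoImplicit false

universe u

open CategoryTheory CategoryTheory.Limits CategoryTheory.Abelian AlgebraicGeometry Opposite
  TopologicalSpace
open Groth.Agent.Lib.Curves.PolePoint Groth.Agent.Lib.ZarCoh Groth.Agent.Lib.Cech

noncomputable section

namespace Groth.Agent.Lib.Curves.MVModule

variable {k : Type u} [Field k] {X : Scheme.{u}} [X.Over (Spec (CommRingCat.of k))] (F : X.Modules)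

variable (k) in
/-- Sections over an open as a `k`-module. -/
@[reducible] def secModuleOn (W : X.Opens) : Module k Γ(F, W) := Module.compHom _ (cst k W)

lemma resTop_toGlobal (W : X.Opens) (a : k) :
    Coh.resTop X (op W) (Coh.toGlobal (X ↘ Spec (CommRingCat.of k)) a) = cst k W a := rfl

lemma smul_def (W : X.Opens) (a : k) (s : Γ(F, W)) :
    letI := secModuleOn k F W
    a • s = cst k W a • s := rfl

/-- The restriction map, `k`-linearly. -/
def resₗ {W V : X.Opens} (h : V ≤ W) :
    letI := secModuleOn k F W
    letI := secModuleOn k F V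
    Γ(F, W) →ₗ[k] Γ(F, V) :=
  letI := secModuleOn k F W
  letI := secModuleOn k F V
  { toFun := (F.presheaf.map (homOfLE h).op).hom
    map_add' := map_add _
    map_smul' := fun a s => by
      simp only [RingHom.id_apply]
      show (F.presheaf.map (homOfLE h).op).hom (cst k W a • s) = cst k V a • _
      rw [← res_cst h]
      exact F.map_smul _ _ _ }

variable {U V : X.Opens} (hUV : U ⊔ V = ⊤)

/-- The connecting map `Γ(F, U ⊓ V) → H¹(X, F)`, `k`-linearly. -/
def connectingₗ :
    letI := secModuleOn k F (U ⊓ V)
    Γ(F, U ⊓ V) →ₗ[k] Coh.HH X F 1 :=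
  letI := secModuleOn k F (U ⊓ V)
  { MVConnecting.connecting (Coh.toAb F) hUV with
    map_smul' := fun a s => by
      refine Eq.trans ?_ (MVConnecting.connecting_natural (Coh.toAb F) hUV
        (Coh.smulAb F (Coh.toGlobal (X ↘ Spec (CommRingCat.of k)) a)) s)
      rw [Coh.smulAb_app]
      rfl }

lemma connectingₗ_res_left (x : Γ(F, U)) :
    letI := secModuleOn k F (U ⊓ V)
    letI := secModuleOn k F U
    connectingₗ (k := k) F hUV (resₗ (k := k) F (inf_le_left : U ⊓ V ≤ U) x) = 0 :=
  MVConnecting.connecting_res_left (Coh.toAb F) hUV x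

lemma connectingₗ_res_right (x : Γ(F, V)) :
    letI := secModuleOn k F (U ⊓ V)
    letI := secModuleOn k F V
    connectingₗ (k := k) F hUV (resₗ (k := k) F (inf_le_right : U ⊓ V ≤ V) x) = 0 :=
  MVConnecting.connecting_res_right (Coh.toAb F) hUV x

end Groth.Agent.Lib.Curves.MVModule
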