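import Groth.Agent.Lib.ProjSpace.Basic

/-!
# The two standard charts of the projective line and their overlap
-/

set_option autoImplicit false

universe u

open CategoryTheory CategoryTheory.Limits AlgebraicGeometry Opposite TopologicalSpace
open Groth.Agent.Lib.ProjSpace Groth.Agent.Lib.ProjSpace.Charts Groth.Agent.Lib.ProjSpace.Basic
open HomogeneousLocalization

noncomputable section

namespace Groth.Agent.Lib.Curves.P1Charts

variable (k : Type u) [Field k]

/-- The `i`-th chart as an open subscheme. -/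
abbrev D (i : Fin 2) : (CohB1.ProjSpace 1 k).Opens := chartι k i ''ᵁ ⊤

lemma isAffineOpen_D (i : Fin 2) : IsAffineOpen (D k i) :=
  (isAffineOpen_top _).image_of_isOpenImmersion (chartι k i)

lemma D_eq (i : Fin 2) :
    D k i = Proj.basicOpen (CohB1.polyGrading 1 k) (MvPolynomial.X i) := by
  rw [D, Scheme.Hom.image_top_eq_opensRange, opensRange_chartι]

lemma sup_D : D k 0 ⊔ D k 1 = ⊤ := by
  rw [D_eq, D_eq]
  refine Eq.trans ?_ (iSup_basicOpen_X_eq_top 1 k)
  refine le_antisymm (sup_le
    (le_iSup (fun i : Fin 2 => Proj.basicOpen (CohB1.polyGrading 1 k) (MvPolynomial.X i)) 0)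
    (le_iSup (fun i : Fin 2 => Proj.basicOpen (CohB1.polyGrading 1 k) (MvPolynomial.X i)) 1))
    (iSup_le fun i => ?_)
  fin_cases i
  · exact le_sup_left
  · exact le_sup_right

/-- The coordinate ring of the `i`-th chart. -/
def hom (i : Fin 2) :
    CommRingCat.of (MvPolynomial (Fin 1) k) ⟶ Γ(CohB1.ProjSpace 1 k, D k i) :=
  (Scheme.ΓSpecIso _).inv ≫ ((chartι k i).appIso ⊤).inv

instance isIso_hom (i : Fin 2) : IsIso (hom k i) := by unfold hom; infer_instance

lemma hom_bijective (i : Fin 2) : Function.Bijective (hom k i).hom :=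
  ConcreteCategory.bijective_of_isIso (hom k i)

lemma C_hom (i : Fin 2) :
    CommRingCat.ofHom MvPolynomial.C ≫ hom k i =
      (Scheme.ΓSpecIso (CommRingCat.of k)).inv ≫
        (CohB1.ProjSpace.toSpec 1 k).appLE ⊤ (D k i) le_top := by
  rw [hom, ← cancel_mono ((chartι k i).appIso ⊤).hom]
  simp only [Category.assoc, Iso.inv_hom_id, Category.comp_id]
  rw [Scheme.Hom.appIso_hom', Scheme.Hom.appLE_comp_appLE]
  simp only [chartι_toSpec]
  exact (Scheme.ΓSpecIso_inv_naturality _).trans
    (congrArg _ (Scheme.Hom.app_eq_appLE _))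

/-- The coordinate of the `i`-th chart. -/
def coord (i : Fin 2) : Γ(CohB1.ProjSpace 1 k, D k i) := (hom k i).hom (MvPolynomial.X 0)

lemma succAbove_zero {i j : Fin 2} (hij : i ≠ j) : i.succAbove (0 : Fin 1) = j := by
  fin_cases i <;> fin_cases j <;> first | exact absurd rfl hij | rfl

lemma chartEquiv_X_eq {i j : Fin 2} (hij : i ≠ j) :
    chartEquiv k i (MvPolynomial.X (0 : Fin 1)) = Charts.coord k i j := by
  rw [chartEquiv_X, succAbove_zero hij]

/-- The overlap of the two charts is where the coordinate is invertible. -/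
lemma inf_D {i j : Fin 2} (hij : i ≠ j) :
    D k i ⊓ D k j = (CohB1.ProjSpace 1 k).basicOpen (coord k i) := by
  have h1 : chartι k i ⁻¹ᵁ D k j =
      PrimeSpectrum.basicOpen (MvPolynomial.X (0 : Fin 1) : MvPolynomial (Fin 1) k) := by
    rw [D_eq, chartι, Scheme.Hom.comp_preimage]
    refine (congrArg (fun U => Spec.map (CommRingCat.ofHom (chartEquiv k i).symm.toRingHom) ⁻¹ᵁ U)
      (Proj.awayι_preimage_basicOpen (𝒜 := CohB1.polyGrading 1 k) (X_mem_one (R := k) i) one_pos
        (X_mem_one (R := k) j) one_pos)).trans ?_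
    have helem : Away.isLocalizationElem (X_mem_one (R := k) i) (X_mem_one (R := k) j) =
        Charts.coord k i j := by
      apply HomogeneousLocalization.val_injective
      rw [val_coord]
      erw [Away.val_mk]
      simp
    rw [helem]
    refine (PrimeSpectrum.comap_basicOpen _ _).trans ?_
    congr 1
    exact (chartEquiv k i).symm_apply_eq.mpr (chartEquiv_X_eq k hij).symm
  have h2 : (CohB1.ProjSpace 1 k).basicOpen (coord k i) = chartι k i ''ᵁ
      PrimeSpectrum.basicOpen (MvPolynomial.X (0 : Fin 1) : MvPolynomial (Fin 1) k) := by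
    refine Eq.trans ?_ (congrArg (fun U => chartι k i ''ᵁ U) (basicOpen_eq_of_affine _))
    exact (Scheme.image_basicOpen _ _).symm
  rw [h2, ← h1, Scheme.Hom.image_preimage_eq_opensRange_inf, D, Scheme.Hom.image_top_eq_opensRange]

/-- On the overlap the two coordinates are inverse to each other. -/
lemma coord_mul_coord :
    ((CohB1.ProjSpace 1 k).presheaf.map (homOfLE (inf_le_left : D k 0 ⊓ D k 1 ≤ D k 0)).op).hom
        (coord k 0) *
      ((CohB1.ProjSpace 1 k).presheaf.map (homOfLE (inf_le_right : D k 0 ⊓ D k 1 ≤ D k 1)).op).hom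
        (coord k 1) = 1 := by
  set 𝒜 := CohB1.polyGrading 1 k
  set x := (MvPolynomial.X 0 : MvPolynomial (Fin 2) k) * MvPolynomial.X 1 with hx
  have hdeg : x ∈ 𝒜 (1 + 1) := SetLike.mul_mem_graded (X_mem_one (R := k) (0 : Fin 2))
    (X_mem_one (R := k) (1 : Fin 2))
  let χ : Spec (CommRingCat.of (HomogeneousLocalization.Away 𝒜 x)) ⟶ CohB1.ProjSpace 1 k :=
    Proj.awayι 𝒜 x hdeg (by norm_num)
  haveI : IsOpenImmersion χ :=
    inferInstanceAs (IsOpenImmersion (Proj.awayι 𝒜 x hdeg (by norm_num)))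
  have hrange : χ ''ᵁ ⊤ = D k 0 ⊓ D k 1 := by
    rw [Scheme.Hom.image_top_eq_opensRange, D_eq, D_eq]
    exact (Proj.opensRange_awayι _ _ _ _).trans (Proj.basicOpen_mul _ _ _)
  have hle : (⊤ : (Spec (CommRingCat.of (HomogeneousLocalization.Away 𝒜 x))).Opens) ≤
      χ ⁻¹ᵁ (D k 0 ⊓ D k 1) := hrange ▸ (Scheme.Hom.preimage_image_eq χ ⊤).ge
  set m : ∀ i : Fin 2, HomogeneousLocalization.Away 𝒜 (MvPolynomial.X i) →+*
      HomogeneousLocalization.Away 𝒜 x := fun i =>
    awayMap 𝒜 (X_mem_one (R := k) (1 - i)) (show x = MvPolynomial.X i * MvPolynomial.X (1 - i) by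
      fin_cases i
      · exact hx
      · exact hx.trans (mul_comm _ _))
  let f : ∀ i : Fin 2, CommRingCat.of (MvPolynomial (Fin 1) k) ⟶
      CommRingCat.of (HomogeneousLocalization.Away 𝒜 x) := fun i =>
    CommRingCat.ofHom ((m i).comp (chartEquiv k i).toRingHom)
  have hfac : ∀ i, Spec.map (f i) ≫ chartι k i = χ := by
    intro i
    simp only [f, chartι, CommRingCat.ofHom_comp, Spec.map_comp, Category.assoc]
    rw [← Spec.map_comp_assoc (CommRingCat.ofHom (chartEquiv k i).symm.toRingHom),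
      ← CommRingCat.ofHom_comp,
      show ((chartEquiv k i).toRingHom.comp (chartEquiv k i).symm.toRingHom) = RingHom.id _ from
        RingHom.ext fun z => (chartEquiv k i).apply_symm_apply z,
      CommRingCat.ofHom_id, Spec.map_id, Category.id_comp]
    exact Proj.SpecMap_awayMap_awayι 𝒜 _ one_pos _ _
  have hprod : (f 0).hom (MvPolynomial.X 0) * (f 1).hom (MvPolynomial.X 0) = 1 := by
    have c : ∀ i j : Fin 2, Charts.coord k i j = Away.mk 𝒜 (X_mem_one (R := k) i) 1
        (MvPolynomial.X j) (by rw [smul_eq_mul, one_mul]; exact X_mem_one (R := k) j) := fun i j =>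
      HomogeneousLocalization.val_injective _ (by
        rw [val_coord]
        erw [Away.val_mk]
        simp)
    show m 0 (chartEquiv k 0 (MvPolynomial.X 0)) * m 1 (chartEquiv k 1 (MvPolynomial.X 0)) = 1
    rw [chartEquiv_X_eq k (show (0 : Fin 2) ≠ 1 by decide),
      chartEquiv_X_eq k (show (1 : Fin 2) ≠ 0 by decide)]
    apply HomogeneousLocalization.val_injective
    simp only [m, c, awayMap_mk, HomogeneousLocalization.val_mul, HomogeneousLocalization.val_one,
      Away.val_mk, Localization.mk_mul]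
    rw [← Localization.mk_one, Localization.mk_eq_mk_iff, Localization.r_iff_exists]
    refine ⟨1, ?_⟩
    simp [hx]
    ring
  have key : ∀ i : Fin 2, ∀ h : D k 0 ⊓ D k 1 ≤ D k i,
      (χ.appLE (D k 0 ⊓ D k 1) ⊤ hle).hom
        (((CohB1.ProjSpace 1 k).presheaf.map (homOfLE h).op).hom (coord k i)) =
        (Scheme.ΓSpecIso _).inv.hom ((f i).hom (MvPolynomial.X 0)) := by
    intro i h
    rw [coord, ← CommRingCat.comp_apply, ← CommRingCat.comp_apply, ← CommRingCat.comp_apply]
    congr 2
    rw [hom, Scheme.Hom.map_appLE]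
    simp only [← hfac i]
    rw [← Scheme.Hom.appLE_comp_appLE _ _ _ ⊤ ⊤ (Scheme.Hom.preimage_image_eq _ _).ge le_top,
      Category.assoc, Scheme.Hom.appIso_inv_appLE_assoc]
    erw [Scheme.Hom.map_appLE]
    exact ((Scheme.ΓSpecIso_inv_naturality (f i)).trans
      (congrArg _ (Scheme.Hom.app_eq_appLE _))).symm
  have hbij : Function.Injective
      (χ.appLE (D k 0 ⊓ D k 1) ⊤ hle).hom := by
    have hiso : IsIso (χ.appLE (D k 0 ⊓ D k 1) ⊤ hle) := by
      have := Scheme.Hom.appIso_hom' χ ⊤
      have h : IsIso (χ.appLE (χ ''ᵁ ⊤) ⊤ (Scheme.Hom.preimage_image_eq χ ⊤).ge) :=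
        this ▸ (χ.appIso ⊤).isIso_hom
      revert hle
      rw [← hrange]
      intros
      exact h
    exact (ConcreteCategory.bijective_of_isIso _).1
  apply hbij
  rw [map_mul, map_one, key 0 inf_le_left, key 1 inf_le_right, ← map_mul, hprod, map_one]

end Groth.Agent.Lib.Curves.P1Charts
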