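import Groth.Agent.Lib.Curves.FiniteToP1
import Groth.Agent.Lib.Curves.LaurentFinite
import Groth.Agent.Lib.Curves.P1Charts
import Groth.Agent.Lib.Curves.MVModule
import Groth.Agent.Lib.Curves.Positivity
import Groth.Agent.Lib.CohBasics.Closure
import Groth.Agent.Lib.QCoh.Localizing
import Groth.Agent.Lib.ZarCoh.Affine
import Mathlib.Algebra.MvPolynomial.Equiv

/-!
# Finiteness of the cohomology of coherent modules on proper schemes of dimension `≤ 1`

`isGood_of_isCoh`: for `X` proper over a field `k` with `topologicalKrullDim X ≤ 1` and `F` coherent,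
`H⁰(X, F)` and `H¹(X, F)` are finite dimensional and `Hⁱ(X, F) = 0` for `i ≥ 2`.
-/

set_option autoImplicit false

universe u

open CategoryTheory CategoryTheory.Limits AlgebraicGeometry Opposite TopologicalSpace
open Groth.Agent.Lib.Curves.PolePoint Groth.Agent.Lib.Curves.MVModule

noncomputable section

namespace Groth.Agent.Lib.Curves.Finiteness

variable {k : Type u} [Field k]

/-- `k[T] ≃ k[T₀]`. -/
def polyEquiv (k : Type u) [Field k] : Polynomial k →+* MvPolynomial (Fin 1) k :=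
  Polynomial.eval₂RingHom MvPolynomial.C (MvPolynomial.X 0)

lemma polyEquiv_surjective : Function.Surjective (polyEquiv k) := by
  intro p
  induction p using MvPolynomial.induction_on with
  | C a => exact ⟨Polynomial.C a, by simp [polyEquiv]⟩
  | add p q hp hq =>
    obtain ⟨a, rfl⟩ := hp
    obtain ⟨b, rfl⟩ := hq
    exact ⟨a + b, map_add _ _ _⟩
  | mul_X p i hp =>
    obtain ⟨a, rfl⟩ := hp
    exact ⟨a * Polynomial.X, by simp [polyEquiv, Subsingleton.elim i 0]⟩

variable {X : Scheme.{u}} [X.Over (Spec (CommRingCat.of k))]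

variable (k) in
/-- The data of a chart: an affine open with a finite coordinate. -/
structure Chart (V : X.Opens) where
  affine : IsAffineOpen V
  φ : Polynomial k →+* Γ(X, V)
  finite : φ.Finite
  φC : φ.comp Polynomial.C = cst k V

variable {V : X.Opens} (c : Chart k V) (F : X.Modules)

/-- `Γ(F, V)` as a `k[T]`-module. -/
@[reducible] def Chart.polyModule : Module (Polynomial k) Γ(F, V) := Module.compHom _ c.φ

lemma Chart.isScalarTower :
    letI := secModuleOn k F V
    letI := c.polyModule F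
    IsScalarTower k (Polynomial k) Γ(F, V) := by
  letI := secModuleOn k F V
  letI := c.polyModule F
  refine ⟨fun a p m => ?_⟩
  show c.φ (a • p) • m = cst k V a • (c.φ p • m)
  rw [Polynomial.smul_eq_C_mul, map_mul, mul_smul, ← c.φC]
  rfl

lemma Chart.finite_sections (hF : Coh.IsCoh F) :
    letI := c.polyModule F
    Module.Finite (Polynomial k) Γ(F, V) := by
  letI := c.polyModule F
  letI := c.φ.toAlgebra
  haveI : Module.Finite (Polynomial k) Γ(X, V) := c.finite
  haveI : IsScalarTower (Polynomial k) Γ(X, V) Γ(F, V) := ⟨fun p a m => by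
    show (c.φ p * a) • m = c.φ p • (a • m)
    rw [mul_smul]⟩
  haveI := CohBasics.Closure.finite_sections hF c.affine
  exact Module.Finite.trans (Γ(X, V) : Type u) (Γ(F, V) : Type u)

/-- The coordinate of a chart. -/
def Chart.t : Γ(X, V) := c.φ Polynomial.X

omit c in
/-- Restriction of sections commutes with multiplication by functions. -/
lemma res_smul {W W' : X.Opens} (h : W' ≤ W) (a : Γ(X, W)) (m : Γ(F, W)) :
    QCoh.Localizing.res F h (a • m) = res h a • QCoh.Localizing.res F h m :=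
  QCoh.Localizing.res_smul h a m

/-- Multiplication by a function, `k`-linearly. -/
def mulₗ {W : X.Opens} (a : Γ(X, W)) :
    letI := secModuleOn k F W
    Module.End k Γ(F, W) :=
  letI := secModuleOn k F W
  { toFun := fun m => a • m
    map_add' := smul_add a
    map_smul' := fun r m => smul_comm a (cst k W r) m }

lemma mulₗ_mul {W : X.Opens} (a b : Γ(X, W)) (h : a * b = 1) :
    letI := secModuleOn k F W
    mulₗ (k := k) F a * mulₗ (k := k) F b = 1 := by
  letI := secModuleOn k F W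
  refine LinearMap.ext fun m => ?_
  show a • (b • m) = m
  rw [← mul_smul, h, one_smul]

lemma mulₗ_pow {W : X.Opens} (a : Γ(X, W)) (n : ℕ) (m : Γ(F, W)) :
    letI := secModuleOn k F W
    (mulₗ (k := k) F a ^ n) m = a ^ n • m := by
  letI := secModuleOn k F W
  induction n with
  | zero => simp
  | succ n ih => rw [pow_succ', Module.End.mul_apply, ih, pow_succ', mul_smul]; rfl

variable {V₀ V₁ : X.Opens} (c₀ : Chart k V₀) (c₁ : Chart k V₁)

variable (k) in
/-- Restriction to the overlap, on the left. -/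
abbrev resL :
    letI := secModuleOn k F V₀
    letI := secModuleOn k F (V₀ ⊓ V₁)
    Γ(F, V₀) →ₗ[k] Γ(F, V₀ ⊓ V₁) :=
  resₗ (k := k) F inf_le_left

variable (k) in
/-- Restriction to the overlap, on the right. -/
abbrev resR :
    letI := secModuleOn k F V₁
    letI := secModuleOn k F (V₀ ⊓ V₁)
    Γ(F, V₁) →ₗ[k] Γ(F, V₀ ⊓ V₁) :=
  resₗ (k := k) F inf_le_right

section TwoCharts

variable {F} (hF : Coh.IsCoh F)
  (h₀ : V₀ ⊓ V₁ = X.basicOpen c₀.t) (h₁ : V₀ ⊓ V₁ = X.basicOpen c₁.t)
  (h01 : res (inf_le_left : V₀ ⊓ V₁ ≤ V₀) c₀.t * res (inf_le_right : V₀ ⊓ V₁ ≤ V₁) c₁.t = 1)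

include hF in
lemma surj_of_basicOpen {W W' : X.Opens} (hW : IsAffineOpen W) (a : Γ(X, W))
    (h : W' = X.basicOpen a) (hle : W' ≤ W) (y : Γ(F, W')) :
    ∃ (n : ℕ) (m : Γ(F, W)), res hle a ^ n • y = QCoh.Localizing.res F hle m := by
  haveI := hF.1
  obtain ⟨n, m, hm⟩ :=
    (QCoh.Localizing.localizes_of_isAffineOpen F hW a).ext'.exists_of_eq h hle y
  exact ⟨n, m, hm.symm⟩

include hF in
lemma killed_of_res_eq_zero {W W' : X.Opens} (hW : IsAffineOpen W) (a : Γ(X, W))
    (h : W' = X.basicOpen a) (hle : W' ≤ W) (m : Γ(F, W))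
    (hm : QCoh.Localizing.res F hle m = 0) : ∃ n : ℕ, a ^ n • m = 0 := by
  haveI := hF.1
  exact (QCoh.Localizing.localizes_of_isAffineOpen F hW a).sep.exists_of_eq h hle m hm

variable (hcov : V₀ ⊔ V₁ = ⊤)

include c₀ c₁ hF h₀ h₁ h01 hcov in
theorem finite_H1 : FiniteDimensional k (Coh.HH X F 1) := by
  letI := secModuleOn k F V₀
  letI := secModuleOn k F V₁
  letI := secModuleOn k F (V₀ ⊓ V₁)
  letI := c₀.polyModule F
  letI := c₁.polyModule F
  haveI := c₀.isScalarTower F
  haveI := c₀.finite_sections F hF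
  set a := res (inf_le_left : V₀ ⊓ V₁ ≤ V₀) c₀.t
  set b := res (inf_le_right : V₀ ⊓ V₁ ≤ V₁) c₁.t
  haveI := hF.1
  have hfin := LaurentFinite.finite_coker (resL k F) (resR k F) (mulₗ (k := k) F a)
    (mulₗ (k := k) F b) (fun m => res_smul F inf_le_left c₀.t m)
    (fun m => res_smul F inf_le_right c₁.t m) (mulₗ_mul F a b h01)
    (mulₗ_mul F b a (by rw [mul_comm]; exact h01))
    (fun y => by
      obtain ⟨n, m, h⟩ := surj_of_basicOpen hF c₀.affine c₀.t h₀ inf_le_left y
      exact ⟨n, m, (mulₗ_pow F a n y).trans h⟩)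
    (fun y => by
      obtain ⟨n, m, h⟩ := surj_of_basicOpen hF c₁.affine c₁.t h₁ inf_le_right y
      exact ⟨n, m, (mulₗ_pow F b n y).trans h⟩)
  haveI := hfin
  have hle : LinearMap.range (resL (V₀ := V₀) (V₁ := V₁) k F) ⊔
      LinearMap.range (resR (V₀ := V₀) (V₁ := V₁) k F) ≤
      LinearMap.ker (connectingₗ (k := k) F hcov) :=
    sup_le (LinearMap.range_le_ker_iff.mpr (LinearMap.ext (connectingₗ_res_left F hcov)))
      (LinearMap.range_le_ker_iff.mpr (LinearMap.ext (connectingₗ_res_right F hcov)))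
  exact Module.Finite.of_surjective (Submodule.liftQ _ (connectingₗ (k := k) F hcov) hle)
    (fun z => by
      obtain ⟨y, rfl⟩ := MVConnecting.connecting_surjective (Coh.toAb F) hcov
        (ZarCoh.Affine.HU_subsingleton F c₀.affine 0) (ZarCoh.Affine.HU_subsingleton F c₁.affine 0) z
      exact ⟨Submodule.Quotient.mk y, rfl⟩)

include c₀ c₁ hF h₀ h₁ h01 hcov in
theorem finite_H0 : FiniteDimensional k (Coh.HH X F 0) := by
  letI := secModuleOn k F V₀
  letI := secModuleOn k F V₁
  letI := secModuleOn k F (V₀ ⊓ V₁)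
  letI := c₀.polyModule F
  letI := c₁.polyModule F
  haveI := c₀.isScalarTower F
  haveI := c₁.isScalarTower F
  haveI := c₀.finite_sections F hF
  haveI := c₁.finite_sections F hF
  set a := res (inf_le_left : V₀ ⊓ V₁ ≤ V₀) c₀.t
  set b := res (inf_le_right : V₀ ⊓ V₁ ≤ V₁) c₁.t
  have hfin := LaurentFinite.finite_glue (resL k F) (resR k F) (mulₗ (k := k) F a)
    (mulₗ (k := k) F b) (fun m => res_smul F inf_le_left c₀.t m)
    (fun m => res_smul F inf_le_right c₁.t m) (mulₗ_mul F a b h01)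
    (fun y => by
      obtain ⟨n, m, h⟩ := surj_of_basicOpen hF c₀.affine c₀.t h₀ inf_le_left y
      exact ⟨n, m, (mulₗ_pow F a n y).trans h⟩)
    (fun m hm => by
      obtain ⟨n, h⟩ := killed_of_res_eq_zero hF c₀.affine c₀.t h₀ inf_le_left m hm
      exact ⟨n, by show c₀.φ (Polynomial.X ^ n) • m = 0; rw [map_pow]; exact h⟩)
    (fun m hm => by
      obtain ⟨n, h⟩ := killed_of_res_eq_zero hF c₁.affine c₁.t h₁ inf_le_right m hm
      exact ⟨n, by show c₁.φ (Polynomial.X ^ n) • m = 0; rw [map_pow]; exact h⟩)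
  haveI := hfin
  letI := GlobalSections.secModule k F
  have hcst : ∀ r : k, cst k (⊤ : X.Opens) r =
      Coh.toGlobal (X ↘ Spec (CommRingCat.of k)) r := fun r => by
    rw [← resTop_toGlobal]
    show (X.presheaf.map (𝟙 (op (⊤ : X.Opens)))).hom _ = _
    rw [CategoryTheory.Functor.map_id]
    rfl
  let r₀ : (F.val.obj (op ⊤) : Type u) →ₗ[k] Γ(F, V₀) :=
    { toFun := resₗ (k := k) F (le_top : V₀ ≤ ⊤)
      map_add' := fun x y => map_add (F.presheaf.map (homOfLE (le_top : V₀ ≤ ⊤)).op).hom x y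
      map_smul' := fun r x => by
        refine Eq.trans ?_ (letI := secModuleOn k F ⊤
          (resₗ (k := k) F (le_top : V₀ ≤ ⊤)).map_smul r x)
        exact congrArg _ (congrArg (fun z => z • x) (hcst r).symm) }
  let r₁ : (F.val.obj (op ⊤) : Type u) →ₗ[k] Γ(F, V₁) :=
    { toFun := resₗ (k := k) F (le_top : V₁ ≤ ⊤)
      map_add' := fun x y => map_add (F.presheaf.map (homOfLE (le_top : V₁ ≤ ⊤)).op).hom x y
      map_smul' := fun r x => by
        refine Eq.trans ?_ (letI := secModuleOn k F ⊤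
          (resₗ (k := k) F (le_top : V₁ ≤ ⊤)).map_smul r x)
        exact congrArg _ (congrArg (fun z => z • x) (hcst r).symm) }
  let r := (r₀.prod r₁).codRestrict (LinearMap.ker
      ((resL (V₀ := V₀) (V₁ := V₁) k F).comp (LinearMap.fst k _ _) -
        (resR (V₀ := V₀) (V₁ := V₁) k F).comp (LinearMap.snd k _ _))) fun x => by
    refine sub_eq_zero.mpr ?_
    exact (QCoh.Localizing.res_res (M := F) le_top inf_le_left x).trans
      (QCoh.Localizing.res_res (M := F) le_top inf_le_right x).symm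
  haveI : Module.Finite k (F.val.obj (op ⊤) : Type u) :=
    Module.Finite.of_injective r ((injective_iff_map_eq_zero r).mpr fun x hx =>
      MVConnecting.eq_zero_of_res (Coh.toAb F) hcov x
        (congrArg (fun z => (Subtype.val z).1) hx) (congrArg (fun z => (Subtype.val z).2) hx))
  exact Module.Finite.equiv (GlobalSections.h0Linear k F).symm

end TwoCharts

section Main

open Groth.Agent.Lib.ProjSpace.Basic

variable (π : X ⟶ CohB1.ProjSpace 1 k) [IsFinite π]
  (hπ : π ≫ CohB1.ProjSpace.toSpec 1 k = X ↘ Spec (CommRingCat.of k))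

/-- The chart of `X` over a chart of `P¹`. -/
def chartOf (i : Fin 2) : Chart k (π ⁻¹ᵁ P1Charts.D k i) where
  affine := (P1Charts.isAffineOpen_D k i).preimage π
  φ := ((π.app (P1Charts.D k i)).hom.comp (P1Charts.hom k i).hom).comp (polyEquiv k)
  finite := RingHom.Finite.comp
    (RingHom.Finite.comp (IsFinite.finite_app (f := π) _ (P1Charts.isAffineOpen_D k i))
      (RingHom.Finite.of_surjective _ (P1Charts.hom_bijective k i).2))
    (RingHom.Finite.of_surjective _ polyEquiv_surjective)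
  φC := by
    have e : (polyEquiv k).comp Polynomial.C = MvPolynomial.C :=
      RingHom.ext fun a => by simp [polyEquiv]
    rw [RingHom.comp_assoc, e, RingHom.comp_assoc]
    have h := P1Charts.C_hom k i
    have h' : CommRingCat.ofHom MvPolynomial.C ≫ P1Charts.hom k i ≫ π.app (P1Charts.D k i) =
        (Scheme.ΓSpecIso (CommRingCat.of k)).inv ≫
          (X ↘ Spec (CommRingCat.of k)).appLE ⊤ (π ⁻¹ᵁ P1Charts.D k i) le_top := by
      rw [reassoc_of% h, Scheme.Hom.app_eq_appLE, Scheme.Hom.appLE_comp_appLE]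
      simp only [hπ]
    exact congrArg CommRingCat.Hom.hom h'

lemma chartOf_t (i : Fin 2) :
    (chartOf π hπ i).t = π.app (P1Charts.D k i) (P1Charts.coord k i) := by
  show π.app _ ((P1Charts.hom k i).hom (polyEquiv k Polynomial.X)) = _
  simp [polyEquiv, P1Charts.coord]

include hπ in
theorem finite_of_toP1 {F : X.Modules} (hF : Coh.IsCoh F) :
    FiniteDimensional k (Coh.HH X F 0) ∧ FiniteDimensional k (Coh.HH X F 1) := by
  have hb : ∀ i : Fin 2, π ⁻¹ᵁ (CohB1.ProjSpace 1 k).basicOpen (P1Charts.coord k i) =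
      X.basicOpen (chartOf π hπ i).t := fun i => by
    rw [chartOf_t]; exact Scheme.preimage_basicOpen π _
  have h₀ : π ⁻¹ᵁ P1Charts.D k 0 ⊓ π ⁻¹ᵁ P1Charts.D k 1 = X.basicOpen (chartOf π hπ 0).t := by
    rw [← hb, ← P1Charts.inf_D k (show (0 : Fin 2) ≠ 1 by decide)]; rfl
  have h₁ : π ⁻¹ᵁ P1Charts.D k 0 ⊓ π ⁻¹ᵁ P1Charts.D k 1 = X.basicOpen (chartOf π hπ 1).t := by
    rw [← hb, ← P1Charts.inf_D k (show (1 : Fin 2) ≠ 0 by decide), inf_comm]; rfl
  have h01 : res (inf_le_left : π ⁻¹ᵁ P1Charts.D k 0 ⊓ π ⁻¹ᵁ P1Charts.D k 1 ≤ _)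
        (chartOf π hπ 0).t *
      res (inf_le_right : π ⁻¹ᵁ P1Charts.D k 0 ⊓ π ⁻¹ᵁ P1Charts.D k 1 ≤ _) (chartOf π hπ 1).t = 1 := by
    have h := congrArg (π.app (P1Charts.D k 0 ⊓ P1Charts.D k 1)).hom (P1Charts.coord_mul_coord k)
    rw [map_mul, map_one, ← CommRingCat.comp_apply, ← CommRingCat.comp_apply, π.naturality, π.naturality,
      CommRingCat.comp_apply, CommRingCat.comp_apply] at h
    rw [chartOf_t, chartOf_t]
    exact h
  have hcov : π ⁻¹ᵁ P1Charts.D k 0 ⊔ π ⁻¹ᵁ P1Charts.D k 1 = ⊤ := by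
    rw [← Scheme.Hom.preimage_sup, P1Charts.sup_D]; rfl
  exact ⟨finite_H0 (chartOf π hπ 0) (chartOf π hπ 1) hF h₀ h₁ h01 hcov,
    finite_H1 (chartOf π hπ 0) (chartOf π hπ 1) hF h₀ h₁ h01 hcov⟩

/-- Coherent modules on proper schemes of dimension `≤ 1` over a field have finite cohomology. -/
theorem isGood_of_isCoh [IsProper (X ↘ Spec (CommRingCat.of k))]
    (hdim : topologicalKrullDim X ≤ 1) {F : X.Modules} (hF : Coh.IsCoh F) :
    Euler.IsGood k X F := by
  obtain ⟨π, hfin, hπ⟩ := FiniteToP1.exists_isFinite_toP1 (k := k) hdim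
  haveI := hfin
  obtain ⟨h0, h1⟩ := finite_of_toP1 π hπ hF
  haveI := GlobalSections.noetherianSpace_of_proper k X
  exact ⟨h0, h1, Positivity.subsingleton_HH_of_two_le hdim F⟩

end Main

end Groth.Agent.Lib.Curves.Finiteness
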