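import Groth.Agent.Lib.Curves.TraceDual
import Groth.Agent.Lib.Curves.Finiteness
import Groth.Agent.Lib.Curves.Degree
import Groth.Agent.Lib.CurveBundle.LocFree
import Mathlib.RingTheory.Trace.Basic
import Mathlib.RingTheory.Localization.NormTrace
import Mathlib.RingTheory.LocalProperties.Basic
import Groth.Agent.Lib.Unram.TraceEtale
import Mathlib.AlgebraicGeometry.Morphisms.Etale

/-!
# Euler characteristics of finite separable covers of curves
-/

set_option autoImplicit false
universe u

open CategoryTheory CategoryTheory.Limits AlgebraicGeometry TopologicalSpace Opposite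

noncomputable section

namespace Groth.Agent.Lib.Curves.TraceBound

open Groth.Agent.Lib Groth.Agent.Lib.CurveBundle Groth.Agent.H81.FinCovTrace
open scoped nonZeroDivisors

/-- The trace form of a finite free extension of domains with separable fraction field extension
is nondegenerate. -/
theorem traceForm_injective (A B K L : Type u) [CommRing A] [IsDomain A] [CommRing B] [IsDomain B]
    [Algebra A B] [Module.Finite A B] [Module.Free A B] [Field K] [Field L] [Algebra A K]
    [IsFractionRing A K] [Algebra B L] [IsFractionRing B L] [Algebra K L] [Algebra A L]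
    [IsScalarTower A K L] [IsScalarTower A B L] [Algebra.IsSeparable K L] :
    Function.Injective (Algebra.traceForm A B) := by
  have hinj : Function.Injective (algebraMap A B) := fun a b h => IsFractionRing.injective A K
    ((algebraMap K L).injective (by
      rw [← IsScalarTower.algebraMap_apply, ← IsScalarTower.algebraMap_apply,
        IsScalarTower.algebraMap_apply A B L a, IsScalarTower.algebraMap_apply A B L b, h]))
  haveI : Algebra.IsIntegral A B := Algebra.IsIntegral.of_finite A B
  have hloc : IsLocalization (Algebra.algebraMapSubmonoid B A⁰) L := by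
    rw [isLocalization_iff]
    refine ⟨fun ⟨y, a, ha, hy⟩ => isUnit_iff_ne_zero.mpr ?_, fun z => ?_, fun {x y} h => ⟨1, ?_⟩⟩
    · subst hy
      exact (map_ne_zero_iff _ (IsFractionRing.injective B L)).mpr
        ((map_ne_zero_iff _ hinj).mpr (nonZeroDivisors.ne_zero ha))
    · obtain ⟨b, c, hc, rfl⟩ := IsFractionRing.div_surjective B z
      have hc0 : c ≠ 0 := nonZeroDivisors.ne_zero hc
      have hI : (Ideal.span {c} : Ideal B).comap (algebraMap A B) ≠ ⊥ :=
        Ideal.comap_ne_bot_of_integral_mem hc0 (Ideal.mem_span_singleton_self c)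
          (Algebra.IsIntegral.isIntegral c)
      obtain ⟨a, ha, ha0⟩ := Submodule.exists_mem_ne_zero_of_ne_bot hI
      obtain ⟨d, hd⟩ := Ideal.mem_span_singleton'.mp (Ideal.mem_comap.mp ha)
      refine ⟨(b * d, ⟨_, a, mem_nonZeroDivisors_of_ne_zero ha0, rfl⟩), ?_⟩
      have hc' : algebraMap B L c ≠ 0 := (map_ne_zero_iff _ (IsFractionRing.injective B L)).mpr hc0
      simp only [← hd, map_mul]
      field_simp
    · rw [IsFractionRing.injective B L h]
  haveI := hloc
  haveI : FiniteDimensional K L := Module.Finite.of_isLocalization A B A⁰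
  refine (injective_iff_map_eq_zero _).mpr fun b hb => IsFractionRing.injective B L ?_
  rw [map_zero]
  have hn := traceForm_nondegenerate K L
  refine hn.1 _ fun y => ?_
  obtain ⟨⟨m, s, a, ha, hs⟩, hy⟩ := IsLocalization.surj (Algebra.algebraMapSubmonoid B A⁰) y
  have ha0 : algebraMap A K a ≠ 0 :=
    (map_ne_zero_iff _ (IsFractionRing.injective A K)).mpr (nonZeroDivisors.ne_zero ha)
  have h1 : algebraMap A K a • (algebraMap B L b * y) = algebraMap B L (b * m) := by
    rw [Algebra.smul_def, ← IsScalarTower.algebraMap_apply A K L, IsScalarTower.algebraMap_apply A B L,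
      hs, map_mul, ← hy]
    ring
  have h2 := congrArg (Algebra.trace K L) h1
  have h3 : Algebra.trace A B (b * m) = 0 := by
    rw [← Algebra.traceForm_apply, hb, LinearMap.zero_apply]
  rw [map_smul, Algebra.trace_localization A A⁰, h3, map_zero, smul_eq_mul] at h2
  exact (mul_eq_zero.mp h2).resolve_left ha0

variable {k : Type u} [Field k] {X Y : Scheme.{u}} [X.Over (Spec (CommRingCat.of k))]
  [Y.Over (Spec (CommRingCat.of k))] [IsProper (Y ↘ Spec (CommRingCat.of k))] [IsIntegral Y]

/-- The degree context of a proper curve with principal local rings. -/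
theorem curveCtx (hdY : topologicalKrullDim Y ≤ 1)
    (hP : ∀ y : Y, IsPrincipalIdealRing (Y.presheaf.stalk y)) : Degree.CurveCtx k Y where
  integral := inferInstance
  locNoeth := LocallyOfFiniteType.isLocallyNoetherian (Y ↘ Spec (CommRingCat.of k))
  noethSpace := GlobalSections.noetherianSpace_of_proper k Y
  dim_le := hdY
  pid := hP
  good := fun _ hF => Finiteness.isGood_of_isCoh hdY hF

variable [IsIntegral X] (f : X ⟶ Y) [IsFinite f]
  (hf : f ≫ (Y ↘ Spec (CommRingCat.of k)) = X ↘ Spec (CommRingCat.of k))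
  (hdom : f (genericPoint X) = genericPoint Y)

include hf hdom

/-- `χ(O_X) = n χ(O_Y) + d` where `f_* O_X` is locally free of rank `n` and degree `d`. -/
theorem euler_eq [hC : Degree.CurveCtx k Y] :
    Coh.IsCoh (TraceDual.alg f).toModule ∧ TorSh.IsTorsionFree (TraceDual.alg f).toModule ∧
      FlatMod.IsFinLocFree (TraceDual.alg f).toModule ∧ 0 < Degree.gr k (TraceDual.alg f).toModule ∧
      Curv2.euler k X (Coh.structureModule X) =
        (Degree.gr k (TraceDual.alg f).toModule : ℤ) * Curv2.euler k Y (Coh.structureModule Y) +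
          Degree.dg k (TraceDual.alg f).toModule := by
  haveI := hC.locNoeth
  have hc := TraceDual.isCoh f
  have ht := TraceDual.isTorsionFree f hdom
  refine ⟨hc, ht, TensorMod.LocFree.of_rank (Degree.rank_gr k hc ht), ?_, ?_⟩
  · by_contra h0
    have hz := Degree.isZero_of_gr k hc ht (by omega)
    haveI := Modules.Stalk.isZero_iff_stalk_subsingleton.mp hz (genericPoint Y)
    have h1 := @Subsingleton.elim _ this
      ((TraceDual.alg f).toModule.presheaf.germ ⊤ (genericPoint Y) trivial (1 : Γ(X, ⊤))) 0
    rw [← map_zero ((TraceDual.alg f).toModule.presheaf.germ ⊤ (genericPoint Y) trivial).hom] at h1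
    obtain ⟨W, hW, i, i', h'⟩ := TopCat.Presheaf.germ_eq (TraceDual.alg f).toModule.presheaf _ _ _ _ _ h1
    rw [map_zero] at h'
    haveI : Nonempty (f ⁻¹ᵁ W : X.Opens) := ⟨⟨genericPoint X, show f (genericPoint X) ∈ W from hdom ▸ hW⟩⟩
    haveI : Nontrivial Γ(X, f ⁻¹ᵁ W) := inferInstance
    exact (one_ne_zero (α := Γ(X, f ⁻¹ᵁ W))) ((map_one (X.presheaf.map (homOfLE ((Opens.map f.base).map i).le).op).hom).symm.trans h')
  · haveI := TensorMod.QCohInv.isQCoh_structureModule X
    rw [Degree.dg, ← SurfInt.Push.euler_push f hf (Coh.structureModule X),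
      ← Curves.Euler.euler_eq_of_iso (TraceDual.algPushIso f), Degree.gr]
    ring

/-- `χ(O_X) ≤ n χ(O_Y)` for separable covers. -/
theorem dg_nonpos [hC : Degree.CurveCtx k Y]
    (hsep : letI := ((Y.presheaf.stalkSpecializes (specializes_of_eq hdom) ≫
        f.stalkMap (genericPoint X)).hom).toAlgebra
      Algebra.IsSeparable Y.functionField X.functionField) :
    Degree.dg k (TraceDual.alg f).toModule ≤ 0 := by
  obtain ⟨hc, ht, hlf, -, -⟩ := euler_eq f hf hdom
  obtain ⟨τ, hτ, -⟩ := existsUnique_trace (TraceDual.alg f) hlf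
  haveI := TraceDual.mono_adj (TraceDual.alg f) τ hlf hτ fun V hV hs => by
    by_cases hne : Nonempty V
    · haveI := hne
      have hη : genericPoint Y ∈ V :=
        ((genericPoint_spec Y).mem_open_set_iff V.2).mpr ⟨_, Set.mem_univ _, (Classical.arbitrary V).2⟩
      have hη' : genericPoint X ∈ f ⁻¹ᵁ V := show f (genericPoint X) ∈ V from hdom ▸ hη
      haveI : Nonempty (f ⁻¹ᵁ V : X.Opens) := ⟨⟨_, hη'⟩⟩
      letI algKL : Algebra Y.functionField X.functionField :=
        ((Y.presheaf.stalkSpecializes (specializes_of_eq hdom) ≫ f.stalkMap (genericPoint X)).hom).toAlgebra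
      haveI : Algebra.IsSeparable Y.functionField X.functionField := hsep
      haveI := functionField_isFractionRing_of_isAffineOpen Y V hV
      haveI := functionField_isFractionRing_of_isAffineOpen X (f ⁻¹ᵁ V) (hV.preimage f)
      haveI : IsDomain (ASec (TraceDual.alg f) V) := inferInstanceAs (IsDomain Γ(X, f ⁻¹ᵁ V))
      letI : Algebra (ASec (TraceDual.alg f) V) X.functionField :=
        inferInstanceAs (Algebra Γ(X, f ⁻¹ᵁ V) X.functionField)
      haveI : IsFractionRing (ASec (TraceDual.alg f) V) X.functionField :=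
        inferInstanceAs (IsFractionRing Γ(X, f ⁻¹ᵁ V) X.functionField)
      letI algAL : Algebra Γ(Y, V) X.functionField :=
        ((algebraMap Y.functionField X.functionField).comp (algebraMap Γ(Y, V) Y.functionField)).toAlgebra
      haveI : IsScalarTower Γ(Y, V) Y.functionField X.functionField := .of_algebraMap_eq' rfl
      haveI : IsScalarTower Γ(Y, V) (ASec (TraceDual.alg f) V) X.functionField :=
        .of_algebraMap_eq fun a => by
          change f.stalkMap (genericPoint X) (Y.presheaf.stalkSpecializes (specializes_of_eq hdom)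
            (Y.presheaf.germ V (genericPoint Y) hη a)) = X.presheaf.germ (f ⁻¹ᵁ V) (genericPoint X) hη' (f.app V a)
          rw [TopCat.Presheaf.germ_stalkSpecializes_apply]
          exact Scheme.Hom.germ_stalkMap_apply f V (genericPoint X) hη' a
      obtain ⟨h1, h2⟩ := free_of_small (TraceDual.alg f) hs
      exact traceForm_injective Γ(Y, V) (ASec (TraceDual.alg f) V) Y.functionField X.functionField
    · haveI : Subsingleton (ASec (TraceDual.alg f) V) := by
        have : f ⁻¹ᵁ V = ⊥ := eq_bot_iff.mpr fun x hx => (hne ⟨⟨f x, hx⟩⟩).elim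
        change Subsingleton Γ(X, f ⁻¹ᵁ V)
        rw [this]; infer_instance
      exact Function.injective_of_subsingleton _
  exact (DualDeg.dg_nonpos (k := k) hc ht
    (TraceDual.adj (TraceDual.alg f) τ ≫ (RefHull.DualComp.dualIso _).inv)).1

/-- `χ(O_X) = n χ(O_Y)` for finite etale covers. -/
theorem dg_eq_zero [hC : Degree.CurveCtx k Y] [Etale f] :
    Degree.dg k (TraceDual.alg f).toModule = 0 := by
  obtain ⟨hc, ht, hlf, -, -⟩ := euler_eq f hf hdom
  obtain ⟨τ, hτ, -⟩ := existsUnique_trace (TraceDual.alg f) hlf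
  haveI := TraceDual.isIso_adj (TraceDual.alg f) τ hlf hτ fun V hV hs => by
    obtain ⟨h1, h2⟩ := free_of_small (TraceDual.alg f) hs
    refine (Unram.TraceEtale.etale_iff_bijective_traceForm Γ(Y, V) (ASec (TraceDual.alg f) V)).mp ?_
    have h := HasRingHomProperty.appLE @Etale f inferInstance ⟨V, hV⟩ ⟨f ⁻¹ᵁ V, hV.preimage f⟩ le_rfl
    rw [← f.app_eq_appLE] at h
    exact h.toAlgebra
  exact (DualDeg.dg_nonpos (k := k) hc ht
    (TraceDual.adj (TraceDual.alg f) τ ≫ (RefHull.DualComp.dualIso _).inv)).2 inferInstance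

omit hf in
/-- A finite cover of rank one is an isomorphism. -/
theorem isIso_of_gr_one [hC : Degree.CurveCtx k Y]
    (h : Degree.gr k (TraceDual.alg f).toModule = 1) : IsIso f := by
  haveI := hC.locNoeth
  have hr : FlatMod.IsFinLocFreeOfRank 1 (TraceDual.alg f).toModule := by
    rw [← h]; exact Degree.rank_gr k (TraceDual.isCoh f) (TraceDual.isTorsionFree f hdom)
  refine (IsZariskiLocalAtTarget.iff_of_iSup_eq_top (P := MorphismProperty.isomorphisms Scheme)
    (fun V : {V : Y.Opens // IsAffineOpen V ∧ ∃ (U : Y.Opens) (e : Fin 1 → Γ((TraceDual.alg f).toModule, U)),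
      V ≤ U ∧ TensorMod.Basis.IsBasis e} => V.1) (top_le_iff.mp fun y _ => ?_)).mpr
    fun ⟨V, hV, U, e, hVU, he⟩ => ?_
  · obtain ⟨U, hyU, ⟨i⟩⟩ := hr y
    obtain ⟨e, he⟩ := TensorMod.Basis.exists_basis_of_iso i
    obtain ⟨V, hV, hyV, hVU⟩ := exists_isAffineOpen_mem_and_subset hyU
    exact Opens.mem_iSup.mpr ⟨⟨V, hV, U, e, hVU, he⟩, hyV⟩
  · haveI : IsAffine (V : Scheme.{u}) := hV
    obtain ⟨b, -⟩ := H81.FinCovTrace.exists_basis (TraceDual.alg f) he hVU
    haveI : Module.Free Γ(Y, V) (ASec (TraceDual.alg f) V) := Module.Free.of_basis b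
    have hb : Function.Bijective (f.app V) := by
      by_cases hne : Nonempty V
      · haveI := hne
        exact Module.Free.bijective_algebraMap_of_finrank_eq_one
          ((Module.finrank_eq_card_basis b).trans (Fintype.card_fin 1))
      · obtain rfl : V = ⊥ := eq_bot_iff.mpr fun x hx => (hne ⟨⟨x, hx⟩⟩).elim
        haveI : Subsingleton Γ(X, f ⁻¹ᵁ (⊥ : Y.Opens)) := by
          rw [Scheme.Hom.preimage_bot]; infer_instance
        exact ⟨fun a b _ => Subsingleton.elim _ _, fun a => ⟨0, Subsingleton.elim _ _⟩⟩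
    refine (HasAffineProperty.iff_of_isAffine (P := MorphismProperty.isomorphisms Scheme)).mpr
      ⟨hV.preimage f, ?_⟩
    rw [morphismRestrict_appTop]
    haveI : IsIso (f.app (V.ι ''ᵁ ⊤)) := by
      rw [V.ι_image_top]
      exact (ConcreteCategory.isIso_iff_bijective _).mpr hb
    exact @IsIso.comp_isIso _ _ _ _ _ _ _ this
      (Functor.map_isIso X.presheaf (eqToHom (image_morphismRestrict_preimage f V ⊤)).op)

omit hf hdom in
/-- Etale finite maps of integral schemes are dominant. -/
theorem genericPoint_of_etale [Etale f] : f (genericPoint X) = genericPoint Y := by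
  have hopen : IsOpen (Set.range f.base) := f.isOpenMap.isOpen_range
  obtain ⟨x, hx⟩ := ((genericPoint_spec Y).mem_open_set_iff hopen).mpr
    ⟨f (genericPoint X), Set.mem_univ _, ⟨_, rfl⟩⟩
  have h1 : f (genericPoint X) ⤳ f x := ((genericPoint_spec X).specializes trivial).map f.continuous
  have h2 : f (genericPoint X) ⤳ genericPoint Y := hx ▸ h1
  exact (h2.antisymm ((genericPoint_spec Y).specializes trivial)).eq

omit hdom in
/-- A finite etale cover of a curve with `χ(O) = 1` by a curve with constants `k` is trivial. -/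
theorem isIso_of_etale [hC : Degree.CurveCtx k Y] [Etale f]
    [IsProper (X ↘ Spec (CommRingCat.of k))] (hdX : topologicalKrullDim X ≤ 1)
    (hY : Curv2.euler k Y (Coh.structureModule Y) = 1)
    (hX : Module.finrank k (Coh.HH X (Coh.structureModule X) 0) = 1) : IsIso f := by
  have hdom := genericPoint_of_etale f
  obtain ⟨-, -, -, hpos, he⟩ := euler_eq f hf hdom
  rw [dg_eq_zero f hf hdom, hY, add_zero, mul_one, Degree.euler_structureModule hdX hX] at he
  exact isIso_of_gr_one (k := k) f hdom (by omega)

end Groth.Agent.Lib.Curves.TraceBound
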