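import Groth.Agent.Lib.Curves.TraceDual
import Groth.Agent.Lib.CohDelta.FTLift

/-!
# Sections of the cokernel of the trace pairing on small affine opens
-/

set_option autoImplicit false
universe u

open CategoryTheory CategoryTheory.Limits AlgebraicGeometry TopologicalSpace Opposite

noncomputable section

namespace Groth.Agent.Lib.Curves.TraceCokernel

open Groth.Agent.Lib Groth.Agent.Lib.Modules Groth.Agent.Lib.TensorMod Groth.Agent.Lib.TensorMod.Dual
  Groth.Agent.H81.FinCovTrace

variable {Y : Scheme.{u}} (A : RelSpec.QCAlg Y)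

/-- A section of the dual as a linear form. -/
def evDual (V : Y.Opens) :
    Γ(TensorMod.Dual.dual A.toModule, V) →ₗ[Γ(Y, V)] (ASec A V →ₗ[Γ(Y, V)] Γ(Y, V)) where
  toFun φ :=
    { toFun := fun m => DualSec.app (show DualSec A.toModule V from φ) le_rfl (show Γ(A.toModule, V) from m)
      map_add' := fun a b => map_add (DualSec.app (show DualSec A.toModule V from φ) le_rfl) _ _
      map_smul' := fun r a => map_smul (DualSec.app (show DualSec A.toModule V from φ) le_rfl) r
        (show Γ(A.toModule, V) from a) }
  map_add' φ ψ := LinearMap.ext fun _ => rfl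
  map_smul' r φ := LinearMap.ext fun m => by
    change (r • (show DualSec A.toModule V from φ)).app le_rfl (show Γ(A.toModule, V) from m) = _
    rw [smul_app, rf_self]
    rfl

theorem bijective_evDual {V : Y.Opens} (hs : Small A V) : Function.Bijective (evDual A V) := by
  obtain ⟨T, n, e, hVT, he⟩ := hs
  refine ⟨fun φ ψ h => ?_, fun l => ?_⟩
  · refine DualSec.ext fun W hW m => ?_
    obtain ⟨a, ha⟩ := (he W (hW.trans hVT)).2 m
    rw [← ha]
    simp only [Basis.comb, map_sum, map_smul]
    refine Finset.sum_congr rfl fun i _ => congrArg _ ?_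
    have e1 := DualSec.compat (show DualSec A.toModule V from φ) le_rfl hW (rs A.toModule hVT (e i))
    have e2 := DualSec.compat (show DualSec A.toModule V from ψ) le_rfl hW (rs A.toModule hVT (e i))
    rw [rs_rs] at e1 e2
    exact e1.symm.trans ((congrArg (rf hW) (LinearMap.congr_fun h _)).trans e2)
  · let v : Fin n → Γ(Y, V) := fun i => l (show ASec A V from rs A.toModule hVT (e i))
    let c : ∀ (W : {W : Y.Opens // W ≤ V}), Γ(A.toModule, W.1) → (Fin n → Γ(Y, W.1)) :=
      fun W => (Equiv.ofBijective _ (he W.1 (W.2.trans hVT))).symm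
    have hc : ∀ W m, Basis.comb e (W.2.trans hVT) (c W m) = m :=
      fun W m => (Equiv.ofBijective _ (he W.1 (W.2.trans hVT))).apply_symm_apply m
    have hcu : ∀ W a, c W (Basis.comb e (W.2.trans hVT) a) = a :=
      fun W a => (Equiv.ofBijective _ (he W.1 (W.2.trans hVT))).symm_apply_apply a
    have cadd : ∀ W m m', c W (m + m') = c W m + c W m' := fun W m m' =>
      (he W.1 (W.2.trans hVT)).1 (by
        rw [hc]
        conv_lhs => rw [← hc W m, ← hc W m']
        simp only [Basis.comb, Pi.add_apply, add_smul, Finset.sum_add_distrib])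
    have csmul : ∀ W (r : Γ(Y, W.1)) m, c W (r • m) = r • c W m := fun W r m =>
      (he W.1 (W.2.trans hVT)).1 (by
        rw [hc]
        conv_lhs => rw [← hc W m]
        simp only [Basis.comb, Pi.smul_apply, smul_eq_mul, mul_smul, Finset.smul_sum])
    let φ : DualSec A.toModule V :=
      ⟨fun W =>
        { toFun := fun m => ∑ i, c W m i * rf W.2 (v i)
          map_add' := fun m m' => by simp only [cadd, Pi.add_apply, add_mul, Finset.sum_add_distrib]
          map_smul' := fun r m => by
            simp only [csmul, Pi.smul_apply, smul_eq_mul, RingHom.id_apply, Finset.mul_sum, mul_assoc] },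
       fun W W' h m => by
        change rf h (∑ i, c W m i * rf W.2 (v i)) = ∑ i, c W' (rs A.toModule h m) i * rf W'.2 (v i)
        have h1 : c W' (rs A.toModule h m) = fun i => rf h (c W m i) :=
          (he W'.1 (W'.2.trans hVT)).1 (by
            rw [hc]
            conv_lhs => rw [← hc W m, Basis.rs_comb])
        rw [h1]
        refine (map_sum (Y.presheaf.map (homOfLE h).op).hom _ _).trans (Finset.sum_congr rfl fun i _ => ?_)
        refine (map_mul (Y.presheaf.map (homOfLE h).op).hom _ _).trans ?_
        change rf h (c W m i) * rf h (rf W.2 (v i)) = rf h (c W m i) * rf W'.2 (v i)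
        rw [rf_rf]⟩
    refine ⟨(show Γ(TensorMod.Dual.dual A.toModule, V) from φ), LinearMap.ext fun m => ?_⟩
    change ∑ i, c ⟨V, le_rfl⟩ (show Γ(A.toModule, V) from m) i * rf le_rfl (v i) = l m
    conv_rhs => rw [show m = (show ASec A V from Basis.comb e hVT (c ⟨V, le_rfl⟩ (show Γ(A.toModule, V) from m)))
      from (hc ⟨V, le_rfl⟩ _).symm]
    simp only [rf_self]
    symm
    refine (map_sum l _ _).trans (Finset.sum_congr rfl fun i _ => ?_)
    refine (map_smul l (c ⟨V, le_rfl⟩ (show Γ(A.toModule, V) from m) i) (show ASec A V from rs A.toModule hVT (e i))).trans ?_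
    rfl

variable (τ : A.toModule ⟶ Coh.structureModule Y)

theorem evDual_adj (hτ : FinCov.IsTrace A τ) {V : Y.Opens} (hV : IsAffineOpen V) (hs : Small A V) (s : ASec A V) :
    evDual A V ((TraceDual.adj A τ).app V s) = Algebra.traceForm Γ(Y, V) (ASec A V) s := by
  refine LinearMap.ext fun m => ?_
  rw [Algebra.traceForm_apply]
  change (show Γ(Y, V) from τ.app V (resA A le_rfl s * m)) = _
  rw [resA_self]
  exact trace_eq_of_small A hτ hV hs _

/-- Sections of the cokernel of the adjoint on a small affine open. -/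
theorem coker_sections [Mono (TraceDual.adj A τ)] [A.toModule.IsQuasicoherent] (hτ : FinCov.IsTrace A τ)
    {V : Y.Opens} (hV : IsAffineOpen V) (hs : Small A V) :
    Nonempty (Γ(cokernel (TraceDual.adj A τ), V) ≃ₗ[Γ(Y, V)]
      (ASec A V →ₗ[Γ(Y, V)] Γ(Y, V)) ⧸ LinearMap.range (Algebra.traceForm Γ(Y, V) (ASec A V))) := by
  let a := TraceDual.adj A τ
  have hS : (ShortComplex.mk a (cokernel.π a) (cokernel.condition a)).ShortExact :=
    { exact := ShortComplex.exact_cokernel a }
  let π : Γ(TensorMod.Dual.dual A.toModule, V) →ₗ[Γ(Y, V)] Γ(cokernel a, V) :=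
    { toFun := fun x => (cokernel.π a).app V x
      map_add' := fun x y => map_add ((cokernel.π a).app V).hom x y
      map_smul' := fun r x => Scheme.Modules.Hom.app_smul (cokernel.π a) r x }
  have hπ : Function.Surjective π :=
    CohDelta.SerreRel.app_surjective_of_h1 hS V (ZarCoh.Affine.HU_subsingleton A.toModule hV 0)
  let e := LinearEquiv.ofBijective (evDual A V) (bijective_evDual A hs)
  refine ⟨(π.quotKerEquivOfSurjective hπ).symm.trans (Submodule.Quotient.equiv _ _ e ?_)⟩
  ext l
  constructor
  · rintro ⟨φ, hφ, rfl⟩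
    obtain ⟨t, rfl⟩ := CohDelta.FTLift.exists_app_eq hS V φ hφ
    exact ⟨(show ASec A V from t), (evDual_adj A τ hτ hV hs _).symm⟩
  · rintro ⟨t, rfl⟩
    refine ⟨a.app V (show Γ(A.toModule, V) from t), ?_, evDual_adj A τ hτ hV hs t⟩
    exact congr($(cokernel.condition a).app V (show Γ(A.toModule, V) from t))

end Groth.Agent.Lib.Curves.TraceCokernel
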