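import Groth.Agent.Lib.Curves.DifferentLength
import Groth.Agent.Lib.Curves.TraceCokernel
import Groth.Agent.Lib.Curves.TraceBound
import Groth.Agent.Lib.CurveFF.Hyp
import Groth.Agent.Lib.CurveFF.Dominant
import Groth.Agent.Lib.Normalization.DimOne
import Groth.Agent.Lib.Normalization.Eval
import Mathlib.RingTheory.Jacobson.Artinian
import Mathlib.AlgebraicGeometry.Morphisms.FiniteType

/-!
# Local ramification bound for the cokernel of the trace pairing of a cover of normal curves
-/

set_option autoImplicit false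
set_option linter.style.haveILetI false
universe u

open CategoryTheory CategoryTheory.Limits AlgebraicGeometry TopologicalSpace Opposite

noncomputable section

attribute [local instance] Curv2.resAlgebra FractionRing.liftAlgebra FractionRing.isScalarTower_liftAlgebra

namespace Groth.Agent.Lib.Curves.HurwitzLocal

open Groth.Agent.Lib Groth.Agent.H81.FinCovTrace Groth.Agent.Lib.Normalization.Eval
open scoped nonZeroDivisors

section Sections

variable {k : Type u} [Field k] {X : Scheme.{u}} [X.Over (Spec (CommRingCat.of k))]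

variable (k) in
/-- The constants in the sections over an open. -/
def kHom (U : X.Opens) : k →+* Γ(X, U) :=
  (X.presheaf.map (homOfLE (le_top : U ≤ ⊤)).op).hom.comp (Coh.toGlobal (X ↘ Spec (CommRingCat.of k)))

variable (k) in
/-- Sections over an open as a vector space. -/
@[reducible] def kModule (M : X.Modules) (U : X.Opens) : Module k Γ(M, U) :=
  Module.compHom _ (kHom k U)

variable (k) in
/-- The dimension of the sections over an open. -/
def secDim (M : X.Modules) (U : X.Opens) : ℕ :=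
  letI := kModule k M U
  Module.finrank k Γ(M, U)

theorem res_kHom {U V : X.Opens} (h : V ≤ U) (a : k) :
    X.presheaf.map (homOfLE h).op (kHom k U a) = kHom k V a := by
  change (X.presheaf.map (homOfLE (le_top : U ≤ ⊤)).op ≫ X.presheaf.map (homOfLE h).op) _ = _
  rw [← Functor.map_comp]
  rfl

theorem evaluation_kHom (U : X.Opens) {x : X} (hx : x ∈ U) (a : k) :
    X.evaluation U x hx (kHom k U a) = algebraMap k (X.residueField x) a :=
  congrArg (X.residue x) (TopCat.Presheaf.germ_res_apply X.presheaf (homOfLE (le_top : U ≤ ⊤)) x hx _)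

/-- Affine open sections of a normal curve form a Dedekind domain. -/
theorem isDedekindDomain_sections [IsIntegral X] [IsLocallyNoetherian X]
    (hdim : topologicalKrullDim X ≤ 1) (hn : Pi1.IsNormalScheme X)
    {U : X.Opens} (hU : IsAffineOpen U) [Nonempty U] : IsDedekindDomain Γ(X, U) := by
  have := IsLocallyNoetherian.component_noetherian (X := X) ⟨U, hU⟩
  have := Normalization.DimOne.krullDimLE_sections hdim hU
  have : Ring.DimensionLEOne Γ(X, U) :=
    ⟨fun hp h => Ring.krullDimLE_one_iff_of_noZeroDivisors.1 ‹_› _ hp h⟩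
  have : IsIntegrallyClosed Γ(X, U) := by
    refine IsIntegrallyClosed.of_localization_maximal fun p _ hp => ?_
    let y : X := hU.fromSpec ⟨p, hp.isPrime⟩
    have hy : y ∈ U := hU.range_fromSpec.le (Set.mem_range_self _)
    let := TopCat.Presheaf.algebra_section_stalk X.presheaf (⟨y, hy⟩ : U)
    have hloc : IsLocalization.AtPrime (X.presheaf.stalk y) p :=
      hU.isLocalization_stalk' ⟨p, hp.isPrime⟩ hy
    have := (hn y).2
    exact IsIntegrallyClosed.of_equiv
      (IsLocalization.algEquiv p.primeCompl (X.presheaf.stalk y) (Localization.AtPrime p)).toRingEquiv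
  exact { }

theorem finiteType_sections [LocallyOfFiniteType (X ↘ Spec (CommRingCat.of k))] {U : X.Opens}
    (hU : IsAffineOpen U) : (kHom k U).FiniteType := by
  have h := HasRingHomProperty.appLE @LocallyOfFiniteType (X ↘ Spec (CommRingCat.of k)) inferInstance
    ⟨⊤, isAffineOpen_top _⟩ ⟨U, hU⟩ (le_top : U ≤ ⊤)
  refine h.comp (RingHom.FiniteType.of_surjective _ ?_)
  exact (Scheme.ΓSpecIso (CommRingCat.of k)).commRingCatIsoToRingEquiv.symm.surjective

/-- The quotient of the sections by the ideal of a closed point is the residue field. -/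
def quotEquiv {U : X.Opens} (hU : IsAffineOpen U) {x : X} (hx : x ∈ U) (hc : IsClosed ({x} : Set X)) :
    (Γ(X, U) ⧸ (hU.primeIdealOf ⟨x, hx⟩).asIdeal) ≃+* X.residueField x :=
  (Ideal.quotEquivOfEq (ker_evaluation hU hx).symm).trans
    (RingHom.quotientKerEquivOfSurjective
      (evaluation_surjective_of_isMaximal hU hx (hU.primeIdealOf_isMaximal_of_isClosed ⟨x, hx⟩ hc)))

theorem quotEquiv_mk {U : X.Opens} (hU : IsAffineOpen U) {x : X} (hx : x ∈ U)
    (hc : IsClosed ({x} : Set X)) (b : Γ(X, U)) :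
    quotEquiv hU hx hc (Ideal.Quotient.mk _ b) = X.evaluation U x hx b := rfl

theorem finrank_quot {U : X.Opens} (hU : IsAffineOpen U) {x : X} (hx : x ∈ U)
    (hc : IsClosed ({x} : Set X)) :
    letI := (kHom k U).toAlgebra
    Module.finrank k (Γ(X, U) ⧸ (hU.primeIdealOf ⟨x, hx⟩).asIdeal) = Module.finrank k (X.residueField x) := by
  letI := (kHom k U).toAlgebra
  exact (AlgEquiv.ofRingEquiv (f := quotEquiv hU hx hc)
    (fun a => evaluation_kHom U hx a)).toLinearEquiv.finrank_eq

theorem finite_residueField [LocallyOfFiniteType (X ↘ Spec (CommRingCat.of k))] {U : X.Opens}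
    (hU : IsAffineOpen U) {x : X} (hx : x ∈ U) (hc : IsClosed ({x} : Set X)) :
    Module.Finite k (X.residueField x) := by
  letI := (kHom k U).toAlgebra
  haveI : Algebra.FiniteType k Γ(X, U) := finiteType_sections hU
  haveI := hU.primeIdealOf_isMaximal_of_isClosed ⟨x, hx⟩ hc
  letI := Ideal.Quotient.field (hU.primeIdealOf ⟨x, hx⟩).asIdeal
  haveI := finite_of_finite_type_of_isJacobsonRing k (Γ(X, U) ⧸ (hU.primeIdealOf ⟨x, hx⟩).asIdeal)
  exact Module.Finite.equiv (AlgEquiv.ofRingEquiv (f := quotEquiv hU hx hc)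
    (fun a => evaluation_kHom U hx a)).toLinearEquiv

theorem ne_bot_of_closed [IsIntegral X] (hdim : topologicalKrullDim X = 1) {U : X.Opens}
    (hU : IsAffineOpen U) {x : X} (hx : x ∈ U) (hc : IsClosed ({x} : Set X)) :
    (hU.primeIdealOf ⟨x, hx⟩).asIdeal ≠ ⊥ := by
  intro h
  have : Nonempty U := ⟨⟨x, hx⟩⟩
  have hη : genericPoint X ∈ U :=
    ((genericPoint_spec X).mem_open_set_iff U.2).mpr ⟨x, Set.mem_univ _, hx⟩
  have hsp : hU.primeIdealOf ⟨x, hx⟩ ⤳ hU.primeIdealOf ⟨genericPoint X, hη⟩ :=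
    (PrimeSpectrum.le_iff_specializes _ _).mp
      (show (hU.primeIdealOf ⟨x, hx⟩).asIdeal ≤ (hU.primeIdealOf ⟨genericPoint X, hη⟩).asIdeal from h ▸ bot_le)
  have h2 := hsp.map hU.fromSpec.continuous
  rw [hU.fromSpec_primeIdealOf, hU.fromSpec_primeIdealOf] at h2
  exact SmoothCurve.Stalk.ne_genericPoint_of_isClosed (by rw [hdim]; exact one_ne_zero) hc
    (h2.mem_closed hc rfl).symm

end Sections

variable {k : Type u} [Field k] {X Y : Scheme.{u}} [X.Over (Spec (CommRingCat.of k))]
  [Y.Over (Spec (CommRingCat.of k))] (f : X ⟶ Y)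

/-- Separability is invariant under isomorphisms. -/
theorem isSeparable_iff {A B A' B' : Type u} [CommRing A] [CommRing B] [Field A'] [Field B']
    [Algebra A B] [Algebra A' B'] (e₁ : A ≃+* A') (e₂ : B ≃+* B')
    (H : ∀ a, algebraMap A' B' (e₁ a) = e₂ (algebraMap A B a)) :
    Algebra.IsSeparable A B ↔ Algebra.IsSeparable A' B' := by
  letI : Field A := (e₁.toMulEquiv.isField (Field.toIsField A')).toField
  exact Algebra.IsSeparable.iff_of_equiv_equiv e₁ e₂ (RingHom.ext H)

/-- The ramification index at a point. -/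
def ram (x : X) : ℕ :=
  letI := (f.stalkMap x).hom.toAlgebra
  Ideal.ramificationIdx (IsLocalRing.maximalIdeal (X.presheaf.stalk x)) (Y.presheaf.stalk (f x))

/-- Tameness at a point. -/
def Tame (x : X) : Prop :=
  letI := (f.stalkMap x).hom.toAlgebra
  letI := (f.residueFieldMap x).hom.toAlgebra
  Algebra.IsSeparable (Y.residueField (f x)) (X.residueField x) ∧
    ((ram f x : ℕ) : Y.residueField (f x)) ≠ 0

variable (k) in
/-- The weighted ramification at a point. -/
def wt (x : X) : ℕ := (ram f x - 1) * Module.finrank k (X.residueField x)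

variable [IsFinite f] (hf : f ≫ (Y ↘ Spec (CommRingCat.of k)) = X ↘ Spec (CommRingCat.of k))

include hf in
theorem app_kHom (V : Y.Opens) (a : k) : f.app V (kHom k V a) = kHom k (f ⁻¹ᵁ V) a := by
  change (Y.presheaf.map (homOfLE (le_top : V ≤ ⊤)).op ≫ f.app V) _ = _
  rw [f.naturality]
  have h : f.appTop (Coh.toGlobal (Y ↘ Spec (CommRingCat.of k)) a) =
      Coh.toGlobal (X ↘ Spec (CommRingCat.of k)) a := by
    rw [← hf]; rfl
  exact congrArg (X.presheaf.map (homOfLE (le_top : f ⁻¹ᵁ V ≤ ⊤)).op) h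

variable [IsIntegral X] [IsIntegral Y] (hdom : f (genericPoint X) = genericPoint Y)
  (hdX : topologicalKrullDim X = 1) (hdY : topologicalKrullDim Y = 1)
  (hnX : Pi1.IsNormalScheme X) (hnY : Pi1.IsNormalScheme Y)

include k hdom hdX hdY hnX hnY in
/-- The ramification index of the stalk map, on affine charts. -/
theorem ram_eq [IsLocallyNoetherian X] [IsLocallyNoetherian Y]
    [LocallyOfFiniteType (X ↘ Spec (CommRingCat.of k))] {V : Y.Opens} (hV : IsAffineOpen V)
    {x : X} (hxU : f x ∈ V) (hcx : IsClosed ({x} : Set X)) (hcy : IsClosed ({f x} : Set Y)) :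
    letI := (f.app V).hom.toAlgebra
    ((hV.preimage f).primeIdealOf ⟨x, hxU⟩).asIdeal.LiesOver (hV.primeIdealOf ⟨f x, hxU⟩).asIdeal ∧
      ram f x = ((hV.preimage f).primeIdealOf ⟨x, hxU⟩).asIdeal.ramificationIdx Γ(Y, V) := by
  letI algAB := (f.app V).hom.toAlgebra
  have hU : IsAffineOpen (f ⁻¹ᵁ V) := hV.preimage f
  haveI : Nonempty V := ⟨⟨f x, hxU⟩⟩
  haveI : Nonempty (f ⁻¹ᵁ V : X.Opens) := ⟨⟨x, hxU⟩⟩
  haveI := isDedekindDomain_sections hdX.le hnX hU
  set P := (hU.primeIdealOf ⟨x, hxU⟩).asIdeal with hPdef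
  set p := (hV.primeIdealOf ⟨f x, hxU⟩).asIdeal with hpdef
  have hover : P.LiesOver p := by
    have h1 := hV.comap_primeIdealOf_appLE (f := f) V (f ⁻¹ᵁ V) hU le_rfl hxU
    rw [← Scheme.Hom.app_eq_appLE] at h1
    exact ⟨(congrArg PrimeSpectrum.asIdeal h1).symm⟩
  refine ⟨hover, ?_⟩
  haveI : Module.IsTorsionFree Γ(Y, V) Γ(X, f ⁻¹ᵁ V) := by
    haveI : FaithfulSMul Γ(Y, V) Γ(X, f ⁻¹ᵁ V) :=
      (faithfulSMul_iff_algebraMap_injective _ _).mpr (CurveFF.Dominant.app_injective hdom V)
    exact Module.isTorsionFree_iff_smul_eq_zero.mpr fun r m h => by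
      rw [Algebra.smul_def, mul_eq_zero, map_eq_zero_iff _ (FaithfulSMul.algebraMap_injective _ _)] at h
      exact h
  have hpB : p.map (algebraMap Γ(Y, V) Γ(X, f ⁻¹ᵁ V)) ≠ ⊥ :=
    Ideal.map_ne_bot_of_ne_bot (ne_bot_of_closed hdY hV hxU hcy)
  haveI : P.IsMaximal := hU.primeIdealOf_isMaximal_of_isClosed ⟨x, hxU⟩ hcx
  obtain ⟨Q, hPQ, hfac⟩ := Ideal.eq_prime_pow_mul_coprime hpB P
  rw [← Ideal.IsDedekindDomain.ramificationIdx_eq_normalizedFactors_count p P hpB] at hfac
  set e := P.ramificationIdx Γ(Y, V)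
  -- the local rings
  letI algYst := TopCat.Presheaf.algebra_section_stalk Y.presheaf (⟨f x, hxU⟩ : V)
  letI algXst := TopCat.Presheaf.algebra_section_stalk X.presheaf (⟨x, hxU⟩ : (f ⁻¹ᵁ V : X.Opens))
  haveI hlY : IsLocalization.AtPrime (Y.presheaf.stalk (f x)) p := hV.isLocalization_stalk ⟨f x, hxU⟩
  haveI hlX : IsLocalization.AtPrime (X.presheaf.stalk x) P := hU.isLocalization_stalk ⟨x, hxU⟩
  haveI : IsDiscreteValuationRing (X.presheaf.stalk x) :=
    (CurveFF.curveHyp_of_isNormalScheme k hdX hnX).dvr x hcx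
  letI algst := (f.stalkMap x).hom.toAlgebra
  set m := IsLocalRing.maximalIdeal (X.presheaf.stalk x) with hmdef
  have hmap : (IsLocalRing.maximalIdeal (Y.presheaf.stalk (f x))).map
      (algebraMap (Y.presheaf.stalk (f x)) (X.presheaf.stalk x)) = m ^ e := by
    rw [← IsLocalization.AtPrime.map_eq_maximalIdeal p (Y.presheaf.stalk (f x)), Ideal.map_map,
      show (algebraMap (Y.presheaf.stalk (f x)) (X.presheaf.stalk x)).comp
          (algebraMap Γ(Y, V) (Y.presheaf.stalk (f x))) =
        (algebraMap Γ(X, f ⁻¹ᵁ V) (X.presheaf.stalk x)).comp (algebraMap Γ(Y, V) Γ(X, f ⁻¹ᵁ V)) from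
        RingHom.ext fun a => Scheme.Hom.germ_stalkMap_apply f V x hxU a,
      ← Ideal.map_map, hfac, Ideal.map_mul, Ideal.map_pow,
      IsLocalization.AtPrime.map_eq_maximalIdeal P (X.presheaf.stalk x)]
    have hQ : Ideal.map (algebraMap Γ(X, f ⁻¹ᵁ V) (X.presheaf.stalk x)) Q = ⊤ := by
      have hnle : ¬ Q ≤ P := fun h => (inferInstance : P.IsPrime).ne_top (by rwa [sup_eq_left.mpr h] at hPQ)
      obtain ⟨q, hq, hqP⟩ := Set.not_subset.mp hnle
      exact Ideal.eq_top_of_isUnit_mem _ (Ideal.mem_map_of_mem _ hq)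
        (IsLocalization.map_units (M := P.primeCompl) (X.presheaf.stalk x) ⟨q, hqP⟩)
    rw [hQ, Ideal.mul_top]
  haveI : IsLocalHom (algebraMap (Y.presheaf.stalk (f x)) (X.presheaf.stalk x)) :=
    inferInstanceAs (IsLocalHom (f.stalkMap x).hom)
  haveI : m.LiesOver (IsLocalRing.maximalIdeal (Y.presheaf.stalk (f x))) :=
    ⟨(((IsLocalRing.local_hom_TFAE (algebraMap (Y.presheaf.stalk (f x)) (X.presheaf.stalk x))).out 0 4 rfl
      rfl).mp inferInstance).symm⟩
  have hm0 : m ≠ ⊥ := IsDiscreteValuationRing.not_a_field _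
  change Ideal.ramificationIdx m (Y.presheaf.stalk (f x)) = e
  rw [Ideal.IsDedekindDomain.ramificationIdx_eq_normalizedFactors_count
      (IsLocalRing.maximalIdeal (Y.presheaf.stalk (f x))) m (by rw [hmap]; exact pow_ne_zero e hm0),
    hmap, UniqueFactorizationMonoid.normalizedFactors_pow, Multiset.count_nsmul,
    UniqueFactorizationMonoid.normalizedFactors_irreducible
      ((Ideal.prime_iff_isPrime hm0).mpr inferInstance).irreducible,
    normalize_eq, Multiset.count_singleton_self, mul_one]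

include hdom hdX hdY hnX hnY in
/-- The exponent of the different at a closed point. -/
theorem local_count [IsProper (X ↘ Spec (CommRingCat.of k))] [IsProper (Y ↘ Spec (CommRingCat.of k))]
    {V : Y.Opens} (hV : IsAffineOpen V) [IsDomain (ASec (TraceDual.alg f) V)]
    [IsDedekindDomain Γ(Y, V)] [IsDedekindDomain (ASec (TraceDual.alg f) V)]
    [Module.IsTorsionFree Γ(Y, V) (ASec (TraceDual.alg f) V)] [Module.Finite Γ(Y, V) (ASec (TraceDual.alg f) V)]
    [Nonempty V] [Algebra.IsSeparable (FractionRing Γ(Y, V)) (FractionRing (ASec (TraceDual.alg f) V))]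
    {x : X} (hxU : f x ∈ V) (hcx : IsClosed ({x} : Set X)) (hcy : IsClosed ({f x} : Set Y)) :
    let P : Ideal (ASec (TraceDual.alg f) V) := ((hV.preimage f).primeIdealOf ⟨x, hxU⟩).asIdeal
    ram f x - 1 ≤ (UniqueFactorizationMonoid.normalizedFactors
        (differentIdeal Γ(Y, V) (ASec (TraceDual.alg f) V))).count P ∧
      ((UniqueFactorizationMonoid.normalizedFactors
        (differentIdeal Γ(Y, V) (ASec (TraceDual.alg f) V))).count P = ram f x - 1 ↔ Tame f x) := by
  intro P
  haveI := LocallyOfFiniteType.isLocallyNoetherian (X ↘ Spec (CommRingCat.of k))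
  haveI := LocallyOfFiniteType.isLocallyNoetherian (Y ↘ Spec (CommRingCat.of k))
  have hU : IsAffineOpen (f ⁻¹ᵁ V) := hV.preimage f
  let p : Ideal Γ(Y, V) := (hV.primeIdealOf ⟨f x, hxU⟩).asIdeal
  obtain ⟨hover, hram⟩ := ram_eq (k := k) f hdom hdX hdY hnX hnY hV hxU hcx hcy
  haveI : P.LiesOver p := hover
  haveI : P.IsMaximal := hU.primeIdealOf_isMaximal_of_isClosed ⟨x, hxU⟩ hcx
  haveI : p.IsMaximal := hV.primeIdealOf_isMaximal_of_isClosed ⟨f x, hxU⟩ hcy
  obtain ⟨h1, h2⟩ := DifferentLength.count_differentIdeal (A := Γ(Y, V)) (B := ASec (TraceDual.alg f) V)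
    (p := p) P (ne_bot_of_closed hdY hV hxU hcy)
  have hram' : ram f x = P.ramificationIdx Γ(Y, V) := hram
  rw [← hram'] at h1 h2
  refine ⟨h1, h2.trans ?_⟩
  letI := (f.residueFieldMap x).hom.toAlgebra
  let e₁ : (Γ(Y, V) ⧸ p) ≃+* Y.residueField (f x) := quotEquiv hV hxU hcy
  let e₂ : (ASec (TraceDual.alg f) V ⧸ P) ≃+* X.residueField x := quotEquiv hU hxU hcx
  have H : ∀ a, algebraMap (Y.residueField (f x)) (X.residueField x) (e₁ a) =
      e₂ (algebraMap (Γ(Y, V) ⧸ p) (ASec (TraceDual.alg f) V ⧸ P) a) := fun a => by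
    obtain ⟨a, rfl⟩ := Ideal.Quotient.mk_surjective a
    exact Scheme.evaluation_naturality_apply f x hxU a
  refine and_congr (isSeparable_iff e₁ e₂ H) (not_congr ?_)
  rw [← map_natCast e₁, map_eq_zero_iff _ e₁.injective]

variable (hsep : letI := ((Y.presheaf.stalkSpecializes (specializes_of_eq hdom) ≫
      f.stalkMap (genericPoint X)).hom).toAlgebra
    Algebra.IsSeparable Y.functionField X.functionField)

omit [IsFinite f] in
include hsep in
theorem isSeparable_fractionRing [IsFinite f] {V : Y.Opens} (hV : IsAffineOpen V) [Nonempty V]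
    [IsDomain (ASec (TraceDual.alg f) V)] [Module.IsTorsionFree Γ(Y, V) (ASec (TraceDual.alg f) V)] :
    Algebra.IsSeparable (FractionRing Γ(Y, V)) (FractionRing (ASec (TraceDual.alg f) V)) := by
  have hη : genericPoint Y ∈ V :=
    ((genericPoint_spec Y).mem_open_set_iff V.2).mpr ⟨_, Set.mem_univ _, (Classical.arbitrary V).2⟩
  have hη' : genericPoint X ∈ f ⁻¹ᵁ V := show f (genericPoint X) ∈ V from hdom ▸ hη
  haveI : Nonempty (f ⁻¹ᵁ V : X.Opens) := ⟨⟨_, hη'⟩⟩
  letI algKL : Algebra Y.functionField X.functionField :=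
    ((Y.presheaf.stalkSpecializes (specializes_of_eq hdom) ≫ f.stalkMap (genericPoint X)).hom).toAlgebra
  haveI : Algebra.IsSeparable Y.functionField X.functionField := hsep
  haveI := functionField_isFractionRing_of_isAffineOpen Y V hV
  letI : Algebra (ASec (TraceDual.alg f) V) X.functionField :=
    inferInstanceAs (Algebra Γ(X, f ⁻¹ᵁ V) X.functionField)
  haveI : IsFractionRing (ASec (TraceDual.alg f) V) X.functionField :=
    functionField_isFractionRing_of_isAffineOpen X (f ⁻¹ᵁ V) (hV.preimage f)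
  refine Algebra.IsSeparable.of_equiv_equiv (FractionRing.algEquiv Γ(Y, V) Y.functionField).symm.toRingEquiv
    (FractionRing.algEquiv (ASec (TraceDual.alg f) V) X.functionField).symm.toRingEquiv ?_
  apply IsLocalization.ringHom_ext Γ(Y, V)⁰
  ext a
  simp only [RingHom.coe_comp, RingHom.coe_coe, AlgEquiv.coe_ringEquiv, Function.comp_apply, AlgEquiv.commutes,
    ← IsScalarTower.algebraMap_apply]
  have : algebraMap Y.functionField X.functionField (algebraMap Γ(Y, V) Y.functionField a) =
      algebraMap (ASec (TraceDual.alg f) V) X.functionField (algebraMap Γ(Y, V) (ASec (TraceDual.alg f) V) a) := by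
    change f.stalkMap (genericPoint X) (Y.presheaf.stalkSpecializes (specializes_of_eq hdom)
      (Y.presheaf.germ V (genericPoint Y) hη a)) = X.presheaf.germ (f ⁻¹ᵁ V) (genericPoint X) hη' (f.app V a)
    rw [TopCat.Presheaf.germ_stalkSpecializes_apply]
    exact Scheme.Hom.germ_stalkMap_apply f V (genericPoint X) hη' a
  rw [this, AlgEquiv.commutes, ← IsScalarTower.algebraMap_apply]

include hf hdom hdX hdY hnX hnY hsep in
/-- Around a closed point: the sections of the cokernel dominate the ramification above it, with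
equality exactly in the tame case. -/
theorem local_bound [IsProper (X ↘ Spec (CommRingCat.of k))] [IsProper (Y ↘ Spec (CommRingCat.of k))]
    {τ : (TraceDual.alg f).toModule ⟶ Coh.structureModule Y}
    (hτ : FinCov.IsTrace (TraceDual.alg f) τ) [Mono (TraceDual.adj (TraceDual.alg f) τ)]
    {V : Y.Opens} (hV : IsAffineOpen V) (hs : Small (TraceDual.alg f) V) {y : Y} (hy : y ∈ V)
    (hcy : IsClosed ({y} : Set Y))
    (hsupp : ∀ z ∈ V, z ∈ CohB1.support (cokernel (TraceDual.adj (TraceDual.alg f) τ)) → z = y)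
    (s : Finset X) (hfib : ∀ x, x ∈ s ↔ f x = y) :
    (∑ x ∈ s, wt k f x) ≤ secDim k (cokernel (TraceDual.adj (TraceDual.alg f) τ)) V ∧
      ((∑ x ∈ s, wt k f x) = secDim k (cokernel (TraceDual.adj (TraceDual.alg f) τ)) V ↔ ∀ x ∈ s, Tame f x) ∧
      (letI := kModule k (cokernel (TraceDual.adj (TraceDual.alg f) τ)) V
      Module.Finite k Γ(cokernel (TraceDual.adj (TraceDual.alg f) τ), V)) := by
  classical
  haveI := LocallyOfFiniteType.isLocallyNoetherian (X ↘ Spec (CommRingCat.of k))
  haveI := LocallyOfFiniteType.isLocallyNoetherian (Y ↘ Spec (CommRingCat.of k))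
  haveI : Nonempty V := ⟨⟨y, hy⟩⟩
  have hU : IsAffineOpen (f ⁻¹ᵁ V) := hV.preimage f
  have hη : genericPoint Y ∈ V :=
    ((genericPoint_spec Y).mem_open_set_iff V.2).mpr ⟨y, Set.mem_univ _, hy⟩
  have hη' : genericPoint X ∈ f ⁻¹ᵁ V := show f (genericPoint X) ∈ V from hdom ▸ hη
  haveI : Nonempty (f ⁻¹ᵁ V : X.Opens) := ⟨⟨_, hη'⟩⟩
  haveI : IsDomain (ASec (TraceDual.alg f) V) := inferInstanceAs (IsDomain Γ(X, f ⁻¹ᵁ V))
  haveI := isDedekindDomain_sections hdY.le hnY hV
  haveI : IsDedekindDomain (ASec (TraceDual.alg f) V) := isDedekindDomain_sections hdX.le hnX hU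
  obtain ⟨hfree, hfinB⟩ := free_of_small (TraceDual.alg f) hs
  haveI : Module.IsTorsionFree Γ(Y, V) (ASec (TraceDual.alg f) V) :=
    Module.isTorsionFree_iff_smul_eq_zero.mpr fun r m h => by
      rw [Algebra.smul_def, mul_eq_zero] at h
      exact h.imp_left fun h => CurveFF.Dominant.app_injective hdom V (h.trans (map_zero _).symm)
  haveI := isSeparable_fractionRing f hdom hsep hV
  haveI : (TraceDual.alg f).toModule.IsQuasicoherent := (TraceDual.isCoh f).1
  let A := Γ(Y, V)
  let B := ASec (TraceDual.alg f) V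
  let N := cokernel (TraceDual.adj (TraceDual.alg f) τ)
  haveI : N.IsQuasicoherent :=
    (CohBasics.Closure.isCoh_cokernel _ (TraceDual.isCoh f).1
      (CohBasics.Closure.isCoh_of_iso (RefHull.DualComp.dualIso _)
        (RefHull.Reflexive.isCoh_dual (TraceDual.isCoh f)))).1
  obtain ⟨E₁⟩ := TraceCokernel.coker_sections (TraceDual.alg f) τ hτ hV hs
  obtain ⟨E₂⟩ := DifferentLength.coker_equiv A B
  let E : Γ(N, V) ≃ₗ[A] B ⧸ differentIdeal A B := E₁.trans E₂.symm
  letI algA : Algebra k A := (kHom k V).toAlgebra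
  letI algB : Algebra k B := (kHom k (f ⁻¹ᵁ V)).toAlgebra
  haveI : IsScalarTower k A B := .of_algebraMap_eq fun a => (app_kHom f hf V a).symm
  letI := kModule k N V
  haveI : IsScalarTower k A Γ(N, V) :=
    ⟨fun c a m => (congrArg (· • m) (Algebra.smul_def c a)).trans (mul_smul _ _ _)⟩
  have hres : ∀ P : Ideal B, P.IsMaximal → Module.Finite k (B ⧸ P) := fun P hP => by
    haveI : Algebra.FiniteType k B := finiteType_sections hU
    haveI := hP
    letI := Ideal.Quotient.field P
    exact finite_of_finite_type_of_isJacobsonRing k (B ⧸ P)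
  have hD : differentIdeal A B ≠ ⊥ := differentIdeal_ne_bot
  obtain ⟨hDfin, hDdim⟩ := DifferentLength.quot_finrank B k hres (differentIdeal A B) hD
  haveI := hDfin
  let Ek : Γ(N, V) ≃ₗ[k] B ⧸ differentIdeal A B := E.restrictScalars k
  let P : X → Ideal B := fun x => if h : f x ∈ V then (hU.primeIdealOf ⟨x, h⟩).asIdeal else ⊤
  have hmem : ∀ x ∈ s, f x ∈ V := fun x hx => ((hfib x).mp hx) ▸ hy
  have hcl : ∀ x ∈ s, IsClosed ({x} : Set X) := fun x hx => by
    have hpre : IsClosed (f ⁻¹' {y}) := hcy.preimage f.continuous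
    haveI : DiscreteTopology ↥(f ⁻¹' {y}) :=
      isDiscrete_iff_discreteTopology.mp (f.isDiscrete_preimage_singleton y)
    have h1 := hpre.isClosedEmbedding_subtypeVal.isClosedMap {⟨x, (hfib x).mp hx⟩} (isClosed_discrete _)
    rwa [Set.image_singleton] at h1
  have hP : ∀ x (h : f x ∈ V), P x = (hU.primeIdealOf ⟨x, h⟩).asIdeal := fun x h => dif_pos h
  have hinj : Set.InjOn P s := fun a ha b hb h => by
    rw [hP a (hmem a ha), hP b (hmem b hb)] at h
    have := congrArg hU.fromSpec (PrimeSpectrum.ext h)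
    rwa [hU.fromSpec_primeIdealOf, hU.fromSpec_primeIdealOf] at this
  have hsub : (UniqueFactorizationMonoid.normalizedFactors (differentIdeal A B)).toFinset ⊆ s.image P := by
    intro Q hQ
    rw [Multiset.mem_toFinset] at hQ
    have hQp : Q.IsPrime := Ideal.isPrime_of_prime (UniqueFactorizationMonoid.prime_of_normalized_factor Q hQ)
    have hDQ : differentIdeal A B ≤ Q :=
      Ideal.dvd_iff_le.mp (UniqueFactorizationMonoid.dvd_of_mem_normalizedFactors hQ)
    let x : X := hU.fromSpec ⟨Q, hQp⟩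
    have hxU : x ∈ f ⁻¹ᵁ V := hU.range_fromSpec.le (Set.mem_range_self _)
    have hPx : hU.primeIdealOf ⟨x, hxU⟩ = ⟨Q, hQp⟩ :=
      hU.fromSpec.isOpenEmbedding.injective (hU.fromSpec_primeIdealOf ⟨x, hxU⟩)
    have hfx : f x = y := by
      by_contra hne
      have hns : f x ∉ CohB1.support N := fun h => hne (hsupp _ hxU h)
      haveI := Modules.Support.not_mem_support_iff.mp hns
      let q : Γ(N, V) := E.symm (Ideal.Quotient.mk _ 1)
      obtain ⟨h, hzh, hhq⟩ := (StalkLoc.Basic.germ_eq_zero_iff hV hxU q).mp (Subsingleton.elim _ _)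
      have h1 : Ideal.Quotient.mk (differentIdeal A B) (algebraMap A B h) = 0 := by
        have h2 := congrArg E hhq
        rw [map_smul, map_zero, E.apply_symm_apply] at h2
        rw [← h2, Algebra.smul_def, map_one, mul_one]
        rfl
      have h3 : algebraMap A B h ∈ (hU.primeIdealOf ⟨x, hxU⟩).asIdeal := by
        rw [hPx]
        exact hDQ (Ideal.Quotient.eq_zero_iff_mem.mp h1)
      have h4 : x ∈ X.basicOpen (f.app V h) := by
        rw [← Scheme.preimage_basicOpen]
        exact hzh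
      exact (Scheme.evaluation_ne_zero_iff_mem_basicOpen X x hxU (f.app V h)).mpr h4
        ((mem_primeIdealOf_iff hU hxU _).mp h3)
    refine Finset.mem_image.mpr ⟨x, (hfib x).mpr hfx, ?_⟩
    rw [hP x hxU, hPx]
  have hdim : secDim k N V = ∑ x ∈ s,
      (UniqueFactorizationMonoid.normalizedFactors (differentIdeal A B)).count (P x) *
        Module.finrank k (X.residueField x) := by
    refine (Ek.finrank_eq.trans hDdim).trans ?_
    rw [Finset.sum_multiset_map_count]
    refine (Finset.sum_subset hsub fun Q _ hQ => ?_).trans ?_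
    · rw [Multiset.count_eq_zero.mpr (fun h => hQ (Multiset.mem_toFinset.mpr h)), zero_smul]
    · rw [Finset.sum_image hinj]
      refine Finset.sum_congr rfl fun x hx => ?_
      rw [smul_eq_mul]
      congr 1
      rw [hP x (hmem x hx)]
      exact finrank_quot hU (hmem x hx) (hcl x hx)
  have hloc : ∀ x ∈ s, ram f x - 1 ≤ (UniqueFactorizationMonoid.normalizedFactors (differentIdeal A B)).count (P x) ∧
      ((UniqueFactorizationMonoid.normalizedFactors (differentIdeal A B)).count (P x) = ram f x - 1 ↔ Tame f x) := by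
    intro x hx
    rw [hP x (hmem x hx)]
    exact local_count (k := k) f hdom hdX hdY hnX hnY hV (hmem x hx) (hcl x hx) ((hfib x).mp hx ▸ hcy)
  rw [hdim]
  refine ⟨?_, ?_, Module.Finite.equiv Ek.symm⟩
  · exact Finset.sum_le_sum fun x hx => Nat.mul_le_mul_right _ (hloc x hx).1
  · simp only [wt]
    rw [Finset.sum_eq_sum_iff_of_le fun x hx => Nat.mul_le_mul_right _ (hloc x hx).1]
    refine forall₂_congr fun x hx => ?_
    rw [← (hloc x hx).2]
    haveI : Module.Finite k (X.residueField x) := finite_residueField hU (hmem x hx) (hcl x hx)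
    rw [mul_left_inj' Module.finrank_pos.ne', eq_comm]

end Groth.Agent.Lib.Curves.HurwitzLocal
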