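import Groth.Agent.Lib.Curves.Finiteness
import Groth.Agent.Lib.Curves.Degree
import Groth.Agent.Lib.Curves.GlobalSections

/-!
# Global functions of a reduced proper scheme over an algebraically closed field
-/

set_option autoImplicit false
set_option linter.style.haveILetI false

universe u

open CategoryTheory CategoryTheory.Limits AlgebraicGeometry TopologicalSpace Opposite

noncomputable section

namespace Groth.Agent.Lib.Curves.H0Components

open Groth.Agent.Lib

/-- Connected components of a Noetherian space are open. -/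
theorem isOpen_connectedComponent {α : Type u} [TopologicalSpace α] [NoetherianSpace α] (x : α) :
    IsOpen (connectedComponent x) := by
  classical
  let S : Set (Set α) := {Z ∈ irreducibleComponents α | ¬ Z ⊆ connectedComponent x}
  have hS : S.Finite := NoetherianSpace.finite_irreducibleComponents.subset fun Z hZ => hZ.1
  have hc : (connectedComponent x)ᶜ = ⋃ Z ∈ S, Z := by
    ext y
    simp only [Set.mem_compl_iff, Set.mem_iUnion, exists_prop]
    constructor
    · intro hy
      exact ⟨irreducibleComponent y, ⟨irreducibleComponent_mem_irreducibleComponents y,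
        fun h => hy (h mem_irreducibleComponent)⟩, mem_irreducibleComponent⟩
    · rintro ⟨Z, ⟨hZ, hne⟩, hyZ⟩ hy
      apply hne
      rw [connectedComponent_eq hy]
      exact hZ.1.isConnected.isPreconnected.subset_connectedComponent hyZ
  rw [← isClosed_compl_iff, hc]
  exact hS.isClosed_biUnion fun Z hZ => isClosed_of_mem_irreducibleComponents Z hZ.1

variable {X : Scheme.{u}}

/-- The indicator function of a clopen set. -/
theorem exists_indicator (C : Set X) (ho : IsOpen C) (hc : IsClosed C) :
    ∃ e : Γ(X, ⊤), (X.basicOpen e : Set X) = C := by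
  let U₁ : X.Opens := ⟨C, ho⟩
  let U₂ : X.Opens := ⟨Cᶜ, hc.isOpen_compl⟩
  let U : Bool → X.Opens := fun b => if b then U₁ else U₂
  let g : ∀ b, Γ(X, U b) := fun b => if b then 1 else 0
  obtain ⟨e, he, -⟩ := X.sheaf.existsUnique_gluing' U ⊤ (fun b => homOfLE le_top) (fun z _ => by
      by_cases hz : z ∈ C
      · exact Opens.mem_iSup.mpr ⟨true, hz⟩
      · exact Opens.mem_iSup.mpr ⟨false, hz⟩) g (fun a b => by
      by_cases hab : a = b
      · subst hab; rfl
      · haveI : Subsingleton ↥(X.sheaf.obj.obj (op (U a ⊓ U b))) := by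
          have h : U a ⊓ U b = ⊥ := by
            rcases a with _ | _ <;> rcases b with _ | _
            · exact absurd rfl hab
            · exact Opens.ext (Set.compl_inter_self C)
            · exact Opens.ext (Set.inter_compl_self C)
            · exact absurd rfl hab
          rw [h]
          exact inferInstanceAs (Subsingleton Γ(X, ⊥))
        exact Subsingleton.elim _ _)
  have h1 := X.basicOpen_res e (homOfLE (le_top : U true ≤ ⊤)).op
  have h2 := X.basicOpen_res e (homOfLE (le_top : U false ≤ ⊤)).op
  rw [show X.presheaf.map (homOfLE (le_top : U true ≤ ⊤)).op e = 1 from he true,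
    X.basicOpen_of_isUnit isUnit_one] at h1
  rw [show X.presheaf.map (homOfLE (le_top : U false ≤ ⊤)).op e = 0 from he false,
    X.basicOpen_zero] at h2
  refine ⟨e, Set.ext fun z => ⟨fun hz => ?_, fun hz => ?_⟩⟩
  · by_contra hzC
    exact h2.ge ⟨hzC, hz⟩
  · exact (h1.le hz).2

variable (k : Type u) [Field k] [IsAlgClosed k] [X.Over (Spec (CommRingCat.of k))]

/-- For a reduced scheme with finite-dimensional functions they count the connected components. -/
theorem finrank_h0_eq_card [IsReduced X] [NoetherianSpace X]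
    [FiniteDimensional k (Coh.HH X (Coh.structureModule X) 0)] :
    Module.finrank k (Coh.HH X (Coh.structureModule X) 0) = Nat.card (_root_.ConnectedComponents X) := by
  classical
  letI := GlobalSections.secModule k (Coh.structureModule X)
  rw [(GlobalSections.h0Linear k (Coh.structureModule X)).finrank_eq]
  letI : Algebra k Γ(X, ⊤) := RingHom.toAlgebra (S := Γ(X, ⊤)) (Coh.toGlobal (X ↘ Spec (CommRingCat.of k)))
  let l : ((Coh.structureModule X).val.obj (op ⊤) : Type u) ≃ₗ[k] Γ(X, ⊤) :=
    { toFun := fun m => m
      invFun := fun m => m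
      left_inv := fun _ => rfl
      right_inv := fun _ => rfl
      map_add' := fun _ _ => rfl
      map_smul' := fun _ _ => rfl }
  haveI : Module.Finite k Γ(X, ⊤) :=
    Module.Finite.equiv ((GlobalSections.h0Linear k (Coh.structureModule X)).trans l)
  haveI : IsArtinianRing Γ(X, ⊤) := IsArtinianRing.of_finite k _
  rw [l.finrank_eq]
  -- the fibres of `X → Spec Γ` are the connected components
  let f : X → PrimeSpectrum Γ(X, ⊤) := fun x => X.toSpecΓ x
  have hmem : ∀ (x : X) (s : Γ(X, ⊤)), s ∉ (f x).asIdeal ↔ x ∈ X.basicOpen s := fun x s => by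
    rw [← X.toSpecΓ_preimage_basicOpen s]
    rfl
  have hf : Continuous f := X.toSpecΓ.continuous
  have hconst : ∀ x y : X, connectedComponent x = connectedComponent y → f x = f y := fun x y h =>
    Subsingleton.elim (α := ↥(f '' connectedComponent x)) (h := by
      exact Set.subsingleton_coe _ |>.mpr
        ((isPreconnected_connectedComponent.image f hf.continuousOn).subsingleton))
      ⟨f x, x, mem_connectedComponent, rfl⟩ ⟨f y, y, h ▸ mem_connectedComponent, rfl⟩ |> congrArg Subtype.val
  let F : _root_.ConnectedComponents X → PrimeSpectrum Γ(X, ⊤) :=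
    Quotient.lift f hconst
  have hFb : Function.Bijective F := by
    refine ⟨fun a b hab => ?_, fun p => ?_⟩
    · obtain ⟨x, rfl⟩ := ConnectedComponents.surjective_coe a
      obtain ⟨y, rfl⟩ := ConnectedComponents.surjective_coe b
      replace hab : f x = f y := hab
      obtain ⟨e, he⟩ := exists_indicator (connectedComponent x) (isOpen_connectedComponent x)
        isClosed_connectedComponent
      have hx : x ∈ X.basicOpen e := he.ge mem_connectedComponent
      have hy : y ∈ X.basicOpen e := (hmem y e).1 (hab ▸ (hmem x e).2 hx)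
      exact (ConnectedComponents.coe_eq_coe.mpr (connectedComponent_eq (he.le hy)))
    · haveI : DiscreteTopology (PrimeSpectrum Γ(X, ⊤)) := inferInstance
      obtain ⟨s, hs⟩ : ∃ s : Γ(X, ⊤), (PrimeSpectrum.basicOpen s : Set _) = {p} :=
        (PrimeSpectrum.isTopologicalBasis_basic_opens.exists_subset_of_mem_open (Set.mem_singleton p)
          (isOpen_discrete _)).elim fun v ⟨⟨s, hs⟩, hpv, hv⟩ =>
          ⟨s, hs.trans (Set.Subset.antisymm hv (Set.singleton_subset_iff.mpr hpv))⟩
      have hne : s ≠ 0 := fun h0 => by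
        have := hs.ge rfl
        rw [h0] at this
        exact this p.asIdeal.zero_mem
      obtain ⟨x, hx⟩ : (X.basicOpen s : Set X).Nonempty :=
        Set.nonempty_iff_ne_empty.mpr fun h => hne ((basicOpen_eq_bot_iff s).mp (Opens.ext h))
      exact ⟨ConnectedComponents.mk x, hs.le ((hmem x s).2 hx)⟩
  rw [Nat.card_eq_of_bijective F hFb]
  let e := IsArtinianRing.equivPi Γ(X, ⊤)
  haveI : ∀ m : MaximalSpectrum Γ(X, ⊤), Module.Finite k (Γ(X, ⊤) ⧸ m.asIdeal) := fun m =>
    inferInstance
  have hq : ∀ m : MaximalSpectrum Γ(X, ⊤), Module.finrank k (Γ(X, ⊤) ⧸ m.asIdeal) = 1 := fun m =>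
    (AlgEquiv.ofBijective (Algebra.ofId k (Γ(X, ⊤) ⧸ m.asIdeal))
      IsAlgClosed.algebraMap_bijective_of_isIntegral).toLinearEquiv.finrank_eq.symm.trans
        (Module.finrank_self k)
  haveI : Fintype (MaximalSpectrum Γ(X, ⊤)) := Fintype.ofFinite _
  haveI : ∀ m : MaximalSpectrum Γ(X, ⊤), IsDomain (Γ(X, ⊤) ⧸ m.asIdeal) := fun m => inferInstance
  rw [(AlgEquiv.ofRingEquiv (f := e.toRingEquiv) (fun c => rfl) :
      Γ(X, ⊤) ≃ₐ[k] ∀ m : MaximalSpectrum Γ(X, ⊤), Γ(X, ⊤) ⧸ m.asIdeal).toLinearEquiv.finrank_eq,
    Module.finrank_pi_fintype, Finset.sum_congr rfl (fun m _ => hq m), Finset.sum_const,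
    Finset.card_univ, smul_eq_mul, mul_one, ← Nat.card_eq_fintype_card]
  exact Nat.card_congr IsArtinianRing.primeSpectrumEquivMaximalSpectrum.symm

end Groth.Agent.Lib.Curves.H0Components
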