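import Groth.Agent.Lib.Curves.NormEuler
import Groth.Agent.Lib.Curves.H0Components
import Groth.Agent.Lib.TFOne.Euler
import Groth.Agent.Lib.Regular.UFD
import Groth.Agent.H25.Node.AtWorst
import Groth.Agent.H25.Node.Properties
import Groth.Agent.H25.NagataStalk

/-!
# Genera and normalizations of curves over algebraically closed fields
-/

set_option autoImplicit false
set_option linter.style.haveILetI false

universe u

open CategoryTheory CategoryTheory.Limits AlgebraicGeometry TopologicalSpace Opposite

noncomputable section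

attribute [local instance] Curv2.stalkAlgebra Curv2.resAlgebra

namespace Groth.Agent.Lib.Curves.NormGenus

open Groth.Agent.Lib
open Groth.Agent.H25

/-- The δ-invariant of an integrally closed domain vanishes. -/
theorem deltaInv_eq_zero (A : Type u) [CommRing A] [IsDomain A] [IsIntegrallyClosed A] :
    Curv2.deltaInv A = 0 := by
  rw [Curv2.deltaInv, Module.length_eq_zero_iff, Submodule.Quotient.subsingleton_iff, eq_top_iff]
  intro z _
  obtain ⟨a, ha⟩ := IsIntegrallyClosed.isIntegral_iff.mp z.2
  exact ⟨a, Subtype.ext ha⟩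

variable (k : Type u) [Field k] (C : Scheme.{u}) [C.Over (Spec (CommRingCat.of k))]
  [LocallyOfFiniteType (C ↘ Spec (CommRingCat.of k))]

/-- The δ-invariant at a smooth point is `0`. -/
theorem deltaInv_smooth {x : C} (hx : x ∈ (C ↘ Spec (CommRingCat.of k)).smoothLocus) :
    Curv2.deltaInv (C.presheaf.stalk x) = 0 := by
  haveI := Node.AtWorst.regular_of_smooth k C hx
  haveI := Regular.Quotient.isDomain (C.presheaf.stalk x)
  haveI := Regular.UFD.isIntegrallyClosed (C.presheaf.stalk x)
  exact deltaInv_eq_zero _

/-- The δ-invariant at a node is `1`. -/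
theorem deltaInv_node {x : C} (hx : Curv2.IsNode k C x) :
    Curv2.deltaInv (C.presheaf.stalk x) = 1 := by
  haveI : IsLocallyNoetherian C :=
    LocallyOfFiniteType.isLocallyNoetherian (C ↘ Spec (CommRingCat.of k))
  obtain ⟨-, hsep, hn⟩ := (Node.Sch.isNode_iff k C x).1 hx
  haveI := hsep
  haveI : Algebra.FormallyEtale k (IsLocalRing.ResidueField (C.presheaf.stalk x)) :=
    Algebra.FormallyEtale.of_isSeparable k _
  exact (Node.Properties.properties k (C.presheaf.stalk x)
    (NagataStalk.isNagata_stalk (C ↘ Spec (CommRingCat.of k)) x) hn).2.2.1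

/-- Residue fields of closed points over an algebraically closed field. -/
theorem finrank_residueField [IsAlgClosed k] {x : C} (hx : IsClosed ({x} : Set C)) :
    Module.finrank k (C.residueField x) = 1 := by
  haveI : Module.Finite k (C.residueField x) :=
    RingHom.finite_algebraMap.1 ((Node.Sch.isClosed_iff k C x).1 hx)
  exact (AlgEquiv.ofBijective (Algebra.ofId k (C.residueField x))
    IsAlgClosed.algebraMap_bijective_of_isIntegral).toLinearEquiv.finrank_eq.symm.trans
      (Module.finrank_self k)

/-- The total δ-invariant of an at worst nodal curve is the number of nodes. -/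
theorem finsum_delta [IsAlgClosed k] [NoetherianSpace C] (hdim : topologicalKrullDim C ≤ 1)
    (hC : Curv2.AtWorstNodal k C) :
    (∑ᶠ x : C, (open Classical in if IsClosed ({x} : Set C) then
      ((Module.finrank k (C.residueField x) : ℤ) *
        ((Curv2.deltaInv (C.presheaf.stalk x)).toNat : ℤ)) else 0)) =
      Nat.card {x : C // Curv2.IsNode k C x} := by
  classical
  have h : ∀ x : C, (if IsClosed ({x} : Set C) then
      ((Module.finrank k (C.residueField x) : ℤ) *
        ((Curv2.deltaInv (C.presheaf.stalk x)).toNat : ℤ)) else 0) =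
      if Curv2.IsNode k C x then 1 else 0 := by
    intro x
    by_cases hn : Curv2.IsNode k C x
    · rw [if_pos hn.1, if_pos hn, finrank_residueField k C hn.1, deltaInv_node k C hn]
      rfl
    · rw [if_neg hn]
      split_ifs with hx
      · obtain h | h := hC x hx
        · rw [deltaInv_smooth k C ((Node.AtWorst.exists_smooth_iff k C x).1 h)]
          simp
        · exact absurd h hn
      · rfl
  rw [finsum_congr h]
  have hfin : {x : C | Curv2.IsNode k C x}.Finite := by
    let W := (C ↘ Spec (CommRingCat.of k)).smoothLocus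
    haveI := Node.AtWorst.isReduced k C hC
    obtain ⟨V, hd, hV⟩ := (S1549.result k C).1 (Node.AtWorst.geometricallyReduced k C hC)
    refine (Birational.finite_compl (C ↘ Spec (CommRingCat.of k)) hdim V.2 hd).subset
      fun x hx hxV => ?_
    have h0 := deltaInv_smooth k C ((Node.AtWorst.exists_smooth_iff k C x).1 ⟨V, hxV, hV⟩)
    rw [deltaInv_node k C hx] at h0
    exact one_ne_zero h0
  rw [finsum_eq_sum_of_support_subset _ (s := hfin.toFinset) (fun x hx => by
    rw [Finset.mem_coe, Set.Finite.mem_toFinset]
    by_contra hn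
    exact hx (if_neg hn)),
    Finset.sum_congr rfl (fun x hx => if_pos (show Curv2.IsNode k C x from (Set.Finite.mem_toFinset hfin).1 hx)),
    Finset.sum_const, nsmul_one, ← Nat.card_eq_card_finite_toFinset]
  rfl

end Groth.Agent.Lib.Curves.NormGenus

namespace Groth.Agent.Lib.Curves.NormGenus

variable {k : Type u} [Field k] [IsAlgClosed k] {X : Scheme.{u}} [X.Over (Spec (CommRingCat.of k))]
  [IsProper (X ↘ Spec (CommRingCat.of k))] [IsReduced X]
  {X' : Scheme.{u}} (π : X' ⟶ X) [IsFinite π] (hX' : Pi1.IsNormalScheme X')
  (U : X.Opens) (hU : Dense (U : Set X)) (hU' : Dense ((π ⁻¹ᵁ U : X'.Opens) : Set X'))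
  (hπU : IsIso (π ∣_ U))

include hX' hU hU' hπU in
/-- `g(X) + #π₀(X') = g(X') + Σ δ_x + #π₀(X)`. -/
theorem genus_eq (hdim : topologicalKrullDim X ≤ 1) [X'.Over (Spec (CommRingCat.of k))]
    (hπ : π ≫ (X ↘ Spec (CommRingCat.of k)) = X' ↘ Spec (CommRingCat.of k)) :
    (Curv2.genus k X : ℤ) + Nat.card (_root_.ConnectedComponents X') =
      (Curv2.genus k X' : ℤ) + (∑ᶠ x : X, (open Classical in if IsClosed ({x} : Set X) then
        ((Module.finrank k (X.residueField x) : ℤ) *
          ((Curv2.deltaInv (X.presheaf.stalk x)).toNat : ℤ)) else 0)) +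
        Nat.card (_root_.ConnectedComponents X) := by
  classical
  haveI : IsProper (X' ↘ Spec (CommRingCat.of k)) := hπ ▸ inferInstance
  haveI := GlobalSections.noetherianSpace_of_proper k X
  haveI := GlobalSections.noetherianSpace_of_proper k X'
  haveI := NormStalk.isReduced_of_normal hX'
  haveI := TensorMod.QCohInv.isQCoh_structureModule X'
  obtain ⟨hg, he⟩ := NormEuler.euler_push_eq (k := k) π hX' U hU hU' hπU hdim
  have hgX : Euler.IsGood k X (Coh.structureModule X) :=
    Finiteness.isGood_of_isCoh hdim Degree.isCoh_structureModule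
  haveI := hgX.fin₀
  haveI := hg.fin₀
  haveI : FiniteDimensional k (Coh.HH X' (Coh.structureModule X') 0) :=
    Module.Finite.equiv (ZarCoh.Linear.affineLinearEquiv π hπ (Coh.structureModule X') 0)
  have h0 : Euler.hdim k X ((Coh.push π).obj (Coh.structureModule X')) 0 =
      Nat.card (_root_.ConnectedComponents X') :=
    (SurfInt.Push.finrank_push π hπ (Coh.structureModule X') 0).trans
      (H0Components.finrank_h0_eq_card k)
  have h1 : Euler.hdim k X ((Coh.push π).obj (Coh.structureModule X')) 1 = Curv2.genus k X' :=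
    SurfInt.Push.finrank_push π hπ (Coh.structureModule X') 1
  have h2 : Euler.hdim k X (Coh.structureModule X) 0 = Nat.card (_root_.ConnectedComponents X) :=
    H0Components.finrank_h0_eq_card k
  have h3 : Euler.hdim k X (Coh.structureModule X) 1 = Curv2.genus k X := rfl
  rw [hg.euler, hgX.euler, h0, h1, h2, h3] at he
  linarith

end Groth.Agent.Lib.Curves.NormGenus
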