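import Groth.Agent.Lib.Curves.Clifford
import Groth.Agent.Lib.Devissage.Closure

/-!
# Twisted ideal sheaves with finite support, and their `H¹`
-/

set_option autoImplicit false
universe u

open CategoryTheory CategoryTheory.Limits AlgebraicGeometry Opposite TopologicalSpace
open Groth.Agent.Lib.Curves.LES Groth.Agent.Lib.Curves.Euler Groth.Agent.Lib.TensorMod
  Groth.Agent.Lib.TensorMod.Basic

noncomputable section

namespace Groth.Agent.Lib.Curves.IdealTwist

variable {k : Type u} [Field k] {X : Scheme.{u}} [X.Over (Spec (CommRingCat.of k))]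
  [IsProper (X ↘ Spec (CommRingCat.of k))] [IsIntegral X]

omit [X.Over (Spec (CommRingCat.of k))] [IsProper (X ↘ Spec (CommRingCat.of k))] [IsIntegral X] in
lemma isCoh_quot (I : X.IdealSheafData) : Coh.IsCoh (ClSub.quotMod I) :=
  Devissage.Closure.isCoh_push_structureModule I.subschemeι

omit [X.Over (Spec (CommRingCat.of k))] [IsProper (X ↘ Spec (CommRingCat.of k))] [IsIntegral X] in
lemma isCoh_ideal [IsLocallyNoetherian X] (I : X.IdealSheafData) : Coh.IsCoh (ClSub.idealMod I) :=
  CohBasics.Closure.isCoh_kernel (ClSub.toSubscheme I) Degree.isCoh_structureModule (isCoh_quot I).1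

omit [X.Over (Spec (CommRingCat.of k))] [IsProper (X ↘ Spec (CommRingCat.of k))] in
/-- A subscheme of dimension `≤ 0` of an integral curve misses the generic point. -/
lemma genericPoint_not_mem (hdim : topologicalKrullDim X = 1) {Z : X.IdealSheafData}
    (hZ : topologicalKrullDim (Z.support : Set X) ≤ 0) : genericPoint X ∉ (Z.support : Set X) := by
  intro h
  have hu : (Z.support : Set X) = Set.univ := by
    refine Set.eq_univ_of_forall fun x => ?_
    exact (genericPoint_specializes x).mem_closed Z.support.isClosed h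
  rw [hu, (Homeomorph.Set.univ X).isHomeomorph.topologicalKrullDim_eq, hdim] at hZ
  exact absurd hZ (by decide)

/-- The inclusion `I ⊗ L ⟶ L`. -/
def incl (I : X.IdealSheafData) (L : X.Modules) : CohB1.tensorMod (ClSub.idealMod I) L ⟶ L :=
  tmap (ClSub.idealModι I) (𝟙 L) ≫ (leftUnit L).hom

omit [X.Over (Spec (CommRingCat.of k))] [IsProper (X ↘ Spec (CommRingCat.of k))] [IsIntegral X] in
lemma mono_incl (I : X.IdealSheafData) {L : X.Modules} (hL : PicF.IsInvertible L) :
    Mono (incl I L) := by
  haveI := (CurveBundle.Twist.shortExact hL (ClSub.Quot.idealSeq_shortExact I)).mono_f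
  haveI : Mono (tmap (ClSub.idealModι I) (𝟙 L)) := this
  exact mono_comp _ _

lemma isGood_twist (hdim : topologicalKrullDim X ≤ 1) (I : X.IdealSheafData) {L : X.Modules}
    (hL : PicF.IsInvertible L) : IsGood k X (CohB1.tensorMod (ClSub.idealMod I) L) := by
  haveI := GlobalSections.isNoetherian_of_proper k X
  exact Finiteness.isGood_of_isCoh hdim (CurveBundle.Twist.isCoh hL (isCoh_ideal I))

/-- `χ(I ⊗ L) = χ(L) - h⁰(O / I)`. -/
theorem euler_twist_ideal (hdim : topologicalKrullDim X ≤ 1) {I : X.IdealSheafData}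
    (hs : genericPoint X ∉ (I.support : Set X)) {L : X.Modules} (hL : PicF.IsInvertible L) :
    Curv2.euler k X (CohB1.tensorMod (ClSub.idealMod I) L) =
      Curv2.euler k X L - Euler.hdim k X (ClSub.quotMod I) 0 := by
  haveI := GlobalSections.noetherianSpace_of_proper k X
  haveI := GlobalSections.isNoetherian_of_proper k X
  have h := Degree.euler_ses (A := CohB1.tensorMod (ClSub.idealMod I) L)
    (B := CohB1.tensorMod (Coh.structureModule X) L) (C := CohB1.tensorMod (ClSub.quotMod I) L)
    (CurveBundle.Twist.shortExact hL (ClSub.Quot.idealSeq_shortExact I))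
    (isGood_twist (k := k) hdim I hL)
    (Finiteness.isGood_of_isCoh (k := k) hdim
      (CurveBundle.Twist.isCoh hL (Degree.isCoh_structureModule (X := X))))
    (Finiteness.isGood_of_isCoh (k := k) hdim (CurveBundle.Twist.isCoh hL (isCoh_quot I)))
  rw [Euler.euler_eq_of_iso (leftUnit L),
    Degree.euler_twist_torsion hdim hL (isCoh_quot I) (Degree.isTorsion_quotMod hs),
    (Degree.isTorsion_of_generic (Degree.isTorsion_quotMod hs)).euler hdim] at h
  simp only [Euler.hdim]
  linarith

/-- `deg L ≤ 2g - 2 + h⁰(O/I)` when `H¹(I ⊗ L) ≠ 0`. -/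
theorem deg_le_of_nontrivial_one (hdim : topologicalKrullDim X ≤ 1)
    (h0 : Module.finrank k (Coh.HH X (Coh.structureModule X) 0) = 1) {I : X.IdealSheafData}
    (hs : genericPoint X ∉ (I.support : Set X)) {L : X.Modules} (hL : PicF.IsInvertible L)
    (h1 : Nontrivial (Coh.HH X (CohB1.tensorMod (ClSub.idealMod I) L) 1)) :
    Curv2.deg k X L 1 ≤ 2 * (Curv2.genus k X : ℤ) - 2 + Euler.hdim k X (ClSub.quotMod I) 0 := by
  haveI := mono_incl I hL
  have hg := isGood_twist (k := k) hdim I hL
  have hle := Clifford.hdim_zero_le_genus k hdim hL (incl I L) h1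
  haveI := hg.fin₁
  have hpos : 0 < Euler.hdim k X (CohB1.tensorMod (ClSub.idealMod I) L) 1 := Module.finrank_pos
  have he := euler_twist_ideal (k := k) hdim hs hL
  rw [Euler.euler_eq hg.vanish, Degree.euler_eq_deg_add hdim h0] at he
  omega

/-- `H¹(I ⊗ L) = 0` beyond `2g - 2 + h⁰(O/I)`. -/
theorem subsingleton_one_of_deg (hdim : topologicalKrullDim X ≤ 1)
    (h0 : Module.finrank k (Coh.HH X (Coh.structureModule X) 0) = 1) {I : X.IdealSheafData}
    (hs : genericPoint X ∉ (I.support : Set X)) {L : X.Modules} (hL : PicF.IsInvertible L)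
    (hd : 2 * (Curv2.genus k X : ℤ) - 2 + Euler.hdim k X (ClSub.quotMod I) 0 < Curv2.deg k X L 1) :
    Subsingleton (Coh.HH X (CohB1.tensorMod (ClSub.idealMod I) L) 1) := by
  by_contra h
  rw [not_subsingleton_iff_nontrivial] at h
  exact absurd (deg_le_of_nontrivial_one hdim h0 hs hL h) (not_le.mpr hd)

end Groth.Agent.Lib.Curves.IdealTwist
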