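import Groth.Agent.Lib.Curves.LES
import Groth.Agent.Lib.Curves.GlobalSections
import Groth.Agent.Lib.Exchange.HomAdj
import Groth.Agent.Lib.ProjMor.Sec

/-!
# Multiplication by generating sections of an invertible module is surjective

If sections `s` generate the invertible `L`, `H²` vanishes and `H¹(G) = 0`, then `H¹(G ⊗ L) = 0`
and every section of `G ⊗ L ⊗ L` is a sum of `zⱼ ⊗ sⱼ` (Koszul relations).
-/

set_option autoImplicit false
noncomputable section

universe u

open CategoryTheory CategoryTheory.Limits AlgebraicGeometry TopologicalSpace Opposite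
open scoped TensorProduct

namespace Groth.Agent.Lib.Curves.SectionSurj

open TensorMod TensorMod.Basic TensorMod.Free TensorMod.Dual TensorMod.Gen TensorMod.Pullback ProjMor.Sec Modules
open DerivedOX.TensorSheaf (tensorStalk)

variable {X : Scheme.{u}} {L : X.Modules}

instance (priority := 100) hasFiniteBiproducts_modules : HasFiniteBiproducts X.Modules :=
  HasFiniteBiproducts.of_hasFiniteProducts

/-- `t ↦ t ⊗ s`. -/
def mulHom (F : X.Modules) (s : Γ(L, ⊤)) : F ⟶ CohB1.tensorMod F L :=
  ⟨PresheafOfModules.homMk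
    { app := fun U => AddCommGrpCat.ofHom
        (AddMonoidHom.mk' (fun t : Γ(F, U.unop) => pairM (𝟙 (CohB1.tensorMod F L)) t (gl s U.unop))
          fun a b => pairM_add_left _ _ _ _)
      naturality := fun U V i => by
        ext (t : Γ(F, U.unop))
        refine Eq.symm ((Ample.GenLocus.rs_tmul i.unop.le t (gl s U.unop)).trans ?_)
        rw [rs_gl]
        rfl }
    fun U r t => pairM_smul_left (𝟙 (CohB1.tensorMod F L)) r t (gl s U.unop)⟩

theorem mulHom_app (F : X.Modules) (s : Γ(L, ⊤)) (U : X.Opens) (t : Γ(F, U)) :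
    (mulHom F s).app U t = SecTwist.tmul F L U t (gl s U) := rfl

variable (x : X)

theorem tensorStalk_mulHom (F : X.Modules) (s : Γ(L, ⊤)) (v : F.presheaf.stalk x) :
    tensorStalk x F L (StalkModule.stalkMapₗ (mulHom F s) x v) =
      v ⊗ₜ L.presheaf.germ ⊤ x trivial s := by
  obtain ⟨U, hx, t, rfl⟩ := TopCat.Presheaf.exists_germ_eq F.presheaf v
  rw [StalkModule.stalkMapₗ_germ]
  refine (ZarCoh.Exchange.HomAdj.tensorStalk_germ hx t (gl s U)).trans ?_
  congr 1
  exact TopCat.Presheaf.germ_res_apply L.presheaf (homOfLE le_top) x hx s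

/-- A stalk of `F ⊗ L`, through a basis of the stalk of `L`. -/
theorem exists_stalkEquiv (F : X.Modules) (b : X.presheaf.stalk x ≃ₗ[X.presheaf.stalk x] L.presheaf.stalk x) :
    ∃ θ : (CohB1.tensorMod F L).presheaf.stalk x ≃ₗ[X.presheaf.stalk x] F.presheaf.stalk x,
      ∀ (s : Γ(L, ⊤)) (v : F.presheaf.stalk x),
        θ (StalkModule.stalkMapₗ (mulHom F s) x v) = b.symm (L.presheaf.germ ⊤ x trivial s) • v := by
  refine ⟨(tensorStalk x F L).trans ((TensorProduct.congr (LinearEquiv.refl _ _) b.symm).trans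
    (TensorProduct.rid _ _)), fun s v => ?_⟩
  refine (congrArg ((TensorProduct.congr (LinearEquiv.refl _ _) b.symm).trans
    (TensorProduct.rid _ _)) (tensorStalk_mulHom x F s v)).trans ?_
  exact TensorProduct.rid_tmul (R := X.presheaf.stalk x) (M := F.presheaf.stalk x) v _

variable {x}

/-- A basis of the stalk of `L` at a point of a locus. -/
theorem exists_basis {N : ℕ} {s : Fin N → Γ(L, ⊤)} (hcov : ∀ x, ∃ i, x ∈ locus (s i)) (x : X) :
    ∃ (i₀ : Fin N) (b : X.presheaf.stalk x ≃ₗ[X.presheaf.stalk x] L.presheaf.stalk x),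
      b.symm (L.presheaf.germ ⊤ x trivial (s i₀)) = 1 := by
  obtain ⟨i, hx⟩ := hcov x
  have hb := H34.UFDExt.Gen.IsGen.stalk_bijective (M := L) (fun W hW => isGen_locus (s i) W hW) hx
  refine ⟨i, LinearEquiv.ofBijective (LinearMap.toSpanSingleton _ _
    (L.presheaf.germ (locus (s i)) x hx (gl (s i) (locus (s i))))) hb, ?_⟩
  rw [LinearEquiv.symm_apply_eq]
  exact (TopCat.Presheaf.germ_res_apply L.presheaf (homOfLE le_top) x hx (s i)).symm.trans
    (one_smul (X.presheaf.stalk x) _).symm

theorem mapK_add {A : Type u} [CommRing A] [X.Over (Spec (CommRingCat.of A))] {M M' : X.Modules}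
    (f g : M ⟶ M') (n : ℕ) : LES.mapK A (f + g) n = LES.mapK A f n + LES.mapK A g n :=
  LinearMap.ext fun z =>
    (congrArg (fun h => Sheaf.H.map h n z) ((LES.F X).map_add)).trans (Sheaf.H.map_add_apply _ _ z)

variable (A : Type u) [CommRing A] [X.Over (Spec (CommRingCat.of A))]

include A in
/-- `H¹` of a finite sum of copies of `G` vanishes with `H¹(G)`. -/
theorem subsingleton_biproduct (G : X.Modules) (n m : ℕ) (h : Subsingleton (Coh.HH X G m)) :
    Subsingleton (Coh.HH X (⨁ fun _ : Fin n => G) m) := by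
  refine subsingleton_of_forall_eq 0 fun z => ?_
  let h0 : ((⨁ fun _ : Fin n => G) ⟶ (⨁ fun _ : Fin n => G)) →+
      (Coh.HH X (⨁ fun _ : Fin n => G) m →ₗ[A] Coh.HH X (⨁ fun _ : Fin n => G) m) :=
    AddMonoidHom.mk' (fun φ => LES.mapK A φ m) fun f g => mapK_add f g m
  have h1 : LES.mapK A (𝟙 (⨁ fun _ : Fin n => G)) m z = 0 := by
    change h0 (𝟙 _) z = 0
    rw [← biproduct.total, map_sum, LinearMap.sum_apply]
    refine Finset.sum_eq_zero fun j _ => ?_
    change LES.mapK A (biproduct.π (fun _ : Fin n => G) j ≫ biproduct.ι (fun _ : Fin n => G) j) m z = 0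
    rw [LES.mapK_comp, LinearMap.comp_apply,
      Subsingleton.elim (LES.mapK A (biproduct.π (fun _ : Fin n => G) j) m z) 0, map_zero]
  rwa [LES.mapK_id] at h1

variable {N : ℕ} (G : X.Modules) (s : Fin N → Γ(L, ⊤))

/-- `(vⱼ) ↦ Σ vⱼ ⊗ sⱼ`. -/
def total (F : X.Modules) : (⨁ fun _ : Fin N => F) ⟶ CohB1.tensorMod F L :=
  biproduct.desc fun j => mulHom F (s j)

theorem stalk_total (x : X) (F : X.Modules) (w : (⨁ fun _ : Fin N => F).presheaf.stalk x) :
    StalkModule.stalkMapₗ (total s F) x w = ∑ j, StalkModule.stalkMapₗ (mulHom F (s j)) x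
      (StalkModule.stalkMapₗ (biproduct.π (fun _ : Fin N => F) j) x w) := by
  let h0 : ((⨁ fun _ : Fin N => F) ⟶ CohB1.tensorMod F L) →+
      ((⨁ fun _ : Fin N => F).presheaf.stalk x →ₗ[X.presheaf.stalk x] (CohB1.tensorMod F L).presheaf.stalk x) :=
    AddMonoidHom.mk' (fun φ => StalkModule.stalkMapₗ φ x) fun f g => StalkModule.stalkMapₗ_add f g x
  change h0 (total s F) w = _
  rw [total, biproduct.desc_eq, map_sum, LinearMap.sum_apply]
  refine Finset.sum_congr rfl fun j _ => ?_
  exact DFunLike.congr_fun (StalkModule.stalkMapₗ_comp _ _ x) w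

theorem stalk_π_ι (x : X) {F : X.Modules} (i j : Fin N) (v : F.presheaf.stalk x) :
    StalkModule.stalkMapₗ (biproduct.π (fun _ : Fin N => F) j) x
      (StalkModule.stalkMapₗ (biproduct.ι (fun _ : Fin N => F) i) x v) = if i = j then v else 0 := by
  rw [← LinearMap.comp_apply, ← StalkModule.stalkMapₗ_comp]
  split
  · next h => subst h; rw [biproduct.ι_π_self, StalkModule.stalkMapₗ_id]; rfl
  · next h => rw [biproduct.ι_π_ne _ h, StalkModule.stalkMapₗ_zero]; rfl

variable {s} (hcov : ∀ x, ∃ i, x ∈ locus (s i))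

include hcov in
theorem epi_total (F : X.Modules) : Epi (total s F) := by
  rw [StalkModule.epi_iff_stalkMapₗ_surjective]
  intro x y
  obtain ⟨i₀, b, hb⟩ := exists_basis hcov x
  obtain ⟨θ, hθ⟩ := exists_stalkEquiv x F b
  refine ⟨StalkModule.stalkMapₗ (biproduct.ι (fun _ : Fin N => F) i₀) x (θ y), θ.injective ?_⟩
  rw [stalk_total, map_sum, Finset.sum_eq_single i₀]
  · rw [hθ, hb, one_smul, stalk_π_ι, if_pos rfl]
  · intro j _ hj
    rw [hθ, stalk_π_ι, if_neg (Ne.symm hj), smul_zero]
  · simp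

variable (s) in
/-- The Koszul relations. -/
def koszul : (⨁ fun _ : Fin (N * N) => G) ⟶ ⨁ fun _ : Fin N => CohB1.tensorMod G L :=
  biproduct.desc fun q =>
    mulHom G (s (finProdFinEquiv.symm q).1) ≫
      biproduct.ι (fun _ : Fin N => CohB1.tensorMod G L) (finProdFinEquiv.symm q).2 -
    mulHom G (s (finProdFinEquiv.symm q).2) ≫
      biproduct.ι (fun _ : Fin N => CohB1.tensorMod G L) (finProdFinEquiv.symm q).1

include hcov in
theorem koszul_total : koszul G s ≫ total s (CohB1.tensorMod G L) = 0 := by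
  refine biproduct.hom_ext' _ _ fun q => ?_
  rw [comp_zero, koszul, total, biproduct.ι_desc_assoc, Preadditive.sub_comp, Category.assoc,
    Category.assoc, biproduct.ι_desc, biproduct.ι_desc, sub_eq_zero]
  refine StalkModule.hom_ext_stalkMapₗ fun x => LinearMap.ext fun v => ?_
  obtain ⟨i₀, b, hb⟩ := exists_basis hcov x
  obtain ⟨θ, hθ⟩ := exists_stalkEquiv x G b
  obtain ⟨η, hη⟩ := exists_stalkEquiv x (CohB1.tensorMod G L) b
  simp only [StalkModule.stalkMapₗ_comp, LinearMap.comp_apply]
  refine η.injective (θ.injective ?_)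
  simp only [hη, map_smul, hθ]
  exact smul_comm _ _ _

include hcov in
theorem exact_koszul :
    Epi (kernel.lift (total s (CohB1.tensorMod G L)) (koszul G s) (koszul_total G hcov)) := by
  rw [StalkModule.epi_iff_stalkMapₗ_surjective]
  intro x y
  obtain ⟨i₀, b, hb⟩ := exists_basis hcov x
  obtain ⟨θ, hθ⟩ := exists_stalkEquiv x G b
  obtain ⟨η, hη⟩ := exists_stalkEquiv x (CohB1.tensorMod G L) b
  have hmono := (StalkModule.mono_iff_stalkMapₗ_injective (kernel.ι (total s (CohB1.tensorMod G L)))).mp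
    inferInstance x
  set w := StalkModule.stalkMapₗ (kernel.ι (total s (CohB1.tensorMod G L))) x y with hw
  let c : Fin N → X.presheaf.stalk x := fun j => b.symm (L.presheaf.germ ⊤ x trivial (s j))
  let v : Fin N → G.presheaf.stalk x := fun j =>
    θ (StalkModule.stalkMapₗ (biproduct.π (fun _ : Fin N => CohB1.tensorMod G L) j) x w)
  have hsum : ∑ j, c j • v j = 0 := by
    have h1 : StalkModule.stalkMapₗ (total s (CohB1.tensorMod G L)) x w = 0 := by
      rw [hw, ← LinearMap.comp_apply, ← StalkModule.stalkMapₗ_comp, kernel.condition,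
        StalkModule.stalkMapₗ_zero, LinearMap.zero_apply]
    have h2 := congrArg (fun z => θ (η z)) h1
    simp only [stalk_total, map_sum, hη, map_smul, map_zero] at h2
    exact h2
  let u : (⨁ fun _ : Fin (N * N) => G).presheaf.stalk x :=
    ∑ j, StalkModule.stalkMapₗ (biproduct.ι (fun _ : Fin (N * N) => G) (finProdFinEquiv (i₀, j))) x (v j)
  refine ⟨u, hmono ?_⟩
  rw [← LinearMap.comp_apply, ← StalkModule.stalkMapₗ_comp, kernel.lift_ι, ← hw]
  -- compare componentwise
  have hext : ∀ z z' : (⨁ fun _ : Fin N => CohB1.tensorMod G L).presheaf.stalk x,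
      (∀ m, StalkModule.stalkMapₗ (biproduct.π (fun _ : Fin N => CohB1.tensorMod G L) m) x z =
        StalkModule.stalkMapₗ (biproduct.π (fun _ : Fin N => CohB1.tensorMod G L) m) x z') → z = z' := by
    intro z z' h
    let h0 : ((⨁ fun _ : Fin N => CohB1.tensorMod G L) ⟶ ⨁ fun _ : Fin N => CohB1.tensorMod G L) →+ _ :=
      AddMonoidHom.mk' (fun φ => StalkModule.stalkMapₗ φ x) fun f g => StalkModule.stalkMapₗ_add f g x
    have key : ∀ z, z = ∑ j, StalkModule.stalkMapₗ (biproduct.ι (fun _ : Fin N => CohB1.tensorMod G L) j) x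
        (StalkModule.stalkMapₗ (biproduct.π (fun _ : Fin N => CohB1.tensorMod G L) j) x z) := fun z => by
      conv_lhs => rw [show z = h0 (𝟙 _) z from (DFunLike.congr_fun (StalkModule.stalkMapₗ_id x) z).symm]
      rw [← biproduct.total, map_sum, LinearMap.sum_apply]
      exact Finset.sum_congr rfl fun j _ => DFunLike.congr_fun (StalkModule.stalkMapₗ_comp _ _ x) z
    rw [key z, key z']
    simp only [h]
  refine hext _ _ fun m => θ.injective ?_
  change _ = v m
  have hj : ∀ j, θ (StalkModule.stalkMapₗ (biproduct.π (fun _ : Fin N => CohB1.tensorMod G L) m) x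
      (StalkModule.stalkMapₗ (koszul G s) x
        (StalkModule.stalkMapₗ (biproduct.ι (fun _ : Fin (N * N) => G) (finProdFinEquiv (i₀, j))) x (v j)))) =
      (if j = m then v j else 0) - (if i₀ = m then c j • v j else 0) := by
    intro j
    rw [← LinearMap.comp_apply, ← LinearMap.comp_apply, ← StalkModule.stalkMapₗ_comp, ← StalkModule.stalkMapₗ_comp,
      koszul, biproduct.ι_desc_assoc, Equiv.symm_apply_apply, sub_eq_add_neg, Preadditive.add_comp,
      StalkModule.stalkMapₗ_add, LinearMap.add_apply, Preadditive.neg_comp, map_add]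
    have hneg : ∀ {P Q : X.Modules} (φ : P ⟶ Q) (a : P.presheaf.stalk x),
        StalkModule.stalkMapₗ (-φ) x a = -StalkModule.stalkMapₗ φ x a := fun φ a => by
      rw [eq_neg_iff_add_eq_zero, ← LinearMap.add_apply, ← StalkModule.stalkMapₗ_add, neg_add_cancel,
        StalkModule.stalkMapₗ_zero, LinearMap.zero_apply]
    rw [hneg, map_neg, ← sub_eq_add_neg]
    simp only [StalkModule.stalkMapₗ_comp, LinearMap.comp_apply, stalk_π_ι, apply_ite θ, hθ, map_zero]
    rw [show b.symm (L.presheaf.germ ⊤ x trivial (s i₀)) = 1 from hb, one_smul]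
  simp only [u, map_sum, hj, Finset.sum_sub_distrib, Finset.sum_ite_eq', Finset.mem_univ, if_true]
  by_cases hm : i₀ = m
  · simp only [if_pos hm, hsum, sub_zero]
  · simp only [if_neg hm, Finset.sum_const_zero, sub_zero]

include A in
/-- Exact-sequence consequence: a quotient of a vanishing `H¹`. -/
theorem subsingleton_of_epi {P Q : X.Modules} (φ : P ⟶ Q) [Epi φ] (h : Subsingleton (Coh.HH X P 1))
    (h2 : Subsingleton (Coh.HH X (kernel φ) 2)) : Subsingleton (Coh.HH X Q 1) := by
  let S := ShortComplex.mk (kernel.ι φ) φ (kernel.condition φ)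
  have hS : S.ShortExact := { exact := ShortComplex.exact_kernel φ }
  haveI : Subsingleton (Coh.HH X S.X₁ 2) := h2
  have hsurj : Function.Surjective (LES.mapK A φ 1) := fun z =>
    (LES.exactK₃ A hS 1 2 rfl z).mp (Subsingleton.elim _ _)
  exact hsurj.subsingleton

include A hcov in
/-- `H¹(G ⊗ L) = 0` if `H¹(G) = 0`. -/
theorem subsingleton_tensor (h2 : ∀ K : X.Modules, Subsingleton (Coh.HH X K 2))
    (hG : Subsingleton (Coh.HH X G 1)) : Subsingleton (Coh.HH X (CohB1.tensorMod G L) 1) :=
  haveI := epi_total hcov G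
  subsingleton_of_epi A (total s G) (subsingleton_biproduct A G N 1 hG) (h2 _)

include A hcov in
/-- Sections of `G ⊗ L ⊗ L` are sums of products. -/
theorem sections_eq_sum (h2 : ∀ K : X.Modules, Subsingleton (Coh.HH X K 2))
    (hG : Subsingleton (Coh.HH X G 1)) (z : Γ(CohB1.tensorMod (CohB1.tensorMod G L) L, ⊤)) :
    ∃ w : Fin N → Γ(CohB1.tensorMod G L, ⊤),
      z = ∑ j, (SecTwist.tmul (CohB1.tensorMod G L) L ⊤ (w j) (s j) :
        Γ(CohB1.tensorMod (CohB1.tensorMod G L) L, ⊤)) := by
  let F := CohB1.tensorMod G L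
  haveI hepi : Epi (total s F) := epi_total hcov F
  haveI := exact_koszul G hcov
  have hK : Subsingleton (Coh.HH X (kernel (total s F)) 1) :=
    subsingleton_of_epi A (kernel.lift (total s F) (koszul G s) (koszul_total G hcov))
      (subsingleton_biproduct A G (N * N) 1 hG) (h2 _)
  let S := ShortComplex.mk (kernel.ι (total s F)) (total s F) (kernel.condition _)
  have hS : S.ShortExact := { exact := ShortComplex.exact_kernel _ }
  haveI : Subsingleton (Coh.HH X S.X₁ 1) := hK
  obtain ⟨y, hy⟩ := (LES.exactK₃ A hS 0 1 rfl ((GlobalSections.h0Equiv _).symm z)).mp (Subsingleton.elim _ _)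
  let y' : Γ(⨁ fun _ : Fin N => F, ⊤) := GlobalSections.h0Equiv _ y
  refine ⟨fun j => (biproduct.π (fun _ : Fin N => F) j).app ⊤ y', ?_⟩
  have h1 : z = (total s F).app ⊤ y' := by
    have h2 := congrArg (GlobalSections.h0Equiv _) hy
    have h3 := h2.trans ((GlobalSections.h0Equiv _).apply_symm_apply z)
    rw [← h3]
    exact (Sheaf.H.equiv₀_naturality (isTerminalTop (α := Opens X)) (LES.toAbMap (total s F)) y).symm
  let h0 : ((⨁ fun _ : Fin N => F) ⟶ CohB1.tensorMod F L) →+ Γ(CohB1.tensorMod F L, ⊤) :=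
    AddMonoidHom.mk' (fun φ => φ.app ⊤ y') fun f g => rfl
  rw [h1]
  change h0 (total s F) = _
  rw [total, biproduct.desc_eq, map_sum]
  refine Finset.sum_congr rfl fun j _ => ?_
  exact (mulHom_app F (s j) ⊤ _).trans (congrArg (SecTwist.tmul F L ⊤ _) (rs_self L _ (s j)))

end Groth.Agent.Lib.Curves.SectionSurj
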