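import Groth.Agent.Lib.Curves.SepCriterion
import Groth.Agent.Lib.Curves.BaseChange
import Groth.Agent.Lib.ProjMor.Embed
import Groth.Agent.Lib.ProjSpace.Basic
import Groth.Agent.Lib.DescAlg.Descends

/-!
# Very ampleness on a geometrically integral curve

Sections of `L` embed `X` into projective space as soon as they generate `L` and, over an
algebraically closed extension of the base field, the pullback of `L` separates length two
subschemes.
-/

set_option autoImplicit false
set_option linter.style.haveILetI false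
universe u

open CategoryTheory CategoryTheory.Limits AlgebraicGeometry Opposite TopologicalSpace
open Groth.Agent.Lib.TensorMod Groth.Agent.Lib.TensorMod.Dual Groth.Agent.Lib.TensorMod.Gen
  Groth.Agent.Lib.TensorMod.HomGlue Groth.Agent.Lib.TensorMod.Pullback
  Groth.Agent.Lib.Ample.GenLocus Groth.Agent.Lib.ProjMor.Sec

noncomputable section

namespace Groth.Agent.Lib.Curves.VeryAmple

variable {k : Type u} [Field k] {X : Scheme.{u}} [X.Over (Spec (CommRingCat.of k))]

/-- Spanning sections of a globally generated module generate it. -/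
theorem generatedBy_of_span {L : X.Modules} (hgg : Curv2.IsGloballyGenerated L) {ι : Type*}
    (s : ι → Γ(L, ⊤))
    (hspan : letI := GlobalSections.secModule k L
      Submodule.span k (Set.range fun j => (show (L.val.obj (op ⊤) : Type u) from s j)) = ⊤) :
    ProjUP.GeneratedBy L s := by
  letI := GlobalSections.secModule k L
  intro x
  rw [eq_top_iff, ← H34.GlobGen.gl_eq_top_of_gg hgg x]
  refine Submodule.span_le.mpr ?_
  suffices key : ∀ m ∈ Submodule.span k (Set.range fun j => (show (L.val.obj (op ⊤) : Type u) from s j)),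
      L.presheaf.germ ⊤ x trivial (show Γ(L, ⊤) from m) ∈ Submodule.span (X.presheaf.stalk x)
        (Set.range fun i => (L.presheaf.germ ⊤ x trivial).hom (s i)) by
    rintro _ ⟨m, rfl⟩
    exact key m (hspan ▸ Submodule.mem_top)
  intro m hm
  induction hm using Submodule.span_induction with
  | mem v hv =>
    obtain ⟨j, rfl⟩ := hv
    exact Submodule.subset_span ⟨j, rfl⟩
  | zero => exact Set.mem_of_eq_of_mem (map_zero (L.presheaf.germ ⊤ x trivial).hom) (zero_mem _)
  | add a b _ _ ha hb =>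
    exact Set.mem_of_eq_of_mem (map_add (L.presheaf.germ ⊤ x trivial).hom a b) (add_mem ha hb)
  | smul c a _ ha =>
    exact Set.mem_of_eq_of_mem
      (Modules.StalkModule.germ_smul (U := ⊤) trivial
        (Coh.toGlobal (X ↘ Spec (CommRingCat.of k)) c) (show Γ(L, ⊤) from a))
      (Submodule.smul_mem _ _ ha)

omit [X.Over (Spec (CommRingCat.of k))] in
/-- The ratios of the sections defining a map to projective space. -/
theorem exists_charts {n : ℕ} {L : X.Modules} (s : Fin (n + 1) → Γ(L, ⊤))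
    (r : X ⟶ CohB1.ProjSpace n k)
    (τ : (Scheme.Modules.pullback r).obj (Twist.twistProjSpace n k 1) ≅ L)
    (hτ : ∀ i, τ.hom.app ⊤ (ProjUP.pullSec r (Twist.twistProjSpace n k 1) (ProjUP.coord n k i)) = s i)
    (x : X) : ∃ (D : (CohB1.ProjSpace n k).Opens) (i : Fin (n + 1)) (a : Fin (n + 1) → Γ(CohB1.ProjSpace n k, D)),
      IsAffineOpen D ∧ r x ∈ D ∧ IsGen L (r ⁻¹ᵁ D) (rs L (le_top : r ⁻¹ᵁ D ≤ ⊤) (s i)) ∧
      ∀ j, rs L (le_top : r ⁻¹ᵁ D ≤ ⊤) (s j) =
        r.app D (a j) • rs L (le_top : r ⁻¹ᵁ D ≤ ⊤) (s i) := by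
  classical
  let 𝒜 := CohB1.polyGrading n k
  let el : Fin (n + 1) → 𝒜 1 := fun i => ⟨MvPolynomial.X i, MvPolynomial.isHomogeneous_X k i⟩
  have hcv := ProjMor.Main.cover (ProjMor.Poly.lin_mem n k) (ProjMor.Poly.adjoin_lin n k)
  obtain ⟨i, hi⟩ : ∃ i, r x ∈ Proj.basicOpen 𝒜 (el i : MvPolynomial (Fin (n + 1)) k) := by
    by_contra hc
    push Not at hc
    obtain ⟨c, hcx⟩ := hcv (r x)
    suffices key : ∀ v ∈ Submodule.span k (Set.range fun i =>
        (MvPolynomial.X i : MvPolynomial (Fin (n + 1)) k)), v ∈ (r x).asHomogeneousIdeal.toIdeal by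
      refine hcx (key _ ?_)
      rw [← MvPolynomial.homogeneousSubmodule_one_eq_span_X]
      exact c.2
    intro v hmem
    induction hmem using Submodule.span_induction with
    | mem v hv =>
      obtain ⟨i, rfl⟩ := hv
      by_contra hni
      exact hc i hni
    | zero => exact zero_mem _
    | add a b _ _ ha hb => exact add_mem ha hb
    | smul c a _ ha =>
      rw [Algebra.smul_def]
      exact Ideal.mul_mem_left _ _ ha
  have hinv : PicF.IsInvertible (Twist.twist 𝒜 1) :=
    ProjTilde.Invertible.twist_isInvertible_of_cover (fun y => by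
      obtain ⟨c, hc⟩ := hcv y
      exact ⟨c, c.2, hc⟩) 1
  have hle : r ⁻¹ᵁ Proj.basicOpen 𝒜 (el i : MvPolynomial (Fin (n + 1)) k) ≤ locus (s i) := by
    rw [← ProjMor.Frame.locus_g hcv (el i)]
    exact ((congrArg locus (hτ i)).symm.trans
      ((locus_iso τ _).trans (locus_pullback hinv r _))).ge
  refine ⟨_, i, fun j => ProjMor.Frame.fr 𝒜 (el i) (el j),
    Proj.isAffineOpen_basicOpen 𝒜 _ (el i).2 one_pos, hi, ?_, fun j => ?_⟩
  · have h := (isGen_locus (s i)).res hle
    rwa [rs_rs] at h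
  · refine (ProjMor.Embed.ratio_of_iso (a := el i) (b := el j) τ (hτ i) (hτ j) le_rfl).trans ?_
    exact congrArg (fun φ => φ (ProjMor.Frame.fr 𝒜 (el i) (el j)) • rs L
      (le_top : r ⁻¹ᵁ Proj.basicOpen 𝒜 (el i : MvPolynomial (Fin (n + 1)) k) ≤ ⊤) (s i))
      (Scheme.Hom.appLE_eq_app r)

variable [IsProper (X ↘ Spec (CommRingCat.of k))]
  [GeometricallyIntegral (X ↘ Spec (CommRingCat.of k))]

/-- The map to projective space defined by spanning sections is a closed immersion. -/
theorem exists_closedImmersion_of_span (K : Type u) [Field K] [Algebra k K] [IsAlgClosed K]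
    (hdim : topologicalKrullDim X = 1) {L : X.Modules} (hL : PicF.IsInvertible L)
    (hgg : Curv2.IsGloballyGenerated L) {n : ℕ} (h2 : 1 ≤ n)
    (hn : Euler.hdim k X L 0 = n + 1)
    (hsep : ∀ (X' : Scheme.{u}) [X'.Over (Spec (CommRingCat.of K))] [IsIntegral X']
      (g : X' ⟶ X), IsPullback g (X' ↘ Spec (CommRingCat.of K)) (X ↘ Spec (CommRingCat.of k))
        (Spec.map (CommRingCat.ofHom (algebraMap k K))) →
      SepCriterion.Separates K ((Scheme.Modules.pullback g).obj L))
    (s : Fin (n + 1) → Γ(L, ⊤))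
    (hspan : letI := GlobalSections.secModule k L
      Submodule.span k (Set.range fun j => (show (L.val.obj (op ⊤) : Type u) from s j)) = ⊤) :
    ∃ (r : X ⟶ CohB1.ProjSpace n k), IsClosedImmersion r ∧
      r ≫ CohB1.ProjSpace.toSpec n k = X ↘ Spec (CommRingCat.of k) ∧
      ∃ τ : (Scheme.Modules.pullback r).obj (Twist.twistProjSpace n k 1) ≅ L,
        ∀ i, τ.hom.app ⊤ (ProjUP.pullSec r (Twist.twistProjSpace n k 1) (ProjUP.coord n k i)) = s i := by
  haveI : IsIntegral X := GeometricallyIntegral.geometrically_isIntegral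
    (f := X ↘ Spec (CommRingCat.of k)) (𝟙 _) (𝟙 X) (X ↘ Spec (CommRingCat.of k))
    (IsPullback.of_id_fst)
  haveI := GlobalSections.isNoetherian_of_proper k X
  haveI := QCohInv.isQCoh_of_isInvertible hL
  letI := GlobalSections.secModule k L
  obtain ⟨r, hr, τ, hτ⟩ := ProjMor.Poly.exists_map n k (X ↘ Spec (CommRingCat.of k)) L hL s
    (generatedBy_of_span hgg s hspan)
  refine ⟨r, ?_, hr, τ, hτ⟩
  -- the base change
  let σ := Spec.map (CommRingCat.ofHom (algebraMap k K))
  let X' : Scheme.{u} := pullback (X ↘ Spec (CommRingCat.of k)) σ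
  letI : X'.Over (Spec (CommRingCat.of K)) := ⟨pullback.snd _ _⟩
  let g : X' ⟶ X := pullback.fst _ _
  have hpb : IsPullback g (X' ↘ Spec (CommRingCat.of K)) (X ↘ Spec (CommRingCat.of k)) σ :=
    IsPullback.of_hasPullback _ _
  let P' : Scheme.{u} := pullback (CohB1.ProjSpace.toSpec n k) σ
  letI : P'.Over (Spec (CommRingCat.of K)) := ⟨pullback.snd _ _⟩
  let pr : P' ⟶ CohB1.ProjSpace n k := pullback.fst _ _
  let r' : X' ⟶ P' := pullback.lift (g ≫ r) (X' ↘ Spec (CommRingCat.of K))
    (by rw [Category.assoc, hr]; exact hpb.w)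
  have hr'1 : r' ≫ pr = g ≫ r := pullback.lift_fst _ _ _
  have hr' : r' ≫ (P' ↘ Spec (CommRingCat.of K)) = X' ↘ Spec (CommRingCat.of K) :=
    pullback.lift_snd _ _ _
  have hsq : IsPullback g r' r pr := by
    refine IsPullback.of_bot ?_ hr'1.symm (IsPullback.of_hasPullback (CohB1.ProjSpace.toSpec n k) σ)
    rw [hr, show r' ≫ pullback.snd (CohB1.ProjSpace.toSpec n k) σ = _ from hr']
    exact hpb
  -- the hypotheses upstairs
  haveI := BaseChange.isProper hpb
  haveI : IsIntegral X' := BaseChange.isIntegral hpb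
  have hdim' : topologicalKrullDim X' = 1 := (BaseChange.topologicalKrullDim_eq hpb).trans hdim
  haveI := ProjSpace.Basic.isProper_toSpec n k
  haveI : LocallyOfFiniteType (P' ↘ Spec (CommRingCat.of K)) :=
    inferInstanceAs (LocallyOfFiniteType (pullback.snd (CohB1.ProjSpace.toSpec n k) σ))
  haveI : IsSeparated (P' ↘ Spec (CommRingCat.of K)) :=
    inferInstanceAs (IsSeparated (pullback.snd (CohB1.ProjSpace.toSpec n k) σ))
  haveI : IsAffineHom σ := isAffineHom_of_isAffine _
  haveI : IsAffineHom pr := MorphismProperty.of_isPullback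
    (IsPullback.of_hasPullback (CohB1.ProjSpace.toSpec n k) σ).flip ‹IsAffineHom σ›
  let L' := (Scheme.Modules.pullback g).obj L
  let w : Fin (n + 1) → Γ(L', ⊤) := fun j => ProjUP.pullSec g L (s j)
  have hch : SepCriterion.HasCharts r' L' w := by
    intro x'
    obtain ⟨D, i, a, hD, hxD, he, ha⟩ := exists_charts s r τ hτ (g x')
    have hO : r' ⁻¹ᵁ (pr ⁻¹ᵁ D) = g ⁻¹ᵁ (r ⁻¹ᵁ D) :=
      congrArg (fun φ : X' ⟶ CohB1.ProjSpace n k => φ ⁻¹ᵁ D) hr'1
    refine ⟨pr ⁻¹ᵁ D, i, fun j => pr.app D (a j), hD.preimage pr, ?_, ?_, fun j => ?_⟩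
    · show pr (r' x') ∈ D
      rw [← Scheme.Hom.comp_apply, hr'1]
      exact hxD
    · have h : IsGen L' (g ⁻¹ᵁ (r ⁻¹ᵁ D)) (rs L' le_top (w i)) := by
        have h0 := isGen_unitSec g he
        rwa [show unitSec g L (rs L (le_top : r ⁻¹ᵁ D ≤ ⊤) (s i)) =
          rs L' le_top (w i) from (gl_pullSec g (s i) _).symm] at h0
      have h' := h.res hO.le
      rwa [rs_rs] at h'
    · have h0 : rs L' (le_top : g ⁻¹ᵁ (r ⁻¹ᵁ D) ≤ ⊤) (w j) =
          g.app (r ⁻¹ᵁ D) (r.app D (a j)) • rs L' le_top (w i) := by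
        have h1 := congrArg (unitSec g L) (ha j)
        rw [Ample.GenLocus.unitSec_smul] at h1
        exact (gl_pullSec g (s j) _).trans (h1.trans
          (congrArg (g.app (r ⁻¹ᵁ D) (r.app D (a j)) • ·) (gl_pullSec g (s i) _).symm))
      have h1 := congrArg (rs L' hO.le) h0
      rw [rs_smul, rs_rs, rs_rs] at h1
      refine h1.trans (congrArg (· • rs L' (le_top : r' ⁻¹ᵁ (pr ⁻¹ᵁ D) ≤ ⊤) (w i)) ?_)
      have e1 : g.app (r ⁻¹ᵁ D) (r.app D (a j)) = (g ≫ r).app D (a j) := rfl
      have key : ∀ (φ : X' ⟶ CohB1.ProjSpace n k) (_ : φ = g ≫ r)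
          (hle : r' ⁻¹ᵁ (pr ⁻¹ᵁ D) ≤ φ ⁻¹ᵁ D),
          φ.appLE D _ hle (a j) = X'.presheaf.map (homOfLE hO.le).op ((g ≫ r).app D (a j)) := by
        rintro φ rfl hle
        rfl
      rw [e1]
      refine (key (r' ≫ pr) hr'1 le_rfl).symm.trans ?_
      exact congrArg (fun φ => φ (a j)) (Scheme.Hom.appLE_eq_app (r' ≫ pr))
  have hspan' := BaseChange.span_pullSec_of_span hpb L s hspan
  have h2' : 2 ≤ Euler.hdim K X' L' 0 := by
    rw [BaseChange.hdim_eq hpb hL, hn]
    omega
  have hci : IsClosedImmersion r' := SepCriterion.isClosedImmersion r' hr' hdim'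
    (PicLoc.isInvertible_pullback g hL) w hspan' h2' hch (hsep X' g hpb)
  -- descend
  have hσ : (@Surjective ⊓ @Flat ⊓ @QuasiCompact : MorphismProperty Scheme.{u}) pr := by
    haveI : Flat σ := FibreDeg.Basic.flat_of_field _
    haveI : Surjective σ := ⟨fun x => ⟨default, Subsingleton.elim _ _⟩⟩
    exact ⟨⟨inferInstanceAs (Surjective (pullback.fst (CohB1.ProjSpace.toSpec n k) σ)),
      inferInstanceAs (Flat (pullback.fst (CohB1.ProjSpace.toSpec n k) σ))⟩, inferInstance⟩
  exact MorphismProperty.of_isPullback_of_descendsAlong (P := @IsClosedImmersion)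
    (Q := (@Surjective ⊓ @Flat ⊓ @QuasiCompact : MorphismProperty Scheme.{u})) hsq.flip hσ hci

/-- **The criterion**, checked after an algebraically closed extension. -/
theorem exists_closedImmersion (K : Type u) [Field K] [Algebra k K] [IsAlgClosed K]
    (hdim : topologicalKrullDim X = 1) {L : X.Modules} (hL : PicF.IsInvertible L)
    (hgg : Curv2.IsGloballyGenerated L) {n : ℕ} (h2 : 1 ≤ n)
    (hn : Euler.hdim k X L 0 = n + 1)
    (hsep : ∀ (X' : Scheme.{u}) [X'.Over (Spec (CommRingCat.of K))] [IsIntegral X']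
      (g : X' ⟶ X), IsPullback g (X' ↘ Spec (CommRingCat.of K)) (X ↘ Spec (CommRingCat.of k))
        (Spec.map (CommRingCat.ofHom (algebraMap k K))) →
      SepCriterion.Separates K ((Scheme.Modules.pullback g).obj L)) :
    ∃ i : X ⟶ CohB1.ProjSpace n k, IsClosedImmersion i ∧
      i ≫ CohB1.ProjSpace.toSpec n k = X ↘ Spec (CommRingCat.of k) ∧
      Nonempty ((Scheme.Modules.pullback i).obj (Twist.twistProjSpace n k 1) ≅ L) := by
  haveI : IsIntegral X := GeometricallyIntegral.geometrically_isIntegral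
    (f := X ↘ Spec (CommRingCat.of k)) (𝟙 _) (𝟙 X) (X ↘ Spec (CommRingCat.of k))
    (IsPullback.of_id_fst)
  haveI := GlobalSections.isNoetherian_of_proper k X
  haveI := QCohInv.isQCoh_of_isInvertible hL
  letI := GlobalSections.secModule k L
  haveI : Module.Finite k (L.val.obj (op ⊤) : Type u) := by
    haveI := (Degree.isGood (k := k) hdim.le hL).fin₀
    exact Module.Finite.equiv (GlobalSections.h0Linear k L)
  have hfr : Module.finrank k (L.val.obj (op ⊤) : Type u) = n + 1 :=
    (GlobalSections.h0Linear k L).finrank_eq.symm.trans hn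
  let b := Module.finBasisOfFinrankEq k (L.val.obj (op ⊤) : Type u) hfr
  let s : Fin (n + 1) → Γ(L, ⊤) := fun i => b i
  have hspan : Submodule.span k (Set.range fun j =>
      (show (L.val.obj (op ⊤) : Type u) from s j)) = ⊤ := b.span_eq
  obtain ⟨r, hci, hr, τ, -⟩ := exists_closedImmersion_of_span K hdim hL hgg h2 hn hsep s hspan
  exact ⟨r, hci, hr, ⟨τ⟩⟩

/-- Degree `2 g + 1` is very ample. -/
theorem exists_closedImmersion_of_deg (hdim : topologicalKrullDim X = 1)
    (h0 : Module.finrank k (Coh.HH X (Coh.structureModule X) 0) = 1) {L : X.Modules}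
    (hL : PicF.IsInvertible L) (hgg : Curv2.IsGloballyGenerated L)
    (hd : 2 * (Curv2.genus k X : ℤ) + 1 ≤ Curv2.deg k X L 1) :
    ∃ (n : ℕ) (i : X ⟶ CohB1.ProjSpace n k), (n : ℤ) = Curv2.deg k X L 1 - Curv2.genus k X ∧
      IsClosedImmersion i ∧ i ≫ CohB1.ProjSpace.toSpec n k = X ↘ Spec (CommRingCat.of k) ∧
      Nonempty ((Scheme.Modules.pullback i).obj (Twist.twistProjSpace n k 1) ≅ L) := by
  haveI : IsIntegral X := GeometricallyIntegral.geometrically_isIntegral
    (f := X ↘ Spec (CommRingCat.of k)) (𝟙 _) (𝟙 X) (X ↘ Spec (CommRingCat.of k))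
    (IsPullback.of_id_fst)
  have hL0 := Clifford.hdim_zero_eq_of_deg k hdim.le h0 hL (by omega)
  obtain ⟨n, hn⟩ : ∃ n : ℕ, Euler.hdim k X L 0 = n + 1 :=
    ⟨Euler.hdim k X L 0 - 1, by omega⟩
  obtain ⟨i, hi⟩ := exists_closedImmersion (AlgebraicClosure k) hdim hL hgg (n := n) (by omega) hn
    fun X' _ _ g hpb => by
      haveI := BaseChange.isProper hpb
      have hdim' : topologicalKrullDim X' = 1 := (BaseChange.topologicalKrullDim_eq hpb).trans hdim
      refine SepCriterion.separates_of_deg hdim'.le ?_ (PicLoc.isInvertible_pullback g hL) ?_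
      · exact (BaseChange.hdim_structureModule hpb 0).trans h0
      · rw [BaseChange.genus_eq hpb, BaseChange.deg_eq hpb hdim.le hdim'.le hL]
        exact hd
  exact ⟨n, i, by omega, hi⟩

end Groth.Agent.Lib.Curves.VeryAmple
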