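import Groth.Agent.Lib.Curves.NormalGen
import Groth.Agent.Lib.Curves.SectionSurj
import Groth.Agent.Lib.Curves.VeryAmple
import Groth.Agent.Lib.Curves.Positivity
import Groth.Agent.Lib.Curves.Degree

/-!
# Embeddings by globally generated modules without `H¹` on schemes of dimension at most one
-/

set_option autoImplicit false
set_option linter.style.haveILetI false
noncomputable section

universe u

open CategoryTheory CategoryTheory.Limits AlgebraicGeometry TopologicalSpace Opposite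

namespace Groth.Agent.Lib.Curves.GGEmbed

open TensorMod TensorMod.Basic TensorMod.Free TensorMod.Dual TensorMod.Gen Ample.GenLocus Ample.Extend
  ProjMor.Sec

variable {k : Type u} [Field k] {X : Scheme.{u}} [X.Over (Spec (CommRingCat.of k))]
  [IsProper (X ↘ Spec (CommRingCat.of k))] (hdim : topologicalKrullDim X ≤ 1) {L : X.Modules}
  (hL : PicF.IsInvertible L)

include k hdim in
theorem vanish₂ (K : X.Modules) : Subsingleton (Coh.HH X K 2) := by
  haveI := GlobalSections.noetherianSpace_of_proper k X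
  exact Positivity.subsingleton_HH_of_two_le hdim K 2 le_rfl

include hdim hL in
/-- Finitely many spanning sections, generating `L` if it is globally generated. -/
theorem exists_sections : ∃ (N : ℕ) (t : Fin (N + 1) → Γ(L, ⊤)),
    (∀ s : Γ(L, ⊤), ∃ r : Fin (N + 1) → k,
      s = ∑ j, (show Γ(X, ⊤) from Coh.toGlobal (X ↘ Spec (CommRingCat.of k)) (r j)) • t j) ∧
    (Curv2.IsGloballyGenerated L → ∀ x, ∃ i, x ∈ locus (t i)) := by
  letI := GlobalSections.secModule k L
  haveI := GlobalSections.isNoetherian_of_proper k X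
  haveI : Module.Finite k (L.val.obj (op ⊤) : Type u) := by
    haveI := (Degree.isGood (k := k) hdim hL).fin₀
    exact Module.Finite.equiv (GlobalSections.h0Linear k L)
  obtain ⟨N, v, hv⟩ := Module.Finite.exists_fin (R := k) (M := (L.val.obj (op ⊤) : Type u))
  let t : Fin (N + 1) → Γ(L, ⊤) := Fin.cons 0 fun i => v i
  have hspan : Submodule.span k (Set.range fun j => (show (L.val.obj (op ⊤) : Type u) from t j)) = ⊤ := by
    rw [eq_top_iff, ← hv]
    refine Submodule.span_mono ?_
    rintro _ ⟨i, rfl⟩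
    exact ⟨i.succ, by simp [t]⟩
  refine ⟨N, t, fun s => ?_, fun hgg => exists_mem_locus hL (VeryAmple.generatedBy_of_span hgg t hspan)⟩
  obtain ⟨r, hr⟩ := (Submodule.mem_span_range_iff_exists_fun k).mp
    (hspan ▸ Submodule.mem_top : (show (L.val.obj (op ⊤) : Type u) from s) ∈ _)
  exact ⟨r, hr.symm⟩

include k hdim in
/-- `H¹` of the next power vanishes. -/
theorem subsingleton_succ {N : ℕ} {t : Fin N → Γ(L, ⊤)} (hcov : ∀ x, ∃ i, x ∈ locus (t i)) (n : ℕ)
    (h : Subsingleton (Coh.HH X (CohB1.tensorPow L n) 1)) :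
    Subsingleton (Coh.HH X (CohB1.tensorPow L (n + 1)) 1) :=
  SectionSurj.subsingleton_tensor k _ hcov (vanish₂ (k := k) hdim) h

include k hdim in
/-- Powers are generated by products when `H¹` of two steps down vanishes. -/
theorem closure_eq_top {N : ℕ} {t : Fin N → Γ(L, ⊤)} (hcov : ∀ x, ∃ i, x ∈ locus (t i)) (n : ℕ)
    (h : Subsingleton (Coh.HH X (CohB1.tensorPow L n) 1)) :
    AddSubgroup.closure {z : Γ(CohB1.tensorPow L (n + 1 + 1), ⊤) |
      ∃ (w : Γ(CohB1.tensorPow L (n + 1), ⊤)) (s : Γ(L, ⊤)),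
        z = SecTwist.tmul (CohB1.tensorPow L (n + 1)) L ⊤ w s} = ⊤ := by
  rw [eq_top_iff]
  rintro z -
  obtain ⟨w, hw⟩ := SectionSurj.sections_eq_sum k _ hcov (vanish₂ (k := k) hdim) h z
  refine (congrArg (· ∈ AddSubgroup.closure _) hw).mpr ?_
  exact AddSubgroup.sum_mem _ fun j _ => AddSubgroup.subset_closure ⟨w j, t j, rfl⟩

include k hdim in
theorem subsingleton_pow {N : ℕ} {t : Fin N → Γ(L, ⊤)} (hcov : ∀ x, ∃ i, x ∈ locus (t i)) {m : ℕ}
    (h : Subsingleton (Coh.HH X (CohB1.tensorPow L m) 1)) (n : ℕ) (hn : m ≤ n) :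
    Subsingleton (Coh.HH X (CohB1.tensorPow L n) 1) := by
  induction n, hn using Nat.le_induction with
  | base => exact h
  | succ n _ ih => exact subsingleton_succ (k := k) hdim hcov n ih

include hdim in
/-- Ample, globally generated and `H¹(O) = 0`: very ample. -/
theorem exists_closedImmersion (hA : CohB1.IsAmple L) (hgg : Curv2.IsGloballyGenerated L)
    (h1 : Subsingleton (Coh.HH X (Coh.structureModule X) 1)) :
    ∃ (n : ℕ) (i : X ⟶ CohB1.ProjSpace n k), IsClosedImmersion i ∧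
      i ≫ CohB1.ProjSpace.toSpec n k = X ↘ Spec (CommRingCat.of k) ∧
      Nonempty ((Scheme.Modules.pullback i).obj (Twist.twistProjSpace n k 1) ≅ L) := by
  obtain ⟨N, t, hspan, hcov⟩ := exists_sections (k := k) hdim (Ample.Pow.isAmple_iff.1 hA).1
  refine ⟨N, NormalGen.exists_closedImmersion _ hA t (hcov hgg) hspan fun n hn => ?_⟩
  obtain ⟨m, rfl⟩ : ∃ m, n = m + 1 := ⟨n - 1, by omega⟩
  exact closure_eq_top (k := k) hdim (hcov hgg) m
    (subsingleton_pow (k := k) hdim (hcov hgg) (m := 0) h1 m m.zero_le)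

include hdim in
/-- Ample, globally generated and `H¹(L) = 0`: the square is very ample. -/
theorem exists_closedImmersion_sq (hA : CohB1.IsAmple L) (hgg : Curv2.IsGloballyGenerated L)
    (h1 : Subsingleton (Coh.HH X L 1)) :
    ∃ (n : ℕ) (i : X ⟶ CohB1.ProjSpace n k), IsClosedImmersion i ∧
      i ≫ CohB1.ProjSpace.toSpec n k = X ↘ Spec (CommRingCat.of k) ∧
      Nonempty ((Scheme.Modules.pullback i).obj (Twist.twistProjSpace n k 1) ≅ CohB1.tensorPow L 2) := by
  obtain ⟨hL, hc, -⟩ := Ample.Pow.isAmple_iff.1 hA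
  haveI := hc
  haveI := Ample.Pullback.quasiSeparatedSpace_of_isAmple hA
  set q := X ↘ Spec (CommRingCat.of k)
  obtain ⟨Ns, s, -, hcovs⟩ := exists_sections (k := k) hdim hL
  have hM : PicF.IsInvertible (CohB1.tensorPow L 2) := Invertible.isInvertible_tensorPow hL 2
  obtain ⟨Nt, t0, hspan, -⟩ := exists_sections (k := k) hdim hM
  have hA2 : CohB1.IsAmple (CohB1.tensorPow L 2) := (Ample.Pow.isAmple_tensorPow_iff hL two_pos).1 hA
  have h11 : Subsingleton (Coh.HH X (CohB1.tensorPow L 1) 1) :=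
    (LES.isoK k (leftUnit L) 1).toEquiv.subsingleton_congr.mpr h1
  -- sections of the square: a spanning family and the squares
  let t : Fin ((Nt + 1 + Ns) + 1) → Γ(CohB1.tensorPow L 2, ⊤) :=
    (Fin.append t0 (fun i : Fin (Ns + 1) => powSec (s i) 2) :
      Fin (Nt + 1 + (Ns + 1)) → Γ(CohB1.tensorPow L 2, ⊤))
  let J : Fin (Ns + 1) → Fin ((Nt + 1 + Ns) + 1) := fun i => Fin.natAdd (Nt + 1) i
  have hJ : ∀ i, t (J i) = powSec (s i) 2 := fun i => Fin.append_right t0 (fun i : Fin (Ns + 1) => powSec (s i) 2) i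
  have hloc : ∀ i, locus (t (J i)) = locus (s i) := fun i => by
    rw [hJ]
    refine le_antisymm ?_ (le_locus ?_)
    · exact (ProjMor.VeryAmple.locus_tmul (Invertible.isInvertible_tensorPow hL 1) hL (powSec (s i) 1)
        (s i)).trans_le inf_le_right
    · rw [gl, rs_powSec]
      exact isGen_powSec (isGen_locus (s i)) 2
  refine ⟨Nt + 1 + Ns, NormalGen.exists_closedImmersion_of_mem q hA2 t (Set.range J) (fun x => ?_) ?_⟩
  · obtain ⟨i, hi⟩ := hcovs hgg x
    exact ⟨_, ⟨i, rfl⟩, (hloc i).ge hi⟩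
  rintro _ ⟨i, rfl⟩
  have key : ∀ U : X.Opens, U = locus (s i) → ∀ w : Γ(X, U),
      w ∈ Subring.closure (Set.range (q.appLE ⊤ U le_top).hom ∪
        {a : Γ(X, U) | ∃ j, gl (t j) U = a • gl (t (J i)) U}) := by
    rintro U rfl w
    let U := locus (s i)
    let e : Γ(L, U) := gl (s i) U
    have he : IsGen L U e := isGen_locus (s i)
    have hti : gl (t (J i)) U = powSec e 2 := by rw [hJ, gl, rs_powSec]
    let C := Subring.closure (Set.range (q.appLE ⊤ U le_top).hom ∪
      {a : Γ(X, U) | ∃ j, gl (t j) U = a • gl (t (J i)) U})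
    have hspan' : ∀ z : Γ(CohB1.tensorPow L 2, ⊤), ∃ r : Fin ((Nt + 1 + Ns) + 1) → k,
        z = ∑ j, (show Γ(X, ⊤) from Coh.toGlobal q (r j)) • t j := fun z => by
      obtain ⟨r, hr⟩ := hspan z
      refine ⟨(Fin.append r 0 : Fin (Nt + 1 + (Ns + 1)) → k), hr.trans ?_⟩
      show (∑ j, (show Γ(X, ⊤) from Coh.toGlobal q (r j)) • t0 j) = ∑ j : Fin (Nt + 1 + (Ns + 1)), (show Γ(X, ⊤) from Coh.toGlobal q (Fin.append r 0 j)) •
        Fin.append t0 (fun i : Fin (Ns + 1) => powSec (s i) 2) j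
      rw [Fin.sum_univ_add (a := Nt + 1) (b := Ns + 1)]
      simp only [Fin.append_left, Fin.append_right, Pi.zero_apply, map_zero]
      exact (add_zero _).symm.trans (congrArg (_ + ·) (Finset.sum_eq_zero fun j _ => zero_smul Γ(X, ⊤) _).symm)
    have h2 : ∀ z : Γ(CohB1.tensorPow L 2, ⊤), ∃ a ∈ C, gl z U = a • powSec e 2 :=
      NormalGen.coord_combination q t (isGen_powSec he 2) C (fun a ha => Subring.subset_closure (Or.inl ha))
        (fun j a h => Subring.subset_closure (Or.inr ⟨j, h.trans (by rw [hti])⟩)) hspan'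
    have hs1 : ∀ z : Γ(L, ⊤), ∃ a ∈ C, gl z U = a • e := fun z => by
      obtain ⟨a, ha⟩ := exists_coord he (gl z U)
      obtain ⟨b, hb, hz⟩ := h2 (SecTwist.tmul (CohB1.tensorPow L 1) L ⊤ (powSec (s i) 1) z)
      have h3 : gl (SecTwist.tmul (CohB1.tensorPow L 1) L ⊤ (powSec (s i) 1) z :
          Γ(CohB1.tensorPow L 2, ⊤)) U = a • powSec e 2 := by
        refine (rs_tmul (le_top : U ≤ ⊤) _ _).trans ?_
        rw [rs_powSec, show rs L (le_top : U ≤ ⊤) z = a • e from ha]
        have := tmul_smul (1 : Γ(X, U)) a (powSec e 1) e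
        rw [one_smul, one_mul] at this
        exact this
      have hab : a = b := (isGen_powSec he 2 U le_rfl).1 (by
        simpa only [rs_self] using h3.symm.trans hz)
      exact ⟨a, hab ▸ hb, ha⟩
    refine NormalGen.mem_of_coord hL (s i) C 2 (NormalGen.coord_mem _ _ hs1 h2 fun n hn => ?_) w
    obtain ⟨m, rfl⟩ : ∃ m, n = m + 1 := ⟨n - 1, by omega⟩
    exact closure_eq_top (k := k) hdim (hcovs hgg) m
      (subsingleton_pow (k := k) hdim (hcovs hgg) h11 m (by omega))
  exact key _ (hloc i)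

end Groth.Agent.Lib.Curves.GGEmbed
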