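import Groth.Agent.Lib.Curves.RelH2
import Groth.Agent.Lib.Curves.GGEmbed

/-!
# Normal generation over an affine Noetherian base with fibres of dimension at most one
-/

set_option autoImplicit false
set_option linter.style.haveILetI false
noncomputable section

universe u

open CategoryTheory CategoryTheory.Limits AlgebraicGeometry TopologicalSpace Opposite
open scoped TensorProduct

namespace Groth.Agent.Lib.Curves.RelSurj

open TensorMod TensorMod.Basic TensorMod.Free TensorMod.Dual TensorMod.Gen TensorMod.Pullback ProjMor.Sec Modules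
open SectionSurj (total koszul epi_total koszul_total exact_koszul subsingleton_biproduct mulHom mulHom_app)

variable (A : Type u) [CommRing A] [IsNoetherianRing A] {X : Scheme.{u}}
  [X.Over (Spec (CommRingCat.of A))] [IsProper (X ↘ Spec (CommRingCat.of A))]

instance (priority := 100) hasFiniteBiproducts_modules : HasFiniteBiproducts X.Modules :=
  SectionSurj.hasFiniteBiproducts_modules

omit [IsNoetherianRing A] [X.Over (Spec (CommRingCat.of A))] [IsProper (X ↘ Spec (CommRingCat.of A))] in
theorem isCoh_biproduct [IsLocallyNoetherian X] {G : X.Modules} (hG : PicF.IsInvertible G) (r : ℕ) :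
    Coh.IsCoh (⨁ fun _ : Fin r => G) := by
  let T : X.Modules ⥤ X.Modules := (TensorMod.Basic.tensorFunctor X).obj G
  haveI : PreservesColimitsOfSize.{0, 0} T := preservesSmallestColimits_of_preservesColimits T
  haveI : PreservesColimitsOfShape (Discrete (Fin r)) T := inferInstance
  let e₁ : T.obj (FlatMod.freeMod X r) ≅ ∐ fun _ : Fin r => G :=
    PreservesCoproduct.iso T _ ≪≫ Sigma.mapIso fun _ => rightUnit G
  exact CohBasics.Closure.isCoh_of_iso (e₁ ≪≫ (biproduct.isoCoproduct fun _ : Fin r => G).symm)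
    (Snapper.Twist.isCoh_twist hG (Perfect.Coherent.isCoh_freeMod X r))

variable (h2 : ∀ M : X.Modules, Coh.IsCoh M → Subsingleton (Coh.HH X M 2))
  {L : X.Modules} (hL : PicF.IsInvertible L) {N : ℕ} (G : X.Modules) (hG' : PicF.IsInvertible G)
  {s : Fin N → Γ(L, ⊤)} (hcov : ∀ x, ∃ i, x ∈ locus (s i))

include A h2 hG' hL hcov in
theorem subsingleton_tensor (hG : Subsingleton (Coh.HH X G 1)) :
    Subsingleton (Coh.HH X (CohB1.tensorMod G L) 1) :=
  haveI := epi_total hcov G
  haveI : IsLocallyNoetherian X := LocallyOfFiniteType.isLocallyNoetherian (X ↘ Spec (CommRingCat.of A))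
  RelNef.h1_of_epi A h2 (isCoh_biproduct hG' N)
    (TensorMod.QCohInv.isQCoh_of_isInvertible (Invertible.isInvertible_tensorMod hG' hL)) (total s G)
    (subsingleton_biproduct A G N 1 hG)

include A h2 hG' hL hcov in
/-- Sections of `G ⊗ L ⊗ L` are sums of products. -/
theorem sections_eq_sum
    (hG : Subsingleton (Coh.HH X G 1)) (z : Γ(CohB1.tensorMod (CohB1.tensorMod G L) L, ⊤)) :
    ∃ w : Fin N → Γ(CohB1.tensorMod G L, ⊤),
      z = ∑ j, (SecTwist.tmul (CohB1.tensorMod G L) L ⊤ (w j) (s j) :
        Γ(CohB1.tensorMod (CohB1.tensorMod G L) L, ⊤)) := by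
  let F := CohB1.tensorMod G L
  haveI : IsLocallyNoetherian X := LocallyOfFiniteType.isLocallyNoetherian (X ↘ Spec (CommRingCat.of A))
  haveI hepi : Epi (total s F) := epi_total hcov F
  haveI := exact_koszul G hcov
  have hK : Subsingleton (Coh.HH X (kernel (total s F)) 1) :=
    RelNef.h1_of_epi A h2 (P := ⨁ fun _ : Fin (N * N) => G) (isCoh_biproduct hG' _)
      (CohBasics.Closure.isCoh_kernel (total s F) (isCoh_biproduct (Invertible.isInvertible_tensorMod hG' hL) _)
        (TensorMod.QCohInv.isQCoh_of_isInvertible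
          (Invertible.isInvertible_tensorMod (Invertible.isInvertible_tensorMod hG' hL) hL))).1
      (kernel.lift (total s F) (koszul G s) (koszul_total G hcov))
      (subsingleton_biproduct A G (N * N) 1 hG)
  let S := ShortComplex.mk (kernel.ι (total s F)) (total s F) (kernel.condition _)
  have hS : S.ShortExact := { exact := ShortComplex.exact_kernel _ }
  haveI : Subsingleton (Coh.HH X S.X₁ 1) := hK
  obtain ⟨y, hy⟩ := (LES.exactK₃ A hS 0 1 rfl ((GlobalSections.h0Equiv _).symm z)).mp (Subsingleton.elim _ _)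
  let y' : Γ(⨁ fun _ : Fin N => F, ⊤) := GlobalSections.h0Equiv _ y
  refine ⟨fun j => (biproduct.π (fun _ : Fin N => F) j).app ⊤ y', ?_⟩
  have h1 : z = (total s F).app ⊤ y' := by
    have h2 := congrArg (GlobalSections.h0Equiv _) hy
    have h3 := h2.trans ((GlobalSections.h0Equiv _).apply_symm_apply z)
    rw [← h3]
    exact (Sheaf.H.equiv₀_naturality (isTerminalTop (α := Opens X)) (LES.toAbMap (total s F)) y).symm
  let h0 : ((⨁ fun _ : Fin N => F) ⟶ CohB1.tensorMod F L) →+ Γ(CohB1.tensorMod F L, ⊤) :=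
    AddMonoidHom.mk' (fun φ => φ.app ⊤ y') fun f g => rfl
  rw [h1]
  change h0 (total s F) = _
  rw [total, biproduct.desc_eq, map_sum]
  refine Finset.sum_congr rfl fun j _ => ?_
  exact (mulHom_app F (s j) ⊤ _).trans (congrArg (SecTwist.tmul F L ⊤ _) (rs_self L _ (s j)))

omit hG' in
include A h2 hL hcov in
theorem closure_eq_top (h1 : Subsingleton (Coh.HH X (Coh.structureModule X) 1)) (m : ℕ) :
    AddSubgroup.closure {z : Γ(CohB1.tensorPow L (m + 1 + 1), ⊤) |
      ∃ (w : Γ(CohB1.tensorPow L (m + 1), ⊤)) (s : Γ(L, ⊤)),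
        z = SecTwist.tmul (CohB1.tensorPow L (m + 1)) L ⊤ w s} = ⊤ := by
  have hvan : ∀ n, Subsingleton (Coh.HH X (CohB1.tensorPow L n) 1) := fun n => by
    induction n with
    | zero => exact h1
    | succ n ih => exact subsingleton_tensor A h2 hL _ (Invertible.isInvertible_tensorPow hL n) hcov ih
  rw [eq_top_iff]
  rintro z -
  obtain ⟨w, hw⟩ := sections_eq_sum A h2 hL _ (Invertible.isInvertible_tensorPow hL m) hcov (hvan m) z
  refine (congrArg (· ∈ AddSubgroup.closure _) hw).mpr ?_
  exact AddSubgroup.sum_mem _ fun j _ => AddSubgroup.subset_closure ⟨w j, s j, rfl⟩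

omit hG' in
include A hL in
/-- Finitely many spanning sections, covering if `L` is globally generated. -/
theorem exists_sections (hgg : Curv2.IsGloballyGenerated L) : ∃ (N : ℕ) (t : Fin (N + 1) → Γ(L, ⊤)),
    (∀ z : Γ(L, ⊤), ∃ r : Fin (N + 1) → A,
      z = ∑ j, (show Γ(X, ⊤) from Coh.toGlobal (X ↘ Spec (CommRingCat.of A)) (r j)) • t j) ∧
    ∀ x, ∃ i, x ∈ locus (t i) := by
  haveI : IsLocallyNoetherian X := LocallyOfFiniteType.isLocallyNoetherian (X ↘ Spec (CommRingCat.of A))
  letI := GlobalSections.secModule A L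
  haveI : Module.Finite A (L.val.obj (op ⊤) : Type u) := by
    haveI := ProperFin.Assembly.qfin_of_isCoh (A := A) Snapper.Finite.facts L (Degree.isCoh_of_isInvertible hL) 0
    exact Module.Finite.equiv (GlobalSections.h0Linear A L)
  obtain ⟨N, v, hv⟩ := Module.Finite.exists_fin (R := A) (M := (L.val.obj (op ⊤) : Type u))
  let t : Fin (N + 1) → Γ(L, ⊤) := Fin.cons 0 fun i => v i
  have hspan : Submodule.span A (Set.range fun j => (show (L.val.obj (op ⊤) : Type u) from t j)) = ⊤ := by
    rw [eq_top_iff, ← hv]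
    refine Submodule.span_mono ?_
    rintro _ ⟨i, rfl⟩
    exact ⟨i.succ, by simp [t]⟩
  refine ⟨N, t, fun z => ?_, exists_mem_locus hL fun x => ?_⟩
  · obtain ⟨r, hr⟩ := (Submodule.mem_span_range_iff_exists_fun A).mp
      (hspan ▸ Submodule.mem_top : (show (L.val.obj (op ⊤) : Type u) from z) ∈ _)
    exact ⟨r, hr.symm⟩
  rw [eq_top_iff, ← H34.GlobGen.gl_eq_top_of_gg hgg x]
  refine Submodule.span_le.mpr ?_
  suffices key : ∀ m ∈ Submodule.span A (Set.range fun j => (show (L.val.obj (op ⊤) : Type u) from t j)),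
      L.presheaf.germ ⊤ x trivial (show Γ(L, ⊤) from m) ∈ Submodule.span (X.presheaf.stalk x)
        (Set.range fun i => (L.presheaf.germ ⊤ x trivial).hom (t i)) by
    rintro _ ⟨m, rfl⟩
    exact key m (hspan ▸ Submodule.mem_top)
  intro m hm
  induction hm using Submodule.span_induction with
  | mem v hv =>
    obtain ⟨j, rfl⟩ := hv
    exact Submodule.subset_span ⟨j, rfl⟩
  | zero => exact Set.mem_of_eq_of_mem (map_zero (L.presheaf.germ ⊤ x trivial).hom) (zero_mem _)
  | add a b _ _ ha hb =>
    exact Set.mem_of_eq_of_mem (map_add (L.presheaf.germ ⊤ x trivial).hom a b) (add_mem ha hb)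
  | smul c a _ ha =>
    exact Set.mem_of_eq_of_mem
      (Modules.StalkModule.germ_smul (U := ⊤) trivial
        (Coh.toGlobal (X ↘ Spec (CommRingCat.of A)) c) (show Γ(L, ⊤) from a))
      (Submodule.smul_mem _ _ ha)

end Groth.Agent.Lib.Curves.RelSurj
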