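import Groth.Agent.Lib.Curves.IdealEval
import Groth.Agent.Lib.CurveMaps.Basic
import Groth.Agent.Lib.Ideal.Comap
import Groth.Agent.H34.DimOne
import Mathlib.RingTheory.Finiteness.Nakayama
import Mathlib.RingTheory.Jacobson.Ring

/-!
# A closed immersion criterion for maps of curves given by sections

Over an algebraically closed field, let `r : X ⟶ Y` be given on charts by the ratios of spanning
sections of `L`.  If no finite subscheme of length `≥ 2` imposes at most one condition on `H⁰(L)`,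
then `r` is a closed immersion.
-/

set_option autoImplicit false
set_option linter.style.haveILetI false
universe u

open CategoryTheory CategoryTheory.Limits AlgebraicGeometry Opposite TopologicalSpace
open Groth.Agent.Lib.Curves.LES Groth.Agent.Lib.Curves.Euler Groth.Agent.Lib.TensorMod
  Groth.Agent.Lib.TensorMod.Basic Groth.Agent.Lib.TensorMod.Dual Groth.Agent.Lib.TensorMod.Gen
  Groth.Agent.Lib.TensorMod.HomGlue Groth.Agent.Lib.Modules

noncomputable section

namespace Groth.Agent.Lib.Curves.SepCriterion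

variable {k : Type u} [Field k]

/-- The constants on an open. -/
def scl (Y : Scheme.{u}) [Y.Over (Spec (CommRingCat.of k))] (D : Y.Opens) : k →+* Γ(Y, D) :=
  (Y.presheaf.map (homOfLE (le_top : D ≤ ⊤)).op).hom.comp
    (Coh.toGlobal (Y ↘ Spec (CommRingCat.of k)))

lemma scl_finiteType {Y : Scheme.{u}} [Y.Over (Spec (CommRingCat.of k))]
    [LocallyOfFiniteType (Y ↘ Spec (CommRingCat.of k))] {D : Y.Opens} (hD : IsAffineOpen D) :
    (scl (k := k) Y D).FiniteType := by
  have h := (Y ↘ Spec (CommRingCat.of k)).finiteType_appLE (isAffineOpen_top _) hD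
    (le_top.trans_eq (Scheme.Hom.preimage_top _).symm)
  have e : scl (k := k) Y D = ((Y ↘ Spec (CommRingCat.of k)).appLE ⊤ D
      (le_top.trans_eq (Scheme.Hom.preimage_top _).symm)).hom.comp
      (Scheme.ΓSpecIso (CommRingCat.of k)).inv.hom := rfl
  rw [e]
  exact h.comp (RingHom.FiniteType.of_surjective _
    (ConcreteCategory.bijective_of_isIso (Scheme.ΓSpecIso (CommRingCat.of k)).inv).2)

/-- The value of a function at a closed point. -/
theorem exists_scalar [IsAlgClosed k] {Y : Scheme.{u}} [Y.Over (Spec (CommRingCat.of k))]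
    [LocallyOfFiniteType (Y ↘ Spec (CommRingCat.of k))] {D : Y.Opens} (hD : IsAffineOpen D) {y : Y}
    (hy : IsClosed ({y} : Set Y)) (hyD : y ∈ D) (a : Γ(Y, D)) :
    ∃ c : k, a - scl (k := k) Y D c ∈ (hD.primeIdealOf ⟨y, hyD⟩).asIdeal := by
  have hm := hD.primeIdealOf_isMaximal_of_isClosed ⟨y, hyD⟩ hy
  set m := (hD.primeIdealOf ⟨y, hyD⟩).asIdeal
  let _ : Algebra k Γ(Y, D) := (scl (k := k) Y D).toAlgebra
  have : Algebra.FiniteType k Γ(Y, D) := scl_finiteType hD
  let _ : Field (Γ(Y, D) ⧸ m) := Ideal.Quotient.field m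
  have : Module.Finite k (Γ(Y, D) ⧸ m) := finite_of_finite_type_of_isJacobsonRing k (Γ(Y, D) ⧸ m)
  obtain ⟨c, hc⟩ := (IsAlgClosed.algebraMap_bijective_of_isIntegral (k := k)
    (K := Γ(Y, D) ⧸ m)).2 (Ideal.Quotient.mk m a)
  exact ⟨c, Ideal.Quotient.eq.mp hc.symm⟩

lemma mem_ptI_ideal {Y : Scheme.{u}} {D : Y.Opens} (hD : IsAffineOpen D) {y : Y}
    (hy : IsClosed ({y} : Set Y)) (hyD : y ∈ D) {a : Γ(Y, D)}
    (ha : a ∈ (hD.primeIdealOf ⟨y, hyD⟩).asIdeal) :
    a ∈ (PointIdeal.ptI hy).ideal ⟨D, hD⟩ := by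
  rw [Scheme.IdealSheafData.vanishingIdeal_ideal, PrimeSpectrum.mem_vanishingIdeal]
  intro p hp
  obtain rfl : p = hD.primeIdealOf ⟨y, hyD⟩ :=
    hD.fromSpec.isOpenEmbedding.injective (hp.trans (hD.fromSpec_primeIdealOf ⟨y, hyD⟩).symm)
  exact ha

variable {X Y : Scheme.{u}} [X.Over (Spec (CommRingCat.of k))] [Y.Over (Spec (CommRingCat.of k))]
  (r : X ⟶ Y) (hr : r ≫ (Y ↘ Spec (CommRingCat.of k)) = X ↘ Spec (CommRingCat.of k))

include hr in
lemma app_scl (D : Y.Opens) (c : k) :
    r.app D (scl (k := k) Y D c) = scl (k := k) X (r ⁻¹ᵁ D) c := by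
  have h1 : r.app ⊤ (Coh.toGlobal (Y ↘ Spec (CommRingCat.of k)) c) =
      Coh.toGlobal (X ↘ Spec (CommRingCat.of k)) c := by
    rw [← hr]
    rfl
  have h2 := ConcreteCategory.congr_hom (r.naturality (homOfLE (le_top : D ≤ ⊤)).op)
    (Coh.toGlobal (Y ↘ Spec (CommRingCat.of k)) c)
  refine h2.trans ?_
  exact congrArg _ h1

/-- `r` reads `L` on charts through ratios of the sections `w`. -/
def HasCharts (L : X.Modules) {m : ℕ} (w : Fin m → Γ(L, ⊤)) : Prop :=
  ∀ x : X, ∃ (D : Y.Opens) (i₀ : Fin m) (a : Fin m → Γ(Y, D)), IsAffineOpen D ∧ r x ∈ D ∧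
    IsGen L (r ⁻¹ᵁ D) (rs L (le_top : r ⁻¹ᵁ D ≤ ⊤) (w i₀)) ∧
    ∀ j, rs L (le_top : r ⁻¹ᵁ D ≤ ⊤) (w j) = r.app D (a j) • rs L (le_top : r ⁻¹ᵁ D ≤ ⊤) (w i₀)

/-- Finite subschemes of length at least two impose at least two conditions on `H⁰(L)`. -/
def Separates (k : Type u) [Field k] {X : Scheme.{u}} [X.Over (Spec (CommRingCat.of k))]
    [IsIntegral X] (L : X.Modules) : Prop :=
  ∀ J : X.IdealSheafData, genericPoint X ∉ (J.support : Set X) →
    Euler.hdim k X L 0 ≤ Euler.hdim k X (CohB1.tensorMod (ClSub.idealMod J) L) 0 + 1 →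
    Euler.hdim k X (ClSub.quotMod J) 0 ≤ 1

lemma finrank_singleton_le {V : Type*} [AddCommGroup V] [Module k V] (v : V) :
    Module.finrank k (k ∙ v) ≤ 1 := by
  by_cases hv : v = 0
  · subst hv
    rw [Submodule.span_zero_singleton, finrank_bot]
    exact Nat.zero_le 1
  · exact (finrank_span_singleton hv).le

lemma mem_sup_singleton {V : Type*} [AddCommGroup V] [Module k V] (A : Submodule k V) (v e : V)
    (c : k) (h : v - c • e ∈ A) : v ∈ A ⊔ k ∙ e := by
  rw [← sub_add_cancel v (c • e)]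
  exact Submodule.add_mem_sup h (Submodule.smul_mem _ _ (Submodule.mem_span_singleton_self _))

variable [IsIntegral X] [IsProper (X ↘ Spec (CommRingCat.of k))]
  [LocallyOfFiniteType (Y ↘ Spec (CommRingCat.of k))]
  (hdim : topologicalKrullDim X = 1) {L : X.Modules} (hL : PicF.IsInvertible L) {m : ℕ}
  (w : Fin m → Γ(L, ⊤))
  (hspan : letI := GlobalSections.secModule k L
    Submodule.span k (Set.range fun j => (show (L.val.obj (op ⊤) : Type u) from w j)) = ⊤)
  (h2 : 2 ≤ Euler.hdim k X L 0)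

include hr hdim hL hspan h2

omit [LocallyOfFiniteType (Y ↘ Spec (CommRingCat.of k))] in
/-- All sections but one vanish on a fibre, which misses the generic point. -/
theorem fibre {y : Y} (hy : IsClosed ({y} : Set Y)) {D : Y.Opens} (hD : IsAffineOpen D) (hyD : y ∈ D)
    (hval : ∀ b : Γ(Y, D), ∃ c : k,
      b - scl (k := k) Y D c ∈ (hD.primeIdealOf ⟨y, hyD⟩).asIdeal)
    {i₀ : Fin m} {a : Fin m → Γ(Y, D)} (he : IsGen L (r ⁻¹ᵁ D) (rs L (le_top : r ⁻¹ᵁ D ≤ ⊤) (w i₀)))
    (ha : ∀ j, rs L (le_top : r ⁻¹ᵁ D ≤ ⊤) (w j) =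
      r.app D (a j) • rs L (le_top : r ⁻¹ᵁ D ≤ ⊤) (w i₀)) :
    genericPoint X ∉ (((PointIdeal.ptI hy).comap r).support : Set X) ∧
      Euler.hdim k X L 0 ≤ Euler.hdim k X
        (CohB1.tensorMod (ClSub.idealMod ((PointIdeal.ptI hy).comap r)) L) 0 + 1 := by
  classical
  letI := GlobalSections.secModule k L
  have hd1 : topologicalKrullDim X ≤ 1 := hdim.le
  set J := (PointIdeal.ptI hy).comap r with hJdef
  choose c hc using fun j => hval (a j)
  let t : Fin m → (L.val.obj (op ⊤) : Type u) := fun j =>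
    (show (L.val.obj (op ⊤) : Type u) from w j) - c j • (show (L.val.obj (op ⊤) : Type u) from w i₀)
  have ht : ∀ j, rs L le_top (t j : Γ(L, ⊤)) =
      r.app D (a j - scl (k := k) Y D (c j)) • rs L (le_top : r ⁻¹ᵁ D ≤ ⊤) (w i₀) := fun j => by
    have h1 : rs L (le_top : r ⁻¹ᵁ D ≤ ⊤)
        (c j • (show (L.val.obj (op ⊤) : Type u) from w i₀) : Γ(L, ⊤)) =
        scl (k := k) X (r ⁻¹ᵁ D) (c j) • rs L le_top (w i₀) :=
      Scheme.Modules.map_smul L _ _ _
    rw [show (t j : Γ(L, ⊤)) = (show Γ(L, ⊤) from w j) -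
      (show Γ(L, ⊤) from c j • (show (L.val.obj (op ⊤) : Type u) from w i₀)) from rfl]
    rw [show rs L (le_top : r ⁻¹ᵁ D ≤ ⊤) ((show Γ(L, ⊤) from w j) -
      (show Γ(L, ⊤) from c j • (show (L.val.obj (op ⊤) : Type u) from w i₀))) = _ from
      map_sub (L.presheaf.map _).hom _ _]
    rw [map_sub, sub_smul, app_scl r hr, ← h1, ← ha j]
  have hsupp : (J.support : Set X) = r ⁻¹' {y} := by
    rw [hJdef, Scheme.IdealSheafData.support_comap, TopologicalSpace.Closeds.coe_preimage,
      PointIdeal.support_ptI]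
  have hkill : ∀ j, (IdealEval.evI J L).app ⊤ (t j : Γ(L, ⊤)) = 0 := fun j =>
    IdealEval.app_eq_zero J hL _ fun z hz => by
      rw [hsupp] at hz
      have hzD : z ∈ r ⁻¹ᵁ D := show r z ∈ D by rw [show r z = y from hz]; exact hyD
      obtain ⟨V, hV, hzV, hVle⟩ := exists_isAffineOpen_mem_and_subset hzD
      have hle : V ≤ r ⁻¹ᵁ D := hVle
      refine ⟨⟨V, hV⟩, rs L le_top (w i₀), r.appLE D V hle (a j - scl (k := k) Y D (c j)),
        hzV, ?_, ?_, ?_⟩
      · have := he.res hle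
        rwa [rs_rs] at this
      · rw [hJdef, Ideal.Comap.ideal_comap r _ ⟨D, hD⟩ ⟨V, hV⟩ hle]
        exact Ideal.mem_map_of_mem _ (mem_ptI_ideal hD hy hyD (hc j))
      · have h := ((rs_rs L (le_top : r ⁻¹ᵁ D ≤ ⊤) hle _).symm.trans (congrArg (rs L hle) (ht j)))
        refine h.trans ((Scheme.Modules.map_smul L _ _ _).trans ?_)
        exact congrArg₂ (· • ·) rfl (rs_rs L _ _ _)
  have hη : genericPoint X ∉ (J.support : Set X) := by
    intro hmem
    have hall : ∀ x : X, r x = y := fun x => by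
      have : x ∈ (J.support : Set X) :=
        (genericPoint_specializes x).mem_closed J.support.isClosed hmem
      rw [hsupp] at this
      exact this
    have hzero : ∀ j, (t j : Γ(L, ⊤)) = 0 := fun j => by
      have ha0 : r.app D (a j - scl (k := k) Y D (c j)) = 0 := by
        rw [← basicOpen_eq_bot_iff, ← Scheme.preimage_basicOpen]
        refine le_bot_iff.mp fun x (hx : r x ∈ Y.basicOpen _) => ?_
        rw [hall x] at hx
        have hp : hD.primeIdealOf ⟨y, hyD⟩ ∈ hD.fromSpec ⁻¹ᵁ Y.basicOpen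
            (a j - scl (k := k) Y D (c j)) := by
          show hD.fromSpec (hD.primeIdealOf ⟨y, hyD⟩) ∈ Y.basicOpen _
          rw [hD.fromSpec_primeIdealOf]
          exact hx
        exact absurd (hc j) ((IsAffineOpen.fromSpec_preimage_basicOpen hD _).le hp)
      refine TensorMod.Integral.rs_injective hL (le_top : r ⁻¹ᵁ D ≤ ⊤)
        ⟨⟨genericPoint X, by show r _ ∈ D; rw [hall]; exact hyD⟩⟩ ?_
      rw [ht j, ha0, zero_smul]
    have hle1 : (⊤ : Submodule k (L.val.obj (op ⊤) : Type u)) ≤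
        Submodule.span k {(show (L.val.obj (op ⊤) : Type u) from w i₀)} := by
      rw [← hspan, Submodule.span_le]
      rintro _ ⟨j, rfl⟩
      exact Submodule.mem_span_singleton.mpr ⟨c j, (sub_eq_zero.mp (hzero j)).symm⟩
    have := Submodule.finrank_mono hle1
    rw [finrank_top, ← (GlobalSections.h0Linear k L).finrank_eq] at this
    have h1 := this.trans (finrank_singleton_le _)
    simp only [Euler.hdim] at h2
    omega
  refine ⟨hη, ?_⟩
  have hle := IdealEval.finrank_le_hdim (k := k) J hd1 hL (Submodule.span k (Set.range t))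
    fun s hs => by
      induction hs using Submodule.span_induction with
      | mem s hs => obtain ⟨j, rfl⟩ := hs; exact hkill j
      | zero => exact map_zero _
      | add x y _ _ hx hy => exact (map_add _ _ _).trans (by rw [hx, hy, add_zero])
      | smul c x _ hx =>
        refine ((IdealEval.evI J L).app_smul _ _).trans ?_
        rw [hx]
        exact smul_zero (M := Γ(X, ⊤)) _
  have htop : (⊤ : Submodule k (L.val.obj (op ⊤) : Type u)) ≤ Submodule.span k (Set.range t) ⊔
      Submodule.span k {(show (L.val.obj (op ⊤) : Type u) from w i₀)} := by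
    rw [← hspan, Submodule.span_le]
    rintro _ ⟨j, rfl⟩
    exact mem_sup_singleton (Submodule.span k (Set.range t)) _ _ (c j)
      (Submodule.subset_span ⟨j, rfl⟩)
  have : Module.Finite k (L.val.obj (op ⊤) : Type u) := by
    haveI := (Degree.isGood (k := k) hd1 hL).fin₀
    exact Module.Finite.equiv (GlobalSections.h0Linear k L)
  have h3 := (Submodule.finrank_mono htop).trans (Submodule.finrank_add_le_finrank_add_finrank _ _)
  rw [finrank_top, ← (GlobalSections.h0Linear k L).finrank_eq] at h3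
  have h4 := h3.trans (Nat.add_le_add hle (finrank_singleton_le _))
  simp only [Euler.hdim] at h4 ⊢
  omega

omit [IsIntegral X] [LocallyOfFiniteType (Y ↘ Spec (CommRingCat.of k))] hL hspan h2 in
/-- Nakayama over a point of degree one with a fibre of length one. -/
theorem exists_smul_mem_range [IsFinite r] {y : Y} (hy : IsClosed ({y} : Set Y)) {D : Y.Opens}
    (hD : IsAffineOpen D) (hyD : y ∈ D)
    (hlen : Euler.hdim k X (ClSub.quotMod ((PointIdeal.ptI hy).comap r)) 0 ≤ 1) :
    ∃ s : Γ(Y, D), s - 1 ∈ (hD.primeIdealOf ⟨y, hyD⟩).asIdeal ∧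
      ∀ b : Γ(X, r ⁻¹ᵁ D), ∃ a, r.app D a = r.app D s * b := by
  classical
  have hU : IsAffineOpen (r ⁻¹ᵁ D) := hD.preimage r
  let _ : Algebra Γ(Y, D) Γ(X, r ⁻¹ᵁ D) := (r.app D).hom.toAlgebra
  have : Module.Finite Γ(Y, D) Γ(X, r ⁻¹ᵁ D) := r.finite_app D hD
  let N : Submodule Γ(Y, D) Γ(X, r ⁻¹ᵁ D) := LinearMap.range (Algebra.linearMap _ _)
  let M := (hD.primeIdealOf ⟨y, hyD⟩).asIdeal
  set J := (PointIdeal.ptI hy).comap r with hJdef
  -- sections of `O/J` on `(r ⁻¹ᵁ D)` are at most one dimensional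
  let B := ClSub.quotMod J
  have hsupp : CohB1.support B ⊆ r ⁻¹' {y} := by
    rw [ClSub.Quot.support_quotMod, hJdef, Scheme.IdealSheafData.support_comap,
      TopologicalSpace.Closeds.coe_preimage, PointIdeal.support_ptI]
  have hres := IdealEval.bijective_res (hy.preimage r.continuous) hsupp (U := r ⁻¹ᵁ D)
    fun z hz => show r z ∈ D by rw [show r z = y from hz]; exact hyD
  letI := GlobalSections.secModule k B
  have : Module.Finite k (B.val.obj (op ⊤) : Type u) := by
    haveI := (Finiteness.isGood_of_isCoh (k := k) hdim.le (IdealTwist.isCoh_quot J)).fin₀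
    exact Module.Finite.equiv (GlobalSections.h0Linear k B)
  have hB1 : Module.finrank k (B.val.obj (op ⊤) : Type u) ≤ 1 :=
    (GlobalSections.h0Linear k B).finrank_eq.symm.le.trans hlen
  -- every function is a constant modulo `M`
  have hconst : ∀ b : Γ(X, (r ⁻¹ᵁ D)), ∃ c : k, b - r.app (D) (scl (k := k) Y (D) c) ∈
      Ideal.map (r.app (D)).hom M := by
    intro b
    have hker : ∀ v : Γ(X, (r ⁻¹ᵁ D)), J.subschemeι.app (r ⁻¹ᵁ D) v = 0 → v ∈ Ideal.map (r.app (D)).hom M := by
      intro v hv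
      have hv' : v ∈ J.ideal ⟨(r ⁻¹ᵁ D), hU⟩ := by
        rw [← J.ker_subschemeι_app ⟨(r ⁻¹ᵁ D), hU⟩]; exact hv
      rw [hJdef, Ideal.Comap.ideal_comap r _ ⟨D, hD⟩ ⟨(r ⁻¹ᵁ D), hU⟩ le_rfl,
        Scheme.Hom.appLE_eq_app] at hv'
      refine Ideal.map_mono ?_ hv'
      rw [Scheme.IdealSheafData.vanishingIdeal_ideal]
      intro f hf
      exact (PrimeSpectrum.mem_vanishingIdeal _ _).mp hf _
        (hD.fromSpec_primeIdealOf ⟨y, hyD⟩)
    obtain ⟨t, ht⟩ := hres.2 (show Γ(B, (r ⁻¹ᵁ D)) from J.subschemeι.app (r ⁻¹ᵁ D) b)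
    let e1 : (B.val.obj (op ⊤) : Type u) := (show Γ(J.subscheme, J.subschemeι ⁻¹ᵁ ⊤) from 1)
    by_cases he1 : e1 = 0
    · refine ⟨0, hker _ ?_⟩
      have h1 : (show Γ(J.subscheme, J.subschemeι ⁻¹ᵁ (r ⁻¹ᵁ D)) from 1) = 0 := by
        have := congrArg (fun z => (show Γ(B, (r ⁻¹ᵁ D)) from B.presheaf.map (homOfLE le_top).op z)) he1
        exact (map_one (J.subscheme.presheaf.map _).hom).symm.trans (this.trans (map_zero _))
      exact eq_zero_of_zero_eq_one h1.symm _
    · obtain ⟨c, hc⟩ := (finrank_le_one_iff.mp hB1) |>.elim fun v hv => by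
        obtain ⟨c₁, hc₁⟩ := hv e1
        obtain ⟨c₂, hc₂⟩ := hv t
        have hc0 : c₁ ≠ 0 := fun h0 => he1 (by rw [← hc₁, h0, zero_smul])
        exact (⟨c₂ / c₁, by rw [← hc₂, ← hc₁, smul_smul, div_mul_cancel₀ _ hc0]⟩ :
          ∃ c : k, c • e1 = t)
      refine ⟨c, hker _ ?_⟩
      rw [map_sub, app_scl r hr, sub_eq_zero]
      refine ht.symm.trans ?_
      rw [← hc]
      refine (Scheme.Modules.map_smul B _ _ _).trans ?_
      exact (congrArg (fun z => (show Γ(J.subscheme, J.subschemeι ⁻¹ᵁ (r ⁻¹ᵁ D)) from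
        J.subschemeι.app (r ⁻¹ᵁ D) (scl (k := k) X (r ⁻¹ᵁ D) c)) * z)
        (map_one (J.subscheme.presheaf.map _).hom)).trans (mul_one _)
  have hin : (⊤ : Submodule Γ(Y, D) (Γ(X, (r ⁻¹ᵁ D)) ⧸ N)) ≤ M • ⊤ := by
    intro q _
    obtain ⟨b, rfl⟩ := N.mkQ_surjective q
    obtain ⟨c, hc⟩ := hconst b
    have h0 : N.mkQ (r.app (D) (scl (k := k) Y (D) c)) = 0 :=
      (Submodule.Quotient.mk_eq_zero N).mpr ⟨_, rfl⟩
    rw [show N.mkQ b = N.mkQ (b - r.app (D) (scl (k := k) Y (D) c)) by
      rw [map_sub, h0, sub_zero]]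
    rw [show Ideal.map (r.app (D)).hom M = M.map (algebraMap Γ(Y, D) Γ(X, (r ⁻¹ᵁ D))) from rfl] at hc
    exact (Submodule.map_smul'' M ⊤ N.mkQ).le.trans (Submodule.smul_mono le_rfl le_top)
      (Submodule.mem_map_of_mem (by
        rw [Ideal.smul_top_eq_map (S := Γ(X, r ⁻¹ᵁ D)) M]
        exact hc))
  obtain ⟨s, hs1, hs0⟩ := Submodule.exists_sub_one_mem_and_smul_eq_zero_of_fg_of_le_smul M ⊤
    Module.Finite.fg_top hin
  refine ⟨s, hs1, fun b => ?_⟩
  have h := hs0 (N.mkQ b) Submodule.mem_top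
  rw [← map_smul, Submodule.mkQ_apply, Submodule.Quotient.mk_eq_zero] at h
  exact LinearMap.mem_range.mp h

variable [IsAlgClosed k]

variable [IsSeparated (Y ↘ Spec (CommRingCat.of k))]

/-- The map is finite. -/
theorem isFinite (hch : HasCharts r L w) : IsFinite r := by
  have : IsProper (r ≫ (Y ↘ Spec (CommRingCat.of k))) := hr ▸ inferInstance
  have : IsProper r := IsProper.of_comp r (Y ↘ Spec (CommRingCat.of k))
  have := GlobalSections.noetherianSpace_of_proper k X
  have : JacobsonSpace Y := LocallyOfFiniteType.jacobsonSpace (Y ↘ Spec (CommRingCat.of k))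
  have hpt : ∀ x : X, IsClosed ({x} : Set X) ∨ x = genericPoint X := fun x =>
    (H34.DimOne.isClosed_or_component hdim.le x).imp_right fun h => by
      rw [irreducibleComponents_eq_singleton, Set.mem_singleton_iff] at h
      exact (specializes_iff_mem_closure.mpr (h ▸ Set.mem_univ _)).antisymm
        (genericPoint_specializes x) |>.eq
  have hqf : LocallyQuasiFinite r := LocallyQuasiFinite.of_finite_preimage_singleton r fun y => by
    by_cases hne : ∃ x : X, IsClosed ({x} : Set X) ∧ r x = y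
    · obtain ⟨x, hx, rfl⟩ := hne
      have hy := CurveMaps.Basic.isClosed_image_singleton (X ↘ Spec (CommRingCat.of k))
        (Y ↘ Spec (CommRingCat.of k)) r hr hx
      obtain ⟨D, i₀, a, hD, hxD, he, ha⟩ := hch x
      have hη := (fibre r hr hdim hL w hspan h2 hy hD hxD (exists_scalar hD hy hxD) he ha).1
      rw [Scheme.IdealSheafData.support_comap, TopologicalSpace.Closeds.coe_preimage,
        PointIdeal.support_ptI] at hη
      refine H34.DimOne.finite_of_no_component hdim.le (hy.preimage r.continuous) fun Z hZ _ hle => ?_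
      rw [irreducibleComponents_eq_singleton, Set.mem_singleton_iff] at hZ
      exact hη (hle (hZ ▸ Set.mem_univ _))
    · push Not at hne
      exact (Set.finite_singleton (genericPoint X)).subset fun x hx =>
        (hpt x).resolve_left fun hc => hne x hc hx
  exact IsFinite.of_isProper_of_locallyQuasiFinite r

/-- **The criterion.** -/
theorem isClosedImmersion (hch : HasCharts r L w) (hsep : Separates k L) :
    IsClosedImmersion r := by
  classical
  have hd1 : topologicalKrullDim X ≤ 1 := hdim.le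
  have := isFinite r hr hdim hL w hspan h2 hch
  have : JacobsonSpace Y := LocallyOfFiniteType.jacobsonSpace (Y ↘ Spec (CommRingCat.of k))
  choose D i₀ a hD hxD he ha using hch
  let Ω : Option X → Y.Opens := fun o => o.elim
    ⟨(Set.range r)ᶜ, r.isClosedMap.isClosed_range.isOpen_compl⟩ D
  refine IsZariskiLocalAtTarget.of_iSup_eq_top (P := @IsClosedImmersion) Ω ?_ fun o => ?_
  · refine top_le_iff.mp fun y _ => Opens.mem_iSup.mpr ?_
    by_cases hy : y ∈ Set.range r
    · obtain ⟨x, rfl⟩ := hy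
      exact ⟨some x, hxD x⟩
    · exact ⟨none, hy⟩
  rcases o with _ | x
  · have : IsEmpty ((r ⁻¹ᵁ Ω none : X.Opens) : Scheme.{u}) := ⟨fun z => z.2 ⟨z.1, rfl⟩⟩
    infer_instance
  have hU : IsAffineOpen (r ⁻¹ᵁ D x) := (hD x).preimage r
  have : IsAffine ((D x : Y.Opens) : Scheme.{u}) := hD x
  have : IsAffine ((r ⁻¹ᵁ D x : X.Opens) : Scheme.{u}) := hU
  have : IsAffine ((Ω (some x) : Y.Opens) : Scheme.{u}) := hD x
  have : IsAffine ((r ⁻¹ᵁ Ω (some x) : X.Opens) : Scheme.{u}) := hU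
  change IsClosedImmersion (r ∣_ D x)
  refine IsClosedImmersion.of_surjective_of_isAffine _ ?_
  have e : (r ∣_ D x).appTop = (D x).topIso.hom ≫ r.app (D x) ≫ (r ⁻¹ᵁ D x).topIso.inv := by
    rw [← Scheme.Hom.resLE_eq_morphismRestrict, ← Scheme.Hom.appLE_eq_app]
    exact Scheme.Hom.resLE_app_top _ _
  change Function.Surjective (r ∣_ D x).appTop
  rw [e]
  refine (ConcreteCategory.bijective_of_isIso (r ⁻¹ᵁ D x).topIso.inv).2.comp
    (Function.Surjective.comp ?_ (ConcreteCategory.bijective_of_isIso (D x).topIso.hom).2)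
  -- Nakayama at every maximal ideal
  let _ : Algebra Γ(Y, D x) Γ(X, r ⁻¹ᵁ D x) := (r.app (D x)).hom.toAlgebra
  have : Module.Finite Γ(Y, D x) Γ(X, r ⁻¹ᵁ D x) := r.finite_app (D x) (hD x)
  let N : Submodule Γ(Y, D x) Γ(X, r ⁻¹ᵁ D x) := LinearMap.range (Algebra.linearMap _ _)
  suffices hN : N = ⊤ by
    exact fun b => LinearMap.mem_range.mp (hN ▸ Submodule.mem_top : b ∈ N)
  rw [← Submodule.Quotient.subsingleton_iff, ← Module.annihilator_eq_top_iff
    (R := Γ(Y, D x))]
  by_contra hne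
  obtain ⟨M, hM, hle⟩ := Ideal.exists_le_maximal _ hne
  -- the closed point of `M`
  obtain ⟨y, hy, hyD, hMy⟩ : ∃ (y : Y) (_ : IsClosed ({y} : Set Y)) (hyD : y ∈ D x),
      ((hD x).primeIdealOf ⟨y, hyD⟩).asIdeal = M := by
    let p : PrimeSpectrum Γ(Y, D x) := ⟨M, hM.isPrime⟩
    have hyD : (hD x).fromSpec p ∈ D x := (hD x).range_fromSpec.subset ⟨p, rfl⟩
    refine ⟨(hD x).fromSpec p, ?_, hyD, congrArg PrimeSpectrum.asIdeal
      ((hD x).fromSpec.isOpenEmbedding.injective ((hD x).fromSpec_primeIdealOf ⟨_, hyD⟩))⟩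
    refine isClosed_singleton_of_isLocallyClosed_singleton ?_
    have h := ((PrimeSpectrum.isClosed_singleton_iff_isMaximal p).mpr hM).isLocallyClosed.image
      (hD x).fromSpec.isOpenEmbedding.isInducing
      ((congrArg IsLocallyClosed (hD x).range_fromSpec).mpr (D x).2.isLocallyClosed)
    exact (congrArg IsLocallyClosed Set.image_singleton).mp h
  obtain ⟨hη, hnum⟩ := fibre r hr hdim hL w hspan h2 hy (hD x) hyD (exists_scalar (hD x) hy hyD)
    (he x) (ha x)
  have hlen := hsep _ hη hnum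
  obtain ⟨s, hs1, hs⟩ := exists_smul_mem_range r hr hdim hy (hD x) hyD hlen
  have hsM : s ∈ M := hle (Module.mem_annihilator.mpr fun q => by
    obtain ⟨b, rfl⟩ := N.mkQ_surjective q
    rw [← map_smul, Submodule.mkQ_apply, Submodule.Quotient.mk_eq_zero]
    exact LinearMap.mem_range.mpr (hs b))
  exact hM.ne_top ((Ideal.eq_top_iff_one M).mpr (sub_sub_cancel s 1 ▸ M.sub_mem hsM (hMy ▸ hs1)))

end Groth.Agent.Lib.Curves.SepCriterion

namespace Groth.Agent.Lib.Curves.SepCriterion

variable {k : Type u} [Field k] [IsAlgClosed k] {X : Scheme.{u}}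
  [X.Over (Spec (CommRingCat.of k))] [IsProper (X ↘ Spec (CommRingCat.of k))] [IsIntegral X]

/-- Degree `2 g + 1` separates. -/
theorem separates_of_deg (hdim : topologicalKrullDim X ≤ 1)
    (h0 : Module.finrank k (Coh.HH X (Coh.structureModule X) 0) = 1)
    {L : X.Modules} (hL : PicF.IsInvertible L)
    (hd : 2 * (Curv2.genus k X : ℤ) + 1 ≤ Curv2.deg k X L 1) : Separates k L := by
  intro J hJ hle
  have hg := IdealTwist.isGood_twist (k := k) hdim J hL
  have hχ := IdealTwist.euler_twist_ideal (k := k) hdim hJ hL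
  rw [Euler.euler_eq hg.vanish, Degree.euler_eq_deg_add hdim h0] at hχ
  have hL0 := Clifford.hdim_zero_eq_of_deg k hdim h0 hL (by omega)
  by_cases h1 : Subsingleton (Coh.HH X (CohB1.tensorMod (ClSub.idealMod J) L) 1)
  · have : Euler.hdim k X (CohB1.tensorMod (ClSub.idealMod J) L) 1 = 0 :=
      Module.finrank_zero_of_subsingleton
    omega
  · rw [not_subsingleton_iff_nontrivial] at h1
    have hpos : 0 < Euler.hdim k X (CohB1.tensorMod (ClSub.idealMod J) L) 0 := by omega
    haveI := hg.fin₀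
    have hnt : Nontrivial (Coh.HH X (CohB1.tensorMod (ClSub.idealMod J) L) 0) :=
      Module.nontrivial_of_finrank_pos (R := k) hpos
    haveI := IdealTwist.mono_incl J hL
    have := Clifford.hdim_add_le_genus k hdim hL (IdealTwist.incl J L) hg hnt h1
    omega

end Groth.Agent.Lib.Curves.SepCriterion
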