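import Mathlib.RingTheory.Nullstellensatz
import Mathlib.RingTheory.Valuation.LocalSubring
import Mathlib.RingTheory.AlgebraicIndependent.TranscendenceBasis
import Mathlib.Combinatorics.Matroid.Rank.Cardinal
import Mathlib.FieldTheory.IsAlgClosed.AlgebraicClosure
import Mathlib.LinearAlgebra.FiniteDimensional.Basic
import Mathlib.Algebra.BigOperators.Field

/-!
# Hopf's lemma on bilinear maps

Over an algebraically closed field a bilinear map without zero divisors `V × W → U` has
`dim V + dim W ≤ dim U + 1`.
-/

set_option autoImplicit false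
universe u v w z

open MvPolynomial

namespace Groth.Agent.Lib.Curves.HopfBound

variable {k : Type u} [Field k] [IsAlgClosed k] {a c n : ℕ}

/-- The bilinear forms, as polynomials. -/
noncomputable def form (f : Fin n → Fin (a + 1) → Fin (c + 1) → k) (l : Fin n) :
    MvPolynomial (Fin (a + 1) ⊕ Fin (c + 1)) k :=
  ∑ i, ∑ j, C (f l i j) * (X (Sum.inl i) * X (Sum.inr j))

omit [IsAlgClosed k] in
lemma aeval_form (f : Fin n → Fin (a + 1) → Fin (c + 1) → k) (l : Fin n) {A : Type*} [CommRing A]
    [Algebra k A] (p : Fin (a + 1) ⊕ Fin (c + 1) → A) :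
    aeval p (form f l) = ∑ i, ∑ j, f l i j • (p (Sum.inl i) * p (Sum.inr j)) := by
  simp [form, map_sum, Algebra.smul_def]

theorem hopf (f : Fin n → Fin (a + 1) → Fin (c + 1) → k)
    (h : ∀ (x : Fin (a + 1) → k) (y : Fin (c + 1) → k),
      (∀ l, ∑ i, ∑ j, f l i j • (x i * y j) = 0) → x = 0 ∨ y = 0) :
    a + c + 1 ≤ n := by
  classical
  let P := MvPolynomial (Fin (a + 1) ⊕ Fin (c + 1)) k
  let K := FractionRing P
  let mon : Fin (a + 1) → Fin (c + 1) → P := fun i j => X (Sum.inl i) * X (Sum.inr j)
  -- Nullstellensatz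
  have hnull : ∀ i j, mon i j ∈ (Ideal.span (Set.range (form f))).radical := by
    intro i j
    rw [← MvPolynomial.vanishingIdeal_zeroLocus_eq_radical (K := k), mem_vanishingIdeal_iff]
    intro p hp
    rw [mem_zeroLocus_iff] at hp
    have := h (fun i => p (Sum.inl i)) (fun j => p (Sum.inr j)) fun l =>
      (aeval_form f l p).symm.trans (hp _ (Ideal.subset_span ⟨l, rfl⟩))
    simp only [mon, map_mul, aeval_X]
    rcases this with hx | hy
    · rw [show p (Sum.inl i) = 0 from congrFun hx i, zero_mul]
    · rw [show p (Sum.inr j) = 0 from congrFun hy j, mul_zero]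
  let ι : P →+* K := algebraMap P K
  have hι : Function.Injective ι := IsFractionRing.injective P K
  let s : Set K := Set.range (algebraMap k K) ∪ Set.range fun l => ι (form f l)
  -- every product `xᵢ yⱼ` is integral over the forms
  have hint : ∀ i j, ι (mon i j) ∈ (integralClosure (Subring.closure s) K).toSubring := by
    intro i j
    rw [← iInf_valuationSubring_superset, Subring.mem_iInf]
    rintro ⟨V, hV⟩
    by_contra hij
    obtain ⟨⟨i₀, j₀⟩, -, hmax⟩ := Finset.exists_max_image
      (Finset.univ : Finset (Fin (a + 1) × Fin (c + 1))) (fun q => V.valuation (ι (mon q.1 q.2)))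
      ⟨(0, 0), Finset.mem_univ _⟩
    dsimp only at hmax
    have hbig : 1 < V.valuation (ι (mon i₀ j₀)) :=
      lt_of_lt_of_le (lt_of_not_ge fun hle => hij ((V.valuation_le_one_iff _).mp hle))
        (hmax (i, j) (Finset.mem_univ _))
    have hne : ∀ q, ι (X q : P) ≠ 0 := fun q => (map_ne_zero_iff ι hι).2 (X_ne_zero q)
    have hM : ι (mon i₀ j₀) ≠ 0 := fun h0 => by simp [h0] at hbig
    have hxmem : ∀ i, ι (X (Sum.inl i)) / ι (X (Sum.inl i₀)) ∈ V := fun i => by
      rw [← V.valuation_le_one_iff,
        show ι (X (Sum.inl i)) / ι (X (Sum.inl i₀)) = ι (mon i j₀) / ι (mon i₀ j₀) by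
          simp only [mon, map_mul]; rw [mul_div_mul_right _ _ (hne _)],
        map_div₀, div_le_one₀ (zero_lt_one.trans hbig)]
      exact hmax (i, j₀) (Finset.mem_univ _)
    have hymem : ∀ j, ι (X (Sum.inr j)) / ι (X (Sum.inr j₀)) ∈ V := fun j => by
      rw [← V.valuation_le_one_iff,
        show ι (X (Sum.inr j)) / ι (X (Sum.inr j₀)) = ι (mon i₀ j) / ι (mon i₀ j₀) by
          simp only [mon, map_mul]; rw [mul_div_mul_left _ _ (hne _)],
        map_div₀, div_le_one₀ (zero_lt_one.trans hbig)]
      exact hmax (i₀, j) (Finset.mem_univ _)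
    -- the scalars land in `V`
    have hk : ∀ t : k, algebraMap k K t ∈ V := fun t => hV (Or.inl ⟨t, rfl⟩)
    let ρ : k →+* IsLocalRing.ResidueField V :=
      (IsLocalRing.residue V).comp ((algebraMap k K).codRestrict V.toSubring hk)
    let _ : Algebra k (IsLocalRing.ResidueField V) := ρ.toAlgebra
    let p : Fin (a + 1) ⊕ Fin (c + 1) → V :=
      Sum.elim (fun i => ⟨_, hxmem i⟩) (fun j => ⟨_, hymem j⟩)
    have hzero : ∀ l, aeval (fun q => IsLocalRing.residue V (p q)) (form f l) = 0 := by
      intro l
      let v : V := ∑ i, ∑ j, (⟨_, hk (f l i j)⟩ : V) * (p (Sum.inl i) * p (Sum.inr j))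
      have hv : IsLocalRing.residue V v =
          aeval (fun q => IsLocalRing.residue V (p q)) (form f l) := by
        rw [aeval_form]
        simp only [v, map_sum, map_mul, Algebra.smul_def]
        rfl
      rw [← hv, IsLocalRing.residue_eq_zero_iff, V.valuation_lt_one_iff]
      have hv' : (v : K) = ι (form f l) / ι (mon i₀ j₀) := by
        simp only [v, form, map_sum, map_mul]
        push_cast
        rw [Finset.sum_div]
        simp only [Finset.sum_div]
        refine Finset.sum_congr rfl fun i _ => Finset.sum_congr rfl fun j _ => ?_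
        simp only [p, Sum.elim_inl, Sum.elim_inr, mon, map_mul]
        rw [mul_div_assoc, div_mul_div_comm]
        rfl
      rw [hv', map_div₀, div_lt_one₀ (zero_lt_one.trans hbig)]
      exact lt_of_le_of_lt ((V.valuation_le_one_iff _).2 (hV (Or.inr ⟨l, rfl⟩))) hbig
    have hrad := hnull i₀ j₀
    obtain ⟨N, hN⟩ := hrad
    have hker : Ideal.span (Set.range (form f)) ≤
        RingHom.ker (aeval (R := k) fun q => IsLocalRing.residue V (p q)) := by
      rw [Ideal.span_le]
      rintro _ ⟨l, rfl⟩
      exact hzero l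
    have h1 : aeval (fun q => IsLocalRing.residue V (p q)) (mon i₀ j₀ ^ N) = 0 := hker hN
    have hp1 : p (Sum.inl i₀) = 1 ∧ p (Sum.inr j₀) = 1 :=
      ⟨Subtype.ext (div_self (hne _)), Subtype.ext (div_self (hne _))⟩
    simp [mon, hp1.1, hp1.2] at h1
  -- `a + c + 1` of the products are algebraically independent
  let w : Fin (a + 1) ⊕ Fin c → K :=
    Sum.elim (fun i => ι (mon i 0)) (fun j => ι (mon 0 j.succ))
  have hw : AlgebraicIndependent k w := by
    let σ : Fin (a + 1) ⊕ Fin c → P := Sum.elim (fun i => mon i 0) (fun j => mon 0 j.succ)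
    have hσ : AlgebraicIndependent k σ := by
      let K' := FractionRing (MvPolynomial (Fin (a + 1) ⊕ Fin c) k)
      let g : P →ₐ[k] K' := aeval (Sum.elim
        (fun i => algebraMap (MvPolynomial (Fin (a + 1) ⊕ Fin c) k) K' (X (Sum.inl i)))
        (Fin.cases (motive := fun _ => K') 1 fun j => algebraMap (MvPolynomial (Fin (a + 1) ⊕ Fin c) k) K' (X (Sum.inr j)) /
          algebraMap (MvPolynomial (Fin (a + 1) ⊕ Fin c) k) K' (X (Sum.inl 0))))
      refine AlgebraicIndependent.of_comp g ?_
      have hg : g ∘ σ = fun q => algebraMap (MvPolynomial (Fin (a + 1) ⊕ Fin c) k) K' (X q) := by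
        funext q
        rcases q with i | j
        · change g (X (Sum.inl i) * X (Sum.inr 0)) = _
          rw [map_mul]
          erw [aeval_X, aeval_X]
          exact mul_one _
        · change g (X (Sum.inl 0) * X (Sum.inr j.succ)) = _
          rw [map_mul]
          erw [aeval_X, aeval_X]
          exact mul_div_cancel₀ _ ((map_ne_zero_iff _ (IsFractionRing.injective _ K')).2 (X_ne_zero _))
      rw [hg]
      exact (algebraicIndependent_X (Fin (a + 1) ⊕ Fin c) k).map'
        (f := IsScalarTower.toAlgHom k _ K') (IsFractionRing.injective _ K')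
    have : w = (IsScalarTower.toAlgHom k P K) ∘ σ := by
      funext q; rcases q with i | j <;> rfl
    rw [this]
    exact hσ.map' hι
  -- conclude in the matroid of algebraic independence
  let S : Set K := Set.range fun l => ι (form f l)
  have hsub : Set.range w ⊆ (AlgebraicIndependent.matroid k K).closure S := by
    rw [AlgebraicIndependent.matroid_closure_eq]
    have hs : Subring.closure s ≤ (Algebra.adjoin k S).toSubring := Subring.closure_le.2 <|
      Set.union_subset (fun _ ⟨t, ht⟩ => ht ▸ (Algebra.adjoin k S).algebraMap_mem t)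
        Algebra.subset_adjoin
    have key : ∀ i j, IsIntegral (Algebra.adjoin k S) (ι (mon i j)) := fun i j => by
      obtain ⟨q, hq, hq0⟩ := hint i j
      refine ⟨q.map (Subring.inclusion hs), hq.map _, ?_⟩
      rw [Polynomial.eval₂_map]
      exact hq0
    rintro _ ⟨q, rfl⟩
    rcases q with i | j <;> exact (key _ _).isAlgebraic
  have hcard := (AlgebraicIndependent.matroid_indep_iff.2 (AlgebraicIndependent.to_subtype_range hw)).cardinalMk_le_cRk_of_subset hsub
  rw [Matroid.cRk_closure] at hcard
  have h2 := hcard.trans (Matroid.cRk_le_cardinalMk _ S)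
  have h3 : Nat.card (Set.range w) ≤ Nat.card S :=
    Cardinal.toNat_le_toNat h2 (Cardinal.lt_aleph0_of_finite _)
  have h4 : Nat.card S ≤ n := (Finite.card_range_le _).trans_eq (Nat.card_fin n)
  rw [Nat.card_range_of_injective hw.injective, Nat.card_eq_fintype_card] at h3
  simp only [Fintype.card_sum, Fintype.card_fin] at h3
  omega

/-- Hopf's inequality. -/
theorem finrank_add_finrank_le {V : Type v} {W : Type w} {U : Type z}
    [AddCommGroup V] [Module k V] [AddCommGroup W] [Module k W] [AddCommGroup U] [Module k U]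
    [Module.Finite k V] [Module.Finite k W] [Module.Finite k U]
    (B : V →ₗ[k] W →ₗ[k] U) (hV : Nontrivial V) (hW : Nontrivial W)
    (h : ∀ v w, B v w = 0 → v = 0 ∨ w = 0) :
    Module.finrank k V + Module.finrank k W ≤ Module.finrank k U + 1 := by
  obtain ⟨a, ha⟩ := Nat.exists_eq_succ_of_ne_zero (Module.finrank_pos (R := k) (M := V)).ne'
  obtain ⟨c, hc⟩ := Nat.exists_eq_succ_of_ne_zero (Module.finrank_pos (R := k) (M := W)).ne'
  let bV := Module.finBasisOfFinrankEq k V ha
  let bW := Module.finBasisOfFinrankEq k W hc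
  let bU := Module.finBasis k U
  have := hopf (fun l i j => bU.repr (B (bV i) (bW j)) l) fun x y hxy => by
    have hB : B (bV.equivFun.symm x) (bW.equivFun.symm y) = 0 := by
      refine bU.ext_elem fun l => ?_
      rw [map_zero, Finsupp.zero_apply, ← hxy l]
      simp only [Module.Basis.equivFun_symm_apply, map_sum, map_smul, LinearMap.coe_sum,
        Finset.sum_apply, LinearMap.smul_apply, Finsupp.coe_finsetSum, Finsupp.smul_apply,
        smul_eq_mul]
      simp only [Finset.mul_sum]
      rw [Finset.sum_comm]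
      exact Finset.sum_congr rfl fun i _ => Finset.sum_congr rfl fun j _ => by ring
    rcases h _ _ hB with h0 | h0
    · exact Or.inl (bV.equivFun.symm.map_eq_zero_iff.1 h0)
    · exact Or.inr (bW.equivFun.symm.map_eq_zero_iff.1 h0)
  omega

end Groth.Agent.Lib.Curves.HopfBound
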