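import Groth.Agent.Lib.Curves.Degree
import Groth.Agent.Lib.Curves.HopfBound
import Groth.Agent.Lib.Modules.Free
import Groth.Agent.Lib.CurveBundle.EndAlg

/-!
# Bounds on `h⁰` and `h¹` without duality

For a section `t` of `F` that generates at the generic point, `H¹(O) → H¹(F)` is onto.  So
`t ↦ (H¹(O) → H¹(F))` bounds `h⁰` by the genus as soon as `h¹ ≠ 0`, and, over an algebraically closed
field, Hopf's lemma gives `h⁰ + h¹ ≤ g + 1`.
-/

set_option autoImplicit false
universe u

open CategoryTheory CategoryTheory.Limits AlgebraicGeometry Opposite TopologicalSpace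
open Groth.Agent.Lib.Curves.LES Groth.Agent.Lib.Curves.Euler

noncomputable section

namespace Groth.Agent.Lib.Curves.Clifford

variable (k : Type u) [Field k] {X : Scheme.{u}} [X.Over (Spec (CommRingCat.of k))]

lemma mapK_add {M N : X.Modules} (φ ψ : M ⟶ N) (n : ℕ) :
    mapK k (φ + ψ) n = mapK k φ n + mapK k ψ n :=
  LinearMap.ext fun x =>
    (congrArg (fun g => Sheaf.H.map g n x) ((F X).map_add (f := φ) (g := ψ))).trans (by
      rw [Sheaf.H.map_apply, Abelian.Ext.mk₀_add, Abelian.Ext.comp_add]; rfl)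

lemma mapK_scal (M : X.Modules) (c : k) (n : ℕ) :
    mapK k (CurveBundle.EndAlg.scal M (CurveBundle.EndAlg.cst X k c)) n = c • LinearMap.id :=
  LinearMap.ext fun _ => rfl

omit [X.Over (Spec (CommRingCat.of k))] in
/-- The map of a global section. -/
def σ (L : X.Modules) (t : Γ(L, ⊤)) : Coh.structureModule X ⟶ L := Modules.Free.unitHom L t

omit [X.Over (Spec (CommRingCat.of k))] in
lemma σ_one (L : X.Modules) (t : Γ(L, ⊤)) : (σ L t).app ⊤ (1 : Γ(X, ⊤)) = t :=
  Modules.Free.unitHom_app_one L t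

omit [X.Over (Spec (CommRingCat.of k))] in
lemma σ_add (L : X.Modules) (s t : Γ(L, ⊤)) : σ L (s + t) = σ L s + σ L t :=
  Modules.Free.unitHom_ext (by
    rw [σ_one, Scheme.Modules.Hom.add_app]
    exact (congrArg₂ (· + ·) (σ_one L s) (σ_one L t)).symm)

omit [X.Over (Spec (CommRingCat.of k))] in
lemma σ_eq_zero {L : X.Modules} {t : Γ(L, ⊤)} (h : σ L t = 0) : t = 0 := by
  rw [← σ_one L t, h]; rfl

lemma σ_smul (L : X.Modules) (c : k) (t : Γ(L, ⊤)) :
    σ L ((CurveBundle.EndAlg.cst X k c) • t) =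
      σ L t ≫ CurveBundle.EndAlg.scal L (CurveBundle.EndAlg.cst X k c) := by
  refine Modules.Free.unitHom_ext ?_
  rw [σ_one, Scheme.Modules.Hom.comp_app]
  change _ = (CurveBundle.EndAlg.scal L _).app ⊤ ((σ L t).app ⊤ (1 : Γ(X, ⊤)))
  rw [σ_one, CurveBundle.EndAlg.scal_app]
  exact congrArg (· • t) (CategoryTheory.Functor.map_id_apply X.presheaf _ _).symm

/-- A section acts on cohomology. -/
def Φ (L : X.Modules) (n : ℕ) :
    letI := GlobalSections.secModule k L
    (L.val.obj (op ⊤) : Type u) →ₗ[k]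
      (Coh.HH X (Coh.structureModule X) n →ₗ[k] Coh.HH X L n) :=
  letI := GlobalSections.secModule k L
  { toFun := fun t => mapK k (σ L t) n
    map_add' := fun s t => (congrArg (mapK k · n) (σ_add L s t)).trans (mapK_add k _ _ n)
    map_smul' := fun c t => (congrArg (mapK k · n) (σ_smul k L c t)).trans
      ((mapK_comp k _ _ n).trans (by rw [mapK_scal]; rfl)) }

lemma Φ_apply (L : X.Modules) (n : ℕ) (t : (L.val.obj (op ⊤) : Type u)) :
    letI := GlobalSections.secModule k L
    Φ k L n t = mapK k (σ L t) n := rfl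

variable [IsProper (X ↘ Spec (CommRingCat.of k))]

/-- A map with cokernel of finite support is onto in degree one. -/
theorem mapK_surjective_one (hdim : topologicalKrullDim X ≤ 1) {M N : X.Modules} (φ : M ⟶ N)
    [Mono φ] (hT : Positivity.IsTorsion (cokernel φ)) : Function.Surjective (mapK k φ 1) := by
  haveI := GlobalSections.noetherianSpace_of_proper k X
  haveI := hT.subsingleton_HH_succ hdim 0
  exact fun y => (exactK₂ k (Positivity.cokerSES_shortExact φ) 1 y).mp (Subsingleton.elim _ _)

variable [IsIntegral X]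

omit [X.Over (Spec (CommRingCat.of k))] [IsProper (X ↘ Spec (CommRingCat.of k))] in
/-- A section of a subsheaf of full generic rank of an invertible module. -/
lemma section_good {F L : X.Modules} (hL : PicF.IsInvertible L) (j : F ⟶ L) [Mono j]
    {t : Γ(F, ⊤)} (ht : t ≠ 0) :
    Mono (σ F t) ∧ Positivity.IsTorsion (cokernel (σ F t)) := by
  have hne : σ F t ≫ j ≠ 0 := fun h => ht (σ_eq_zero (by rwa [← cancel_mono j, zero_comp]))
  have hO := PicLoc.isInvertible_structureModule X
  haveI := Positivity.mono_of_ne_zero hO hL hne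
  haveI : Mono (σ F t) := mono_of_mono (σ F t) j
  refine ⟨inferInstance, fun x hx => ?_⟩
  have hT := Positivity.isTorsion_cokernel hO hL hne x hx
  have hm : Mono (cokernel.map (σ F t) (σ F t ≫ j) (𝟙 _) j (by simp)) := by
    refine Preadditive.mono_of_cancel_zero _ fun {W} g hg => ?_
    obtain ⟨W', p, hp, v, hv⟩ := surjective_up_to_refinements_of_epi (cokernel.π (σ F t)) g
    have h0 : (v ≫ j) ≫ cokernel.π (σ F t ≫ j) = 0 := by
      have := congrArg (p ≫ ·) hg
      rw [comp_zero, ← Category.assoc, hv, Category.assoc, cokernel.π_desc, ← Category.assoc] at this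
      exact this
    have hex : (ShortComplex.mk (σ F t ≫ j) (cokernel.π (σ F t ≫ j)) (cokernel.condition _)).Exact :=
      ShortComplex.exact_cokernel _
    obtain ⟨A, q, hq, r, hr⟩ := hex.exact_up_to_refinements (v ≫ j) h0
    dsimp at hr
    have : q ≫ v = r ≫ σ F t := by rw [← cancel_mono j, Category.assoc, hr, Category.assoc]
    rw [← cancel_epi p, comp_zero, hv, ← cancel_epi q, comp_zero, ← Category.assoc, this,
      Category.assoc, cokernel.condition, comp_zero]
  have hmono : Mono ((Modules.Stalk.stalkFunctor X x).map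
      (cokernel.map (σ F t) (σ F t ≫ j) (𝟙 _) j (by simp))) := inferInstance
  exact @Function.Injective.subsingleton _ _ _ ((AddCommGrpCat.mono_iff_injective _).1 hmono) hT

omit [X.Over (Spec (CommRingCat.of k))] [IsProper (X ↘ Spec (CommRingCat.of k))] [IsIntegral X] in
lemma nontrivial_sections {L : X.Modules} (h : Nontrivial (Coh.HH X L 0)) :
    Nontrivial (L.val.obj (op ⊤) : Type u) :=
  (GlobalSections.h0Equiv L).symm.toEquiv.nontrivial

/-- A section makes `H¹(O) → H¹(F)` onto. -/
theorem Φ_surjective (hdim : topologicalKrullDim X ≤ 1) {F L : X.Modules} (hL : PicF.IsInvertible L)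
    (j : F ⟶ L) [Mono j] {t : Γ(F, ⊤)} (ht : t ≠ 0) :
    Function.Surjective (mapK k (σ F t) 1) := by
  obtain ⟨_, hT⟩ := section_good hL j ht
  exact mapK_surjective_one k hdim (σ F t) hT

/-- `h⁰ ≤ g` as soon as `h¹ ≠ 0`. -/
theorem hdim_zero_le_genus (hdim : topologicalKrullDim X ≤ 1) {F L : X.Modules}
    (hL : PicF.IsInvertible L) (j : F ⟶ L) [Mono j] (h1 : Nontrivial (Coh.HH X F 1)) :
    Euler.hdim k X F 0 ≤ Curv2.genus k X := by
  haveI := Module.Free.of_divisionRing k (Coh.HH X F 1)
  haveI : Module.Projective k (Coh.HH X F 1) := Module.Projective.of_free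
  obtain ⟨y, hy⟩ := exists_ne (0 : Coh.HH X F 1)
  obtain ⟨φ, hφ⟩ : ∃ φ : Module.Dual k (Coh.HH X F 1), φ y ≠ 0 := by
    by_contra h
    push Not at h
    exact hy ((Module.forall_dual_apply_eq_zero_iff k y).1 h)
  letI := GlobalSections.secModule k F
  let Ψ : (F.val.obj (op ⊤) : Type u) →ₗ[k] Module.Dual k (Coh.HH X (Coh.structureModule X) 1) :=
    (LinearMap.llcomp k _ _ _ φ).comp (Φ k F 1)
  have hinj : Function.Injective Ψ := by
    rw [injective_iff_map_eq_zero]
    intro t ht
    by_contra h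
    obtain ⟨z, hz⟩ := Φ_surjective k hdim hL j h y
    exact hφ (hz ▸ (LinearMap.congr_fun ht z : φ (mapK k (σ F t) 1 z) = 0))
  haveI := (Degree.isGood_structureModule (k := k) hdim).fin₁
  calc Euler.hdim k X F 0 = Module.finrank k (F.val.obj (op ⊤) : Type u) :=
        (GlobalSections.h0Linear k F).finrank_eq
    _ ≤ Module.finrank k (Module.Dual k (Coh.HH X (Coh.structureModule X) 1)) :=
        LinearMap.finrank_le_finrank_of_injective hinj
    _ = Curv2.genus k X := Subspace.dual_finrank_eq

/-- `h¹ ≤ g` as soon as `h⁰ ≠ 0`. -/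
theorem hdim_one_le_genus (hdim : topologicalKrullDim X ≤ 1) {F L : X.Modules}
    (hL : PicF.IsInvertible L) (j : F ⟶ L) [Mono j] (h0 : Nontrivial (Coh.HH X F 0)) :
    Euler.hdim k X F 1 ≤ Curv2.genus k X := by
  haveI := nontrivial_sections h0
  obtain ⟨t, ht⟩ := exists_ne (0 : (F.val.obj (op ⊤) : Type u))
  haveI := (Degree.isGood_structureModule (k := k) hdim).fin₁
  exact LinearMap.finrank_le_finrank_of_surjective (Φ_surjective k hdim hL j (t := t) ht)

/-- **Clifford without duality**: `h⁰ + h¹ ≤ g + 1`. -/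
theorem hdim_add_le_genus [IsAlgClosed k] (hdim : topologicalKrullDim X ≤ 1) {F L : X.Modules}
    (hL : PicF.IsInvertible L) (j : F ⟶ L) [Mono j] (gF : IsGood k X F)
    (h0 : Nontrivial (Coh.HH X F 0)) (h1 : Nontrivial (Coh.HH X F 1)) :
    Euler.hdim k X F 0 + Euler.hdim k X F 1 ≤ Curv2.genus k X + 1 := by
  letI := GlobalSections.secModule k F
  haveI := gF.fin₀
  haveI := gF.fin₁
  haveI := (Degree.isGood_structureModule (k := k) hdim).fin₁
  haveI : Module.Finite k (F.val.obj (op ⊤) : Type u) :=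
    Module.Finite.equiv (GlobalSections.h0Linear k F)
  let B : (F.val.obj (op ⊤) : Type u) →ₗ[k] Module.Dual k (Coh.HH X F 1) →ₗ[k]
      Module.Dual k (Coh.HH X (Coh.structureModule X) 1) :=
    (Module.Dual.transpose (R := k)).comp (Φ k F 1)
  have hB := HopfBound.finrank_add_finrank_le B (nontrivial_sections h0)
    (Module.nontrivial_dual_iff k |>.mpr h1) fun t φ h => by
      by_contra hc
      push Not at hc
      refine hc.2 (LinearMap.ext fun y => ?_)
      obtain ⟨z, rfl⟩ := Φ_surjective k hdim hL j hc.1 y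
      exact (LinearMap.congr_fun h z : φ (mapK k (σ F t) 1 z) = 0)
  rw [Subspace.dual_finrank_eq, Subspace.dual_finrank_eq,
    ← (GlobalSections.h0Linear k F).finrank_eq] at hB
  exact hB

section Invertible

variable (hdim : topologicalKrullDim X ≤ 1)
  (h0 : Module.finrank k (Coh.HH X (Coh.structureModule X) 0) = 1)
  {L : X.Modules} (hL : PicF.IsInvertible L)

include hdim h0 hL

/-- A module with `h¹ ≠ 0` has degree at most `2g - 2`. -/
theorem deg_le_of_nontrivial_one (h1 : Nontrivial (Coh.HH X L 1)) :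
    Curv2.deg k X L 1 ≤ 2 * (Curv2.genus k X : ℤ) - 2 := by
  have hr := Degree.riemann_roch hdim h0 hL
  have hle := hdim_zero_le_genus k hdim hL (𝟙 L) h1
  haveI := (Degree.isGood (k := k) hdim hL).fin₁
  have hpos : 0 < Euler.hdim k X L 1 := Module.finrank_pos
  omega

/-- `H¹` vanishes beyond `2g - 2`. -/
theorem subsingleton_one_of_deg (hd : 2 * (Curv2.genus k X : ℤ) - 2 < Curv2.deg k X L 1) :
    Subsingleton (Coh.HH X L 1) := by
  by_contra h
  rw [not_subsingleton_iff_nontrivial] at h
  exact absurd (deg_le_of_nontrivial_one k hdim h0 hL h) (not_le.mpr hd)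

/-- Beyond `2g - 2` Riemann's inequality is an equality. -/
theorem hdim_zero_eq_of_deg (hd : 2 * (Curv2.genus k X : ℤ) - 2 < Curv2.deg k X L 1) :
    (Euler.hdim k X L 0 : ℤ) = Curv2.deg k X L 1 + 1 - (Curv2.genus k X : ℤ) := by
  haveI := subsingleton_one_of_deg k hdim h0 hL hd
  have hr := Degree.riemann_roch hdim h0 hL
  have : Euler.hdim k X L 1 = 0 := Module.finrank_zero_of_subsingleton
  omega

/-- **Clifford's inequality** without duality. -/
theorem two_mul_hdim_zero_le [IsAlgClosed k] (hs : Nontrivial (Coh.HH X L 0))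
    (h1 : Nontrivial (Coh.HH X L 1)) :
    2 * (Euler.hdim k X L 0 : ℤ) ≤ Curv2.deg k X L 1 + 2 := by
  have hr := Degree.riemann_roch hdim h0 hL
  have := hdim_add_le_genus k hdim hL (𝟙 L) (Degree.isGood hdim hL) hs h1
  omega

end Invertible

end Groth.Agent.Lib.Curves.Clifford
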