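import Groth.Agent.Lib.Curves.DegreeOne
import Groth.Agent.Lib.Curves.Clifford
import Groth.Agent.Lib.Curves.PointIdeal
import Groth.Agent.Lib.Curves.Euler

/-!
# Invertible modules on curves of genus one, without duality
-/

set_option autoImplicit false
set_option linter.style.haveILetI false
noncomputable section

universe u

open CategoryTheory CategoryTheory.Limits AlgebraicGeometry TopologicalSpace Opposite

namespace Groth.Agent.Lib.Curves.GenusOne

open Groth.Agent.Lib PointIdeal

variable {k : Type u} [Field k] {X : Scheme.{u}} [X.Over (Spec (CommRingCat.of k))]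
  [IsProper (X ↘ Spec (CommRingCat.of k))]

/-- The residue degree of a closed point is positive. -/
theorem hdim_quot_pos (hdim : topologicalKrullDim X ≤ 1) {x : X} (hx : IsClosed ({x} : Set X)) :
    0 < Euler.hdim k X (ClSub.quotMod (ptI hx)) 0 := by
  have hfin := (Finiteness.isGood_of_isCoh (k := k) hdim (IdealTwist.isCoh_quot (ptI hx))).fin₀
  have hn : Nontrivial (Coh.HH X (ClSub.quotMod (ptI hx)) 0) := by
    refine (GlobalSections.h0Equiv (ClSub.quotMod (ptI hx))).toEquiv.nontrivial_congr.mpr ?_
    by_contra hc
    rw [not_nontrivial_iff_subsingleton] at hc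
    have hx' : x ∈ CohB1.support (ClSub.quotMod (ptI hx)) := by
      rw [ClSub.Quot.support_quotMod, support_ptI]; rfl
    refine hx' (subsingleton_of_forall_eq 0 fun v => ?_)
    obtain ⟨U, hxU, m, rfl⟩ :=
      TopCat.Presheaf.exists_germ_eq (ClSub.quotMod (ptI hx)).presheaf v
    obtain ⟨t, rfl⟩ := (bijective_res hx
      (by rw [ClSub.Quot.support_quotMod, support_ptI]) hxU).2 m
    exact (congrArg (fun t => (ClSub.quotMod (ptI hx)).presheaf.germ U x hxU
      ((ClSub.quotMod (ptI hx)).presheaf.map (homOfLE le_top).op t))
      (@Subsingleton.elim _ hc t 0)).trans ((congrArg _ (map_zero _)).trans (map_zero _))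
  exact Module.finrank_pos

variable [IsIntegral X] (hdim : topologicalKrullDim X = 1) (hg : Curv2.genus k X = 1)

include hg in
/-- The constants of a curve of genus one are the base field. -/
theorem h0_eq_one : Module.finrank k (Coh.HH X (Coh.structureModule X) 0) = 1 := by
  have h := DegreeOne.finrank_dvd (k := k) (Coh.structureModule X) 1
  rw [show Module.finrank k (Coh.HH X (Coh.structureModule X) 1) = 1 from hg] at h
  exact Nat.dvd_one.mp h

variable {L : X.Modules} (hL : PicF.IsInvertible L)

include hdim hg hL

/-- No `H¹` in positive degree. -/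
theorem subsingleton_h1 (hd : 1 ≤ Curv2.deg k X L 1) : Subsingleton (Coh.HH X L 1) := by
  refine Clifford.subsingleton_one_of_deg k hdim.le (h0_eq_one hg) hL ?_
  rw [hg]
  omega

/-- `h⁰ = deg`. -/
theorem hdim_zero (hd : 1 ≤ Curv2.deg k X L 1) :
    (Euler.hdim k X L 0 : ℤ) = Curv2.deg k X L 1 := by
  have h := Degree.riemann_roch (k := k) hdim.le (h0_eq_one hg) hL
  haveI := subsingleton_h1 hdim hg hL hd
  rw [show Euler.hdim k X L 1 = 0 from Module.finrank_zero_of_subsingleton, hg] at h
  omega

/-- Modules of degree at least two are globally generated. -/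
theorem isGloballyGenerated (hd : 2 ≤ Curv2.deg k X L 1) : Curv2.IsGloballyGenerated L := by
  haveI := GlobalSections.noetherianSpace_of_proper k X
  haveI := GlobalSections.isNoetherian_of_proper k X
  rw [isGloballyGenerated_iff (k := k) hdim.le hL]
  intro x hx
  have h0 := hdim_zero hdim hg hL (by omega)
  have hmg := IdealTwist.isGood_twist (k := k) hdim.le (ptI hx) hL
  rcases subsingleton_or_nontrivial (Coh.HH X (CohB1.tensorMod (ClSub.idealMod (ptI hx)) L) 1) with h | h
  · have hs : genericPoint X ∉ ((ptI hx).support : Set X) := by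
      rw [support_ptI]
      exact (SmoothCurve.Stalk.ne_genericPoint_of_isClosed (by rw [hdim]; exact one_ne_zero) hx).symm
    have he := IdealTwist.euler_twist_ideal (k := k) hdim.le hs hL
    have hLg := Degree.isGood (k := k) hdim.le hL
    haveI := subsingleton_h1 hdim hg hL (by omega)
    rw [Euler.euler_eq hmg.vanish, Euler.euler_eq hLg.vanish,
      show Euler.hdim k X L 1 = 0 from Module.finrank_zero_of_subsingleton,
      show Euler.hdim k X (CohB1.tensorMod (ClSub.idealMod (ptI hx)) L) 1 = 0 from
        Module.finrank_zero_of_subsingleton] at he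
    have := hdim_quot_pos (k := k) hdim.le hx
    omega
  · haveI := IdealTwist.mono_incl (ptI hx) hL
    have := Clifford.hdim_zero_le_genus k hdim.le hL (IdealTwist.incl (ptI hx) L) h
    omega

end Groth.Agent.Lib.Curves.GenusOne
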