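import Groth.Agent.Lib.ProjMor.Embed
import Groth.Agent.Lib.ProjMor.Conv
import Groth.Agent.H97.GenLocusAffine
import Groth.Agent.Lib.ProjSpace.Basic
import Groth.Agent.Lib.ProjMor.Pieces

/-!
# An ample normally generated invertible module is very ample
-/

set_option autoImplicit false
noncomputable section

universe u

open CategoryTheory CategoryTheory.Limits AlgebraicGeometry TopologicalSpace Opposite MonoidalCategory

namespace Groth.Agent.Lib.Curves.NormalGen

open TensorMod TensorMod.Basic TensorMod.Free TensorMod.Dual TensorMod.Gen TensorMod.HomGlue TensorMod.LocIso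
  Ample.GenLocus Ample.Extend ProjMor.Sec

variable {X : Scheme.{u}}

theorem homEquiv_leftUnit {C D : Type*} [Category* C] [Category* D] [MonoidalCategory C] {L : C ⥤ D}
    {U' : D ⥤ C} (adj : L ⊣ U') [Reflective.InvertsUnits adj] [IsIso adj.counit] {I : D}
    (eI : U'.obj I ≅ 𝟙_ C) (A : D) :
    adj.homEquiv _ A (Reflective.leftUnit adj eI A).hom =
      ((eI ⊗ᵢ Iso.refl (U'.obj A)) ≪≫ λ_ (U'.obj A)).hom := by
  rw [Adjunction.homEquiv_unit, Reflective.leftUnit]
  simp only [Iso.trans_hom, Functor.mapIso_hom, Iso.app_hom, asIso_hom, Functor.map_comp]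
  simp

/-- The left unit multiplies. -/
theorem pairM_leftUnit (M : X.Modules) {U : X.Opens} (a : Γ(X, U)) (m : Γ(M, U)) :
    pairM (leftUnit M).hom (show Γ(Coh.structureModule X, U) from a) m = a • m := by
  have h := homEquiv_leftUnit (adj X) (fgtStructureIso X) M
  exact (congrArg (fun g => Whisker.pair (M := (fgt X).obj (Coh.structureModule X)) (P := (fgt X).obj M)
    (H := (fgt X).obj M) (X := op U) g (show Γ(Coh.structureModule X, U) from a) m) h).trans rfl

/-- Coordinates of sections of powers lie in a subring containing those of low powers, under generation. -/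
theorem coord_mem {L : X.Modules} {U : X.Opens} (e : Γ(L, U)) (C : Subring Γ(X, U)) {m : ℕ}
    (h1 : ∀ s : Γ(L, ⊤), ∃ a ∈ C, gl s U = a • e)
    (hm : ∀ z : Γ(CohB1.tensorPow L m, ⊤), ∃ a ∈ C, gl z U = a • powSec e m)
    (hgen : ∀ n : ℕ, m ≤ n → AddSubgroup.closure {z : Γ(CohB1.tensorPow L (n + 1), ⊤) |
      ∃ (w : Γ(CohB1.tensorPow L n, ⊤)) (s : Γ(L, ⊤)), z = SecTwist.tmul (CohB1.tensorPow L n) L ⊤ w s} = ⊤)
    (n : ℕ) (hn : m ≤ n) : ∀ z : Γ(CohB1.tensorPow L n, ⊤), ∃ a ∈ C, gl z U = a • powSec e n := by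
  induction n, hn using Nat.le_induction with
  | base => exact hm
  | succ n hn ih =>
    intro z
    have hz : z ∈ AddSubgroup.closure {z : Γ(CohB1.tensorPow L (n + 1), ⊤) |
        ∃ (w : Γ(CohB1.tensorPow L n, ⊤)) (s : Γ(L, ⊤)),
          z = SecTwist.tmul (CohB1.tensorPow L n) L ⊤ w s} := hgen n hn ▸ AddSubgroup.mem_top z
    induction hz using AddSubgroup.closure_induction with
    | mem z hz =>
      obtain ⟨w, s, rfl⟩ := hz
      obtain ⟨a, ha, hw⟩ := ih w
      obtain ⟨b, hb, hs⟩ := h1 s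
      refine ⟨a * b, mul_mem ha hb, ?_⟩
      refine (rs_tmul (le_top : U ≤ ⊤) w s).trans ?_
      rw [show rs _ (le_top : U ≤ ⊤) w = _ from hw, show rs L (le_top : U ≤ ⊤) s = _ from hs]
      exact tmul_smul a b _ _
    | zero => exact ⟨0, zero_mem _, by rw [zero_smul]; exact map_zero _⟩
    | add a b _ _ ha hb =>
      obtain ⟨a', ha', ea⟩ := ha
      obtain ⟨b', hb', eb⟩ := hb
      exact ⟨a' + b', add_mem ha' hb', by rw [add_smul, ← ea, ← eb]; exact map_add _ _ _⟩
    | neg a _ ha =>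
      obtain ⟨a', ha', ea⟩ := ha
      exact ⟨-a', neg_mem ha', by rw [neg_smul, ← ea]; exact map_neg _ _⟩

/-- Coordinates of the first power, from those of `L`. -/
theorem coord_one {L : X.Modules} {U : X.Opens} (e : Γ(L, U)) (C : Subring Γ(X, U))
    (h1 : ∀ s : Γ(L, ⊤), ∃ a ∈ C, gl s U = a • e) (z : Γ(CohB1.tensorPow L 1, ⊤)) :
    ∃ a ∈ C, gl z U = a • powSec e 1 := by
  obtain ⟨a, ha, hs⟩ := h1 ((leftUnit L).hom.app ⊤ z)
  refine ⟨a, ha, ?_⟩
  apply (bijective_app_of_isIso (inferInstance : IsIso ((leftUnit L).hom.app U))).1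
  refine (ProjMor.Sec.app_gl (leftUnit L).hom z U).trans (hs.trans ?_)
  refine Eq.trans ?_ ((leftUnit L).hom.app_smul (U := U) a
    (pairM (𝟙 (CohB1.tensorMod (Coh.structureModule X) L)) (one X U) e)).symm
  congr 1
  rw [← pairM_comp, Category.id_comp, pairM_leftUnit, one_smul]

/-- Functions on a locus lie in any subring containing the coordinates of all large powers. -/
theorem mem_of_coord [CompactSpace X] [QuasiSeparatedSpace X] {L : X.Modules} (hL : PicF.IsInvertible L)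
    (s : Γ(L, ⊤)) (C : Subring Γ(X, locus s)) (m : ℕ)
    (hpow : ∀ n, m ≤ n → ∀ z : Γ(CohB1.tensorPow L n, ⊤),
      ∃ a ∈ C, gl z (locus s) = a • powSec (gl s (locus s)) n)
    (w : Γ(X, locus s)) : w ∈ C := by
  haveI := QCohInv.isQCoh_structureModule X
  let U := locus s
  let e : Γ(L, U) := gl s U
  obtain ⟨n, ⟨t', ht'⟩, hn⟩ := ((eventually_extension (F := Coh.structureModule X) hL
    (Modules.Free.unitHom L s) (show Γ(Coh.structureModule X, U) from w)).and (Filter.eventually_ge_atTop m)).exists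
  obtain ⟨a, ha, hz⟩ := hpow n hn ((leftUnit (CohB1.tensorPow L n)).hom.app ⊤ t')
  convert ha using 1
  have he : IsGen L U e := isGen_locus s
  have ht'' : gl t' U = SecTwist.tmul (Coh.structureModule X) (CohB1.tensorPow L n) U
      (show Γ(Coh.structureModule X, U) from w) (powSec e n) := by
    refine ht'.trans ((twist_eq (a := 1) (e := e) ((one_smul _ e).trans (sv_unitHom s U).symm).symm n _).trans ?_)
    rw [one_pow, one_smul]
  rw [← ProjMor.Sec.app_gl, ht'', ← pairM_id, ← pairM_comp, Category.id_comp, pairM_leftUnit] at hz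
  exact (isGen_powSec he n U le_rfl).1 (by simpa only [rs_self] using hz)

/-- Coordinates of a combination with constant coefficients. -/
theorem coord_combination {R : Type u} [CommRing R] (q : X ⟶ Spec (CommRingCat.of R)) {M : X.Modules}
    {N : ℕ} (t : Fin (N + 1) → Γ(M, ⊤)) {U : X.Opens} {e : Γ(M, U)} (he : IsGen M U e)
    (C : Subring Γ(X, U)) (hscal : Set.range (q.appLE ⊤ U le_top).hom ⊆ (C : Set Γ(X, U)))
    (hratio : ∀ k a, gl (t k) U = a • e → a ∈ C)
    (hspan : ∀ s : Γ(M, ⊤), ∃ r : Fin (N + 1) → R,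
      s = ∑ j, (show Γ(X, ⊤) from Coh.toGlobal q (r j)) • t j)
    (s : Γ(M, ⊤)) : ∃ a ∈ C, gl s U = a • e := by
  obtain ⟨r, hr⟩ := hspan s
  choose c hc' using fun j => exists_coord he (gl (t j) U)
  refine ⟨∑ j, q.appLE ⊤ U le_top ((Scheme.ΓSpecIso (CommRingCat.of R)).inv (r j)) * c j,
    sum_mem fun j _ => mul_mem (hscal ⟨_, rfl⟩) (hratio j _ (hc' j)), ?_⟩
  rw [hr, gl, Finset.sum_smul]
  refine (map_sum (M.presheaf.map (homOfLE (le_top : U ≤ ⊤)).op).hom _ _).trans (Finset.sum_congr rfl fun j _ => ?_)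
  change rs M (le_top : U ≤ ⊤) ((show Γ(X, ⊤) from Coh.toGlobal q (r j)) • t j) = _
  rw [rs_smul, show rs M (le_top : U ≤ ⊤) (t j) = c j • e from hc' j, smul_smul]
  rfl

/-- On the locus of a section, functions are polynomials in the ratios of the sections. -/
theorem mem_closure {R : Type u} [CommRing R] (q : X ⟶ Spec (CommRingCat.of R))
    {L : X.Modules} (hA : CohB1.IsAmple L) {N : ℕ} (t : Fin (N + 1) → Γ(L, ⊤))
    (hspan : ∀ s : Γ(L, ⊤), ∃ r : Fin (N + 1) → R,
      s = ∑ j, (show Γ(X, ⊤) from Coh.toGlobal q (r j)) • t j)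
    (hgen : ∀ n : ℕ, 1 ≤ n → AddSubgroup.closure {z : Γ(CohB1.tensorPow L (n + 1), ⊤) |
      ∃ (m : Γ(CohB1.tensorPow L n, ⊤)) (s : Γ(L, ⊤)), z = SecTwist.tmul (CohB1.tensorPow L n) L ⊤ m s} = ⊤)
    (i : Fin (N + 1)) (w : Γ(X, locus (t i))) :
    w ∈ Subring.closure (Set.range (q.appLE ⊤ (locus (t i)) le_top).hom ∪
      {a : Γ(X, locus (t i)) | ∃ k, gl (t k) (locus (t i)) = a • gl (t i) (locus (t i))}) := by
  obtain ⟨hL, hc, -⟩ := Ample.Pow.isAmple_iff.1 hA
  haveI := hc
  haveI := Ample.Pullback.quasiSeparatedSpace_of_isAmple hA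
  have h1 := coord_combination q t (isGen_locus (t i)) (Subring.closure
    (Set.range (q.appLE ⊤ (locus (t i)) le_top).hom ∪
      {a : Γ(X, locus (t i)) | ∃ k, gl (t k) (locus (t i)) = a • gl (t i) (locus (t i))}))
    (fun a ha => Subring.subset_closure (Or.inl ha)) (fun k a h => Subring.subset_closure (Or.inr ⟨k, h⟩)) hspan
  exact mem_of_coord hL (t i) _ 1 (coord_mem _ _ h1 (coord_one _ _ h1) hgen) w

/-- An ample module all of whose powers are generated by products of sections is very ample. -/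
theorem isRelVeryAmplePn {R : Type u} [CommRing R] (q : X ⟶ Spec (CommRingCat.of R)) [UniversallyClosed q]
    {L : X.Modules} (hA : CohB1.IsAmple L) {N : ℕ} (t : Fin (N + 1) → Γ(L, ⊤))
    (hcov : ∀ x, ∃ i, x ∈ locus (t i))
    (hspan : ∀ s : Γ(L, ⊤), ∃ r : Fin (N + 1) → R,
      s = ∑ j, (show Γ(X, ⊤) from Coh.toGlobal q (r j)) • t j)
    (hgen : ∀ n : ℕ, 1 ≤ n → AddSubgroup.closure {z : Γ(CohB1.tensorPow L (n + 1), ⊤) |
      ∃ (m : Γ(CohB1.tensorPow L n, ⊤)) (s : Γ(L, ⊤)), z = SecTwist.tmul (CohB1.tensorPow L n) L ⊤ m s} = ⊤) :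
    RelAmple.IsRelVeryAmplePn q L :=
  ProjMor.Embed.isRelVeryAmplePn_of_sections q L (Ample.Pow.isAmple_iff.1 hA).1 t Set.univ
    (fun x => (hcov x).imp fun _ hi => ⟨trivial, hi⟩)
    (fun _ _ => H97.GenLocusAffine.isAffineOpen_genLocus q hA _) (fun _ => ⊤)
    (fun _ _ => isAffineOpen_top _) (fun _ _ => le_top) fun i _ w => mem_closure q hA t hspan hgen i w

/-- Sections with enough ratios on affine loci embed as a closed subscheme of projective space. -/
theorem exists_closedImmersion_of_mem {R : Type u} [CommRing R] (q : X ⟶ Spec (CommRingCat.of R))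
    [UniversallyClosed q] {M : X.Modules} (hA : CohB1.IsAmple M) {N : ℕ} (t : Fin (N + 1) → Γ(M, ⊤))
    (I : Set (Fin (N + 1))) (hcov : ∀ x, ∃ i ∈ I, x ∈ locus (t i))
    (hmem : ∀ i ∈ I, ∀ w : Γ(X, locus (t i)),
      w ∈ Subring.closure (Set.range (q.appLE ⊤ (locus (t i)) le_top).hom ∪
        {a : Γ(X, locus (t i)) | ∃ k, gl (t k) (locus (t i)) = a • gl (t i) (locus (t i))})) :
    ∃ r : X ⟶ CohB1.ProjSpace N R, IsClosedImmersion r ∧ r ≫ CohB1.ProjSpace.toSpec N R = q ∧
      Nonempty ((Scheme.Modules.pullback r).obj (Twist.twistProjSpace N R 1) ≅ M) := by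
  classical
  obtain ⟨hM, hc, -⟩ := Ample.Pow.isAmple_iff.1 hA
  obtain ⟨r, hr, τ, hτ⟩ := ProjMor.Poly.exists_map N R q M hM t
    (ProjMor.Embed.generatedBy_of_locus t fun x => (hcov x).imp fun _ h => h.2)
  let 𝒜 := CohB1.polyGrading N R
  let el : Fin (N + 1) → 𝒜 1 := fun i => ⟨MvPolynomial.X i, MvPolynomial.isHomogeneous_X R i⟩
  have hadj := ProjMor.Poly.adjoin_lin N R
  have hcv := ProjMor.Main.cover (ProjMor.Poly.lin_mem N R) hadj
  have hinv : PicF.IsInvertible (Twist.twist 𝒜 1) :=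
    Groth.Agent.Lib.ProjTilde.Invertible.twist_isInvertible_of_cover (fun x => by
      obtain ⟨c, hc⟩ := hcv x
      exact ⟨c, c.2, hc⟩) 1
  let Dp : Fin (N + 1) → (CohB1.ProjSpace N R).Opens := fun i =>
    Proj.basicOpen 𝒜 (el i : MvPolynomial (Fin (N + 1)) R)
  have hloc : ∀ i, locus (t i) = r ⁻¹ᵁ Dp i := fun i => by
    rw [show Dp i = locus (ProjMor.Frame.g 𝒜 (el i)) from (ProjMor.Frame.locus_g hcv (el i)).symm]
    exact (congrArg locus (hτ i)).symm.trans ((locus_iso τ _).trans (locus_pullback hinv r _))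
  haveI : UniversallyClosed r := by
    haveI := ProjSpace.Basic.isProper_toSpec N R
    haveI : UniversallyClosed (r ≫ CohB1.ProjSpace.toSpec N R) := by rw [hr]; infer_instance
    exact UniversallyClosed.of_comp_of_isSeparated r (CohB1.ProjSpace.toSpec N R)
  refine ⟨r, ?_, hr, ⟨τ⟩⟩
  haveI : IsImmersion r := by
    refine ProjMor.Pieces.isImmersion_of_pieces r (fun i : I => Dp i) (fun x => ?_) fun i => ?_
    · obtain ⟨i, hi, hx⟩ := hcov x
      exact ⟨⟨i, hi⟩, (hloc i).le hx⟩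
    refine ProjMor.Pieces.isClosedImmersion_restrict r (U := locus (t i))
      (Proj.isAffineOpen_basicOpen 𝒜 _ (el i).2 one_pos) (H97.GenLocusAffine.isAffineOpen_genLocus q hA _)
      (hloc i).symm fun z => ?_
    refine (Subring.closure_le (t := (r.appLE (Dp i) (locus (t i)) (hloc i).le).hom.range)).2 ?_
      (hmem i i.2 z)
    rintro a (⟨y, rfl⟩ | ⟨k, hk⟩)
    · have hle : Dp i ≤ CohB1.ProjSpace.toSpec N R ⁻¹ᵁ ⊤ := le_top
      refine ⟨(CohB1.ProjSpace.toSpec N R).appLE ⊤ (Dp i) hle y, ?_⟩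
      refine (congr($(Scheme.Hom.appLE_comp_appLE r (CohB1.ProjSpace.toSpec N R) ⊤ (Dp i) (locus (t i)) hle
        (hloc i).le) y)).trans ?_
      simp only [hr]
    · have hratio : gl (t k) (locus (t i)) =
          r.appLE _ (locus (t i)) (hloc i).le (ProjMor.Frame.fr 𝒜 (el i) (el k)) • gl (t i) (locus (t i)) :=
        ProjMor.Embed.ratio_of_iso (a := el i) (b := el k) τ (hτ i) (hτ k) (hloc i).le
      refine ⟨ProjMor.Frame.fr 𝒜 (el i) (el k), ((isGen_locus (t i) _ le_rfl).1 ?_).symm⟩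
      simpa only [rs_self] using hk.symm.trans hratio
  exact IsClosedImmersion.of_isPreimmersion r r.isClosedMap.isClosed_range

/-- An ample normally generated module gives a closed immersion into projective space. -/
theorem exists_closedImmersion {R : Type u} [CommRing R] (q : X ⟶ Spec (CommRingCat.of R)) [UniversallyClosed q]
    {L : X.Modules} (hA : CohB1.IsAmple L) {N : ℕ} (t : Fin (N + 1) → Γ(L, ⊤))
    (hcov : ∀ x, ∃ i, x ∈ locus (t i))
    (hspan : ∀ s : Γ(L, ⊤), ∃ r : Fin (N + 1) → R,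
      s = ∑ j, (show Γ(X, ⊤) from Coh.toGlobal q (r j)) • t j)
    (hgen : ∀ n : ℕ, 1 ≤ n → AddSubgroup.closure {z : Γ(CohB1.tensorPow L (n + 1), ⊤) |
      ∃ (m : Γ(CohB1.tensorPow L n, ⊤)) (s : Γ(L, ⊤)), z = SecTwist.tmul (CohB1.tensorPow L n) L ⊤ m s} = ⊤) :
    ∃ r : X ⟶ CohB1.ProjSpace N R, IsClosedImmersion r ∧ r ≫ CohB1.ProjSpace.toSpec N R = q ∧
      Nonempty ((Scheme.Modules.pullback r).obj (Twist.twistProjSpace N R 1) ≅ L) :=
  exists_closedImmersion_of_mem q hA t Set.univ (fun x => (hcov x).imp fun _ hi => ⟨trivial, hi⟩)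
    fun i _ w => mem_closure q hA t hspan hgen i w

/-- Sections of a normally generated ample module generate it. -/
theorem exists_mem_locus_of_gen {L : X.Modules} (hA : CohB1.IsAmple L)
    (hgen : ∀ n : ℕ, 1 ≤ n → AddSubgroup.closure {z : Γ(CohB1.tensorPow L (n + 1), ⊤) |
      ∃ (m : Γ(CohB1.tensorPow L n, ⊤)) (s : Γ(L, ⊤)), z = SecTwist.tmul (CohB1.tensorPow L n) L ⊤ m s} = ⊤)
    (x : X) : ∃ s : Γ(L, ⊤), x ∈ locus s := by
  by_contra hno
  push Not at hno
  obtain ⟨hL, -, hcov⟩ := Ample.Pow.isAmple_iff.1 hA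
  obtain ⟨U, e, hxU, he⟩ := isInvertible_iff.1 hL x
  let J : Ideal Γ(X, U) := (IsLocalRing.maximalIdeal (X.presheaf.stalk x)).comap (X.presheaf.germ U x hxU).hom
  have h1 : ∀ s : Γ(L, ⊤), ∃ a ∈ J, gl s U = a • e := fun s => by
    obtain ⟨a, ha⟩ := exists_coord he (gl s U)
    refine ⟨a, fun hu => hno s ?_, ha⟩
    exact ((locus_inf_eq he ha).ge ((X.toRingedSpace.mem_basicOpen a x hxU).2 hu)).1
  have hall : ∀ n : ℕ, 1 ≤ n → ∀ z : Γ(CohB1.tensorPow L n, ⊤), ∃ a ∈ J, gl z U = a • powSec e n := by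
    intro n hn
    induction n, hn using Nat.le_induction with
    | base =>
      intro z
      obtain ⟨a, ha, hs⟩ := h1 ((leftUnit L).hom.app ⊤ z)
      refine ⟨a, ha, ?_⟩
      apply (bijective_app_of_isIso (inferInstance : IsIso ((leftUnit L).hom.app U))).1
      refine (ProjMor.Sec.app_gl (leftUnit L).hom z U).trans (hs.trans ?_)
      refine Eq.trans ?_ ((leftUnit L).hom.app_smul (U := U) a
        (pairM (𝟙 (CohB1.tensorMod (Coh.structureModule X) L)) (one X U) e)).symm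
      congr 1
      rw [← pairM_comp, Category.id_comp, pairM_leftUnit, one_smul]
    | succ n hn ih =>
      intro z
      have hz : z ∈ AddSubgroup.closure {z : Γ(CohB1.tensorPow L (n + 1), ⊤) |
          ∃ (w : Γ(CohB1.tensorPow L n, ⊤)) (s : Γ(L, ⊤)),
            z = SecTwist.tmul (CohB1.tensorPow L n) L ⊤ w s} := hgen n hn ▸ AddSubgroup.mem_top z
      induction hz using AddSubgroup.closure_induction with
      | mem z hz =>
        obtain ⟨w, s, rfl⟩ := hz
        obtain ⟨a, ha, hw⟩ := ih w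
        obtain ⟨b, hb, hs⟩ := h1 s
        refine ⟨a * b, J.mul_mem_left a hb, ?_⟩
        refine (rs_tmul (le_top : U ≤ ⊤) w s).trans ?_
        rw [show rs _ (le_top : U ≤ ⊤) w = _ from hw, show rs L (le_top : U ≤ ⊤) s = _ from hs]
        exact tmul_smul a b _ _
      | zero => exact ⟨0, zero_mem _, by rw [zero_smul]; exact map_zero _⟩
      | add a b _ _ ha hb =>
        obtain ⟨a', ha', ea⟩ := ha
        obtain ⟨b', hb', eb⟩ := hb
        exact ⟨a' + b', add_mem ha' hb', by rw [add_smul, ← ea, ← eb]; exact map_add _ _ _⟩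
      | neg a _ ha =>
        obtain ⟨a', ha', ea⟩ := ha
        exact ⟨-a', neg_mem ha', by rw [neg_smul, ← ea]; exact map_neg _ _⟩
  obtain ⟨n, hn, σ, hxσ, -⟩ := hcov x
  obtain ⟨a, ha, hz⟩ := hall n hn (sv σ ⊤)
  have h2 : sv σ U = a • powSec e n := (rs_sv σ (le_top : U ≤ ⊤)).symm.trans hz
  exact ha ((X.toRingedSpace.mem_basicOpen a x hxU).1
    ((Ample.Basis.genLocus_eq_basicOpen_of_sv (isGen_powSec he n) h2).le ⟨hxσ, hxU⟩))

end Groth.Agent.Lib.Curves.NormalGen
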