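import Groth.Agent.Lib.Curves.DualDeg
import Groth.Agent.H81.FinCovTrace
import Groth.Agent.Lib.QCoh.Pushforward
import Groth.Agent.Lib.SurfInt.Push
import Groth.Agent.Lib.TensorMod.QCohInv
import Mathlib.RingTheory.Trace.Basic

/-!
# The trace pairing on the direct image of the structure sheaf of a finite cover
-/

set_option autoImplicit false
universe u

open CategoryTheory CategoryTheory.Limits AlgebraicGeometry TopologicalSpace Opposite

noncomputable section

namespace Groth.Agent.Lib.Curves.TraceDual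

open Groth.Agent.Lib Groth.Agent.Lib.Modules Groth.Agent.Lib.TensorMod Groth.Agent.Lib.TensorMod.Dual
  Groth.Agent.H81.FinCovTrace

variable {X Y : Scheme.{u}} (f : X ⟶ Y) [IsFinite f]

/-- The algebra `f_* O_X`. -/
abbrev alg : RelSpec.QCAlg Y := RelSpec.QCAlg.directImage f

/-- The module of the algebra is the direct image. -/
def algPushIso : (alg f).toModule ≅ (Coh.push f).obj (Coh.structureModule X) where
  hom := ⟨letI := (alg f).moduleSect
    PresheafOfModules.homMk
      { app := fun U => AddCommGrpCat.ofHom (AddMonoidHom.id _)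
        naturality := fun _ _ _ => rfl }
      (fun _ _ _ => rfl)⟩
  inv := ⟨letI := (alg f).moduleSect
    PresheafOfModules.homMk
      { app := fun U => AddCommGrpCat.ofHom (AddMonoidHom.id _)
        naturality := fun _ _ _ => rfl }
      (fun _ _ _ => rfl)⟩
  hom_inv_id := rfl
  inv_hom_id := rfl

theorem isCoh [IsLocallyNoetherian Y] : Coh.IsCoh (alg f).toModule := by
  refine CohBasics.Closure.isCoh_of_iso (algPushIso f).symm ?_
  haveI := TensorMod.QCohInv.isQCoh_structureModule X
  haveI : ((Coh.push f).obj (Coh.structureModule X)).IsQuasicoherent :=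
    QCoh.Pushforward.isQCoh_pushforward f (M := Coh.structureModule X)
  refine CohBasics.Closure.isCoh_of_finite_sections fun U hU => ?_
  exact f.finite_app U hU

variable [IsIntegral X] [IsIntegral Y]

lemma app_injective (hdom : f (genericPoint X) = genericPoint Y) {U : Y.Opens} [Nonempty U] :
    Function.Injective (f.app U) := by
  refine (injective_iff_map_eq_zero _).mpr fun a ha => ?_
  have hη : genericPoint Y ∈ U :=
    ((genericPoint_spec Y).mem_open_set_iff U.2).mpr ⟨_, Set.mem_univ _, (Classical.arbitrary U).2⟩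
  have hη' : f (genericPoint X) ∈ U := hdom ▸ hη
  have h1 := congr_arg (X.presheaf.germ (f ⁻¹ᵁ U) (genericPoint X) hη') ha
  rw [map_zero] at h1
  erw [← Scheme.Hom.germ_stalkMap_apply f U (genericPoint X) hη' a] at h1
  letI : Field (Y.presheaf.stalk (f (genericPoint X))) :=
    ((Y.presheaf.stalkCongr (.of_eq hdom)).commRingCatIsoToRingEquiv.toMulEquiv.isField
      (Field.toIsField Y.functionField)).toField
  have h2 := (injective_iff_map_eq_zero _).mp (RingHom.injective (f.stalkMap (genericPoint X)).hom) _ h1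
  exact germ_injective_of_isIntegral Y (f (genericPoint X)) hη' (h2.trans (map_zero _).symm)

theorem isTorsionFree (hdom : f (genericPoint X) = genericPoint Y) :
    TorSh.IsTorsionFree (alg f).toModule := fun y => by
  refine Module.isTorsionFree_iff_smul_eq_zero.mpr fun r m h => ?_
  obtain ⟨U, hU, a, rfl⟩ := TopCat.Presheaf.exists_germ_eq Y.presheaf r
  obtain ⟨V, hV, v, rfl⟩ := TopCat.Presheaf.exists_germ_eq (alg f).toModule.presheaf m
  rw [← TopCat.Presheaf.germ_res_apply Y.presheaf (homOfLE (inf_le_left : U ⊓ V ≤ U)) y ⟨hU, hV⟩ a,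
    ← TopCat.Presheaf.germ_res_apply (alg f).toModule.presheaf (homOfLE (inf_le_right : U ⊓ V ≤ V)) y
      ⟨hU, hV⟩ v] at h ⊢
  rw [← StalkModule.germ_smul, ← map_zero ((alg f).toModule.presheaf.germ (U ⊓ V) y ⟨hU, hV⟩).hom] at h
  obtain ⟨W, hyW, i, i', h'⟩ := TopCat.Presheaf.germ_eq (alg f).toModule.presheaf y _ _ _ _ h
  rw [map_zero, Scheme.Modules.map_smul] at h'
  haveI : Nonempty W := ⟨⟨y, hyW⟩⟩
  have hη : genericPoint Y ∈ W :=
    ((genericPoint_spec Y).mem_open_set_iff W.2).mpr ⟨_, Set.mem_univ _, hyW⟩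
  haveI : Nonempty (f ⁻¹ᵁ W : X.Opens) := ⟨⟨genericPoint X, show f (genericPoint X) ∈ W from hdom ▸ hη⟩⟩
  rcases mul_eq_zero.mp (show f.app W (Y.presheaf.map i.op _) *
      (show Γ(X, f ⁻¹ᵁ W) from (alg f).toModule.presheaf.map i.op _) = 0 from h') with ha | hm
  · left
    have h0 := app_injective f hdom (ha.trans (map_zero _).symm)
    rw [← TopCat.Presheaf.germ_res_apply Y.presheaf i y hyW]
    exact (congrArg _ h0).trans (map_zero _)
  · right
    rw [← TopCat.Presheaf.germ_res_apply (alg f).toModule.presheaf i y hyW]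
    exact (congrArg _ hm).trans (map_zero _)

section

omit [IsFinite f] [IsIntegral X] [IsIntegral Y]
variable (A : RelSpec.QCAlg Y) (τ : A.toModule ⟶ Coh.structureModule Y)

/-- `s ↦ τ(s · -)`. -/
def adjVal {U : Y.Opens} (s : ASec A U) : DualSec A.toModule U :=
  ⟨fun V =>
    { toFun := fun m => (show Γ(Y, V.1) from τ.app V.1 (resA A V.2 s * (show ASec A V.1 from m)))
      map_add' := fun a b => by
        refine (congrArg (τ.app V.1) (mul_add (resA A V.2 s) _ _)).trans ?_
        exact map_add (τ.app V.1).hom _ _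
      map_smul' := fun r a => by
        have h : resA A V.2 s * (algebraMap Γ(Y, V.1) (ASec A V.1) r * (show ASec A V.1 from a)) =
            algebraMap Γ(Y, V.1) (ASec A V.1) r * (resA A V.2 s * (show ASec A V.1 from a)) := by ring
        refine (congrArg (τ.app V.1) h).trans ?_
        exact Scheme.Modules.Hom.app_smul τ r _ },
    fun V W h m => by
      refine (rf_trace A τ h _).trans ?_
      change τ.app W.1 (resA A h (resA A V.2 s * _)) = τ.app W.1 (resA A W.2 s * _)
      rw [map_mul, resA_resA]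
      rfl⟩

lemma adjVal_add {U : Y.Opens} (s t : ASec A U) : adjVal A τ (s + t) = adjVal A τ s + adjVal A τ t := by
  refine DualSec.ext fun V hV m => ?_
  refine (congrArg (τ.app V) ?_).trans (map_add (τ.app V).hom _ _)
  change resA A hV (s + t) * (show ASec A V from m) =
    resA A hV s * (show ASec A V from m) + resA A hV t * (show ASec A V from m)
  exact (congrArg (· * (show ASec A V from m)) (map_add _ _ _)).trans (add_mul (resA A hV s) (resA A hV t) _)

lemma adjVal_res {U V : Y.Opens} (h : V ≤ U) (s : ASec A U) :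
    adjVal A τ (resA A h s) = dualRes A.toModule h (adjVal A τ s) := by
  refine DualSec.ext fun W hW m => ?_
  change τ.app W (resA A hW (resA A h s) * _) = τ.app W (resA A (hW.trans h) s * _)
  rw [resA_resA]

lemma adjVal_smul {U : Y.Opens} (r : Γ(Y, U)) (s : ASec A U) :
    adjVal A τ (algebraMap Γ(Y, U) (ASec A U) r * s) = r • adjVal A τ s := by
  refine DualSec.ext fun V hV m => ?_
  refine (congrArg (τ.app V) ?_).trans (Scheme.Modules.Hom.app_smul τ (rf hV r) _)
  change resA A hV (algebraMap Γ(Y, U) (ASec A U) r * s) * (show ASec A V from m) =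
    algebraMap Γ(Y, V) (ASec A V) (rf hV r) * (resA A hV s * (show ASec A V from m))
  exact ((congrArg (· * (show ASec A V from m))
    ((map_mul _ _ _).trans (congrArg (· * resA A hV s) (resA_algebraMap A hV r)))).trans
      (mul_assoc (algebraMap Γ(Y, V) (ASec A V) (rf hV r)) (resA A hV s) _))

/-- The adjoint of the trace pairing. -/
def adj : A.toModule ⟶ TensorMod.Dual.dual A.toModule :=
  ⟨letI := A.moduleSect
   PresheafOfModules.homMk
    { app := fun U => AddCommGrpCat.ofHom
        (AddMonoidHom.mk' (fun s => adjVal A τ (U := U.unop) s) (adjVal_add A τ))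
      naturality := fun U U' i => by
        ext s
        exact adjVal_res A τ i.unop.le s }
    (fun U r s => adjVal_smul A τ (U := U.unop) r s)⟩

/-- Nondegenerate trace forms on small affines give a monomorphism. -/
theorem mono_adj (hA : FlatMod.IsFinLocFree A.toModule) (hτ : FinCov.IsTrace A τ)
    (h : ∀ V : Y.Opens, IsAffineOpen V → Small A V →
      Function.Injective (Algebra.traceForm Γ(Y, V) (ASec A V))) : Mono (adj A τ) := by
  refine (StalkModule.mono_iff_stalkMapₗ_injective _).mpr fun y => (injective_iff_map_eq_zero _).mpr fun v hv => ?_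
  obtain ⟨U, hyU, s, rfl⟩ := TopCat.Presheaf.exists_germ_eq A.toModule.presheaf v
  rw [StalkModule.stalkMapₗ_germ, ← map_zero ((TensorMod.Dual.dual A.toModule).presheaf.germ U y hyU).hom] at hv
  obtain ⟨W, hyW, i, i', hw⟩ := TopCat.Presheaf.germ_eq (TensorMod.Dual.dual A.toModule).presheaf y _ _ _ _ hv
  obtain ⟨T, hyT, hT⟩ := exists_small A hA y
  obtain ⟨V, hV, hyV, hVW⟩ := exists_isAffineOpen_mem_and_subset (show y ∈ W ⊓ T from ⟨hyW, hyT⟩)
  have hVs : Small A V := hT.mono A fun z hz => (hVW hz).2
  have hVW' : V ≤ W := fun z hz => (hVW hz).1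
  have hsV : resA A (hVW'.trans i.le) s = 0 := by
    refine (injective_iff_map_eq_zero _).mp (h V hV hVs) _ (LinearMap.ext fun m => ?_)
    rw [Algebra.traceForm_apply, LinearMap.zero_apply]
    refine (trace_eq_of_small A hτ hV hVs _).symm.trans ?_
    rw [map_zero] at hw
    have := congrArg (fun φ : DualSec A.toModule W => φ.app hVW' (show Γ(A.toModule, V) from m)) hw
    exact this
  rw [← TopCat.Presheaf.germ_res_apply A.toModule.presheaf (homOfLE (hVW'.trans i.le)) y hyV s]
  exact (congrArg _ hsV).trans (map_zero _)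

/-- Perfect trace forms on small affines give an isomorphism. -/
theorem isIso_adj (hA : FlatMod.IsFinLocFree A.toModule) (hτ : FinCov.IsTrace A τ)
    (h : ∀ V : Y.Opens, IsAffineOpen V → Small A V →
      Function.Bijective (Algebra.traceForm Γ(Y, V) (ASec A V))) : IsIso (adj A τ) := by
  haveI := mono_adj A τ hA hτ fun V hV hs => (h V hV hs).1
  suffices Epi (adj A τ) from isIso_of_mono_of_epi _
  refine (StalkModule.epi_iff_stalkMapₗ_surjective _).mpr fun y v => ?_
  obtain ⟨U, hyU, φ, rfl⟩ := TopCat.Presheaf.exists_germ_eq (TensorMod.Dual.dual A.toModule).presheaf v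
  obtain ⟨T, hyT, hT⟩ := exists_small A hA y
  obtain ⟨V, hV, hyV, hVW⟩ := exists_isAffineOpen_mem_and_subset (show y ∈ U ⊓ T from ⟨hyU, hyT⟩)
  have hVs : Small A V := hT.mono A fun z hz => (hVW hz).2
  have hVU : V ≤ U := fun z hz => (hVW hz).1
  let ψ : DualSec A.toModule V := dualRes A.toModule hVU φ
  let lψ : ASec A V →ₗ[Γ(Y, V)] Γ(Y, V) :=
    { toFun := fun m => ψ.app le_rfl (show Γ(A.toModule, V) from m)
      map_add' := fun a b => map_add (ψ.app le_rfl) _ _
      map_smul' := fun r a => map_smul (ψ.app le_rfl) r (show Γ(A.toModule, V) from a) }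
  obtain ⟨s, hs⟩ := (h V hV hVs).2 lψ
  refine ⟨A.toModule.presheaf.germ V y hyV (show Γ(A.toModule, V) from s), ?_⟩
  rw [StalkModule.stalkMapₗ_germ,
    ← TopCat.Presheaf.germ_res_apply (TensorMod.Dual.dual A.toModule).presheaf (homOfLE hVU) y hyV φ]
  refine congrArg _ (DualSec.ext fun W hW m => ?_)
  refine TopCat.Sheaf.eq_of_locally_eq' Y.sheaf
    (fun Z : {Z : Y.Opens // IsAffineOpen Z ∧ Z ≤ W} => Z.1) W (fun Z => homOfLE Z.2.2) (fun z hz => by
      obtain ⟨Z, hZ, hzZ, hZW⟩ := exists_isAffineOpen_mem_and_subset hz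
      exact Opens.mem_iSup.mpr ⟨⟨Z, hZ, hZW⟩, hzZ⟩) _ _ fun ⟨Z, hZ, hZW⟩ => ?_
  change rf hZW _ = rf hZW _
  have hc := (adjVal A τ s).compat hW hZW m
  change rf hZW ((adjVal A τ s).app hW m) = rf hZW (ψ.app hW m)
  rw [hc, ψ.compat hW hZW m]
  set q := rs A.toModule hZW m
  have hZV : Z ≤ V := hZW.trans hW
  obtain ⟨T', n, e, hVT, he⟩ := hVs
  have hbas : ∀ i, (adjVal A τ s).app le_rfl (rs A.toModule hVT (e i)) = ψ.app le_rfl (rs A.toModule hVT (e i)) := by
    intro i
    have h1 := LinearMap.congr_fun hs (show ASec A V from rs A.toModule hVT (e i))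
    rw [Algebra.traceForm_apply] at h1
    refine Eq.trans ?_ h1
    change (show Γ(Y, V) from τ.app V (resA A le_rfl s * _)) = _
    rw [resA_self]
    exact trace_eq_of_small A hτ hV ⟨T', n, e, hVT, he⟩ _
  obtain ⟨c, hc'⟩ := (he Z (hZV.trans hVT)).2 q
  rw [← hc']
  simp only [Basis.comb, map_sum, map_smul]
  refine Finset.sum_congr rfl fun i _ => congrArg _ ?_
  have e1 := (adjVal A τ s).compat le_rfl hZV (rs A.toModule hVT (e i))
  have e2 := ψ.compat le_rfl hZV (rs A.toModule hVT (e i))
  rw [rs_rs] at e1 e2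
  exact e1.symm.trans ((congrArg (rf hZV) (hbas i)).trans e2)

end

end Groth.Agent.Lib.Curves.TraceDual
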