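import Groth.Agent.Lib.Curves.SubUnionTwist
import Groth.Agent.Lib.CurveBundle.GP

/-!
# Constants on a connected union of components
-/

set_option autoImplicit false
set_option linter.style.haveILetI false
universe u

open CategoryTheory CategoryTheory.Limits AlgebraicGeometry Opposite TopologicalSpace

noncomputable section

namespace Groth.Agent.Lib.Curves.SubUnion

open Groth.Agent.Lib Groth.Agent.Lib.Modules
open Groth.Agent.Lib.Curves.LES (mapK mapK_comp mapK_id exactK₂ isoK)
open Groth.Agent.Lib.Modules.StalkModule (stalkMapₗ)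
open Groth.Agent.Lib.TensorMod.Basic (tensorBy tmap)
open Groth.Agent.Lib.CurveBundle.EndAlg (scal cst scal_comm scalHom)

variable {X : Scheme.{u}}

lemma twist_comp (L : X.Modules) {A B C : X.Modules} (f : A ⟶ B) (g : B ⟶ C) :
    tmap (f ≫ g) (𝟙 L) = tmap f (𝟙 L) ≫ tmap g (𝟙 L) :=
  (tensorBy L).map_comp f g

lemma twist_add (L : X.Modules) {A B : X.Modules} (f g : A ⟶ B) :
    tmap (f + g) (𝟙 L) = tmap f (𝟙 L) + tmap g (𝟙 L) :=
  haveI := CurveBundle.GP.additive_tensorBy L
  (tensorBy L).map_add

lemma twist_zero (L A B : X.Modules) : tmap (0 : A ⟶ B) (𝟙 L) = 0 :=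
  haveI := CurveBundle.GP.additive_tensorBy L
  (tensorBy L).map_zero A B

lemma twist_id (L A : X.Modules) : tmap (𝟙 A) (𝟙 L) = 𝟙 (CohB1.tensorMod A L) :=
  (tensorBy L).map_id A

/-- The union of all components is everything. -/
theorem uT_eq_univ {S : Finset X} (h : ∀ η ∈ genericPoints X, η ∈ S) : uT S = Set.univ := by
  refine Set.eq_univ_of_forall fun x => ?_
  obtain ⟨η, hη, hηC⟩ := Flat55.GenericPoints.exists_closure_eq
    (irreducibleComponent_mem_irreducibleComponents x)
  exact Set.mem_biUnion (x := η) (h η hη) (hηC.ge mem_irreducibleComponent)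

/-- On a connected curve no generic point of a component is closed. -/
theorem not_isClosed_generic [NoetherianSpace X] [ConnectedSpace X]
    (hdim : topologicalKrullDim X = 1) {η : X} (hη : η ∈ genericPoints X) :
    ¬ IsClosed ({η} : Set X) := by
  intro hc
  classical
  let S := (genericPoints.finite (α := X) NoetherianSpace.finite_irreducibleComponents).toFinset.erase η
  have hS : ({η} : Set X)ᶜ = uT S := by
    refine Set.ext fun x => ⟨fun hx => ?_, fun hx => ?_⟩
    · obtain ⟨η', hη', hηC⟩ := Flat55.GenericPoints.exists_closure_eq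
        (irreducibleComponent_mem_irreducibleComponents x)
      have hmem : x ∈ closure ({η'} : Set X) := hηC.ge mem_irreducibleComponent
      exact Set.mem_biUnion (x := η') (Finset.mem_erase.mpr ⟨fun he => hx (by
        rwa [he, hc.closure_eq] at hmem), (Set.Finite.mem_toFinset _).mpr hη'⟩) hmem
    · rintro rfl
      exact absurd ((mem_uT_iff hη).mp hx) (Finset.notMem_erase _ _)
  have hopen : IsOpen ({η} : Set X) := by
    rw [← isClosed_compl_iff, hS]
    exact isClosed_uT S
  have huniv := IsClopen.eq_univ (⟨hc, hopen⟩ : IsClopen ({η} : Set X)) ⟨η, rfl⟩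
  have hle : topologicalKrullDim X ≤ 0 := by
    haveI : Subsingleton X := ⟨fun a b =>
      (huniv.ge (Set.mem_univ a) : a = η).trans (huniv.ge (Set.mem_univ b) : b = η).symm⟩
    haveI : Subsingleton (IrreducibleCloseds X) := ⟨fun A B => IrreducibleCloseds.ext
      ((Subsingleton.set_cases (p := fun S => S.Nonempty → S = Set.univ) (fun h => absurd h Set.not_nonempty_empty)
        (fun _ => rfl) (A : Set X) A.isIrreducible'.nonempty).trans
      (Subsingleton.set_cases (p := fun S => S.Nonempty → S = Set.univ) (fun h => absurd h Set.not_nonempty_empty)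
        (fun _ => rfl) (B : Set X) B.isIrreducible'.nonempty).symm)⟩
    exact Order.krullDim_nonpos_of_subsingleton
  exact absurd (hdim.ge.trans hle) (by decide)

/-- A finite subscheme contains no generic point. -/
theorem generic_notMem [NoetherianSpace X] [ConnectedSpace X] (hdim : topologicalKrullDim X = 1)
    {Z : X.IdealSheafData} (hZ : topologicalKrullDim (Z.support : Set X) ≤ 0) {η : X}
    (hη : η ∈ genericPoints X) : η ∉ (Z.support : Set X) := by
  intro h
  refine not_isClosed_generic hdim hη (closure_eq_iff_isClosed.mp (Set.Subset.antisymm (fun y hy => ?_) subset_closure))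
  have hys : y ∈ (Z.support : Set X) :=
    closure_minimal (Set.singleton_subset_iff.mpr h) Z.support.isClosed hy
  have hsp : (⟨η, h⟩ : (Z.support : Set X)) ⤳ ⟨y, hys⟩ :=
    (Topology.IsInducing.subtypeVal.specializes_iff).mp (specializes_iff_mem_closure.mpr hy)
  have hmax := Order.krullDim_nonpos_iff_forall_isMax.mp hZ
    ⟨closure {(⟨y, hys⟩ : (Z.support : Set X))}, isIrreducible_singleton.closure, isClosed_closure⟩
  have hu := hmax (b := ⟨closure {(⟨η, h⟩ : (Z.support : Set X))}, isIrreducible_singleton.closure,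
    isClosed_closure⟩) (hsp.closure_subset)
  have hback : (⟨y, hys⟩ : (Z.support : Set X)) ⤳ ⟨η, h⟩ :=
    specializes_iff_mem_closure.mpr (hu (subset_closure rfl))
  exact (congrArg Subtype.val (hsp.antisymm hback).eq).symm

/-- The reduced subscheme of a connected union is connected. -/
theorem connectedSpace_idl {S : Finset X} (h : _root_.IsPreconnected (uT S)) (hne : S.Nonempty) :
    ConnectedSpace (idl S).subscheme := by
  have hr : Set.range (idl S).subschemeι = uT S := Scheme.IdealSheafData.range_subschemeι _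
  obtain ⟨η, hη⟩ := hne
  obtain ⟨y, -⟩ := hr.ge (mem_uT_of_mem hη)
  exact { isPreconnected_univ :=
            ((idl S).subschemeι.isClosedEmbedding.isInducing.isPreconnected_image).mp (by
              rw [Set.image_univ, hr]; exact h)
          toNonempty := ⟨y⟩ }

/-- The reduced subscheme of a nonempty union is a curve. -/
theorem dim_idl [NoetherianSpace X] [ConnectedSpace X] (hdim : topologicalKrullDim X = 1)
    {S : Finset X} (hS : IsGen S) (hne : S.Nonempty) :
    topologicalKrullDim (idl S).subscheme = 1 := by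
  refine le_antisymm ((idl S).subschemeι.isClosedEmbedding.isInducing.topologicalKrullDim_le.trans
    hdim.le) ?_
  by_contra hlt
  obtain ⟨η, hη⟩ := hne
  have hle : topologicalKrullDim (idl S).subscheme ≤ 0 :=
    Order.le_of_lt_succ (lt_of_not_ge hlt)
  have hr : Set.range (idl S).subschemeι = uT S := Scheme.IdealSheafData.range_subschemeι _
  refine generic_notMem hdim (Z := idl S) ?_ (hS η hη) (mem_uT_of_mem hη)
  rw [support_idl, ← hr,
    ← ((idl S).subschemeι.isClosedEmbedding.isEmbedding.toHomeomorph).isHomeomorph.topologicalKrullDim_eq]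
  exact hle

variable (k : Type u) [Field k] [X.Over (Spec (CommRingCat.of k))]
  [IsProper (X ↘ Spec (CommRingCat.of k))]

include k in
/-- The functions on a connected reduced proper scheme form a field. -/
theorem isUnit_of_ne_zero [IsReduced X] [ConnectedSpace X] (c : Γ(X, ⊤)) (hc : c ≠ 0) : IsUnit c := by
  letI := GlobalSections.secModule k (Coh.structureModule X)
  haveI := Snapper.Finite.cohFinite k X (Coh.structureModule X) (Degree.isCoh_structureModule (X := X)) 0
  haveI hfin : Module.Finite k ((Coh.structureModule X).val.obj (op ⊤) : Type u) :=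
    Module.Finite.equiv (GlobalSections.h0Linear k (Coh.structureModule X))
  letI : Algebra k Γ(X, ⊤) :=
    RingHom.toAlgebra (S := Γ(X, ⊤)) (Coh.toGlobal (X ↘ Spec (CommRingCat.of k)))
  haveI : Module.Finite k Γ(X, ⊤) := hfin
  haveI : IsArtinianRing Γ(X, ⊤) := IsArtinianRing.of_finite k Γ(X, ⊤)
  obtain ⟨n, d, hd⟩ := IsArtinian.exists_pow_succ_smul_dvd c (1 : Γ(X, ⊤))
  have h1 : c * (1 - c * d) = 0 := by
    refine IsNilpotent.eq_zero ⟨n + 1, ?_⟩
    rw [smul_eq_mul, smul_eq_mul, mul_one] at hd
    rw [mul_pow, pow_succ' (1 - c * d), ← mul_assoc, show c ^ (n + 1) * (1 - c * d) = 0 by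
      rw [pow_succ'] at hd
      rw [mul_sub, mul_one, pow_succ']
      linear_combination (-c) * hd, zero_mul]
  set e := c * d with he
  have hid : e * (1 - e) = 0 := by rw [he, mul_right_comm, h1, zero_mul]
  have hdisj : X.basicOpen e ⊓ X.basicOpen (1 - e) = ⊥ := by
    rw [← Scheme.basicOpen_mul, hid, Scheme.basicOpen_zero]
  have hcov : ∀ x : X, x ∈ X.basicOpen e ∨ x ∈ X.basicOpen (1 - e) := fun x => by
    rw [X.mem_basicOpen_top e x, X.mem_basicOpen_top (1 - e) x, map_sub, map_one]
    exact IsLocalRing.isUnit_or_isUnit_one_sub_self _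
  have hcompl : ((X.basicOpen e : X.Opens) : Set X)ᶜ = X.basicOpen (1 - e) := Set.ext fun x =>
    ⟨fun hx => (hcov x).resolve_left hx, fun hx hx' => by
      have hb : x ∈ X.basicOpen e ⊓ X.basicOpen (1 - e) := ⟨hx', hx⟩
      rw [hdisj] at hb
      exact hb⟩
  have hclopen : IsClopen ((X.basicOpen e : X.Opens) : Set X) :=
    ⟨isOpen_compl_iff.mp (hcompl ▸ (X.basicOpen (1 - e)).isOpen), (X.basicOpen e).isOpen⟩
  rcases isClopen_iff.mp hclopen with h | h
  · exfalso
    have hu : IsUnit (1 - e) := by
      refine X.toLocallyRingedSpace.toRingedSpace.isUnit_of_isUnit_germ ⊤ _ fun x hx => ?_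
      exact (X.mem_basicOpen (1 - e) x hx).mp ((hcov x).resolve_left fun h' => by
        rw [← SetLike.mem_coe, h] at h'; exact h')
    exact hc (hu.mul_left_eq_zero.mp h1)
  · have hu : IsUnit e := X.toLocallyRingedSpace.toRingedSpace.isUnit_of_isUnit_germ ⊤ _ fun x hx =>
      (X.mem_basicOpen e x hx).mp (h.ge (Set.mem_univ x))
    exact isUnit_of_mul_isUnit_left (he ▸ hu)

variable (L : X.Modules) (Z : X.IdealSheafData) (S : Finset X)

/-- A constant acts on `O_T`. -/
def ec (c : Γ((idl S).subscheme, ⊤)) :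
    _root_.ClSub.quotMod (idl S) ⟶ _root_.ClSub.quotMod (idl S) :=
  (Coh.push (idl S).subschemeι).map (scal (Coh.structureModule (idl S).subscheme) c)

omit [X.Over (Spec (CommRingCat.of k))] [IsProper (X ↘ Spec (CommRingCat.of k))] in
lemma ec_kill (c : Γ((idl S).subscheme, ⊤)) :
    (_root_.ClSub.idealModι Z ≫ _root_.ClSub.toSubscheme (idl S)) ≫ ec S c ≫
      NefGG.quotHom (idl S) (Z ⊔ idl S) le_sup_right = 0 := by
  refine Stalk.hom_ext_stalk fun x => ?_
  ext v
  obtain ⟨U, hxU, m, rfl⟩ := (_root_.ClSub.idealMod Z).presheaf.exists_germ_eq v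
  obtain ⟨V, hVU, hxV⟩ := ClSub.Basis.exists_affine_le hxU
  rw [← ClSub.Basis.germ_map hVU hxV m, Stalk.stalkFunctor_map_germ, Functor.map_zero]
  set m' := (_root_.ClSub.idealMod Z).presheaf.map (homOfLE hVU).op m
  let a : Γ(X, V.1) := (_root_.ClSub.idealModι Z).app V.1 m'
  have ha : a ∈ Z.ideal V := (ClSub.Sections.mem_range_idealModι_app_affine_iff Z V _).mp ⟨m', rfl⟩
  let one : Γ(_root_.ClSub.quotMod (idl S), V.1) :=
    (_root_.ClSub.toSubscheme (idl S)).app V.1 (show Γ(Coh.structureModule X, V.1) from (1 : Γ(X, V.1)))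
  obtain ⟨s, hs⟩ := ClSub.Sections.toSubscheme_app_surjective (idl S) V ((ec S c).app V.1 one)
  have hkey : (NefGG.quotHom (idl S) (Z ⊔ idl S) le_sup_right).app V.1
      ((ec S c).app V.1 ((_root_.ClSub.toSubscheme (idl S)).app V.1 ((_root_.ClSub.idealModι Z).app V.1 m'))) = 0 := by
    have hone : (show Γ(Coh.structureModule X, V.1) from a) =
        a • (show Γ(Coh.structureModule X, V.1) from (1 : Γ(X, V.1))) := (mul_one a).symm
    change (NefGG.quotHom (idl S) (Z ⊔ idl S) le_sup_right).app V.1
      ((ec S c).app V.1 ((_root_.ClSub.toSubscheme (idl S)).app V.1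
        (show Γ(Coh.structureModule X, V.1) from a))) = 0
    rw [hone, Scheme.Modules.Hom.app_smul, Scheme.Modules.Hom.app_smul, ← hs,
      ← Scheme.Modules.Hom.app_smul, ← ConcreteCategory.comp_apply, ← Scheme.Modules.Hom.comp_app,
      NefGG.toSubscheme_quotHom, ClSub.Sections.toSubscheme_app]
    have hmem : a * (show Γ(X, V.1) from s) ∈ (Z ⊔ idl S).ideal V :=
      Ideal.mul_mem_right _ _ (Submodule.mem_sup_left ha)
    rw [← (Z ⊔ idl S).ker_subschemeι_app V] at hmem
    exact (RingHom.mem_ker.mp hmem :)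
  simp only [Scheme.Modules.Hom.comp_app, ConcreteCategory.comp_apply]
  exact (congrArg _ hkey).trans (map_zero _)

omit [X.Over (Spec (CommRingCat.of k))] [IsProper (X ↘ Spec (CommRingCat.of k))] in
lemma ι_ec_qZ (c : Γ((idl S).subscheme, ⊤)) :
    (kernel.ι (qZ L Z S) ≫ tmap (ec S c) (𝟙 L)) ≫ qZ L Z S = 0 := by
  haveI := epi_πT L Z S
  have h1 : tmap (_root_.ClSub.idealModι Z ≫ _root_.ClSub.toSubscheme (idl S)) (𝟙 L) ≫
      tmap (ec S c) (𝟙 L) ≫ qZ L Z S = 0 := by
    rw [qZ, ← twist_comp, ← twist_comp, ec_kill Z S c, twist_zero]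
  refine (cancel_epi (πT L Z S)).mp ?_
  rw [comp_zero, ← h1, πT, Category.assoc, kernel.lift_ι_assoc]

/-- A constant acts on `G_T`. -/
def EC (c : Γ((idl S).subscheme, ⊤)) : GT L Z S ⟶ GT L Z S :=
  kernel.lift (qZ L Z S) (kernel.ι (qZ L Z S) ≫ tmap (ec S c) (𝟙 L)) (ι_ec_qZ L Z S c)

variable {L Z S} [IsReduced X] (hdim : topologicalKrullDim X ≤ 1) (hL : PicF.IsInvertible L)

include hdim hL

/-- `h⁰(O_T) ≤ h¹(G_T)` for connected `T` once the latter is nonzero. -/
theorem hdim_OS_le (hconn : _root_.IsPreconnected (uT S)) (hne : S.Nonempty)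
    (h1 : Nontrivial (Coh.HH X (GT L Z S) 1)) :
    Euler.hdim k X (OS S) 0 ≤ Euler.hdim k X (GT L Z S) 1 := by
  haveI := connectedSpace_idl hconn hne
  haveI := GlobalSections.isNoetherian_of_proper k X
  haveI := CurveBundle.GP.additive_tensorBy L
  let ι := (idl S).subschemeι
  letI : (idl S).subscheme.Over (Spec (CommRingCat.of k)) := ⟨ι ≫ (X ↘ Spec (CommRingCat.of k))⟩
  haveI : IsProper ((idl S).subscheme ↘ Spec (CommRingCat.of k)) :=
    inferInstanceAs (IsProper (ι ≫ (X ↘ Spec (CommRingCat.of k))))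
  haveI := TensorMod.QCohInv.isQCoh_structureModule (idl S).subscheme
  haveI := (Finiteness.isGood_of_isCoh (k := k) hdim (isCoh_GT k (Z := Z) hL S)).fin₁
  letI := GlobalSections.secModule k (Coh.structureModule (idl S).subscheme)
  obtain ⟨y, hy⟩ := exists_ne (0 : Coh.HH X (GT L Z S) 1)
  have hmapι : ∀ c, EC L Z S c ≫ kernel.ι (qZ L Z S) =
      kernel.ι (qZ L Z S) ≫ tmap (ec S c) (𝟙 L) := fun c => kernel.lift_ι _ _ _
  have hadd : ∀ a b, EC L Z S (a + b) = EC L Z S a + EC L Z S b := fun a b => by
    rw [← cancel_mono (kernel.ι (qZ L Z S)), Preadditive.add_comp, hmapι, hmapι, hmapι,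
      ← Preadditive.comp_add, ← twist_add]
    congr 2
    exact (congrArg (Coh.push ι).map (map_add (scalHom (Coh.structureModule (idl S).subscheme)) a b)).trans
      (Functor.map_add _)
  have hmul : ∀ a b, EC L Z S (a * b) = EC L Z S b ≫ EC L Z S a := fun a b => by
    rw [← cancel_mono (kernel.ι (qZ L Z S)), Category.assoc, hmapι, hmapι, ← Category.assoc, hmapι,
      Category.assoc, ← twist_comp]
    congr 2
    exact (congrArg (Coh.push ι).map (map_mul (scalHom (Coh.structureModule (idl S).subscheme)) a b)).trans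
      (Functor.map_comp _ _ _)
  have hone : EC L Z S 1 = 𝟙 _ := by
    rw [← cancel_mono (kernel.ι (qZ L Z S)), hmapι, Category.id_comp]
    have : ec S 1 = 𝟙 _ :=
      (congrArg (Coh.push ι).map (map_one (scalHom (Coh.structureModule (idl S).subscheme)))).trans
        ((Coh.push ι).map_id _)
    rw [this, twist_id, Category.comp_id]
  have hcst : ∀ c : k, EC L Z S (cst (idl S).subscheme k c) = scal (GT L Z S) (cst X k c) := fun c => by
    rw [← cancel_mono (kernel.ι (qZ L Z S)), hmapι, scal_comm]
    congr 1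
    have h1 : ec S (cst (idl S).subscheme k c) = scal (_root_.ClSub.quotMod (idl S)) (cst X k c) := by
      refine Scheme.Modules.hom_ext _ _ fun U => ConcreteCategory.ext_apply fun m => ?_
      change (scal (Coh.structureModule (idl S).subscheme) (cst (idl S).subscheme k c)).app (ι ⁻¹ᵁ U) m =
        ι.app U (X.presheaf.map (homOfLE (le_top (a := U))).op (cst X k c)) * (show Γ((idl S).subscheme, ι ⁻¹ᵁ U) from m)
      rw [CurveBundle.EndAlg.scal_app]
      congr 1
      have hc : cst (idl S).subscheme k c = ι.appTop (cst X k c) := by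
        change ((ι ≫ (X ↘ Spec (CommRingCat.of k))).appTop).hom _ = _
        rw [Scheme.Hom.comp_appTop]
        rfl
      rw [hc]
      exact (congr($(ι.naturality (homOfLE (le_top (a := U))).op) (cst X k c))).symm
    rw [h1]
    exact CurveBundle.GP.tmap_scal _ L _
  let Φ : ((Coh.structureModule (idl S).subscheme).val.obj (op ⊤) : Type u) →ₗ[k]
      Coh.HH X (GT L Z S) 1 :=
    { toFun := fun c => mapK k (EC L Z S c) 1 y
      map_add' := fun a b =>
        (congrArg (fun f => mapK k f 1 y) (hadd a b)).trans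
          (LinearMap.congr_fun (Clifford.mapK_add k _ _ 1) y)
      map_smul' := fun c a => by
        have : EC L Z S (c • a : ((Coh.structureModule (idl S).subscheme).val.obj (op ⊤) : Type u)) =
            EC L Z S a ≫ EC L Z S (cst (idl S).subscheme k c) :=
          (congrArg (EC L Z S) (show _ = cst (idl S).subscheme k c * (show Γ((idl S).subscheme, ⊤) from a) from rfl)).trans (hmul _ _)
        rw [this, hcst, mapK_comp, Clifford.mapK_scal]
        rfl }
  have hinj : Function.Injective Φ := (injective_iff_map_eq_zero _).mpr fun c hc => by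
    by_contra hne'
    obtain ⟨d, hd⟩ := (isUnit_of_ne_zero k (X := (idl S).subscheme) c hne').exists_left_inv
    refine hy ?_
    have h : mapK k (EC L Z S (d * (show Γ((idl S).subscheme, ⊤) from c))) 1 y = y := by
      rw [hd, hone, mapK_id]; rfl
    rw [hmul, mapK_comp, LinearMap.comp_apply] at h
    rw [← h]
    exact (congrArg _ hc).trans (map_zero _)
  have h2 : Euler.hdim k X (OS S) 0 =
      Module.finrank k ((Coh.structureModule (idl S).subscheme).val.obj (op ⊤) : Type u) :=
    ((ZarCoh.Linear.affineLinearEquiv ι rfl (Coh.structureModule (idl S).subscheme) 0).finrank_eq).trans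
      (GlobalSections.h0Linear k (Coh.structureModule (idl S).subscheme)).finrank_eq
  exact h2.trans_le (LinearMap.finrank_le_finrank_of_injective hinj)

end Groth.Agent.Lib.Curves.SubUnion
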