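import Groth.Agent.Lib.Curves.GGEmbed
import Groth.Agent.Lib.Ample.GG

/-!
# Regular sections on schemes of dimension at most one

Multiplication by a regular section is mono with cokernel of finite support, hence `H¹(F) = 0` gives
`H¹(F ⊗ L) = 0` and generation of `F ⊗ L` at the zeros of the section.
-/

set_option autoImplicit false
set_option linter.style.haveILetI false
noncomputable section

universe u

open CategoryTheory CategoryTheory.Limits AlgebraicGeometry TopologicalSpace Opposite

namespace Groth.Agent.Lib.Curves.MonoSection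

open TensorMod TensorMod.Basic TensorMod.Free TensorMod.Dual TensorMod.Gen Ample.GenLocus Ample.Extend
  ProjMor.Sec Modules

variable {X : Scheme.{u}} {L F : X.Modules}

/-- An invertible module is free of rank one on stalks, with a generating section nearby. -/
theorem exists_gen_stalk (hL : PicF.IsInvertible L) (x : X) :
    ∃ (U : X.Opens) (hx : x ∈ U) (e : Γ(L, U)) (β : X.presheaf.stalk x ≃ₗ[X.presheaf.stalk x] L.presheaf.stalk x),
      IsGen L U e ∧ β 1 = L.presheaf.germ U x hx e := by
  obtain ⟨U, e, hx, he⟩ := isInvertible_iff.1 hL x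
  refine ⟨U, hx, e, LinearEquiv.ofBijective
    (LinearMap.toSpanSingleton (X.presheaf.stalk x) (L.presheaf.stalk x) (L.presheaf.germ U x hx e))
    (H34.UFDExt.Gen.IsGen.stalk_bijective (M := L) (fun W h => he W h) hx : _), he, ?_⟩
  exact one_smul (X.presheaf.stalk x) (L.presheaf.germ U x hx e)

/-- The germ of a section is regular. -/
def IsRegular (s : Γ(L, ⊤)) : Prop :=
  ∀ x : X, Function.Injective fun r : X.presheaf.stalk x => r • L.presheaf.germ ⊤ x trivial s

/-- A mono from `O` gives a regular section. -/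
theorem isRegular_of_mono (φ : Coh.structureModule X ⟶ L) [Mono φ] :
    IsRegular (φ.app ⊤ (one X ⊤) : Γ(L, ⊤)) := by
  intro x r r' h
  have hφ := (StalkModule.mono_iff_stalkMapₗ_injective φ).mp inferInstance x
  let u : (Coh.structureModule X).presheaf.stalk x :=
    (Coh.structureModule X).presheaf.germ ⊤ x trivial (one X ⊤)
  have hu : StalkModule.stalkMapₗ φ x u = L.presheaf.germ ⊤ x trivial (φ.app ⊤ (one X ⊤)) :=
    StalkModule.stalkMapₗ_germ φ (x := x) (U := ⊤) trivial _
  have hbij := H34.UFDExt.Gen.IsGen.stalk_bijective (M := Coh.structureModule X)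
    (fun W hW => isGen_one (X := X) ⊤ W hW) (y := x) trivial
  refine hbij.1 (hφ ?_)
  change StalkModule.stalkMapₗ φ x (r • u) = StalkModule.stalkMapₗ φ x (r' • u)
  rw [map_smul, map_smul, hu]
  exact h

/-- At a generic point a non zero divisor is a unit. -/
theorem isUnit_of_isGenPt {x : X} (hx : H34.VanishOne.IsGenPt (X := X.toTopCat) x)
    {a : X.presheaf.stalk x} (ha : ∀ r, r * a = 0 → r = 0) : IsUnit a := by
  by_contra hu
  have hall : ∀ P : PrimeSpectrum (X.presheaf.stalk x), a ∈ P.asIdeal := fun P => by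
    have hP : P = IsLocalRing.closedPoint (X.presheaf.stalk x) := by
      apply (X.fromSpecStalk x).isEmbedding.injective
      rw [Scheme.fromSpecStalk_closedPoint]
      have hmem : (X.fromSpecStalk x) P ∈ {y : X | y ⤳ x} := by
        rw [← Scheme.range_fromSpecStalk]
        exact ⟨P, rfl⟩
      haveI : T0Space X.toTopCat := inferInstanceAs (T0Space X)
      exact (H34.VanishOne.eq_of_specializes (X := X.toTopCat) hx hmem).symm
    rw [hP]
    exact (IsLocalRing.mem_maximalIdeal a).mpr hu
  have hnil : IsNilpotent a := by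
    rw [← mem_nilradical, nilradical_eq_sInf, Ideal.mem_sInf]
    exact fun J hJ => hall ⟨J, hJ⟩
  obtain ⟨n, hn⟩ := hnil
  induction n with
  | zero => exact one_ne_zero ((pow_zero a).symm.trans hn)
  | succ n ih => exact ih (ha _ (by rw [← pow_succ]; exact hn))

variable (hL : PicF.IsInvertible L) (hF : PicF.IsInvertible F) {s : Γ(L, ⊤)} (hs : IsRegular s)

include hL hF hs

/-- Stalk form of multiplication by a regular section. -/
theorem exists_coeff (x : X) : ∃ (θ : (CohB1.tensorMod F L).presheaf.stalk x ≃ₗ[X.presheaf.stalk x]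
      F.presheaf.stalk x) (β : X.presheaf.stalk x ≃ₗ[X.presheaf.stalk x] F.presheaf.stalk x)
      (c : X.presheaf.stalk x), (∀ r, r * c = 0 → r = 0) ∧ (IsUnit c → x ∈ locus s) ∧
      ∀ r, θ (StalkModule.stalkMapₗ (SectionSurj.mulHom F s) x (β r)) = β (r * c) := by
  obtain ⟨U, hx, e, b, he, hb⟩ := exists_gen_stalk hL x
  obtain ⟨-, -, -, β, -, -⟩ := exists_gen_stalk hF x
  obtain ⟨θ, hθ⟩ := SectionSurj.exists_stalkEquiv x F b
  set c := b.symm (L.presheaf.germ ⊤ x trivial s)
  refine ⟨θ, β, c, fun r hr => hs x ?_, fun hu => ?_, fun r => ?_⟩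
  · change r • L.presheaf.germ ⊤ x trivial s = (0 : X.presheaf.stalk x) • L.presheaf.germ ⊤ x trivial s
    rw [zero_smul, show L.presheaf.germ ⊤ x trivial s = b c from (b.apply_symm_apply _).symm, ← map_smul,
      smul_eq_mul, hr, map_zero]
  · obtain ⟨a, ha⟩ := exists_coord he (gl s U)
    have hc : c = X.presheaf.germ U x hx a := by
      refine b.symm_apply_eq.mpr ?_
      rw [← mul_one (X.presheaf.germ U x hx a), ← smul_eq_mul, map_smul, hb, ← StalkModule.germ_smul]
      refine ((TopCat.Presheaf.germ_res_apply L.presheaf (homOfLE le_top) x hx s).symm).trans ?_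
      exact congrArg _ ha
    exact ((locus_inf_eq he ha).ge ((X.toRingedSpace.mem_basicOpen a x hx).2 (hc ▸ hu))).1
  · refine (hθ s _).trans ?_
    rw [← map_smul, smul_eq_mul, mul_comm]

theorem mono_mulHom : Mono (SectionSurj.mulHom F s) := by
  rw [StalkModule.mono_iff_stalkMapₗ_injective]
  intro x v v' h
  obtain ⟨θ, β, c, hc, -, hθ⟩ := exists_coeff hL hF hs x
  obtain ⟨r, rfl⟩ := β.surjective v
  obtain ⟨r', rfl⟩ := β.surjective v'
  have := congrArg θ h
  rw [hθ, hθ] at this
  exact congrArg β (sub_eq_zero.mp (hc _ (by rw [sub_mul, β.injective this, sub_self])))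

theorem isTorsion_cokernel : Positivity.IsTorsion (cokernel (SectionSurj.mulHom F s)) := by
  intro x hx
  obtain ⟨θ, β, c, hc, -, hθ⟩ := exists_coeff hL hF hs x
  obtain ⟨d, hd⟩ := (isUnit_of_isGenPt hx hc).exists_left_inv
  have hπ := (StalkModule.epi_iff_stalkMapₗ_surjective (cokernel.π (SectionSurj.mulHom F s))).mp inferInstance x
  refine subsingleton_of_forall_eq 0 fun z => ?_
  obtain ⟨w, rfl⟩ := hπ z
  obtain ⟨r, hr⟩ := β.surjective (θ w)
  have hw : w = StalkModule.stalkMapₗ (SectionSurj.mulHom F s) x (β (r * d)) := θ.injective (by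
    rw [hθ, mul_assoc, hd, mul_one, hr])
  rw [hw, ← LinearMap.comp_apply, ← StalkModule.stalkMapₗ_comp, cokernel.condition,
    StalkModule.stalkMapₗ_zero]
  rfl

variable {k : Type u} [Field k] [X.Over (Spec (CommRingCat.of k))]
  [IsProper (X ↘ Spec (CommRingCat.of k))] (hdim : topologicalKrullDim X ≤ 1)
  (h1 : Subsingleton (Coh.HH X F 1))

include k hdim h1

/-- `H¹(F ⊗ L) = 0` if `H¹(F) = 0`. -/
theorem subsingleton_tensor : Subsingleton (Coh.HH X (CohB1.tensorMod F L) 1) :=
  haveI := mono_mulHom hL hF hs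
  (Clifford.mapK_surjective_one k hdim (SectionSurj.mulHom F s) (isTorsion_cokernel hL hF hs)).subsingleton

/-- Global sections generate off the locus of the section. -/
theorem genAt (x : X) (hx : x ∉ locus s) : Ample.GG.GenAt (CohB1.tensorMod F L) x := by
  haveI := GlobalSections.noetherianSpace_of_proper k X
  haveI := mono_mulHom hL hF hs
  set φ := SectionSurj.mulHom F s
  haveI := (isTorsion_cokernel hL hF hs).flasque hdim
  obtain ⟨θ, β, c, -, hcu, hθ⟩ := exists_coeff hL hF hs x
  let v₀ := θ.symm (β 1)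
  obtain ⟨U, hxU, q, hq⟩ := TopCat.Presheaf.germ_exist (F := (cokernel φ).presheaf)
    (StalkModule.stalkMapₗ (cokernel.π φ) x v₀)
  obtain ⟨q', rfl⟩ := (AddCommGrpCat.epi_iff_surjective _).mp
    (TopCat.Presheaf.IsFlasque.epi (F := (Coh.toAb (cokernel φ)).obj) (homOfLE (le_top : U ≤ ⊤)).op) q
  have hS := Positivity.cokerSES_shortExact φ
  haveI : Subsingleton (Coh.HH X (Positivity.cokerSES φ).X₁ 1) := h1
  obtain ⟨y, hy⟩ := (LES.exactK₃ k hS 0 1 rfl ((GlobalSections.h0Equiv _).symm q')).mp (Subsingleton.elim _ _)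
  let t : Γ(CohB1.tensorMod F L, ⊤) := GlobalSections.h0Equiv _ y
  have htq : (cokernel.π φ).app ⊤ t = q' := by
    have h3 := (congrArg (GlobalSections.h0Equiv _) hy).trans ((GlobalSections.h0Equiv _).apply_symm_apply q')
    refine Eq.trans ?_ h3
    exact (Sheaf.H.equiv₀_naturality (isTerminalTop (α := Opens X)) (LES.toAbMap (cokernel.π φ)) y)
  let g := (CohB1.tensorMod F L).presheaf.germ ⊤ x trivial t
  have hker : StalkModule.stalkMapₗ (cokernel.π φ) x (g - v₀) = 0 := by
    rw [map_sub, sub_eq_zero, ← hq]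
    refine (StalkModule.stalkMapₗ_germ _ (U := ⊤) (x := x) trivial t).trans ?_
    rw [htq]
    exact (TopCat.Presheaf.germ_res_apply _ (homOfLE le_top) x hxU q').symm
  have hex := (ShortComplex.ab_exact_iff _).mp
    ((Modules.Stalk.exact_iff_stalk (ShortComplex.mk φ (cokernel.π φ) (cokernel.condition φ))).mp
      (ShortComplex.exact_cokernel φ) x)
  obtain ⟨w, hw⟩ := hex (g - v₀) hker
  obtain ⟨r, rfl⟩ := β.surjective w
  have hg : θ g = β (1 + r * c) := by
    rw [map_add, ← hθ, show StalkModule.stalkMapₗ φ x (β r) = g - v₀ from hw, map_sub,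
      θ.apply_symm_apply, add_sub_cancel]
  have hu : IsUnit (1 + r * c) := by
    rw [← sub_neg_eq_add]
    exact IsLocalRing.isUnit_one_sub_self_of_mem_nonunits _
      (neg_mem (Ideal.mul_mem_left _ r ((IsLocalRing.mem_maximalIdeal c).mpr fun h => hx (hcu h))))
  refine eq_top_iff.2 fun v _ => ?_
  obtain ⟨d, hd⟩ := hu.exists_left_inv
  obtain ⟨a, ha⟩ := β.surjective (θ v)
  have hv : v = (a * d) • g := θ.injective (by
    rw [map_smul, hg, ← map_smul, smul_eq_mul, mul_assoc, hd, mul_one, ha])
  rw [hv]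
  exact Submodule.smul_mem _ _ (Submodule.subset_span ⟨t, rfl⟩)

end Groth.Agent.Lib.Curves.MonoSection
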