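import Groth.Agent.Lib.Curves.UniformPoints
import Groth.Agent.Lib.Curves.GGEmbed
import Groth.Agent.S7642

/-!
# A very ample invertible module of bounded degree on a reduced curve
-/

set_option autoImplicit false
set_option linter.style.haveILetI false
universe u

open CategoryTheory CategoryTheory.Limits AlgebraicGeometry Opposite TopologicalSpace

noncomputable section

namespace Groth.Agent.Lib.Curves.UniformVeryAmple

open Groth.Agent.Lib Groth.Agent.Lib.Modules Groth.Agent.Lib.TensorMod
open Groth.Agent.Lib.TensorMod.Basic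
open Groth.Agent.Lib.Curves.SubUnion
open Groth.Agent.Lib.Curves.UniformPoints

variable (k : Type u) [Field k] [IsAlgClosed k] {X : Scheme.{u}} [X.Over (Spec (CommRingCat.of k))]
  [IsProper (X ↘ Spec (CommRingCat.of k))] [IsReduced X]

omit [IsAlgClosed k] in
/-- `h¹` of a union of components is at most the genus. -/
theorem hdim_OS_le_genus (hd : topologicalKrullDim X ≤ 1) {S : Finset X} (hS : IsGen S) :
    Euler.hdim k X (OS S) 1 ≤ Curv2.genus k X := by
  haveI := GlobalSections.isNoetherian_of_proper k X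
  haveI := GlobalSections.noetherianSpace_of_proper k X
  haveI := (isQuotOn_OS (X := X) hS).1
  have hses : (ShortComplex.mk (kernel.ι (toOS S)) (toOS S) (kernel.condition _)).ShortExact :=
    { exact := ShortComplex.exact_kernel _ }
  have hs := Euler.surjective_h1 (k := k) hses (Positivity.subsingleton_HH_of_two_le hd _ 2 le_rfl)
  haveI : FiniteDimensional k (Coh.HH X (Coh.structureModule X) 1) :=
    (Finiteness.isGood_of_isCoh (k := k) hd Degree.isCoh_structureModule).fin₁
  exact LinearMap.finrank_le_finrank_of_surjective hs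

variable [ConnectedSpace X] (hdim : topologicalKrullDim X = 1)
  (T : Finset X) (hT : ∀ x ∈ T, IsClosed ({x} : Set X)) {L : X.Modules}
  (hL : PicF.IsInvertible L)
  (e : CohB1.tensorMod (_root_.ClSub.idealMod (IT T hT)) L ≅ Coh.structureModule X)

include hdim hT in
omit [IsAlgClosed k] [IsReduced X] in
theorem notMem_IT [NoetherianSpace X] {η : X} (hη : η ∈ genericPoints X) :
    η ∉ ((IT T hT).support : Set X) := fun h => by
  rw [IT, Scheme.IdealSheafData.coe_support_vanishingIdeal] at h
  exact not_isClosed_generic hdim hη (hT η h)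

include hdim in
/-- Twisting by the divisor adds the number of points. -/
theorem euler_twist {N : X.Modules} (hN : PicF.IsInvertible N) :
    Curv2.euler k X N =
      Curv2.euler k X (CohB1.tensorMod (_root_.ClSub.idealMod (IT T hT)) N) + T.card := by
  haveI := GlobalSections.noetherianSpace_of_proper k X
  haveI := GlobalSections.isNoetherian_of_proper k X
  have hd := hdim.le
  set Z := IT T hT
  have hχ := Degree.euler_ses (A := CohB1.tensorMod (_root_.ClSub.idealMod Z) N)
    (B := CohB1.tensorMod (Coh.structureModule X) N) (C := CohB1.tensorMod (_root_.ClSub.quotMod Z) N)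
    (CurveBundle.Twist.shortExact hN (ClSub.Quot.idealSeq_shortExact Z))
    (Finiteness.isGood_of_isCoh (k := k) hd (CurveBundle.Twist.isCoh hN (IdealTwist.isCoh_ideal Z)))
    (Finiteness.isGood_of_isCoh (k := k) hd
      (CurveBundle.Twist.isCoh hN (Degree.isCoh_structureModule (X := X))))
    (Finiteness.isGood_of_isCoh (k := k) hd (CurveBundle.Twist.isCoh hN (IdealTwist.isCoh_quot Z)))
  rw [Euler.euler_eq_of_iso (TensorMod.Basic.leftUnit N)] at hχ
  have htor : ∀ η ∈ genericPoints X, Subsingleton ((_root_.ClSub.quotMod Z).presheaf.stalk η) :=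
    fun η hη => Support.not_mem_support_iff.mp (by
      rw [ClSub.Quot.support_quotMod]
      exact notMem_IT hdim T hT hη)
  rw [hχ, Euler.euler_eq_of_iso (comm (_root_.ClSub.quotMod Z) N),
    TFOne.EDeg.euler_tensor_torsion hd (TensorMod.LocFree.of_isInvertible hN)
      (IdealTwist.isCoh_quot _) htor, Positivity.IsTorsion.euler hd htor,
    show Module.finrank k (Coh.HH X (_root_.ClSub.quotMod Z) 0) = T.card from hdim_quot_IT k hd T hT]
  simp

include hdim hL e in
/-- The degree on a union is at least the number of points on it. -/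
theorem card_le_deg {S : Finset X} (hS : IsGen S) (F : Finset X) (hF : F ⊆ T)
    (hFS : ∀ x ∈ F, x ∈ uT S) :
    (F.card : ℤ) ≤ @Curv2.deg k _ (idl S).subscheme ⟨(idl S).subschemeι ≫ (X ↘ Spec (CommRingCat.of k))⟩
        ((Scheme.Modules.pullback (idl S).subschemeι).obj L) 1 := by
  classical
  haveI := GlobalSections.noetherianSpace_of_proper k X
  haveI := GlobalSections.isNoetherian_of_proper k X
  have hd := hdim.le
  set Z := IT T hT
  have hZ : ∀ η ∈ genericPoints X, η ∉ (Z.support : Set X) := fun η hη => notMem_IT hdim T hT hη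
  obtain ⟨h1, h2⟩ := SubUnion.deg_eq k hd hL hZ hS
  -- the quotient of `O` on the union
  obtain ⟨hepi, hc, htf, hsup⟩ := isQuotOn_GT k hd hL hZ hS
  haveI := hepi
  have hG : TFOne.IsQuotOn X (Coh.structureModule X) (uT S) (GT L Z S) (e.inv ≫ πT L Z S) :=
    ⟨epi_comp _ _, hc, htf, hsup⟩
  have hO : TFOne.IsTF1 X (Coh.structureModule X) := TFOne.EDeg.isTF1_structure
  have hQ := isQuotOn_OS (X := X) hS
  haveI := hQ.1
  haveI := hG.1
  obtain ⟨r, hr, -⟩ := exists_restrict hO hS hG subset_rfl hQ
  obtain ⟨r', hr', -⟩ := exists_restrict hO hS hQ subset_rfl hG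
  have i : GT L Z S ≅ OS S :=
    { hom := r
      inv := r'
      hom_inv_id := by
        rw [← cancel_epi (e.inv ≫ πT L Z S), ← Category.assoc, hr, hr', Category.comp_id]
      inv_hom_id := by
        rw [← cancel_epi (toOS S), ← Category.assoc, hr', hr, Category.comp_id] }
  rw [Euler.euler_eq_of_iso i, h2] at h1
  refine le_trans ?_ (le_of_eq (a := (Euler.hdim k X (_root_.ClSub.quotMod (Z ⊔ idl S)) 0 : ℤ)) (by linarith))
  refine Int.ofNat_le.mpr ?_
  have hsupp : CohB1.support (_root_.ClSub.quotMod (Z ⊔ idl S)) = (T : Set X) ∩ uT S := by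
    rw [ClSub.Quot.support_quotMod, Scheme.IdealSheafData.support_sup]
    rfl
  have hset : ∀ z, Nontrivial ((_root_.ClSub.quotMod (Z ⊔ idl S)).presheaf.stalk z) ↔
      z ∈ CohB1.support (_root_.ClSub.quotMod (Z ⊔ idl S)) := fun z =>
    ⟨fun h => not_subsingleton_iff_nontrivial.2 h, fun h => not_subsingleton_iff_nontrivial.1 h⟩
  refine card_le_hdim k hd (IdealTwist.isCoh_quot _) (fun η hη => ?_) ?_ F (fun x hx => ?_) fun z hz => ?_
  · exact Support.not_mem_support_iff.mp fun h => not_isClosed_generic hdim hη (hT η (hsupp.le h).1)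
  · exact T.finite_toSet.subset fun z hz => (hsupp.le ((hset z).1 hz)).1
  · exact ⟨hT x (hF hx), (hset x).2 (hsupp.ge ⟨hF hx, hFS x hx⟩)⟩
  · exact hT z (hsupp.le ((hset z).1 hz)).1

omit T hT e hL L in
include hdim in
/-- The bound. -/
theorem exists_veryAmple (g : ℕ) (hg : Curv2.genus k X = g) :
    ∃ L : X.Modules, PicF.IsInvertible L ∧
      Curv2.deg k X L 1 ≤ ((2 * ((2 * g + 1) * (gens (X := X) k).card) : ℕ) : ℤ) ∧
      Subsingleton (Coh.HH X L 1) ∧
      ∃ (m : ℕ) (i : X ⟶ CohB1.ProjSpace m k), IsClosedImmersion i ∧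
        i ≫ CohB1.ProjSpace.toSpec m k = X ↘ Spec (CommRingCat.of k) ∧
        Nonempty ((Scheme.Modules.pullback i).obj (Twist.twistProjSpace m k 1) ≅ L) := by
  classical
  haveI := GlobalSections.noetherianSpace_of_proper k X
  haveI := GlobalSections.isNoetherian_of_proper k X
  have hd := hdim.le
  obtain ⟨T, hTp, hTF, hTc⟩ := exists_points k hdim (2 * g + 1)
  have hT : ∀ x ∈ T, IsClosed ({x} : Set X) := fun x hx => (hTp x hx).1
  have hI := isInvertible_IT k T hT fun x hx => (hTp x hx).2
  obtain ⟨L, hL, ⟨e⟩⟩ := Invertible.exists_inverse hI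
  have hdeg : ∀ S : Finset X, IsGen S → S.Nonempty → (2 * g + 1 : ℤ) ≤
      @Curv2.deg k _ (idl S).subscheme ⟨(idl S).subschemeι ≫ (X ↘ Spec (CommRingCat.of k))⟩
        ((Scheme.Modules.pullback (idl S).subschemeι).obj L) 1 := by
    rintro S hS ⟨η, hη⟩
    obtain ⟨F, hF, hFc, hFm⟩ := hTF η ((mem_gens k).mpr (hS η hη))
    have := card_le_deg k hdim T hT hL e hS F hF fun x hx => Set.mem_biUnion (x := η) hη (hFm x hx)
    rw [hFc] at this
    exact_mod_cast this
  have hDB : DegBound k L := fun S hS hne _ => by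
    have := hdeg S hS hne
    have := hdim_OS_le_genus k hd hS
    rw [hg] at this
    omega
  have hgg := SubUnion.isGloballyGenerated k hd hL hdim hDB
  -- nonspecial
  have hZ : ∀ η ∈ genericPoints X, η ∉ ((⊤ : X.IdealSheafData).support : Set X) := fun η _ hη => by simp at hη
  have h1 : Subsingleton (Coh.HH X L 1) := by
    obtain ⟨et⟩ := SurfInt.H2Vanish.nonempty_idealMod_top (X := X)
    obtain ⟨eg⟩ := nonempty_iso_gens k hd hL hZ
    haveI := subsingleton_of_disjoint k hd hL hZ hDB (S₀ := gens (X := X) k) (fun η h => (mem_gens k).mp h)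
      (by simp)
    exact ((LES.isoK k ((leftUnit L).symm ≪≫ tensorIso et.symm (Iso.refl L) ≪≫ eg) 1).toEquiv.subsingleton)
  -- ample
  have hA : CohB1.IsAmple L := by
    refine (S7642.result k X hd L hL).mpr fun C hC _ => ?_
    obtain ⟨η, hη, hCη⟩ := Flat55.GenericPoints.exists_closure_eq hC
    have hS : IsGen ({η} : Finset X) := fun x hx => (Finset.mem_singleton.mp hx) ▸ hη
    have h := hdeg {η} hS (Finset.singleton_nonempty η)
    have hid : (X.irreducibleComponentIdeal C hC).radical = idl ({η} : Finset X) := by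
      rw [← Scheme.IdealSheafData.vanishingIdeal_support]
      congr 1
      apply TopologicalSpace.Closeds.ext
      show C = uT {η}
      rw [← hCη]
      simp [uT]
    rw [hid]
    have : (0 : ℤ) < 2 * g + 1 := by positivity
    exact this.trans_le h
  obtain ⟨m, i, hi, hic, hiso⟩ := GGEmbed.exists_closedImmersion_sq (k := k) hd hA hgg h1
  have hinv2 : PicF.IsInvertible (CohB1.tensorPow L 2) := Invertible.isInvertible_tensorPow hL 2
  refine ⟨CohB1.tensorPow L 2, hinv2, ?_, ?_, m, i, hi, hic, hiso⟩
  · have hχ1 := euler_twist k hdim T hT hL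
    rw [Euler.euler_eq_of_iso e] at hχ1
    have hLL : PicF.IsInvertible (CohB1.tensorMod L L) := Invertible.isInvertible_tensorMod hL hL
    have hχ2 := euler_twist k hdim T hT hLL
    rw [Euler.euler_eq_of_iso ((assoc _ L L).symm ≪≫ tensorIso e (Iso.refl L) ≪≫ leftUnit L)] at hχ2
    have e2 : CohB1.tensorPow L 2 ≅ CohB1.tensorMod L L := tensorIso (leftUnit L) (Iso.refl L)
    simp only [Curv2.deg, Nat.cast_one, one_mul]
    rw [Euler.euler_eq_of_iso e2, hχ2, hχ1]
    have : (T.card : ℤ) ≤ (((2 * g + 1) * (gens (X := X) k).card : ℕ) : ℤ) := by exact_mod_cast hTc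
    push_cast at this ⊢
    linarith
  · obtain ⟨N, t, -, hcov⟩ := GGEmbed.exists_sections (k := k) hd hL
    exact GGEmbed.subsingleton_succ (k := k) hd (hcov hgg) 1
      ((LES.isoK k (leftUnit L) 1).toEquiv.subsingleton_congr.mpr h1)

end Groth.Agent.Lib.Curves.UniformVeryAmple
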