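import Groth.Agent.Lib.Curves.PointIdeal
import Groth.Agent.Lib.Curves.TraceBound
import Groth.Agent.Lib.Modules.FreeStalk
import Groth.Agent.Lib.CurveBundle.Degree
import Groth.Agent.Lib.TensorMod.Invertible

/-!
# Filtrations of subbundles of free modules by negative line bundles
-/

set_option autoImplicit false
set_option linter.style.haveILetI false
noncomputable section

universe u

open CategoryTheory CategoryTheory.Limits AlgebraicGeometry TopologicalSpace Opposite

namespace Groth.Agent.Lib.Curves.NegFiltration

open Groth.Agent.Lib Modules Modules.Free Modules.FreeStalk CurveBundle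

variable {k : Type u} [Field k] {X : Scheme.{u}} [X.Over (Spec (CommRingCat.of k))]

/-- Residues at closed points are constants over an algebraically closed field. -/
theorem exists_const [IsAlgClosed k] [IsProper (X ↘ Spec (CommRingCat.of k))]
    (hdim : topologicalKrullDim X ≤ 1) {x : X} (hx : IsClosed ({x} : Set X))
    (a : X.presheaf.stalk x) : ∃ c : k, X.residue x a = Curv2.resMap k X x c := by
  letI := Curv2.resAlgebra k X x
  have h := (PointIdeal.hdim_quot_point (k := k) hx).symm.trans
    (PointIdeal.hdim_quot_point_algClosed hx hdim)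
  obtain ⟨c, hc⟩ := (finrank_eq_one_iff_of_nonzero' (1 : X.residueField x) one_ne_zero).mp h
    (X.residue x a)
  exact ⟨c, hc.symm.trans (by rw [Algebra.smul_def, mul_one]; rfl)⟩

variable {m : ℕ}

omit [X.Over (Spec (CommRingCat.of k))] in
lemma coord_eq_repr (x : X) (j : Fin m) (w : (FlatMod.freeMod X m).presheaf.stalk x) :
    coord x j w = (stalkBasis X m x).repr w j := by
  classical
  have h : coord x j = (stalkBasis X m x).coord j := (stalkBasis X m x).ext fun i => by
    rw [Module.Basis.coord_apply, Module.Basis.repr_self, stalkBasis_apply, coord_germ_gen,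
      Finsupp.single_apply]
  rw [h, Module.Basis.coord_apply]

omit [X.Over (Spec (CommRingCat.of k))] in
lemma eq_zero_of_coord (x : X) (w : (FlatMod.freeMod X m).presheaf.stalk x)
    (h : ∀ j, coord x j w = 0) : w = 0 := by
  apply (stalkBasis X m x).repr.injective
  rw [map_zero]
  exact Finsupp.ext fun j => (coord_eq_repr x j w).symm.trans (h j)

omit [X.Over (Spec (CommRingCat.of k))] in
/-- Coordinate form of a map from a free module to `O`. -/
lemma toRing_freeHom (a : Fin m → Γ(X, ⊤)) (x : X) (w : (FlatMod.freeMod X m).presheaf.stalk x) :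
    (show X.presheaf.stalk x from unitStalkToRing x
      (StalkModule.stalkMapₗ (freeHom (M := Coh.structureModule X) a) x w)) =
      ∑ i, coord x i w * X.presheaf.germ ⊤ x trivial (a i) := by
  classical
  have hw : w ∈ Submodule.span (X.presheaf.stalk x) (Set.range fun i : Fin m =>
      (FlatMod.freeMod X m).presheaf.germ ⊤ x trivial (gen X i)) := by
    rw [span_germ_gen]; trivial
  induction hw using Submodule.span_induction with
  | mem v hv =>
    obtain ⟨i, rfl⟩ := hv
    rw [freeHom_stalk_germ, unitStalkToRing_germ, Finset.sum_eq_single i]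
    · rw [coord_germ_gen, if_pos rfl, one_mul]
    · intro j _ hj
      rw [coord_germ_gen, if_neg (Ne.symm hj), zero_mul]
    · exact fun h => absurd (Finset.mem_univ i) h
  | zero => simp only [map_zero, zero_mul, Finset.sum_const_zero]
  | add v v' _ _ hv hv' =>
    simp only [map_add, add_mul, Finset.sum_add_distrib]
    exact congrArg₂ (· + ·) hv hv'
  | smul r v _ hv =>
    rw [map_smul, unitStalkToRing_smul, hv, Finset.mul_sum]
    exact Finset.sum_congr rfl fun i _ => by rw [map_smul, smul_eq_mul, mul_assoc]

/-- The combination of the coordinates with constant coefficients. -/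
def comb (c : Fin m → k) : FlatMod.freeMod X m ⟶ Coh.structureModule X :=
  freeHom (M := Coh.structureModule X) fun i =>
    (Coh.toGlobal (X ↘ Spec (CommRingCat.of k)) (c i) : Γ(X, ⊤))

lemma toRing_comb (c : Fin m → k) (x : X) (w : (FlatMod.freeMod X m).presheaf.stalk x) :
    (show X.presheaf.stalk x from unitStalkToRing x (StalkModule.stalkMapₗ (comb c) x w)) =
      ∑ i, coord x i w * Curv2.stalkMap k X x (c i) :=
  toRing_freeHom _ x w

variable [IsAlgClosed k] [IsIntegral X] [IsProper (X ↘ Spec (CommRingCat.of k))]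

/-- If all nonzero combinations of the coordinates are onto, so is the map to the free module, at
closed points. -/
theorem surjective_stalk (hdim : topologicalKrullDim X ≤ 1) {N : X.Modules}
    (ι : N ⟶ FlatMod.freeMod X m) (h : ∀ c : Fin m → k, c ≠ 0 → Epi (ι ≫ comb c))
    {x : X} (hx : IsClosed ({x} : Set X)) : Function.Surjective (StalkModule.stalkMapₗ ι x) := by
  classical
  let Φ : N.presheaf.stalk x →ₗ[X.presheaf.stalk x] Fin m → X.presheaf.stalk x :=
    (LinearMap.pi fun i => coord x i).comp (StalkModule.stalkMapₗ ι x)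
  let R := LinearMap.range Φ
  suffices hR : R = ⊤ by
    intro w
    obtain ⟨v, hv⟩ : (fun i => coord x i w) ∈ R := hR ▸ Submodule.mem_top
    refine ⟨v, sub_eq_zero.mp (eq_zero_of_coord x _ fun j => ?_)⟩
    rw [map_sub, sub_eq_zero]
    exact congrFun hv j
  let W : Submodule k (Fin m → k) :=
    { carrier := {w | ∃ r ∈ R, ∀ i, X.residue x (r i) = Curv2.resMap k X x (w i)}
      add_mem' := by
        rintro a b ⟨r, hr, hr'⟩ ⟨s, hs, hs'⟩
        exact ⟨r + s, add_mem hr hs, fun i => by rw [Pi.add_apply, map_add, hr', hs', Pi.add_apply, map_add]⟩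
      zero_mem' := ⟨0, zero_mem _, fun i => by rw [Pi.zero_apply, map_zero, Pi.zero_apply, map_zero]⟩
      smul_mem' := by
        rintro a w ⟨r, hr, hr'⟩
        refine ⟨Curv2.stalkMap k X x a • r, Submodule.smul_mem _ _ hr, fun i => ?_⟩
        rw [Pi.smul_apply, smul_eq_mul, map_mul, hr', Pi.smul_apply, smul_eq_mul, map_mul]
        rfl }
  have hW : W = ⊤ := by
    by_contra hW
    obtain ⟨f, hf, hfW⟩ := Submodule.exists_le_ker_of_lt_top W (lt_top_iff_ne_top.mpr hW)
    let c : Fin m → k := fun i => f (Pi.single i 1)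
    have hfw : ∀ w : Fin m → k, f w = ∑ i, w i * c i := fun w => by
      conv_lhs => rw [pi_eq_sum_univ' w, map_sum]
      exact Finset.sum_congr rfl fun i _ => by rw [map_smul, smul_eq_mul]
    have hc : c ≠ 0 := fun h0 => hf (LinearMap.ext fun w => by
      rw [hfw, LinearMap.zero_apply]
      exact Finset.sum_eq_zero fun i _ => by rw [congrFun h0 i, Pi.zero_apply, mul_zero])
    haveI := h c hc
    obtain ⟨v, hv⟩ := (StalkModule.epi_iff_stalkMapₗ_surjective (ι ≫ comb c)).mp inferInstance x
      ((Coh.structureModule X).presheaf.germ ⊤ x trivial (1 : Γ(X, ⊤)))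
    rw [StalkModule.stalkMapₗ_comp, LinearMap.comp_apply] at hv
    have h1 : ∑ i, Φ v i * Curv2.stalkMap k X x (c i) = 1 := by
      refine (toRing_comb c x _).symm.trans ?_
      rw [hv, unitStalkToRing_germ]
      exact map_one (X.presheaf.germ ⊤ x trivial).hom
    choose w hw using fun i => exists_const (k := k) hdim hx (Φ v i)
    have hwW : f w = 0 := hfW (show w ∈ W from ⟨Φ v, ⟨v, rfl⟩, hw⟩)
    have h2 := congrArg (X.residue x) h1
    rw [map_sum, map_one] at h2
    refine zero_ne_one (α := X.residueField x) (Eq.trans ?_ h2)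
    rw [← map_zero (Curv2.resMap k X x), ← hwW, hfw, map_sum]
    exact Finset.sum_congr rfl fun i _ => by rw [map_mul, map_mul, hw]; rfl
  refine top_le_iff.mp (Submodule.le_of_le_smul_of_le_jacobson_bot Module.Finite.fg_top
    (IsLocalRing.maximalIdeal_le_jacobson ⊥) fun g _ => ?_)
  choose w hw using fun i => exists_const (k := k) hdim hx (g i)
  obtain ⟨r, hr, hr'⟩ : w ∈ W := hW ▸ Submodule.mem_top
  refine Submodule.mem_sup.mpr ⟨r, hr, g - r, ?_, add_sub_cancel _ _⟩
  rw [pi_eq_sum_univ' (g - r)]
  refine sum_mem fun i _ => Submodule.smul_mem_smul ?_ Submodule.mem_top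
  refine (IsLocalRing.residue_eq_zero_iff _).mp ?_
  change X.residue x ((g - r) i) = 0
  rw [Pi.sub_apply, map_sub, hr', hw, sub_self]

/-- A subbundle of a free module without sections has a negative line bundle quotient. -/
theorem exists_quot [hC : Degree.CurveCtx k X] {N : X.Modules} (hN : Coh.IsCoh N)
    (h0 : ∀ s : Γ(N, ⊤), s = 0) (hr : Degree.gr k N ≠ 0) :
    ∀ (m : ℕ) (ι : N ⟶ FlatMod.freeMod X m), Mono ι →
      ∃ (I : X.Modules) (q : N ⟶ I), Epi q ∧ PicF.IsInvertible I ∧ Degree.dg k I < 0 := by
  classical
  haveI := hC.noethSpace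
  intro m
  induction m with
  | zero =>
    intro ι hι
    refine absurd ?_ hr
    have : Subsingleton (N.presheaf.stalk (genericPoint X)) := subsingleton_of_forall_eq 0 fun v =>
      (StalkModule.mono_iff_stalkMapₗ_injective ι).mp hι _
        ((eq_zero_of_coord _ _ fun j => j.elim0).trans (map_zero _).symm)
    exact Module.finrank_zero_of_subsingleton
  | succ m ih =>
    intro ι hι
    have hO : Coh.IsCoh (Coh.structureModule X) := Degree.isCoh_structureModule (X := X)
    by_cases hA : ∃ c : Fin (m + 1) → k, ι ≫ comb c ≠ 0 ∧ ¬ Epi (ι ≫ comb c)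
    · obtain ⟨c, hne, hnepi⟩ := hA
      obtain ⟨I, p, j, hp, hj, hpj, hI, -, -, -⟩ := Degree.exists_image k (ι ≫ comb c) hN hO
      have hT : TorSh.IsTorsionFree (Coh.structureModule X) :=
        Coherent.isTorsionFree (TensorMod.LocFree.of_rank
          (TensorMod.LocFree.of_isInvertible (PicLoc.isInvertible_structureModule X)))
      have hO1 : Degree.gr k (Coh.structureModule X) = 1 :=
        Degree.gr_eq k (TensorMod.LocFree.of_isInvertible (PicLoc.isInvertible_structureModule X))
      have hI0 : Degree.gr k I ≠ 0 := fun hz => hne (Degree.eq_zero_of_image k p j hpj hI hT hz)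
      have hI1 : Degree.gr k I = 1 := by
        have := Degree.gr_le_of_mono k j hO
        omega
      refine ⟨I, p, hp, TensorMod.LocFree.isInvertible_of_rank_one (hI1 ▸
        Degree.rank_gr k hI (Rank.isTorsionFree_of_mono j hT)), ?_⟩
      have hdO : Degree.dg k (Coh.structureModule X) = 0 := by
        rw [Degree.dg_eq_deg k (TensorMod.LocFree.of_isInvertible
          (PicLoc.isInvertible_structureModule X)), Curv2.deg]
        simp
      refine lt_of_le_of_ne (hdO ▸ Degree.dg_le_of_mono k j hI hO (by omega)) fun hd => ?_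
      have := Degree.isIso_of_mono k j hI hO (by omega) (hd.trans hdO.symm)
      exact hnepi (hpj ▸ epi_comp p j)
    · push Not at hA
      by_cases hB : ∃ c : Fin (m + 1) → k, c ≠ 0 ∧ ι ≫ comb c = 0
      · obtain ⟨c, hc, hz⟩ := hB
        obtain ⟨i₀, hi₀⟩ := Function.ne_iff.mp hc
        let π : FlatMod.freeMod X (m + 1) ⟶ FlatMod.freeMod X m :=
          freeHom (Fin.insertNth i₀ (0 : Γ(FlatMod.freeMod X m, ⊤)) (gen X))
        have hπ : ∀ (x : X) (j : Fin m) (w : (FlatMod.freeMod X (m + 1)).presheaf.stalk x),
            coord x j (StalkModule.stalkMapₗ π x w) = coord x (i₀.succAbove j) w := by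
          intro x j
          refine fun w => LinearMap.congr_fun ((stalkBasis X (m + 1) x).ext
            (f₁ := (coord x j).comp (StalkModule.stalkMapₗ π x))
            (f₂ := coord x (i₀.succAbove j)) fun i => ?_) w
          rw [stalkBasis_apply, LinearMap.comp_apply, freeHom_stalk_germ, coord_germ_gen]
          refine Fin.succAboveCases i₀ ?_ ?_ i
          · rw [Fin.insertNth_apply_same, map_zero, map_zero, if_neg (Ne.symm (Fin.succAbove_ne _ _))]
          · intro l
            rw [Fin.insertNth_apply_succAbove, coord_germ_gen]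
            simp only [Fin.succAbove_right_inj]
        refine ih (ι ≫ π) ((StalkModule.mono_iff_stalkMapₗ_injective (ι ≫ π)).mpr fun x => ?_)
        refine (injective_iff_map_eq_zero _).mpr fun v hv => ?_
        rw [StalkModule.stalkMapₗ_comp, LinearMap.comp_apply] at hv
        set w := StalkModule.stalkMapₗ ι x v
        have hoff : ∀ j, coord x (i₀.succAbove j) w = 0 := fun j => by
          rw [← hπ, hv, map_zero]
        have hzero : ∑ i, coord x i w * Curv2.stalkMap k X x (c i) = 0 := by
          rw [← toRing_comb]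
          change unitStalkToRing x (StalkModule.stalkMapₗ (comb c) x w) = 0
          rw [← LinearMap.comp_apply, ← StalkModule.stalkMapₗ_comp, hz, StalkModule.stalkMapₗ_zero,
            LinearMap.zero_apply, map_zero]
        rw [Fin.sum_univ_succAbove _ i₀, Finset.sum_eq_zero (fun j _ => by rw [hoff, zero_mul]),
          add_zero] at hzero
        have h00 : coord x i₀ w = 0 :=
          ((IsUnit.mk0 _ hi₀).map (Curv2.stalkMap k X x)).mul_left_eq_zero.mp hzero
        exact (StalkModule.mono_iff_stalkMapₗ_injective ι).mp hι x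
          ((eq_zero_of_coord x w fun i => Fin.succAboveCases i₀ h00 hoff i).trans (map_zero _).symm)
      · push Not at hB
        have hsurj : ∀ {x : X}, IsClosed ({x} : Set X) →
            Function.Surjective (StalkModule.stalkMapₗ ι x) := fun hx =>
          surjective_stalk hC.dim_le ι (fun c hc => hA c (hB c hc)) hx
        have : Epi ι := by
          refine Abelian.epi_of_cokernel_π_eq_zero ι (StalkModule.hom_ext_stalkMapₗ fun y => ?_)
          rw [StalkModule.stalkMapₗ_zero]
          refine (stalkBasis X (m + 1) y).ext fun i => ?_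
          rw [LinearMap.zero_apply, stalkBasis_apply, StalkModule.stalkMapₗ_germ]
          obtain ⟨x, hxy, hx⟩ :=
            (isClosed_closure (s := ({y} : Set X))).exists_closed_singleton
              (closure_nonempty_iff.mpr (Set.singleton_nonempty y))
          obtain ⟨v, hv⟩ := hsurj hx ((FlatMod.freeMod X (m + 1)).presheaf.germ ⊤ x trivial (gen X i))
          have h1 : (cokernel ι).presheaf.germ ⊤ x trivial ((cokernel.π ι).app ⊤ (gen X i)) = 0 := by
            rw [← StalkModule.stalkMapₗ_germ, ← hv, ← LinearMap.comp_apply,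
              ← StalkModule.stalkMapₗ_comp, cokernel.condition, StalkModule.stalkMapₗ_zero,
              LinearMap.zero_apply]
          have h2 := TopCat.Presheaf.germ_stalkSpecializes_apply (cokernel ι).presheaf
            (U := ⊤) trivial (specializes_iff_mem_closure.mpr hxy) ((cokernel.π ι).app ⊤ (gen X i))
          exact h2.symm.trans ((congrArg _ h1).trans (map_zero _))
        haveI : IsIso ι := isIso_of_mono_of_epi ι
        have h1 : ι.app ⊤ ((inv ι).app ⊤ (gen X 0)) = gen X 0 := by
          rw [← CategoryTheory.comp_apply, ← Scheme.Modules.Hom.comp_app, IsIso.inv_hom_id,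
            Scheme.Modules.Hom.id_app, CategoryTheory.id_apply]
        rw [h0 ((inv ι).app ⊤ (gen X 0)), map_zero] at h1
        have h2 := coord_germ_gen (X := X) (genericPoint X) (0 : Fin (m + 1)) 0
        rw [← h1, map_zero, map_zero, if_pos rfl] at h2
        exact absurd h2 zero_ne_one

/-- The filtration. -/
theorem exists_filtration [hC : Degree.CurveCtx k X] :
    ∀ (r : ℕ) (N : X.Modules), FlatMod.IsFinLocFreeOfRank r N →
      ∀ (m : ℕ) (ι : N ⟶ FlatMod.freeMod X m), Mono ι → (∀ s : Γ(N, ⊤), s = 0) →
      ∃ (M : Fin (r + 1) → X.Modules) (f : (j : Fin r) → (M j.succ ⟶ M j.castSucc)),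
        Nonempty (M 0 ≅ N) ∧ IsZero (M (Fin.last r)) ∧
          ∀ j : Fin r, Mono (f j) ∧ PicF.IsInvertible (cokernel (f j)) ∧
            Curv2.deg k X (cokernel (f j)) 1 < 0 := by
  intro r
  induction r with
  | zero =>
    intro N hN m ι hι h0
    have hf := TensorMod.LocFree.of_rank hN
    exact ⟨fun _ => N, fun j => j.elim0, ⟨Iso.refl N⟩,
      Degree.isZero_of_gr k (Coherent.isCoh hf) (Coherent.isTorsionFree hf) (Degree.gr_eq k hN),
      fun j => j.elim0⟩
  | succ r ih =>
    intro N hN m ι hι h0
    have hf := TensorMod.LocFree.of_rank hN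
    have hc := Coherent.isCoh hf
    obtain ⟨I, q, hq, hI, hd⟩ :=
      exists_quot hc h0 (by rw [Degree.gr_eq k hN]; omega) m ι hι
    have hI1 := TensorMod.LocFree.of_isInvertible hI
    obtain ⟨hK, hg, -⟩ := Degree.kernel_ses k q hc (Coherent.isCoh (TensorMod.LocFree.of_rank hI1))
    have hTK : TorSh.IsTorsionFree (kernel q) :=
      Rank.isTorsionFree_of_mono (kernel.ι q) (Coherent.isTorsionFree hf)
    have hKr : Degree.gr k (kernel q) = r := by
      rw [Degree.gr_eq k hN, Degree.gr_eq k hI1] at hg
      omega
    have hKN : FlatMod.IsFinLocFreeOfRank r (kernel q) := hKr ▸ Degree.rank_gr k hK hTK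
    obtain ⟨M', f', ⟨e⟩, hz, hf'⟩ := ih (kernel q) hKN m (kernel.ι q ≫ ι) inferInstance fun s =>
      ((Modules.Stalk.mono_iff_app_injective (kernel.ι q)).mp inferInstance ⊤)
        ((h0 _).trans (map_zero ((kernel.ι q).app ⊤).hom).symm)
    let M : Fin (r + 1 + 1) → X.Modules := Fin.cons N M'
    let g : M' 0 ⟶ N := e.hom ≫ kernel.ι q
    let f : (j : Fin (r + 1)) → (M j.succ ⟶ M j.castSucc) :=
      Fin.cases (motive := fun j => M j.succ ⟶ M j.castSucc) g f'
    refine ⟨M, f, ⟨Iso.refl N⟩, hz, fun j => ?_⟩
    refine Fin.cases ?_ (fun j' => hf' j') j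
    let ses : ShortComplex X.Modules := ShortComplex.mk (kernel.ι q) q (kernel.condition q)
    have hses : ses.ShortExact := { exact := ShortComplex.exact_kernel q }
    let ei : cokernel g ≅ I :=
      cokernelEpiComp e.hom (kernel.ι q) ≪≫
        (cokernelIsCokernel (kernel.ι q)).coconePointUniqueUpToIso hses.gIsCokernel
    haveI : Mono g := mono_comp _ _
    change Mono g ∧ PicF.IsInvertible (cokernel g) ∧ Curv2.deg k X (cokernel g) 1 < 0
    refine ⟨inferInstance, TensorMod.Invertible.isInvertible_of_iso ei.symm hI, ?_⟩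
    rw [← Degree.dg_eq_deg k (TensorMod.LocFree.of_isInvertible
      (TensorMod.Invertible.isInvertible_of_iso ei.symm hI)), Degree.dg_congr k ei]
    exact hd

end Groth.Agent.Lib.Curves.NegFiltration
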