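import Groth.Agent.Lib.Curves.Finiteness
import Groth.Agent.Lib.Curves.Degree
import Groth.Agent.Lib.SurfInt.Push
import Groth.Agent.Lib.SurfInt.Bound
import Groth.Agent.Lib.VarDim.Basic
import Groth.Agent.Lib.QCoh.Pushforward
import Groth.Agent.Lib.TensorMod.QCohInv
import Groth.Agent.Lib.Modules.Support

/-!
# Maps of curves which are closed immersions over a dense open
-/

set_option autoImplicit false
universe u

open CategoryTheory CategoryTheory.Limits AlgebraicGeometry TopologicalSpace Opposite

noncomputable section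

namespace Groth.Agent.Lib.Curves.Birational

open Groth.Agent.Lib Groth.Agent.Lib.Curves.LES Groth.Agent.Lib.Curves.Euler Groth.Agent.Lib.Modules

/-- A dense open contains the generic points of the irreducible components. -/
theorem exists_specializes {α : Type u} [TopologicalSpace α] [NoetherianSpace α] [QuasiSober α]
    {U : Set α} (hU : IsOpen U) (hd : Dense U) (x : α) : ∃ η ∈ U, η ⤳ x := by
  obtain ⟨Z, hZ, hxZ⟩ : ∃ Z ∈ irreducibleComponents α, x ∈ Z :=
    ⟨irreducibleComponent x, irreducibleComponent_mem_irreducibleComponents x, mem_irreducibleComponent⟩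
  have hZc := isClosed_of_mem_irreducibleComponents Z hZ
  obtain ⟨η, hη⟩ := QuasiSober.sober hZ.1 hZc
  obtain ⟨o, ho, ho0, hoZ⟩ := NoetherianSpace.exists_isOpen_nonempty_subset_irreducibleComponent Z hZ
  obtain ⟨z, hzo, hzU⟩ := hd.inter_open_nonempty o ho ho0
  exact ⟨η, (hη.mem_open_set_iff hU).mpr ⟨z, hoZ hzo, hzU⟩, hη.specializes hxZ⟩

variable {k : Type u} [Field k] {X : Scheme.{u}} [X.Over (Spec (CommRingCat.of k))]

/-- The complement of a dense open of a curve is finite. -/
theorem finite_compl (p : X ⟶ Spec (CommRingCat.of k)) [LocallyOfFiniteType p] [NoetherianSpace X]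
    (hdim : topologicalKrullDim X ≤ 1) {U : Set X} (hU : IsOpen U) (hd : Dense U) : Uᶜ.Finite := by
  have hcl : ∀ z ∈ Uᶜ, IsClosed ({z} : Set X) := fun z hz => by
    obtain ⟨η, hηU, hηz⟩ := exists_specializes hU hd z
    have h1 := VarDim.Basic.pdim_lt p hηz fun h => hz (h ▸ hηU)
    have h2 : (VarDim.Basic.pdim p η : WithBot ℕ∞) ≤ 1 :=
      (VarDim.Basic.pdim_le_topologicalKrullDim_scheme p η).trans hdim
    have h3 : VarDim.Basic.pdim p η ≤ 1 := by exact_mod_cast h2
    exact (VarDim.Basic.pdim_eq_zero_iff p z).mp (by omega)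
  haveI : QuasiSober ↥Uᶜ := VarDim.Basic.quasiSober_of_isLocallyClosed hU.isClosed_compl.isLocallyClosed
  have hfin : (irreducibleComponents ↥Uᶜ).Finite := NoetherianSpace.finite_irreducibleComponents
  have hsub : ∀ Z ∈ irreducibleComponents ↥Uᶜ, Z.Subsingleton := fun Z hZ a ha b hb => by
    obtain ⟨η, hη⟩ := QuasiSober.sober hZ.1 (isClosed_of_mem_irreducibleComponents Z hZ)
    have key : ∀ c ∈ Z, c = η := fun c hc => Subtype.ext
      (((hη.specializes hc).map continuous_subtype_val).mem_closed (hcl η.1 η.2) rfl)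
    rw [key a ha, key b hb]
  have huniv : (Set.univ : Set ↥Uᶜ).Finite := by
    rw [← sUnion_irreducibleComponents]
    exact hfin.sUnion fun Z hZ => (hsub Z hZ).finite
  exact Set.finite_coe_iff.mp (Set.finite_univ_iff.mp huniv)

variable {X' : Scheme.{u}} [X'.Over (Spec (CommRingCat.of k))]
  [IsProper (X ↘ Spec (CommRingCat.of k))] (f : X' ⟶ X)
  (hf : f ≫ (X ↘ Spec (CommRingCat.of k)) = X' ↘ Spec (CommRingCat.of k)) (U : X.Opens)

include hf in
/-- A proper map which is an isomorphism over a dense open with dense preimage is finite. -/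
theorem isFinite [IsProper f] (hdim : topologicalKrullDim X ≤ 1) (hU : Dense (U : Set X))
    (hU' : Dense ((f ⁻¹ᵁ U : X'.Opens) : Set X')) [IsIso (f ∣_ U)] : IsFinite f := by
  haveI : IsProper (X' ↘ Spec (CommRingCat.of k)) := hf ▸ inferInstance
  haveI := GlobalSections.noetherianSpace_of_proper k X
  haveI := GlobalSections.noetherianSpace_of_proper k X'
  let p' := X' ↘ Spec (CommRingCat.of k)
  have hdU : topologicalKrullDim ↥((f ⁻¹ᵁ U : X'.Opens) : Set X') ≤ 1 := by
    let e : ↥(f ⁻¹ᵁ U : X'.Opens) ≃ₜ ↥U := (asIso (f ∣_ U)).hom.homeomorph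
    exact e.isEmbedding.isInducing.topologicalKrullDim_le.trans
      ((U.isOpenEmbedding'.isEmbedding.isInducing.topologicalKrullDim_le).trans hdim)
  have hdim' : topologicalKrullDim X' ≤ 1 := by
    rw [VarDim.Basic.topologicalKrullDim_scheme_le_iff p']
    intro x
    obtain ⟨η, hη, hηx⟩ := exists_specializes (f ⁻¹ᵁ U).2 hU' x
    exact le_trans (by exact_mod_cast VarDim.Basic.pdim_le p' hηx)
      ((VarDim.Basic.pdim_le_topologicalKrullDim p' (f ⁻¹ᵁ U).2.isLocallyClosed hη).trans hdU)
  haveI : LocallyQuasiFinite f := locallyQuasiFinite_iff_finite_preimage_singleton.mpr fun y => by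
    by_cases hy : y ∈ U
    · refine Set.Subsingleton.finite fun a ha b hb => ?_
      have haU : a ∈ f ⁻¹ᵁ U := show f a ∈ U from ha ▸ hy
      have hbU : b ∈ f ⁻¹ᵁ U := show f b ∈ U from hb ▸ hy
      have h1 : (f ∣_ U) ⟨a, haU⟩ = (f ∣_ U) ⟨b, hbU⟩ := Subtype.ext (by
        simp only [morphismRestrict_base_coe]; exact ha.trans hb.symm)
      exact congrArg Subtype.val ((asIso (f ∣_ U)).hom.homeomorph.injective h1)
    · refine (finite_compl p' hdim' (f ⁻¹ᵁ U).2 hU').subset fun a ha hmem => hy ?_
      rw [← show f a = y from ha]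
      exact hmem
  rw [IsFinite.iff_isProper_and_locallyQuasiFinite]
  exact ⟨inferInstance, inferInstance⟩

/-- The cokernel of the unit is supported off `U`. -/
theorem support_cokernel_unit [IsClosedImmersion (f ∣_ U)] :
    CohB1.support (cokernel (ClSub.unitToPush f)) ⊆ (U : Set X)ᶜ := by
  intro x hx hxU
  refine hx (subsingleton_of_forall_eq 0 fun w => ?_)
  obtain ⟨v, rfl⟩ := (StalkModule.epi_iff_stalkMapₗ_surjective (cokernel.π (ClSub.unitToPush f))).mp
    inferInstance x w
  obtain ⟨W, hxW, s, rfl⟩ :=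
    TopCat.Presheaf.exists_germ_eq ((Scheme.Modules.pushforward f).obj (Coh.structureModule X')).presheaf v
  obtain ⟨V, hV, hxV, hVW⟩ := exists_isAffineOpen_mem_and_subset (show x ∈ W ⊓ U from ⟨hxW, hxU⟩)
  have hVU : V ≤ U := fun z hz => (hVW hz).2
  have hVW' : V ≤ W := fun z hz => (hVW hz).1
  have hsurj : Function.Surjective (f.app V) := by
    have hV' : IsAffineOpen (U.ι ⁻¹ᵁ V) := hV.preimage_of_isOpenImmersion U.ι (by
      rwa [Scheme.Opens.opensRange_ι])
    have h1 := (f ∣_ U).app_surjective (U.ι ⁻¹ᵁ V) hV'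
    rw [morphismRestrict_app'] at h1
    have key : ∀ (A : X.Opens) (B : X'.Opens) (e : B ≤ f ⁻¹ᵁ A), A = V → B = f ⁻¹ᵁ V →
        Function.Surjective (f.appLE A B e) → Function.Surjective (f.app V) := by
      rintro A B e rfl rfl h
      rwa [Scheme.Hom.appLE_eq_app] at h
    have e : U.ι ''ᵁ U.ι ⁻¹ᵁ V = V := by
      rw [Scheme.Hom.image_preimage_eq_opensRange_inf, Scheme.Opens.opensRange_ι, inf_eq_right.mpr hVU]
    exact key _ _ _ e ((image_morphismRestrict_preimage f U _).trans (by rw [e])) h1
  obtain ⟨a, ha⟩ := hsurj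
    (((Scheme.Modules.pushforward f).obj (Coh.structureModule X')).presheaf.map (homOfLE hVW').op s)
  rw [← TopCat.Presheaf.germ_res_apply _ (homOfLE hVW') x hxV s]
  refine (congrArg (fun v => StalkModule.stalkMapₗ (cokernel.π (ClSub.unitToPush f)) x
    (((Scheme.Modules.pushforward f).obj (Coh.structureModule X')).presheaf.germ V x hxV v)) ha.symm).trans ?_
  change StalkModule.stalkMapₗ (cokernel.π (ClSub.unitToPush f)) x
    (((Scheme.Modules.pushforward f).obj (Coh.structureModule X')).presheaf.germ V x hxV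
      ((ClSub.unitToPush f).app V (show Γ(Coh.structureModule X, V) from a))) = 0
  rw [← StalkModule.stalkMapₗ_germ, ← LinearMap.comp_apply, ← StalkModule.stalkMapₗ_comp,
    cokernel.condition, StalkModule.stalkMapₗ_zero]
  rfl

variable [IsFinite f]

/-- `f_* O` is coherent. -/
theorem isCoh_push : Coh.IsCoh ((Coh.push f).obj (Coh.structureModule X')) := by
  haveI := TensorMod.QCohInv.isQCoh_structureModule X'
  haveI : ((Coh.push f).obj (Coh.structureModule X')).IsQuasicoherent :=
    QCoh.Pushforward.isQCoh_pushforward f (M := Coh.structureModule X')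
  exact CohBasics.Closure.isCoh_of_finite_sections fun V hV => f.finite_app V hV

include hf in
/-- `H¹(X, O_X) → H¹(X', O_X')` is surjective. -/
theorem h1_facts [IsClosedImmersion (f ∣_ U)] (hdim : topologicalKrullDim X ≤ 1)
    (hU : Dense (U : Set X)) :
    Function.Surjective (mapK k (ClSub.unitToPush f) 1) ∧ Curv2.genus k X' ≤ Curv2.genus k X ∧
      (Curv2.genus k X' = Curv2.genus k X → Function.Injective (mapK k (ClSub.unitToPush f) 1)) := by
  haveI := GlobalSections.noetherianSpace_of_proper k X
  haveI := TensorMod.QCohInv.isQCoh_structureModule X'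
  haveI := GlobalSections.isNoetherian_of_proper k X
  let u := ClSub.unitToPush f
  have hI : (ShortComplex.mk (Abelian.image.ι u) (cokernel.π u) (kernel.condition _)).ShortExact :=
    { exact := ShortComplex.exact_of_f_is_kernel _ (kernelIsKernel _) }
  have hK : (ShortComplex.mk (kernel.ι u) (Abelian.factorThruImage u) (by
      rw [← cancel_mono (Abelian.image.ι u), Category.assoc, Abelian.image.fac, kernel.condition, zero_comp])).ShortExact :=
    { exact := ShortComplex.exact_of_f_is_kernel _ (isKernelOfComp (Abelian.image.ι u) u (kernelIsKernel u) _ (Abelian.image.fac u)) }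
  have hQ : Subsingleton (Coh.HH X (cokernel u) 1) :=
    SurfInt.Bound.subsingleton_HH_of_finite (X ↘ Spec (CommRingCat.of k)) (cokernel u) U.2.isClosed_compl
      (finite_compl (X ↘ Spec (CommRingCat.of k)) hdim U.2 hU) (support_cokernel_unit f U) one_pos
  have s1 : Function.Surjective (mapK k (Abelian.image.ι u) 1) := fun z =>
    (exactK₂ k hI 1 z).mp (@Subsingleton.elim _ hQ _ _)
  have s2 := Euler.surjective_h1 (k := k) hK
    (Positivity.subsingleton_HH_of_two_le hdim _ 2 le_rfl)
  have hs : Function.Surjective (mapK k u 1) := by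
    rw [show mapK k u 1 = (mapK k (Abelian.image.ι u) 1).comp (mapK k (Abelian.factorThruImage u) 1) by
      rw [← mapK_comp, Abelian.image.fac]]
    exact s1.comp s2
  haveI hfin : FiniteDimensional k (Coh.HH X (Coh.structureModule X) 1) :=
    (Finiteness.isGood_of_isCoh (k := k) hdim Degree.isCoh_structureModule).fin₁
  have he : Module.finrank k (Coh.HH X ((Scheme.Modules.pushforward f).obj (Coh.structureModule X')) 1) =
      Curv2.genus k X' := SurfInt.Push.finrank_push f hf (Coh.structureModule X') 1
  refine ⟨hs, he ▸ LinearMap.finrank_le_finrank_of_surjective (f := mapK k u 1) hs, fun h => ?_⟩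
  haveI := Module.Finite.of_surjective _ hs
  exact (LinearMap.injective_iff_surjective_of_finrank_eq_finrank (f := mapK k u 1)
    (h.symm.trans he.symm)).mpr hs

include hf in
/-- Equality of genera and surjectivity on global functions force an isomorphism. -/
theorem isIso_of_genus_eq [IsReduced X] [IsIso (f ∣_ U)] (hdim : topologicalKrullDim X ≤ 1)
    (hU : Dense (U : Set X)) (h0 : Function.Surjective (f.app ⊤).hom)
    (hg : Curv2.genus k X' = Curv2.genus k X) : IsIso f := by
  haveI := GlobalSections.noetherianSpace_of_proper k X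
  haveI := GlobalSections.isNoetherian_of_proper k X
  let u := ClSub.unitToPush f
  have hinj : ∀ V : X.Opens, Function.Injective (f.app V) := fun V => by
    refine (injective_iff_map_eq_zero _).mpr fun s hs => (basicOpen_eq_bot_iff s).mp ?_
    by_contra hne
    obtain ⟨x, hx, hxU⟩ := hU.inter_open_nonempty _ (X.basicOpen s).2
      (Set.nonempty_iff_ne_empty.mpr fun h => hne (Opens.ext h))
    obtain ⟨x', hx'⟩ := (asIso (f ∣_ U)).hom.homeomorph.surjective ⟨x, hxU⟩
    have h1 : f x'.1 = x := ((morphismRestrict_base_coe f U x').symm.trans (congrArg Subtype.val hx' :))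
    have h2 : x'.1 ∈ f ⁻¹ᵁ X.basicOpen s := show f x'.1 ∈ X.basicOpen s from h1 ▸ hx
    rw [Scheme.preimage_basicOpen, hs, Scheme.basicOpen_zero] at h2
    exact h2
  haveI : Mono u := by
    rw [Stalk.mono_iff_app_injective]
    exact hinj
  have hS : (ShortComplex.mk u (cokernel.π u) (cokernel.condition u)).ShortExact :=
    { exact := ShortComplex.exact_cokernel u }
  have hfin := finite_compl (X ↘ Spec (CommRingCat.of k)) hdim U.2 hU
  have hinj1 := (h1_facts f hf U hdim hU).2.2 hg
  have hs0 : Function.Surjective (mapK k u 0) := fun z => by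
    obtain ⟨a, ha⟩ := h0 (GlobalSections.h0Equiv ((Scheme.Modules.pushforward f).obj (Coh.structureModule X')) z)
    refine ⟨(GlobalSections.h0Equiv (Coh.structureModule X)).symm a, ?_⟩
    apply (GlobalSections.h0Equiv ((Scheme.Modules.pushforward f).obj (Coh.structureModule X'))).injective
    refine Eq.trans ?_ ha
    refine (Sheaf.H.equiv₀_naturality (F := Coh.toAb (Coh.structureModule X))
      (G := Coh.toAb ((Scheme.Modules.pushforward f).obj (Coh.structureModule X')))
      (isTerminalTop (α := Opens X)) (toAbMap u) _).symm.trans ?_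
    exact congrArg (f.app ⊤) ((GlobalSections.h0Equiv (Coh.structureModule X)).apply_symm_apply a)
  have hQ0 : Subsingleton (Coh.HH X (cokernel u) 0) := subsingleton_of_forall_eq 0 fun q => by
    have hδ : δK k hS 0 1 rfl q = 0 := hinj1 (((exactK₁ k hS 0 1 rfl).apply_apply_eq_zero q).trans (map_zero _).symm)
    obtain ⟨b, rfl⟩ := (exactK₃ k hS 0 1 rfl q).mp hδ
    obtain ⟨a, rfl⟩ := hs0 b
    exact (exactK₂ k hS 0).apply_apply_eq_zero a
  haveI : NoetherianSpace (X.toTopCat : Type u) := inferInstanceAs (NoetherianSpace X)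
  haveI : QuasiSober (X.toTopCat : Type u) := inferInstanceAs (QuasiSober X)
  haveI : T0Space (X.toTopCat : Type u) := inferInstanceAs (T0Space X)
  haveI : TopCat.Sheaf.IsFlasque (Coh.toAb (cokernel u)) :=
    H34.VanishOne.isFlasque_of_isZero_stalk_of_not_isClosed (X := X.toTopCat) _ fun x hx =>
      @AddCommGrpCat.isZero_of_subsingleton _ (Support.not_mem_support_iff.mp fun h =>
        hx (SurfInt.Bound.isClosed_singleton_of_finite (X ↘ Spec (CommRingCat.of k)) U.2.isClosed_compl
          hfin (support_cokernel_unit f U h)))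
  haveI : Epi u := Abelian.epi_of_cokernel_π_eq_zero u
    ((Positivity.isZero_of_flasque hQ0).eq_of_tgt _ _)
  haveI : IsIso u := isIso_of_mono_of_epi u
  have hb : ∀ V : X.Opens, IsAffineOpen V → IsIso (f ∣_ V) := fun V hV => by
    haveI : IsAffine (V : Scheme.{u}) := hV
    refine (HasAffineProperty.iff_of_isAffine (P := MorphismProperty.isomorphisms Scheme)).mpr
      ⟨hV.preimage f, ?_⟩
    rw [morphismRestrict_appTop]
    have hiso : IsIso (f.app (V.ι ''ᵁ ⊤)) := (ConcreteCategory.isIso_iff_bijective _).mpr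
      ((ConcreteCategory.isIso_iff_bijective (u.app (V.ι ''ᵁ ⊤))).mp inferInstance)
    exact @IsIso.comp_isIso _ _ _ _ _ _ _ hiso
      (Functor.map_isIso X'.presheaf (eqToHom (image_morphismRestrict_preimage f V ⊤)).op)
  exact (IsZariskiLocalAtTarget.iff_of_iSup_eq_top (P := MorphismProperty.isomorphisms Scheme)
    (fun V : X.affineOpens => V.1) (iSup_affineOpens_eq_top X)).mpr fun V => hb V.1 V.2

end Groth.Agent.Lib.Curves.Birational
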