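import Groth.Agent.Lib.Curves.NefDescent
import Groth.Agent.Lib.Curves.GenusZero
import Groth.Agent.Lib.Curves.Birational
import Groth.Agent.Lib.CurveFF.Hyp
import Groth.Agent.Lib.Normalization.FiniteField
import Groth.Agent.H97.CurvePositivity
import Groth.Agent.S2625

/-!
# Regular closed points on integral curves, sections avoiding finitely many points, points of small
degree
-/

set_option autoImplicit false
set_option linter.style.haveILetI false
noncomputable section

universe u

open CategoryTheory CategoryTheory.Limits AlgebraicGeometry TopologicalSpace Opposite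

namespace Groth.Agent.Lib.Curves.RegPoints

open Groth.Agent.Lib Modules PointIdeal

/-- Over an infinite field finitely many proper subspaces do not cover. -/
theorem exists_forall_notMem {K V ι : Type*} [Field K] [Infinite K] [AddCommGroup V] [Module K V]
    (s : Finset ι) (p : ι → Submodule K V) (hp : ∀ i ∈ s, p i ≠ ⊤) : ∃ v, ∀ i ∈ s, v ∉ p i := by
  classical
  induction s using Finset.induction_on with
  | empty => exact ⟨0, fun i hi => absurd hi (Finset.notMem_empty i)⟩
  | @insert a s _ ih =>
    obtain ⟨v, hv⟩ := ih fun i hi => hp i (Finset.mem_insert_of_mem hi)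
    by_cases hva : v ∈ p a
    · obtain ⟨w, hw⟩ : ∃ w, w ∉ p a := by
        by_contra hc
        push Not at hc
        exact hp a (Finset.mem_insert_self a s) (eq_top_iff.2 fun x _ => hc x)
      let bad : ι → Set K := fun i => {c | w + c • v ∈ p i}
      have hbad : ∀ i ∈ s, (bad i).Subsingleton := fun i hi c hc d hd => by
        by_contra hne
        refine hv i hi ?_
        have : (c - d) • v ∈ p i := by
          have h := sub_mem (show w + c • v ∈ p i from hc) (show w + d • v ∈ p i from hd)
          rwa [add_sub_add_left_eq_sub, ← sub_smul] at h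
        exact (Submodule.smul_mem_iff (p i) (sub_ne_zero.2 hne)).1 this
      have hfin : (⋃ i ∈ (s : Set ι), bad i).Finite :=
        s.finite_toSet.biUnion fun i hi => (hbad i hi).finite
      obtain ⟨c, hc⟩ := hfin.infinite_compl.nonempty
      refine ⟨w + c • v, fun i hi => ?_⟩
      rcases Finset.mem_insert.1 hi with rfl | hi
      · exact fun h => hw ((add_mem_cancel_right (Submodule.smul_mem (p i) c hva)).1 h)
      · exact fun h => hc (Set.mem_biUnion (x := i) hi h)
    · exact ⟨v, fun i hi => by
        rcases Finset.mem_insert.1 hi with rfl | hi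
        · exact hva
        · exact hv i hi⟩

variable {k : Type u} [Field k] {X : Scheme.{u}} [X.Over (Spec (CommRingCat.of k))] [IsIntegral X]

omit [X.Over (Spec (CommRingCat.of k))] in
/-- A local ring of dimension at most one with principal maximal ideal. -/
theorem isPrincipal_of_regular (hdim : topologicalKrullDim X = 1) {x : X}
    (hx : IsClosed ({x} : Set X)) (hr : IsRegularLocalRing (X.presheaf.stalk x)) :
    IsPrincipalIdealRing (X.presheaf.stalk x) := by
  have hnf := CurveFF.not_isField_closed hdim hx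
  suffices IsDiscreteValuationRing (X.presheaf.stalk x) from inferInstance
  refine ((IsDiscreteValuationRing.TFAE (X.presheaf.stalk x) hnf).out 0 4).2 ?_
  have hfg : (IsLocalRing.maximalIdeal (X.presheaf.stalk x)).FG := IsNoetherian.noetherian _
  obtain ⟨s, hs, hspan⟩ := Submodule.FG.exists_span_finset_card_eq_spanFinrank hfg
  have hle : s.card ≤ 1 := by
    have h := hr.spanFinrank_maximalIdeal
    have h' := CurveFF.krullDim_stalk_le hdim x
    rw [← h] at h'
    rw [hs]
    exact_mod_cast h'
  obtain ⟨a, ha⟩ := Finset.card_le_one_iff_subset_singleton.1 hle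
  rcases Finset.subset_singleton_iff.1 ha with rfl | rfl
  · exact ⟨⟨0, by rw [← hspan]; simp⟩⟩
  · exact ⟨⟨a, by rw [← hspan]; simp⟩⟩

omit [X.Over (Spec (CommRingCat.of k))] in
/-- Normal closed points of a curve are regular. -/
theorem isRegular_of_integrallyClosed [IsLocallyNoetherian X] (hdim : topologicalKrullDim X = 1)
    {x : X} (hx : IsClosed ({x} : Set X)) (hn : IsIntegrallyClosed (X.presheaf.stalk x)) :
    IsRegularLocalRing (X.presheaf.stalk x) := by
  have hnf := CurveFF.not_isField_closed hdim hx
  have h1 : Ring.KrullDimLE 1 (X.presheaf.stalk x) :=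
    Ring.krullDimLE_iff.2 (CurveFF.krullDim_stalk_le hdim x)
  have huniq : IsIntegrallyClosed (X.presheaf.stalk x) ∧
      ∃! P : Ideal (X.presheaf.stalk x), P ≠ ⊥ ∧ P.IsPrime :=
    ⟨hn, IsLocalRing.maximalIdeal (X.presheaf.stalk x),
      ⟨IsLocalRing.isField_iff_maximalIdeal_eq.not.1 hnf,
        (IsLocalRing.maximalIdeal.isMaximal (X.presheaf.stalk x)).isPrime⟩,
      fun P hP => IsLocalRing.eq_maximalIdeal
        (Ring.krullDimLE_one_iff_of_isPrime_bot.1 h1 P hP.1 hP.2)⟩
  have : IsDiscreteValuationRing (X.presheaf.stalk x) :=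
    ((IsDiscreteValuationRing.TFAE (X.presheaf.stalk x) hnf).out 0 3).2 huniq
  obtain ⟨a, ha⟩ := (IsPrincipalIdealRing.principal (IsLocalRing.maximalIdeal (X.presheaf.stalk x))).principal
  refine IsRegularLocalRing.of_spanFinrank_maximalIdeal_le (R := X.presheaf.stalk x) ?_
  rw [IsPrincipalIdealRing.ringKrullDim_eq_one _ hnf, ← Nat.cast_one]
  have hle : (IsLocalRing.maximalIdeal (X.presheaf.stalk x)).spanFinrank ≤ 1 :=
    (congrArg Submodule.spanFinrank ha).le.trans
      ((Submodule.spanFinrank_span_le_ncard_of_finite (Set.finite_singleton a)).trans (Set.ncard_singleton a).le)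
  exact_mod_cast hle

variable [IsProper (X ↘ Spec (CommRingCat.of k))]

include k in
/-- All but finitely many closed points are regular. -/
theorem exists_finite_irregular (hdim : topologicalKrullDim X = 1) :
    ∃ F : Set X, F.Finite ∧ ∀ x : X, IsClosed ({x} : Set X) → x ∉ F →
      IsRegularLocalRing (X.presheaf.stalk x) := by
  haveI := GlobalSections.isNoetherian_of_proper k X
  haveI := GlobalSections.noetherianSpace_of_proper k X
  let f := X ↘ Spec (CommRingCat.of k)
  obtain ⟨_, ⟨U, hU, rfl⟩, hη, -⟩ :=
    X.isBasis_affineOpens.exists_subset_of_mem_open (Set.mem_univ (genericPoint X)) isOpen_univ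
  replace hU : IsAffineOpen U := hU
  haveI : Nonempty U := ⟨⟨_, hη⟩⟩
  let ρ : k →+* Γ(X, U) := (f.appLE ⊤ U (by simp)).hom.comp
    (Scheme.ΓSpecIso (CommRingCat.of k)).inv.hom
  let : Algebra k Γ(X, U) := ρ.toAlgebra
  haveI : Algebra.FiniteType k Γ(X, U) :=
    RingHom.FiniteType.comp (f.finiteType_appLE (isAffineOpen_top _) hU (by simp))
      (RingHom.FiniteType.of_surjective _ (ConcreteCategory.bijective_of_isIso
        (Scheme.ΓSpecIso (CommRingCat.of k)).inv).2)
  haveI := IsLocallyNoetherian.component_noetherian (X := X) ⟨U, hU⟩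
  have hfin := Normalization.FiniteField.finite_integralClosure k Γ(X, U) (FractionRing Γ(X, U))
    (FractionRing Γ(X, U))
  have hopen := Groth.Agent.S2625.result Γ(X, U) hfin
  let S : X.Opens := ⟨hU.fromSpec '' EGA4.norLocus Γ(X, U), hU.fromSpec.isOpenEmbedding.isOpenMap _ hopen⟩
  have hSη : genericPoint X ∈ S := by
    refine ⟨hU.primeIdealOf ⟨_, hη⟩, ?_, hU.fromSpec_primeIdealOf ⟨_, hη⟩⟩
    let _ := TopCat.Presheaf.algebra_section_stalk X.presheaf (⟨_, hη⟩ : U)
    haveI := hU.isLocalization_stalk ⟨_, hη⟩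
    let e := IsLocalization.algEquiv (hU.primeIdealOf ⟨_, hη⟩).asIdeal.primeCompl
      (X.presheaf.stalk (genericPoint X))
      (Localization.AtPrime (hU.primeIdealOf ⟨_, hη⟩).asIdeal)
    let _ : Field (X.presheaf.stalk (genericPoint X)) := inferInstanceAs (Field X.functionField)
    exact ⟨e.toRingEquiv.symm.toMulEquiv.isDomain (X.presheaf.stalk (genericPoint X)),
      IsIntegrallyClosed.of_equiv e.toRingEquiv⟩
  refine ⟨(S : Set X)ᶜ, Birational.finite_compl (k := k) f hdim.le S.2
    (S.2.dense ⟨_, hSη⟩), fun x hx hxS => ?_⟩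
  obtain ⟨p, hp, rfl⟩ : x ∈ S := not_not.mp hxS
  refine isRegular_of_integrallyClosed hdim hx ?_
  have hpU : hU.fromSpec p ∈ U := by rw [← SetLike.mem_coe, ← hU.range_fromSpec]; exact ⟨p, rfl⟩
  let _ := TopCat.Presheaf.algebra_section_stalk X.presheaf (⟨_, hpU⟩ : U)
  have hpp : hU.primeIdealOf ⟨_, hpU⟩ = p :=
    hU.fromSpec.isOpenEmbedding.injective (hU.fromSpec_primeIdealOf ⟨_, hpU⟩)
  have hp' : hU.primeIdealOf ⟨_, hpU⟩ ∈ EGA4.norLocus Γ(X, U) := hpp.symm ▸ hp
  haveI := hU.isLocalization_stalk ⟨_, hpU⟩
  haveI := hp'.1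
  haveI := hp'.2
  exact IsIntegrallyClosed.of_equiv (IsLocalization.algEquiv (hU.primeIdealOf ⟨_, hpU⟩).asIdeal.primeCompl
    (Localization.AtPrime (hU.primeIdealOf ⟨_, hpU⟩).asIdeal) (X.presheaf.stalk (hU.fromSpec p))).toRingEquiv

include k in
/-- A regular closed point exists. -/
theorem exists_regular_point (hdim : topologicalKrullDim X = 1) :
    ∃ x : X, IsClosed ({x} : Set X) ∧ IsRegularLocalRing (X.presheaf.stalk x) := by
  obtain ⟨F, hF, hreg⟩ := exists_finite_irregular (k := k) hdim
  haveI := LocallyOfFiniteType.jacobsonSpace (X ↘ Spec (CommRingCat.of k))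
  have hsub : IsClosed (F ∩ closedPoints X) := by
    rw [← Set.biUnion_of_singleton (F ∩ closedPoints X)]
    exact (hF.inter_of_left _).isClosed_biUnion fun x hx => hx.2
  have hη : genericPoint X ∉ F ∩ closedPoints X := fun h =>
    SmoothCurve.Stalk.ne_genericPoint_of_isClosed (by rw [hdim]; exact one_ne_zero) h.2 rfl
  obtain ⟨x, hx, hxc⟩ :=
    nonempty_inter_closedPoints ⟨_, hη⟩ hsub.isOpen_compl.isLocallyClosed
  exact ⟨x, hxc, hreg x hxc fun h => hx ⟨h, hxc⟩⟩

/-- A globally generated module has a section generating at finitely many given closed points. -/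
theorem exists_section_avoid [Infinite k] {L : X.Modules} (hL : PicF.IsInvertible L)
    (hgg : Curv2.IsGloballyGenerated L) (F : Set X) (hF : F.Finite) :
    ∃ t : Γ(L, ⊤), ∀ (x : X) (hx : IsClosed ({x} : Set X)), x ∈ F → (evQ hx L).app ⊤ t ≠ 0 := by
  classical
  letI := GlobalSections.secModule k L
  let p : {x : X // IsClosed ({x} : Set X)} → Submodule k (L.val.obj (op ⊤) : Type u) := fun x =>
    { carrier := {t | (evQ x.2 L).app ⊤ (show Γ(L, ⊤) from t) = 0}
      zero_mem' := map_zero ((evQ x.2 L).app ⊤).hom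
      add_mem' := fun {a b} ha hb => (map_add ((evQ x.2 L).app ⊤).hom (show Γ(L, ⊤) from a)
        (show Γ(L, ⊤) from b)).trans ((congrArg₂ (· + ·) ha hb).trans (add_zero 0))
      smul_mem' := fun c a ha => by
        refine (Scheme.Modules.Hom.app_smul (evQ x.2 L)
          (Coh.toGlobal (X ↘ Spec (CommRingCat.of k)) c) (show Γ(L, ⊤) from a)).trans ?_
        exact (congrArg _ ha).trans (smul_zero _) }
  have hfin : {x : {x : X // IsClosed ({x} : Set X)} | x.1 ∈ F}.Finite :=
    hF.preimage Subtype.val_injective.injOn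
  obtain ⟨t, ht⟩ := exists_forall_notMem hfin.toFinset p fun x _ htop => by
    obtain ⟨t, ht⟩ := exists_app_ne_zero x.2 hL hgg
    exact ht (show (show (L.val.obj (op ⊤) : Type u) from t) ∈ p x from htop ▸ Submodule.mem_top)
  exact ⟨t, fun x hx hxF h => ht ⟨x, hx⟩ (hfin.mem_toFinset.2 hxF) h⟩

/-- A globally generated module of positive degree vanishes at a closed point, outside given finitely
many, of degree at most its degree. -/
theorem exists_point [Infinite k] (hdim : topologicalKrullDim X = 1) {L : X.Modules}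
    (hL : PicF.IsInvertible L) (hgg : Curv2.IsGloballyGenerated L)
    (hd : 0 < Curv2.deg k X L 1) (F : Set X) (hF : F.Finite) :
    ∃ (x : X) (hx : IsClosed ({x} : Set X)), x ∉ F ∧
      (Euler.hdim k X (ClSub.quotMod (ptI hx)) 0 : ℤ) ≤ Curv2.deg k X L 1 := by
  classical
  haveI := GlobalSections.isNoetherian_of_proper k X
  haveI := GlobalSections.noetherianSpace_of_proper k X
  have hd1 := hdim.le
  obtain ⟨x₀, hx₀, -⟩ := exists_regular_point (k := k) hdim
  obtain ⟨t, ht⟩ := exists_section_avoid (k := k) hL hgg (insert x₀ F) (hF.insert x₀)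
  let σ : Coh.structureModule X ⟶ L := Free.unitHom L t
  have hσ0 : σ ≠ 0 := fun h => by
    refine ht x₀ hx₀ (Set.mem_insert _ _) ?_
    rw [← Free.unitHom_app_one L t, show Free.unitHom L t = 0 from h]
    exact map_zero ((evQ hx₀ L).app ⊤).hom
  have hO := PicLoc.isInvertible_structureModule X
  obtain ⟨gC, hC⟩ := Positivity.deg_add_hdim_cokernel hd1 hO hL
    (Degree.isGood_structureModule (k := k) hd1) (Degree.isGood (k := k) hd1 hL) hσ0
  rw [Degree.deg_structureModule, zero_add] at hC
  haveI := gC.fin₀
  have hT := Positivity.isTorsion_cokernel hO hL hσ0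
  obtain ⟨y, hy⟩ : ∃ y : X, ¬ Subsingleton ((cokernel σ).presheaf.stalk y) := by
    by_contra hc
    push Not at hc
    have hz := (Stalk.isZero_iff_stalk_subsingleton (M := cokernel σ)).mpr hc
    haveI : Subsingleton (Coh.HH X (cokernel σ) 0) := by
      refine (GlobalSections.h0Equiv (cokernel σ)).toEquiv.subsingleton_congr.mpr ?_
      exact subsingleton_of_forall_eq 0 fun v => Support.eq_zero_of_germ_eq_zero
        (show Γ(cokernel σ, ⊤) from v) fun z hz' hns => absurd hns
          (Support.not_mem_support_iff.mpr (hc z))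
    rw [Euler.hdim, Module.finrank_zero_of_subsingleton] at hC
    simp at hC
    omega
  have hyc : IsClosed ({y} : Set X) := by
    refine (SmoothCurve.Curve.eq_genericPoint_or_isClosed hdim y).resolve_left fun e => hy ?_
    subst e
    refine hT _ ?_
    change closure ({genericPoint X} : Set X) ∈ irreducibleComponents X
    rw [(genericPoint_spec X).def, irreducibleComponents_eq_singleton]
    exact Set.mem_singleton _
  have hvan : (evQ hyc L).app ⊤ t = 0 := by
    refine (span_or_app_eq_zero hyc hL t).resolve_left fun h => hy ?_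
    refine subsingleton_of_forall_eq 0 fun w => ?_
    obtain ⟨v, rfl⟩ := (StalkModule.epi_iff_stalkMapₗ_surjective (cokernel.π σ)).mp inferInstance y w
    obtain ⟨a, rfl⟩ := Submodule.mem_span_singleton.1 (h y (specializes_refl y) ▸ Submodule.mem_top
      : v ∈ Submodule.span _ {L.presheaf.germ ⊤ y trivial t})
    rw [map_smul, ← Free.unitHom_app_one L t, ← StalkModule.stalkMapₗ_germ, ← LinearMap.comp_apply,
      ← StalkModule.stalkMapₗ_comp, cokernel.condition, StalkModule.stalkMapₗ_zero, LinearMap.zero_apply,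
      smul_zero]
  refine ⟨y, hyc, fun hyF => ht y hyc (Set.mem_insert_of_mem _ hyF) hvan, ?_⟩
  have hcomp : σ ≫ evQ hyc L = 0 := Free.unitHom_ext (by
    rw [Scheme.Modules.Hom.comp_app, CategoryTheory.comp_apply, Free.unitHom_app_one, hvan]
    rfl)
  let π := cokernel.desc σ (evQ hyc L) hcomp
  haveI := epi_evQ hyc hL
  haveI : Epi π := epi_of_epi_fac (cokernel.π_desc σ (evQ hyc L) hcomp)
  have hqc := CurveBundle.Twist.isCoh hL (IdealTwist.isCoh_quot (ptI hyc))
  have hLc := Degree.isCoh_of_isInvertible hL
  have hCc : Coh.IsCoh (cokernel σ) :=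
    CohBasics.Closure.isCoh_cokernel σ (Degree.isCoh_structureModule (X := X)).1 hLc
  have hKc : Coh.IsCoh (kernel π) := CohBasics.Closure.isCoh_kernel π hCc hqc.1
  have hKT : Positivity.IsTorsion (kernel π) := fun z hz => by
    haveI := hT z hz
    exact ((StalkModule.mono_iff_stalkMapₗ_injective (kernel.ι π)).mp inferInstance z).subsingleton
  have hses : (ShortComplex.mk (kernel.ι π) π (kernel.condition π)).ShortExact :=
    { exact := ShortComplex.exact_kernel π }
  have gK := Finiteness.isGood_of_isCoh (k := k) hd1 hKc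
  have gq := Finiteness.isGood_of_isCoh (k := k) hd1 hqc
  have he := Euler.euler_add hses gK gC gq
  have hqT : Positivity.IsTorsion (CohB1.tensorMod (ClSub.quotMod (ptI hyc)) L) := fun z hz => by
    refine Support.not_mem_support_iff.mp fun h => ?_
    rw [support_twist_quot hyc hL, Set.mem_singleton_iff] at h
    subst h
    exact SmoothCurve.Stalk.ne_genericPoint_of_isClosed (by rw [hdim]; exact one_ne_zero) hyc
      (Positivity.eq_genericPoint_of_isGenPt hz)
  rw [hT.euler hd1, hKT.euler hd1, hqT.euler hd1] at he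
  have e := hdim_twist_point (k := k) hyc hL
  simp only [Euler.hdim] at e hC ⊢
  omega

end Groth.Agent.Lib.Curves.RegPoints
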