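import Groth.Agent.Lib.Curves.PointIdeal
import Groth.Agent.Lib.TensorMod.Colimit
import Mathlib.CategoryTheory.Preadditive.AdditiveFunctor

/-!
# Multiplication by sections of a globally generated invertible module

`ν s F : F ⟶ F ⊗ L` is natural in `F`, and for torsion `F` the sections of `F ⊗ L` are sums of images
of these maps when `L` is globally generated.  So surjectivity of `H⁰(S.g)` passes from a short exact
sequence `S` with torsion right end to `S ⊗ L`.
-/

set_option autoImplicit false
universe u

open CategoryTheory CategoryTheory.Limits AlgebraicGeometry Opposite TopologicalSpace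
open Groth.Agent.Lib.Curves.LES Groth.Agent.Lib.Curves.Euler Groth.Agent.Lib.TensorMod
  Groth.Agent.Lib.TensorMod.Basic Groth.Agent.Lib.Modules

noncomputable section

namespace Groth.Agent.Lib.Curves.SectionMult

variable {X : Scheme.{u}}

/-- Multiplication by `s`. -/
def ν {L : X.Modules} (s : Coh.structureModule X ⟶ L) (F : X.Modules) : F ⟶ CohB1.tensorMod F L :=
  (rightUnit F).inv ≫ tmap (𝟙 F) s

lemma ν_natural {L F G : X.Modules} (s : Coh.structureModule X ⟶ L) (f : F ⟶ G) :
    ν s F ≫ tmap f (𝟙 L) = f ≫ ν s G := by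
  have h : (rightUnit F).inv ≫ tmap f (𝟙 _) = f ≫ (rightUnit G).inv := by
    rw [Iso.inv_comp_eq, ← Category.assoc, ← rightUnit_natural, Category.assoc, Iso.hom_inv_id,
      Category.comp_id]
  rw [ν, ν, Category.assoc, ← tmap_comp, Category.id_comp, Category.comp_id, ← Category.assoc f, ← h,
    Category.assoc, ← tmap_comp, Category.comp_id, Category.id_comp]

/-- `N ↦ F ⊗ N`. -/
abbrev lt (F : X.Modules) : X.Modules ⥤ X.Modules := (tensorFunctor X).obj F

lemma lt_map (F : X.Modules) {N N' : X.Modules} (g : N ⟶ N') : (lt F).map g = tmap (𝟙 F) g := rfl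

lemma preservesEpi_lt (F : X.Modules) {N N' : X.Modules} (g : N ⟶ N') [Epi g] :
    Epi (tmap (𝟙 F) g) := by
  have : PreservesColimitsOfSize.{0, 0} (lt F) := preservesSmallestColimits_of_preservesColimits _
  have : (lt F).PreservesEpimorphisms := preservesEpimorphisms_of_preservesColimitsOfShape (lt F)
  exact inferInstanceAs (Epi ((lt F).map g))

lemma additive_lt (F : X.Modules) : (lt F).Additive := by
  have : PreservesColimitsOfSize.{0, 0} (lt F) := preservesSmallestColimits_of_preservesColimits _
  have : (lt F).PreservesZeroMorphisms := Functor.preservesZeroMorphisms_of_preserves_initial_object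
  have : PreservesBinaryBiproducts (lt F) := preservesBinaryBiproducts_of_preservesBinaryCoproducts _
  exact Functor.additive_of_preservesBinaryBiproducts _

/-- The projection of a finite free module to a summand. -/
def proj (X : Scheme.{u}) {n : ℕ} (i : Fin n) :
    FlatMod.freeMod X n ⟶ Coh.structureModule X :=
  Sigma.desc fun j => if j = i then 𝟙 _ else 0

lemma sum_proj (X : Scheme.{u}) (n : ℕ) :
    ∑ i : Fin n, proj X i ≫ Sigma.ι (fun _ : Fin n => Coh.structureModule X) i =
      𝟙 (FlatMod.freeMod X n) := by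
  refine Sigma.hom_ext _ _ fun j => ?_
  rw [Preadditive.comp_sum]
  refine (Finset.sum_eq_single j (fun i _ hij => ?_) (fun h => absurd (Finset.mem_univ j) h)).trans ?_
  · erw [Sigma.ι_desc_assoc]
    rw [if_neg hij.symm, zero_comp]
  · erw [Sigma.ι_desc_assoc]
    rw [if_pos rfl, Category.id_comp, Category.comp_id]

variable {k : Type u} [Field k] [X.Over (Spec (CommRingCat.of k))]

lemma mapK_sum {ι : Type*} (s : Finset ι) {M N : X.Modules} (φ : ι → (M ⟶ N)) (n : ℕ) :
    mapK k (∑ i ∈ s, φ i) n = ∑ i ∈ s, mapK k (φ i) n := by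
  classical
  induction s using Finset.induction with
  | empty =>
    simp only [Finset.sum_empty]
    have h := Clifford.mapK_add k (0 : M ⟶ N) 0 n
    rw [add_zero] at h
    exact left_eq_add.mp h
  | insert a s ha ih =>
    rw [Finset.sum_insert ha, Finset.sum_insert ha, Clifford.mapK_add, ih]

variable [IsProper (X ↘ Spec (CommRingCat.of k))]

/-- A map out of a torsion module which is an epimorphism is onto on sections. -/
theorem mapK_surjective_zero (hdim : topologicalKrullDim X ≤ 1) {M N : X.Modules} (φ : M ⟶ N)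
    [Epi φ] (hT : Positivity.IsTorsion M) : Function.Surjective (mapK k φ 0) := by
  have := GlobalSections.noetherianSpace_of_proper k X
  have hK : Positivity.IsTorsion (kernel φ) := fun x hx =>
    @Function.Injective.subsingleton _ _ _
      ((StalkModule.mono_iff_stalkMapₗ_injective (kernel.ι φ)).mp inferInstance x) (hT x hx)
  have hS : (ShortComplex.mk (kernel.ι φ) φ (kernel.condition φ)).ShortExact :=
    { exact := ShortComplex.exact_kernel φ
      mono_f := inferInstanceAs (Mono (kernel.ι φ))
      epi_g := inferInstanceAs (Epi φ) }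
  have := hK.subsingleton_HH_succ hdim 0
  exact fun y => (exactK₃ k hS 0 1 rfl y).mp (Subsingleton.elim _ _)

variable [IsIntegral X]

/-- Sections of `F ⊗ L` for torsion `F` and globally generated `L`. -/
theorem exists_decomp (hdim : topologicalKrullDim X ≤ 1) {L : X.Modules} (hL : PicF.IsInvertible L)
    (hgg : Curv2.IsGloballyGenerated L) {F : X.Modules}
    (hF : Subsingleton (F.presheaf.stalk (genericPoint X)))
    (z : Coh.HH X (CohB1.tensorMod F L) 0) :
    ∃ (n : ℕ) (s : Fin n → (Coh.structureModule X ⟶ L)) (y : Fin n → Coh.HH X F 0),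
      z = ∑ i, mapK k (ν (s i) F) 0 (y i) := by
  have := GlobalSections.noetherianSpace_of_proper k X
  have := GlobalSections.isNoetherian_of_proper k X
  obtain ⟨n, p, hp⟩ := H34.GlobGen.exists_free_epi
    (LocFree.of_rank (LocFree.of_isInvertible hL)) hgg
  have hadd := additive_lt F
  let ι := fun i : Fin n => Sigma.ι (fun _ : Fin n => Coh.structureModule X) i
  have hid : ∑ i : Fin n, tmap (𝟙 F) (proj X i) ≫ tmap (𝟙 F) (ι i) =
      𝟙 (CohB1.tensorMod F (FlatMod.freeMod X n)) := by
    have h : ∀ i, tmap (𝟙 F) (proj X i) ≫ tmap (𝟙 F) (ι i) = (lt F).map (proj X i ≫ ι i) :=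
      fun i => ((lt F).map_comp _ _).symm
    refine Eq.trans ?_ ((congrArg (lt F).map (sum_proj X n)).trans ((lt F).map_id _))
    exact (Finset.sum_congr rfl fun i _ => h i).trans
      ((lt F).map_sum (fun i => proj X i ≫ ι i) Finset.univ).symm
  have hFO : Positivity.IsTorsion (CohB1.tensorMod F (FlatMod.freeMod X n)) :=
    Degree.isTorsion_of_generic (subsingleton_of_forall_eq 0 fun v => by
      have hz : ∀ i, StalkModule.stalkMapₗ (tmap (𝟙 F) (proj X i)) (genericPoint X) v = 0 := fun i =>
        @Subsingleton.elim _ (Degree.subsingleton_stalk_twist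
          (PicLoc.isInvertible_structureModule X) hF) _ _
      let Φ : (CohB1.tensorMod F (FlatMod.freeMod X n) ⟶ CohB1.tensorMod F (FlatMod.freeMod X n)) →+
          (CohB1.tensorMod F (FlatMod.freeMod X n)).presheaf.stalk (genericPoint X) :=
        AddMonoidHom.mk' (fun φ => StalkModule.stalkMapₗ φ (genericPoint X) v)
          fun φ ψ => by rw [StalkModule.stalkMapₗ_add]; rfl
      have h1 : Φ (𝟙 _) = v := by
        change StalkModule.stalkMapₗ (𝟙 _) _ v = v
        rw [StalkModule.stalkMapₗ_id]; rfl
      rw [← h1, ← hid, map_sum]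
      refine Finset.sum_eq_zero fun i _ => ?_
      change StalkModule.stalkMapₗ _ _ v = 0
      rw [StalkModule.stalkMapₗ_comp, LinearMap.comp_apply, hz, map_zero])
  have := preservesEpi_lt F p
  obtain ⟨w, rfl⟩ := mapK_surjective_zero (k := k) hdim (tmap (𝟙 F) p) hFO z
  refine ⟨n, fun i => ι i ≫ p,
    fun i => mapK k (tmap (𝟙 F) (proj X i) ≫ (rightUnit F).hom) 0 w, ?_⟩
  conv_lhs => rw [show w = mapK k (𝟙 (CohB1.tensorMod F (FlatMod.freeMod X n))) 0 w by
    rw [mapK_id]; rfl, ← hid, mapK_sum, LinearMap.sum_apply, map_sum]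
  refine Finset.sum_congr rfl fun i _ => ?_
  rw [← LinearMap.comp_apply, ← LinearMap.comp_apply, ← mapK_comp, ← mapK_comp, ν, Category.assoc,
    Category.assoc, Iso.hom_inv_id_assoc]
  refine congrArg (fun g => mapK k g 0 w) ?_
  rw [← tmap_comp, ← tmap_comp, ← tmap_comp, Category.id_comp]

/-- `S ⊗ L`. -/
def twistSC (L : X.Modules) (S : ShortComplex X.Modules) : ShortComplex X.Modules :=
  ShortComplex.mk (tmap S.f (𝟙 L)) (tmap S.g (𝟙 L))
    (by rw [← tmap_comp, S.zero, Category.id_comp, TensorMod.Integral.tmap_zero_left])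

/-- Surjectivity on sections passes to the twist. -/
theorem surjective_twist (hdim : topologicalKrullDim X ≤ 1) {L : X.Modules}
    (hL : PicF.IsInvertible L) (hgg : Curv2.IsGloballyGenerated L) {S : ShortComplex X.Modules}
    (hF : Subsingleton (S.X₃.presheaf.stalk (genericPoint X)))
    (hs : Function.Surjective (mapK k S.g 0)) :
    Function.Surjective (mapK k (tmap S.g (𝟙 L)) 0) := by
  intro z
  obtain ⟨n, s, y, rfl⟩ := exists_decomp (k := k) hdim hL hgg hF z
  choose x hx using fun i => hs (y i)
  refine ⟨∑ i, mapK k (ν (s i) S.X₂) 0 (x i), ?_⟩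
  rw [map_sum]
  refine Finset.sum_congr rfl fun i _ => ?_
  rw [← LinearMap.comp_apply, ← mapK_comp, ν_natural, mapK_comp, LinearMap.comp_apply, hx]

end Groth.Agent.Lib.Curves.SectionMult
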