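import Groth.Agent.Lib.Curves.SectionMult

/-!
# Multiplication of sections; `h⁰(L) + h⁰(L') ≤ h⁰(L ⊗ L') + 1`
-/

set_option autoImplicit false
universe u

open CategoryTheory CategoryTheory.Limits AlgebraicGeometry Opposite TopologicalSpace
open Groth.Agent.Lib.Curves.LES Groth.Agent.Lib.Curves.Euler Groth.Agent.Lib.TensorMod
  Groth.Agent.Lib.TensorMod.Basic Groth.Agent.Lib.Curves.SectionMult

noncomputable section

namespace Groth.Agent.Lib.Curves.SectionProduct

variable (k : Type u) [Field k] {X : Scheme.{u}} [X.Over (Spec (CommRingCat.of k))]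

/-- The class of the function `1`. -/
def oneClass (X : Scheme.{u}) : Coh.HH X (Coh.structureModule X) 0 :=
  (GlobalSections.h0Equiv (Coh.structureModule X)).symm
    (show Γ(Coh.structureModule X, ⊤) from (1 : Γ(X, ⊤)))

lemma h0Equiv_section (L : X.Modules) (t : Γ(L, ⊤)) :
    GlobalSections.h0Equiv L (mapK k (Clifford.σ L t) 0 (oneClass X)) = t := by
  refine (Sheaf.H.equiv₀_naturality (F := Coh.toAb (Coh.structureModule X)) (G := Coh.toAb L)
    (isTerminalTop (α := Opens X)) (toAbMap (Clifford.σ L t)) (oneClass X)).symm.trans ?_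
  refine (congrArg ((Clifford.σ L t).app ⊤) ?_).trans (Clifford.σ_one L t)
  exact (GlobalSections.h0Equiv (Coh.structureModule X)).apply_symm_apply _

/-- Multiplication on the left. -/
def ν' {L : X.Modules} (a : Coh.structureModule X ⟶ L) (F : X.Modules) : F ⟶ CohB1.tensorMod L F :=
  (leftUnit F).inv ≫ tmap a (𝟙 F)

lemma interchange {L L' : X.Modules} (a : Coh.structureModule X ⟶ L)
    (b : Coh.structureModule X ⟶ L') :
    a ≫ ν b L = ((rightUnit (Coh.structureModule X)).inv ≫
      (leftUnit (Coh.structureModule X)).hom) ≫ b ≫ ν' a L' := by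
  have h1 : a ≫ (rightUnit L).inv = (rightUnit (Coh.structureModule X)).inv ≫ tmap a (𝟙 _) := by
    rw [Iso.comp_inv_eq, Category.assoc, rightUnit_natural, Iso.inv_hom_id_assoc]
  have h2 : b ≫ (leftUnit L').inv = (leftUnit (Coh.structureModule X)).inv ≫ tmap (𝟙 _) b := by
    rw [Iso.comp_inv_eq, Category.assoc, leftUnit_natural, Iso.inv_hom_id_assoc]
  rw [ν, ν', ← Category.assoc, h1, Category.assoc, ← tmap_comp, ← Category.assoc b, h2,
    Category.assoc, Category.assoc, Iso.hom_inv_id_assoc, ← tmap_comp, Category.id_comp,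
    Category.comp_id, Category.id_comp, Category.comp_id]

variable [IsIntegral X]

omit [X.Over (Spec (CommRingCat.of k))] in
lemma mono_ν {L L' : X.Modules} (hL : PicF.IsInvertible L) (hL' : PicF.IsInvertible L')
    {b : Coh.structureModule X ⟶ L'} (hb : b ≠ 0) : Mono (ν b L) := by
  refine Positivity.mono_of_ne_zero hL (Invertible.isInvertible_tensorMod hL hL') fun h => hb ?_
  refine TensorMod.Integral.eq_zero_of_tmap_eq_zero hL ?_
  rw [← cancel_mono (comm L' L).hom, comm_natural, zero_comp]
  rw [ν] at h
  rw [show tmap (𝟙 L) b = 0 by rw [← cancel_epi (rightUnit L).inv, h, comp_zero], comp_zero]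

variable [IsProper (X ↘ Spec (CommRingCat.of k))]

/-- **Hopf**: `h⁰(L) + h⁰(L') ≤ h⁰(L ⊗ L') + 1`. -/
theorem hdim_add_le [IsAlgClosed k] (hdim : topologicalKrullDim X ≤ 1) {L L' : X.Modules}
    (hL : PicF.IsInvertible L) (hL' : PicF.IsInvertible L')
    (hs : Nontrivial (Coh.HH X L 0)) (hs' : Nontrivial (Coh.HH X L' 0)) :
    Euler.hdim k X L 0 + Euler.hdim k X L' 0 ≤ Euler.hdim k X (CohB1.tensorMod L L') 0 + 1 := by
  letI := GlobalSections.secModule k L
  letI := GlobalSections.secModule k L'
  have := (Degree.isGood (k := k) hdim hL).fin₀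
  have := (Degree.isGood (k := k) hdim hL').fin₀
  have := (Degree.isGood (k := k) hdim (Invertible.isInvertible_tensorMod hL hL')).fin₀
  have : Module.Finite k (L.val.obj (op ⊤) : Type u) :=
    Module.Finite.equiv (GlobalSections.h0Linear k L)
  have : Module.Finite k (L'.val.obj (op ⊤) : Type u) :=
    Module.Finite.equiv (GlobalSections.h0Linear k L')
  let θ := (rightUnit (Coh.structureModule X)).inv ≫ (leftUnit (Coh.structureModule X)).hom
  let m : (L.val.obj (op ⊤) : Type u) → (L'.val.obj (op ⊤) : Type u) →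
      Coh.HH X (CohB1.tensorMod L L') 0 := fun t t' =>
    mapK k (ν (Clifford.σ L' t') L) 0 (Clifford.Φ k L 0 t (oneClass X))
  have hm : ∀ t t', m t t' = mapK k (ν' (Clifford.σ L t) L') 0
      (Clifford.Φ k L' 0 t' (mapK k θ 0 (oneClass X))) := fun t t' => by
    simp only [m, Clifford.Φ_apply, ← LinearMap.comp_apply, ← mapK_comp]
    rw [interchange]
    simp only [θ, Category.assoc]
  let B : (L.val.obj (op ⊤) : Type u) →ₗ[k] (L'.val.obj (op ⊤) : Type u) →ₗ[k]
      Coh.HH X (CohB1.tensorMod L L') 0 :=
    LinearMap.mk₂ k m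
      (fun a b t' => by simp only [m, map_add, LinearMap.add_apply])
      (fun c a t' => by simp only [m, map_smul, LinearMap.smul_apply])
      (fun t a b => by simp only [hm, map_add, LinearMap.add_apply])
      (fun c t a => by simp only [hm, map_smul, LinearMap.smul_apply])
  have h := HopfBound.finrank_add_finrank_le B (Clifford.nontrivial_sections hs)
    (Clifford.nontrivial_sections hs') fun t t' h => by
      by_contra hc
      push Not at hc
      have hb : Clifford.σ L' t' ≠ 0 := fun hz => hc.2 (Clifford.σ_eq_zero hz)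
      have := mono_ν hL hL' hb
      have h' : Clifford.Φ k L 0 t (oneClass X) = 0 :=
        mapK_injective_of_mono k (ν (Clifford.σ L' t') L) (h.trans (map_zero _).symm)
      apply hc.1
      rw [← h0Equiv_section k L t]
      exact (congrArg (GlobalSections.h0Equiv L) h').trans (map_zero _)
  rw [← (GlobalSections.h0Linear k L).finrank_eq, ← (GlobalSections.h0Linear k L').finrank_eq] at h
  exact h

end Groth.Agent.Lib.Curves.SectionProduct
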