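import Groth.Agent.Lib.Unram.OneBranch
import Groth.Agent.H97.Branches
import Groth.Prelude.Def_Curv2

/-!
# Branches and the δ-invariant
-/

set_option autoImplicit false

universe u

noncomputable section

namespace Groth.Agent.Lib.Curves.BranchDelta

open Groth.Agent.Lib

variable (A : Type u) [CommRing A] [IsLocalRing A] [IsReduced A]

/-- Branches are at most geometric branches. -/
theorem numBranches_le_numGeomBranches : Brnch.numBranches A ≤ Brnch.numGeomBranches A := by
  classical
  unfold Brnch.numBranches Brnch.numGeomBranches
  split_ifs with h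
  · refine ENat.card_le_card_of_injective (f := fun m' =>
      (⟨m', (Unram.OneBranch.nonempty_emb_and_subsingleton_iff A m').1.some⟩ :
        Σ m' : MaximalSpectrum (CAlg2.normRed A), Brnch.Emb A m')) fun a b hab => congrArg Sigma.fst hab
  · exact le_rfl

/-- `b ≤ δ + 1`. -/
theorem numBranches_le (hN : CAlg.IsNagata A) : Brnch.numBranches A ≤ Curv2.deltaInv A + 1 :=
  (numBranches_le_numGeomBranches A).trans (H97.Branches.numGeomBranches_le A hN)

/-- There is at least one branch. -/
theorem one_le_numBranches : 1 ≤ Brnch.numBranches A := by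
  classical
  unfold Brnch.numBranches
  split_ifs with h
  · haveI : Nontrivial (CAlg2.red A) := Ideal.Quotient.nontrivial_iff.mpr fun htop => by
      have h1 : (1 : A) ∈ nilradical A := htop ▸ Submodule.mem_top
      exact not_isNilpotent_one (mem_nilradical.mp h1)
    obtain ⟨m, hm⟩ := Ideal.exists_maximal (CAlg2.normRed A)
    haveI : Nonempty (MaximalSpectrum (CAlg2.normRed A)) := ⟨⟨m, hm⟩⟩
    exact (ENat.one_le_card_iff_nonempty _).mpr inferInstance
  · exact le_top

end Groth.Agent.Lib.Curves.BranchDelta
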