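import Groth.Agent.Lib.Curves.Birational
import Groth.Agent.Lib.CDivInt.Dim1
import Groth.Agent.Lib.SmoothCurve.Stalk

/-!
# Dominant morphisms of proper integral curves are finite
-/

set_option autoImplicit false
set_option linter.style.haveILetI false
universe u

open CategoryTheory AlgebraicGeometry TopologicalSpace

namespace Groth.Agent.Lib.Curves.CurveMap

variable {k : Type u} [Field k] {X Y : Scheme.{u}} [X.Over (Spec (CommRingCat.of k))]
  [Y.Over (Spec (CommRingCat.of k))] [IsIntegral X] [IsIntegral Y]
  [IsProper (X ↘ Spec (CommRingCat.of k))] [IsProper (Y ↘ Spec (CommRingCat.of k))]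

include k in
/-- A dominant morphism of proper integral curves over a field is finite. -/
theorem isFinite (hdX : topologicalKrullDim X = 1) (hdY : topologicalKrullDim Y = 1) (f : X ⟶ Y)
    (hf : f ≫ (Y ↘ Spec (CommRingCat.of k)) = X ↘ Spec (CommRingCat.of k))
    (e : f (genericPoint X) = genericPoint Y) : IsFinite f := by
  haveI : IsProper f := by
    haveI : IsProper (f ≫ (Y ↘ Spec (CommRingCat.of k))) := hf ▸ inferInstance
    exact IsProper.of_comp f (Y ↘ Spec (CommRingCat.of k))
  haveI := LocallyOfFiniteType.isLocallyNoetherian (X ↘ Spec (CommRingCat.of k))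
  haveI := LocallyOfFiniteType.isLocallyNoetherian (Y ↘ Spec (CommRingCat.of k))
  haveI := GlobalSections.noetherianSpace_of_proper k X
  rw [IsFinite.iff_isProper_and_locallyQuasiFinite]
  refine ⟨inferInstance, locallyQuasiFinite_iff_finite_preimage_singleton.mpr fun y => ?_⟩
  by_cases hy : y = genericPoint Y
  · refine Set.Subsingleton.finite fun a ha b hb => ?_
    have key : ∀ c, f c = y → c = genericPoint X := fun c hc => by
      by_contra hne
      have h1 := CDivInt.isClosed_singleton_of_ne_genericPoint hdX.le hne
      have h2 := f.isClosedMap _ h1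
      rw [Set.image_singleton, hc, hy] at h2
      exact SmoothCurve.Stalk.ne_genericPoint_of_isClosed (by rw [hdY]; exact one_ne_zero) h2 rfl
    rw [key a ha, key b hb]
  · have hcy := CDivInt.isClosed_singleton_of_ne_genericPoint hdY.le hy
    have hop : IsOpen (f ⁻¹' {y})ᶜ := (hcy.preimage f.continuous).isOpen_compl
    have hd : Dense (f ⁻¹' {y})ᶜ :=
      hop.dense ⟨genericPoint X, fun h => hy (by rw [← e]; exact (Set.mem_singleton_iff.mp h).symm)⟩
    simpa using Birational.finite_compl (k := k) (X ↘ Spec (CommRingCat.of k)) hdX.le hop hd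

end Groth.Agent.Lib.Curves.CurveMap
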