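import Mathlib.RingTheory.DedekindDomain.Different
import Mathlib.RingTheory.DedekindDomain.Factorization
import Mathlib.RingTheory.Trace.Basic
import Mathlib.RingTheory.Localization.NormTrace
import Mathlib.RingTheory.Localization.Module
import Mathlib.LinearAlgebra.FiniteDimensional.Lemmas
import Mathlib.RingTheory.RamificationInertia.Ramification
import Groth.Agent.Lib.DiffTame.TraceFiltration

/-!
# The length of the cokernel of the trace pairing and the exponents of the different
-/

set_option autoImplicit false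
universe u

noncomputable section

attribute [local instance] FractionRing.liftAlgebra FractionRing.isScalarTower_liftAlgebra

namespace Groth.Agent.Lib.Curves.DifferentLength

open scoped nonZeroDivisors
open UniqueFactorizationMonoid

variable (A B : Type u) [CommRing A] [IsDomain A] [IsDedekindDomain A] [CommRing B] [IsDomain B]
  [IsDedekindDomain B] [Algebra A B] [Module.Finite A B] [Module.IsTorsionFree A B]
  [Algebra.IsSeparable (FractionRing A) (FractionRing B)]

/-- The cokernel of the trace pairing is the quotient by the different. -/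
theorem coker_equiv [Module.Free A B] :
    Nonempty ((B ⧸ differentIdeal A B) ≃ₗ[A]
      (B →ₗ[A] A) ⧸ LinearMap.range (Algebra.traceForm A B)) := by
  classical
  let K := FractionRing A
  let L := FractionRing B
  have hloc : IsLocalization (Algebra.algebraMapSubmonoid B A⁰) L :=
    IsIntegralClosure.isLocalization _ K _ _
  have : FiniteDimensional K L := .of_isLocalization A B A⁰
  let b := Module.Free.chooseBasis A B
  let bK := b.localizationLocalization K A⁰ L
  have hbK : ∀ i, bK i = algebraMap B L (b i) := fun i => Module.Basis.localizationLocalization_apply K A⁰ L b i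
  have hn := traceForm_nondegenerate K L
  have hinjK := IsFractionRing.injective A K
  have hinjL := IsFractionRing.injective B L
  -- `l` represents `φ`
  let R : L → (B →ₗ[A] A) → Prop := fun l φ =>
    ∀ x : B, algebraMap A K (φ x) = Algebra.trace K L (l * algebraMap B L x)
  have Rφ : ∀ {l φ φ'}, R l φ → R l φ' → φ = φ' := fun h h' =>
    LinearMap.ext fun x => hinjK ((h x).trans (h' x).symm)
  have Rl : ∀ {l l' φ}, R l φ → R l' φ → l = l' := by
    intro l l' φ h h'
    refine sub_eq_zero.mp (hn.1 _ fun y => ?_)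
    change Algebra.traceForm K L (l - l') y = (0 : L →ₗ[K] K) y
    refine LinearMap.congr_fun (bK.ext fun i => ?_) y
    rw [map_sub, LinearMap.sub_apply, Algebra.traceForm_apply, Algebra.traceForm_apply, hbK,
      ← h, ← h', sub_self, LinearMap.zero_apply]
  have Rtf : ∀ y : B, R (algebraMap B L y) (Algebra.traceForm A B y) := fun y x => by
    rw [Algebra.traceForm_apply, ← map_mul, Algebra.trace_localization A A⁰]
  -- the inverse different
  let C : FractionalIdeal B⁰ L := FractionalIdeal.dual A K 1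
  have hne : (1 : FractionalIdeal B⁰ L) ≠ 0 := one_ne_zero
  have hC : ∀ l, l ∈ C ↔ ∀ x : B, Algebra.trace K L (l * algebraMap B L x) ∈ (algebraMap A K).range := by
    intro l
    rw [FractionalIdeal.mem_dual hne]
    refine ⟨fun h x => ?_, fun h a ha => ?_⟩
    · exact h _ ((FractionalIdeal.mem_one_iff _).mpr ⟨x, rfl⟩)
    · obtain ⟨x, rfl⟩ := (FractionalIdeal.mem_one_iff _).mp ha
      exact h x
  have Rex : ∀ l ∈ C, ∃ φ, R l φ := by
    intro l hl
    choose g hg using (hC l).mp hl
    refine ⟨⟨⟨g, fun x y => hinjK ?_⟩, fun r x => hinjK ?_⟩, hg⟩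
    · rw [map_add, hg, hg, hg, map_add, mul_add, map_add]
    · simp only [RingHom.id_apply, smul_eq_mul]
      have : algebraMap B L (r • x) = algebraMap A K r • algebraMap B L x := by
        rw [Algebra.smul_def, map_mul, ← IsScalarTower.algebraMap_apply A B L,
          IsScalarTower.algebraMap_apply A K L, ← Algebra.smul_def]
      rw [map_mul, hg, hg, this, mul_smul_comm, map_smul, smul_eq_mul]
  have Rsurj : ∀ φ, ∃ l ∈ C, R l φ := by
    intro φ
    let l := ∑ i, algebraMap A K (φ (b i)) • (Algebra.traceForm K L).dualBasis hn bK i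
    have hl : R l φ := by
      have h2 : (Algebra.linearMap A K).comp φ =
          ((Algebra.traceForm K L l).restrictScalars A).comp (IsScalarTower.toAlgHom A B L).toLinearMap := by
        refine b.ext fun j => ?_
        simp only [LinearMap.comp_apply, Algebra.linearMap_apply, LinearMap.coe_restrictScalars,
          AlgHom.toLinearMap_apply, IsScalarTower.coe_toAlgHom', ← hbK, l, map_sum, LinearMap.sum_apply,
          map_smul, LinearMap.smul_apply, LinearMap.BilinForm.apply_dualBasis_left,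
          smul_eq_mul, mul_ite, mul_one, mul_zero, Finset.sum_ite_eq, Finset.mem_univ, if_true]
      intro x
      exact LinearMap.congr_fun h2 x
    exact ⟨l, (hC l).mpr fun x => ⟨_, hl x⟩, hl⟩
  -- `J = C` scaled by an element `d` of the different
  have hD := coeIdeal_differentIdeal A K L B
  obtain ⟨d, hd, hd0⟩ := Submodule.exists_mem_ne_zero_of_ne_bot (differentIdeal_ne_bot (A := A) (B := B))
  obtain ⟨J, hJ⟩ : differentIdeal A B ∣ Ideal.span {d} :=
    Ideal.dvd_iff_le.mpr ((Ideal.span_singleton_le_iff_mem _).mpr hd)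
  have hd' : algebraMap B L d ≠ 0 := by rwa [map_ne_zero_iff _ hinjL]
  have hdspan : (Ideal.span {d} : Ideal B) ≠ ⊥ := by rwa [Ne, Ideal.span_singleton_eq_bot]
  have hJ0 : J ≠ ⊥ := by
    rintro rfl
    rw [Ideal.mul_bot] at hJ
    exact hdspan hJ
  have hJC : (J : FractionalIdeal B⁰ L) = FractionalIdeal.spanSingleton B⁰ (algebraMap B L d) * C := by
    rw [← FractionalIdeal.coeIdeal_span_singleton, hJ, FractionalIdeal.coeIdeal_mul, hD,
      mul_comm _ (J : FractionalIdeal B⁰ L), mul_assoc,
      inv_mul_cancel₀ (FractionalIdeal.dual_ne_zero A K hne), mul_one]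
  have hJmem : ∀ l, l ∈ C ↔ ∃ j ∈ J, algebraMap B L j = algebraMap B L d * l := by
    intro l
    have := FractionalIdeal.mem_coeIdeal (S := B⁰) (P := L) (I := J) (x := algebraMap B L d * l)
    rw [← this, hJC, FractionalIdeal.mem_singleton_mul]
    exact ⟨fun h => ⟨l, h, rfl⟩, fun ⟨z, hz, he⟩ => mul_left_cancel₀ hd' he ▸ hz⟩
  have hdJ : Ideal.span {d} ≤ J := hJ ▸ Ideal.mul_le_right
  obtain ⟨c, hc⟩ := IsDedekindDomain.exists_sup_span_eq hdJ hdspan
  have hcJ : c ∈ J := hc ▸ Ideal.mem_sup_right (Ideal.mem_span_singleton_self c)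
  obtain ⟨w, hwd⟩ : ∃ w, algebraMap B L d * w = algebraMap B L c := ⟨_, mul_div_cancel₀ _ hd'⟩
  have hw : ∀ y : B, algebraMap B L y * w ∈ C := fun y =>
    (hJmem _).mpr ⟨y * c, J.mul_mem_left y hcJ, by rw [map_mul, ← hwd]; ring⟩
  choose g hg using fun y => Rex _ (hw y)
  let g' : B →ₗ[A] (B →ₗ[A] A) :=
    { toFun := g
      map_add' := fun y z => Rφ (hg _) fun x => by
        rw [LinearMap.add_apply, map_add, hg, hg, map_add, add_mul, add_mul, map_add]
      map_smul' := fun r y => Rφ (hg _) fun x => by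
        have : algebraMap B L (r • y) = algebraMap A K r • algebraMap B L y := by
          rw [Algebra.smul_def, map_mul, ← IsScalarTower.algebraMap_apply A B L,
            IsScalarTower.algebraMap_apply A K L, ← Algebra.smul_def]
        rw [RingHom.id_apply, LinearMap.smul_apply, smul_eq_mul, map_mul, hg, this, smul_mul_assoc,
          smul_mul_assoc, map_smul, smul_eq_mul] }
  let G := (LinearMap.range (Algebra.traceForm A B)).mkQ.comp g'
  have hker : LinearMap.ker G = (differentIdeal A B).restrictScalars A := by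
    ext y
    rw [LinearMap.mem_ker, LinearMap.comp_apply, Submodule.mkQ_apply, Submodule.Quotient.mk_eq_zero,
      Submodule.restrictScalars_mem, LinearMap.mem_range]
    constructor
    · rintro ⟨z, hz⟩
      have e := Rl (Rtf z) (show R _ (Algebra.traceForm A B z) by rw [hz]; exact hg y)
      have hyc : y * c = z * d := hinjL (by rw [map_mul, map_mul, e, ← hwd]; ring)
      rw [← Ideal.span_singleton_le_iff_mem, ← Ideal.dvd_iff_le, ← mul_dvd_mul_iff_right hJ0, ← hJ,
        Ideal.dvd_iff_le, ← hc, Ideal.mul_sup, Ideal.span_singleton_mul_span_singleton,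
        Ideal.span_singleton_mul_span_singleton, sup_le_iff, Ideal.span_singleton_le_span_singleton,
        Ideal.span_singleton_le_span_singleton]
      exact ⟨dvd_mul_left d y, hyc ▸ dvd_mul_left d z⟩
    · intro hy
      obtain ⟨z, hz⟩ := Ideal.mem_span_singleton'.mp (hJ ▸ Ideal.mul_mem_mul hy hcJ : y * c ∈ Ideal.span {d})
      refine ⟨z, (Rφ (hg y) fun x => (Rtf z x).trans ?_).symm⟩
      congr 2
      refine mul_left_cancel₀ hd' ?_
      rw [← map_mul, mul_comm d z, hz, map_mul, ← hwd]
      ring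
  have hsurj : Function.Surjective G := by
    intro q
    obtain ⟨φ, rfl⟩ := Submodule.Quotient.mk_surjective _ q
    obtain ⟨l, hl, hlφ⟩ := Rsurj φ
    obtain ⟨j, hj, hjl⟩ := (hJmem l).mp hl
    rw [← hc, Submodule.mem_sup] at hj
    obtain ⟨p, hp, q', hq', rfl⟩ := hj
    obtain ⟨u, rfl⟩ := Ideal.mem_span_singleton'.mp hp
    obtain ⟨v, rfl⟩ := Ideal.mem_span_singleton'.mp hq'
    have hl' : l = algebraMap B L u + algebraMap B L v * w := by
      refine mul_left_cancel₀ hd' ?_
      rw [← hjl, map_add, map_mul, map_mul, ← hwd]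
      ring
    refine ⟨v, (Submodule.Quotient.eq _).mpr ⟨-u, ?_⟩⟩
    have : φ = Algebra.traceForm A B u + g v := Rφ hlφ fun x => by
      rw [LinearMap.add_apply, map_add, Rtf, hg, hl', add_mul, map_add]
    rw [this, map_neg]
    change _ = g v - _
    abel
  exact ⟨((Submodule.Quotient.restrictScalarsEquiv A (differentIdeal A B)).symm.trans
    (Submodule.quotEquivOfEq _ _ hker.symm)).trans (G.quotKerEquivOfSurjective hsurj)⟩

section Quot

variable (k : Type u) [Field k] [Algebra k B]

omit [Module.Finite A B] [Module.IsTorsionFree A B] in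
/-- The dimension of `B ⧸ I` is the sum of those of the residue fields of its prime factors. -/
theorem quot_finrank (hres : ∀ P : Ideal B, P.IsMaximal → Module.Finite k (B ⧸ P))
    (I : Ideal B) (hI : I ≠ ⊥) :
    Module.Finite k (B ⧸ I) ∧ Module.finrank k (B ⧸ I) =
      ((normalizedFactors I).map fun P => Module.finrank k (B ⧸ P)).sum := by
  induction I using UniqueFactorizationMonoid.induction_on_prime with
  | h₁ => exact absurd rfl hI
  | h₂ x hx =>
    obtain rfl : x = ⊤ := Ideal.isUnit_iff.mp hx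
    haveI : Subsingleton (B ⧸ (⊤ : Ideal B)) := Ideal.Quotient.subsingleton_iff.mpr rfl
    rw [← Ideal.one_eq_top, normalizedFactors_one]
    exact ⟨Module.Finite.of_surjective (0 : k →ₗ[k] B ⧸ (1 : Ideal B))
      (by rw [Ideal.one_eq_top]; exact fun y => ⟨0, Subsingleton.elim _ _⟩),
      by rw [Ideal.one_eq_top, Module.finrank_zero_of_subsingleton]; rfl⟩
  | h₃ a p ha hp ih =>
    obtain ⟨hfa, hsa⟩ := ih ha
    have hp0 : p ≠ ⊥ := hp.ne_zero
    have hmax : p.IsMaximal := (Ideal.isPrime_of_prime hp).isMaximal hp0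
    have hfp := hres p hmax
    obtain ⟨c, hc⟩ := IsDedekindDomain.exists_sup_span_eq (I := p * a) (J := p) Ideal.mul_le_left hI
    have hcp : c ∈ p := hc ▸ Ideal.mem_sup_right (Ideal.mem_span_singleton_self c)
    have hle : a ≤ Submodule.comap (LinearMap.mulLeft B c) (p * a) := fun y hy => Ideal.mul_mem_mul hcp hy
    let f : (B ⧸ a) →ₗ[k] B ⧸ p * a := (Submodule.mapQ a (p * a) (LinearMap.mulLeft B c) hle).restrictScalars k
    let g : (B ⧸ p * a) →ₗ[k] B ⧸ p := (Ideal.Quotient.factorₐ k (Ideal.mul_le_left : p * a ≤ p)).toLinearMap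
    have hfmk : ∀ y, f (Ideal.Quotient.mk a y) = Ideal.Quotient.mk (p * a) (c * y) := fun y => rfl
    have hgmk : ∀ y, g (Ideal.Quotient.mk _ y) = Ideal.Quotient.mk p y := fun y => rfl
    have hf : Function.Injective f := by
      refine (injective_iff_map_eq_zero _).mpr fun q hq => ?_
      obtain ⟨y, rfl⟩ := Ideal.Quotient.mk_surjective q
      rw [hfmk, Ideal.Quotient.eq_zero_iff_mem] at hq
      rw [Ideal.Quotient.eq_zero_iff_mem, ← Ideal.span_singleton_le_iff_mem, ← Ideal.dvd_iff_le,
        ← mul_dvd_mul_iff_left (hp.ne_zero), Ideal.dvd_iff_le]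
      conv_lhs => rw [← hc]
      rw [Ideal.sup_mul, Ideal.span_singleton_mul_span_singleton, sup_le_iff]
      exact ⟨Ideal.mul_le_left, (Ideal.span_singleton_le_iff_mem _).mpr hq⟩
    have hex : LinearMap.range f = LinearMap.ker g := by
      refine le_antisymm ?_ fun q hq => ?_
      · rintro _ ⟨q, rfl⟩
        obtain ⟨y, rfl⟩ := Ideal.Quotient.mk_surjective q
        rw [LinearMap.mem_ker, hfmk, hgmk, Ideal.Quotient.eq_zero_iff_mem]
        exact p.mul_mem_right y hcp
      · obtain ⟨y, rfl⟩ := Ideal.Quotient.mk_surjective q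
        rw [LinearMap.mem_ker, hgmk, Ideal.Quotient.eq_zero_iff_mem, ← hc, Submodule.mem_sup] at hq
        obtain ⟨r, hr, s, hs, rfl⟩ := hq
        obtain ⟨t, rfl⟩ := Ideal.mem_span_singleton'.mp hs
        refine ⟨Ideal.Quotient.mk a t, ?_⟩
        rw [hfmk, Ideal.Quotient.eq]
        rw [show c * t - (r + t * c) = -r by ring]
        exact neg_mem hr
    have hg : Function.Surjective g := fun q => by
      obtain ⟨y, rfl⟩ := Ideal.Quotient.mk_surjective q
      exact ⟨_, hgmk y⟩
    have hker : Module.Finite k (LinearMap.ker g) := hex ▸ inferInstance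
    have hfin : Module.Finite k (B ⧸ p * a) := by
      haveI : Module.Finite k ((B ⧸ p * a) ⧸ LinearMap.ker g) :=
        Module.Finite.equiv (g.quotKerEquivOfSurjective hg).symm
      exact Module.Finite.of_submodule_quotient (LinearMap.ker g)
    refine ⟨hfin, ?_⟩
    rw [normalizedFactors_mul hp.ne_zero ha, normalizedFactors_irreducible hp.irreducible, normalize_eq,
      Multiset.map_add, Multiset.sum_add, Multiset.map_singleton, Multiset.sum_singleton, ← hsa,
      ← LinearMap.finrank_range_add_finrank_ker g, LinearMap.range_eq_top.mpr hg, finrank_top, ← hex,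
      LinearMap.finrank_range_of_inj hf]

end Quot

section Exponent

variable {A B} {p : Ideal A} [p.IsMaximal] (P : Ideal B) [P.IsMaximal] [P.LiesOver p]

omit [IsDedekindDomain A] [Module.Finite A B] [Module.IsTorsionFree A B]
  [Algebra.IsSeparable (FractionRing A) (FractionRing B)] in
/-- Divisibility by a prime power is read off the normalized factors. -/
theorem pow_dvd_iff {P D : Ideal B} (hP : Prime P) (hD : D ≠ ⊥) (n : ℕ) :
    P ^ n ∣ D ↔ n ≤ (normalizedFactors D).count P := by
  classical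
  rw [dvd_iff_normalizedFactors_le_normalizedFactors (pow_ne_zero n hP.ne_zero) hD, normalizedFactors_pow,
    normalizedFactors_irreducible hP.irreducible, normalize_eq, Multiset.nsmul_singleton,
    Multiset.le_count_iff_replicate_le]

/-- The trace of a unit element of `B ⧸ P ^ e` over the residue field. -/
theorem trace_pow (hP : P ≠ ⊥) (e : ℕ) (he : e ≠ 0) (hle : p.map (algebraMap A B) ≤ P ^ e) (x : B) :
    letI : Algebra (A ⧸ p) (B ⧸ P ^ e) :=
      Ideal.Quotient.algebraQuotientOfLEComap (Ideal.map_le_iff_le_comap.mp hle)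
    Algebra.trace (A ⧸ p) (B ⧸ P ^ e) (Ideal.Quotient.mk _ x) =
      e • Algebra.trace (A ⧸ p) (B ⧸ P) (Ideal.Quotient.mk P x) := by
  letI : Algebra (A ⧸ p) (B ⧸ P ^ e) :=
    Ideal.Quotient.algebraQuotientOfLEComap (Ideal.map_le_iff_le_comap.mp hle)
  haveI : IsScalarTower A (A ⧸ p) (B ⧸ P ^ e) := .of_algebraMap_eq' rfl
  haveI : Module.Finite (A ⧸ p) (B ⧸ P ^ e) := .of_restrictScalars_finite A _ _
  letI : Field (A ⧸ p) := Ideal.Quotient.field p
  have hprime : Prime P := (Ideal.prime_iff_isPrime hP).mpr inferInstance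
  obtain ⟨π, hπ, hπ2⟩ : ∃ π ∈ P, π ∉ P ^ 2 :=
    SetLike.exists_of_lt (by simpa using Ideal.pow_succ_lt_pow hP 1)
  have hsup : P ^ e ⊔ Ideal.span {π} = P := by
    refine le_antisymm (sup_le (Ideal.pow_le_self he) ((Ideal.span_singleton_le_iff_mem _).mpr hπ)) ?_
    obtain ⟨j, hj, hja⟩ := (dvd_prime_pow hprime e).mp
      (Ideal.dvd_iff_le.mpr (le_sup_left : P ^ e ≤ P ^ e ⊔ Ideal.span {π}))
    rw [associated_iff_eq] at hja
    have hπj : π ∈ P ^ j := hja ▸ Ideal.mem_sup_right (Ideal.mem_span_singleton_self π)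
    have hj2 : j ≤ 1 := by
      by_contra h
      exact hπ2 (Ideal.pow_le_pow_right (by omega) hπj)
    rw [hja]
    exact le_of_eq_of_le (pow_one P).symm (Ideal.pow_le_pow_right hj2)
  have hcancel : ∀ i r, π ^ i * r ∈ P ^ (i + 1) → r ∈ P := by
    intro i r h
    obtain ⟨R, hR⟩ : P ∣ Ideal.span {π} := Ideal.dvd_iff_le.mpr ((Ideal.span_singleton_le_iff_mem _).mpr hπ)
    have hPR : ¬ P ∣ R := fun ⟨R', hR'⟩ => hπ2 ((Ideal.span_singleton_le_iff_mem _).mp (by
      rw [hR, hR', ← mul_assoc, ← pow_two]; exact Ideal.mul_le_left))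
    rw [← Ideal.span_singleton_le_iff_mem, ← Ideal.dvd_iff_le, ← Ideal.span_singleton_mul_span_singleton,
      ← Ideal.span_singleton_pow, hR, mul_pow, mul_assoc, pow_succ, mul_dvd_mul_iff_left
        (pow_ne_zero i hP)] at h
    rcases hprime.dvd_or_dvd h with h | h
    · exact absurd (hprime.dvd_of_dvd_pow h) hPR
    · exact (Ideal.span_singleton_le_iff_mem _).mp (Ideal.dvd_iff_le.mp h)
  let t : B ⧸ P ^ e := Ideal.Quotient.mk _ π
  have hte : Ideal.span {t ^ e} = (⊥ : Ideal (B ⧸ P ^ e)) := by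
    rw [Ideal.span_singleton_eq_bot, ← map_pow, Ideal.Quotient.eq_zero_iff_mem]
    exact Ideal.pow_mem_pow hπ e
  have ht : ∀ i < e, ∀ r, t ^ i * r ∈ Ideal.span {t ^ (i + 1)} → r ∈ Ideal.span {t} := by
    intro i hi r hr
    obtain ⟨r, rfl⟩ := Ideal.Quotient.mk_surjective r
    obtain ⟨s, hs⟩ := Ideal.mem_span_singleton'.mp hr
    obtain ⟨s, rfl⟩ := Ideal.Quotient.mk_surjective s
    simp only [t, ← map_pow, ← map_mul, Ideal.Quotient.eq] at hs
    have hr' : π ^ i * r ∈ P ^ (i + 1) := by
      have h1 : s * π ^ (i + 1) ∈ P ^ (i + 1) := Ideal.mul_mem_left _ _ (Ideal.pow_mem_pow hπ _)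
      simpa using sub_mem h1 (Ideal.pow_le_pow_right hi hs)
    have hrP := hcancel i r hr'
    rw [← hsup] at hrP
    rw [show Ideal.span {t} = (Ideal.span {π}).map (Ideal.Quotient.mk (P ^ e)) by
      rw [Ideal.map_span, Set.image_singleton], Ideal.mem_quotient_iff_mem_sup, sup_comm]
    exact hrP
  have key := DiffTame.trace_quotient_span_pow (k := A ⧸ p) t e ht (Ideal.Quotient.mk _ x)
  rw [← Algebra.trace_eq_of_algEquiv ((Ideal.quotientEquivAlgOfEq (A ⧸ p) hte).trans
    (AlgEquiv.quotientBot (A ⧸ p) (B ⧸ P ^ e)))] at key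
  rw [show ((Ideal.quotientEquivAlgOfEq (A ⧸ p) hte).trans (AlgEquiv.quotientBot (A ⧸ p) (B ⧸ P ^ e)))
    (Ideal.Quotient.mk _ (Ideal.Quotient.mk (P ^ e) x)) = Ideal.Quotient.mk (P ^ e) x from rfl] at key
  rw [key]
  congr 1
  have hker : Ideal.span {t} = P.map (Ideal.Quotient.mk (P ^ e)) := by
    refine Eq.trans ?_ (congrArg (Ideal.map (Ideal.Quotient.mk (P ^ e))) hsup)
    rw [Ideal.map_sup, Ideal.map_quotient_self, bot_sup_eq, Ideal.map_span, Set.image_singleton]
  let ψ : ((B ⧸ P ^ e) ⧸ Ideal.span {t}) ≃+* B ⧸ P :=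
    (Ideal.quotEquivOfEq hker).trans (DoubleQuot.quotQuotEquivQuotOfLE (Ideal.pow_le_self he))
  exact (Algebra.trace_eq_of_equiv_equiv (RingEquiv.refl (A ⧸ p)) ψ
    (RingHom.ext fun a => by
      obtain ⟨a, rfl⟩ := Ideal.Quotient.mk_surjective a
      rfl) _).trans rfl

/-- The exponent of the different at `P` is at least `e - 1`, with equality iff `P` is tame. -/
theorem count_differentIdeal (hp : p ≠ ⊥) :
    P.ramificationIdx A - 1 ≤ (normalizedFactors (differentIdeal A B)).count P ∧
      ((normalizedFactors (differentIdeal A B)).count P = P.ramificationIdx A - 1 ↔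
        (Algebra.IsSeparable (A ⧸ p) (B ⧸ P) ∧ ((P.ramificationIdx A : ℕ) : A ⧸ p) ≠ 0)) := by
  classical
  have hpB : p.map (algebraMap A B) ≠ ⊥ := Ideal.map_ne_bot_of_ne_bot hp
  obtain ⟨Q, hPQ, hfac⟩ := Ideal.eq_prime_pow_mul_coprime hpB P
  rw [← Ideal.IsDedekindDomain.ramificationIdx_eq_normalizedFactors_count p P hpB] at hfac
  set e := P.ramificationIdx A with hedef
  have he0 : e ≠ 0 := (Ideal.ramificationIdx_pos P A).ne'
  have hP : P ≠ ⊥ := ne_bot_of_le_ne_bot hpB (Ideal.map_le_of_le_comap (P.over_def p).le)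
  have hprime : Prime P := (Ideal.prime_iff_isPrime hP).mpr inferInstance
  have hD := differentIdeal_ne_bot (A := A) (B := B)
  have hPe : P ^ e ∣ p.map (algebraMap A B) := ⟨Q, hfac⟩
  have h1 : e - 1 ≤ (normalizedFactors (differentIdeal A B)).count P :=
    (pow_dvd_iff hprime hD _).mp (pow_sub_one_dvd_differentIdeal A P e hp hPe)
  refine ⟨h1, ?_⟩
  suffices h : P ^ e ∣ differentIdeal A B ↔
      ¬ (Algebra.IsSeparable (A ⧸ p) (B ⧸ P) ∧ ((e : ℕ) : A ⧸ p) ≠ 0) by
    rw [pow_dvd_iff hprime hD] at h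
    constructor
    · intro hc
      by_contra hn
      have := h.mpr hn
      omega
    · intro ht
      have := mt h.mp (not_not.mpr ht)
      omega
  letI : Field (A ⧸ p) := Ideal.Quotient.field p
  letI : Field (B ⧸ P) := Ideal.Quotient.field P
  have hle : p.map (algebraMap A B) ≤ P ^ e := Ideal.dvd_iff_le.mp hPe
  letI : Algebra (A ⧸ p) (B ⧸ P ^ e) :=
    Ideal.Quotient.algebraQuotientOfLEComap (Ideal.map_le_iff_le_comap.mp hle)
  letI : Algebra (A ⧸ p) (B ⧸ Q) :=
    Ideal.Quotient.algebraQuotientOfLEComap (Ideal.map_le_iff_le_comap.mp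
      (Ideal.dvd_iff_le.mp ⟨_, hfac.trans (mul_comm _ _)⟩))
  haveI : IsScalarTower A (A ⧸ p) (B ⧸ P ^ e) := .of_algebraMap_eq' rfl
  haveI : IsScalarTower A (A ⧸ p) (B ⧸ Q) := .of_algebraMap_eq' rfl
  haveI : Module.Finite (A ⧸ p) (B ⧸ P ^ e) := .of_restrictScalars_finite A _ _
  haveI : Module.Finite (A ⧸ p) (B ⧸ Q) := .of_restrictScalars_finite A _ _
  have hcop : IsCoprime (P ^ e) Q := (Ideal.isCoprime_iff_sup_eq.mpr hPQ).pow_left
  let E : (B ⧸ p.map (algebraMap A B)) ≃ₐ[A ⧸ p] ((B ⧸ P ^ e) × B ⧸ Q) :=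
    { __ := (Ideal.quotEquivOfEq hfac).trans (Ideal.quotientMulEquivQuotientProd (P ^ e) Q hcop),
      commutes' := Quotient.ind fun _ ↦ rfl }
  have htr : ∀ x ∈ Q, Ideal.Quotient.mk p (Algebra.intTrace A B x) =
      e • Algebra.trace (A ⧸ p) (B ⧸ P) (Ideal.Quotient.mk P x) := by
    intro x hx
    rw [← trace_pow P hP e he0 hle x, ← Algebra.trace_quotient_eq_of_isDedekindDomain,
      ← Algebra.trace_eq_of_algEquiv E, Algebra.trace_prod_apply]
    have h2 : (E (Ideal.Quotient.mk _ x)).2 = 0 := by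
      simpa [E, Ideal.Quotient.eq_zero_iff_mem]
    have h3 : (E (Ideal.Quotient.mk _ x)).1 = Ideal.Quotient.mk _ x := rfl
    rw [h2, h3, map_zero, add_zero]
  constructor
  · intro hdvd ⟨hsep, hne⟩
    obtain ⟨y, hy⟩ : ∃ y, Algebra.trace (A ⧸ p) (B ⧸ P) y ≠ 0 := by
      simpa [LinearMap.ext_iff] using Algebra.trace_ne_zero (A ⧸ p) (B ⧸ P)
    obtain ⟨y, rfl⟩ := Ideal.Quotient.mk_surjective y
    obtain ⟨z, hz⟩ := Ideal.Quotient.mk_surjective (E.symm (Ideal.Quotient.mk _ y, 0))
    have hEz : E (Ideal.Quotient.mk _ z) = (Ideal.Quotient.mk _ y, 0) := by rw [hz, E.apply_symm_apply]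
    have hzQ : z ∈ Q := by
      have := congrArg Prod.snd hEz
      simpa [E, Ideal.Quotient.eq_zero_iff_mem] using this
    have hzy : Ideal.Quotient.mk P z = Ideal.Quotient.mk P y :=
      congrArg (Ideal.Quotient.factor (Ideal.pow_le_self he0)) (congrArg Prod.fst hEz)
    refine not_dvd_differentIdeal_of_intTrace_not_mem A (P ^ e) Q hfac.symm z hzQ ?_ hdvd
    rw [← Ideal.Quotient.eq_zero_iff_mem, htr z hzQ, hzy, nsmul_eq_mul]
    exact mul_ne_zero hne hy
  · intro hnt
    have hall : ∀ x ∈ Q, Algebra.intTrace A B x ∈ p := by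
      intro x hx
      rw [← Ideal.Quotient.eq_zero_iff_mem, htr x hx, nsmul_eq_mul]
      by_cases hs : Algebra.IsSeparable (A ⧸ p) (B ⧸ P)
      · rw [not_not.mp fun hne => hnt ⟨hs, hne⟩, zero_mul]
      · rw [Algebra.trace_eq_zero_of_not_isSeparable hs, LinearMap.zero_apply, mul_zero]
    let K := FractionRing A
    let L := FractionRing B
    have : IsLocalization (Algebra.algebraMapSubmonoid B A⁰) L :=
      IsIntegralClosure.isLocalization _ K _ _
    have : FiniteDimensional K L := .of_isLocalization A B A⁰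
    have hPe0 : P ^ e ≠ ⊥ := pow_ne_zero e hP
    have hP' : ((P ^ e :)⁻¹ : FractionalIdeal B⁰ L) = Q / p.map (algebraMap A B) := by
      apply inv_involutive.injective
      simp only [hfac, FractionalIdeal.coeIdeal_mul, inv_div, mul_div_assoc]
      have hQ : Q ≠ ⊥ := fun h => hpB (by rw [hfac, h, Ideal.mul_bot])
      rw [div_self (by simpa), mul_one, inv_inv]
    rw [Ideal.dvd_iff_le, differentialIdeal_le_iff (K := K) (L := L) hPe0, hP',
      Submodule.map_le_iff_le_comap]
    intro x hx
    rw [Submodule.restrictScalars_mem, FractionalIdeal.mem_coe,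
      FractionalIdeal.mem_div_iff_of_ne_zero (by simpa using hpB)] at hx
    rw [Submodule.mem_comap, LinearMap.coe_restrictScalars, ← FractionalIdeal.coe_one,
      ← div_self (G₀ := FractionalIdeal A⁰ K) (a := p) (by simpa using hp),
      FractionalIdeal.mem_coe, FractionalIdeal.mem_div_iff_of_ne_zero (by simpa using hp)]
    simp only [FractionalIdeal.mem_coeIdeal, forall_exists_index, and_imp,
      forall_apply_eq_imp_iff₂] at hx
    intro y hy'
    obtain ⟨y, hy, rfl : algebraMap A K _ = _⟩ := (FractionalIdeal.mem_coeIdeal _).mp hy'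
    obtain ⟨z, hz, hz'⟩ := hx _ (Ideal.mem_map_of_mem _ hy)
    have : Algebra.trace K L (algebraMap B L z) ∈ (p : FractionalIdeal A⁰ K) := by
      rw [← Algebra.algebraMap_intTrace (A := A)]
      exact ⟨Algebra.intTrace A B z, hall z hz, rfl⟩
    rwa [mul_comm, ← smul_eq_mul, ← map_smul, Algebra.smul_def, mul_comm,
      ← IsScalarTower.algebraMap_apply, IsScalarTower.algebraMap_apply A B L, ← hz']

end Exponent

end Groth.Agent.Lib.Curves.DifferentLength
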