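import Groth.Agent.Lib.CurveBundle.Twist
import Groth.Agent.Lib.CurveBundle.Slope
import Groth.Agent.Lib.CurveBundle.Saturation
import Groth.Agent.Lib.RefHull.Reflexive
import Groth.Agent.Lib.RefHull.LocFree
import Groth.Agent.Lib.RefHull.DualComp

/-!
# Degrees of duals on curves
-/

set_option autoImplicit false
universe u

open CategoryTheory CategoryTheory.Limits AlgebraicGeometry TopologicalSpace Opposite

noncomputable section

namespace Groth.Agent.Lib.Curves.DualDeg

open Groth.Agent.Lib Groth.Agent.Lib.CurveBundle Groth.Agent.Lib.CurveBundle.Degree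
  Groth.Agent.Lib.Modules

variable {X : Scheme.{u}} {A B C F : X.Modules}

/-- The transpose on sections. -/
def precompFun (f : A ⟶ B) (U : X.Opens) (g : Γ(RefHull.dual B, U)) : Γ(RefHull.dual A, U) :=
  ⟨fun x => (g.1 x).comp (StalkModule.stalkMapₗ f x.1), fun V i m x => by
    obtain ⟨W, hW, j, n, w⟩ := RefHull.isLocSect_of_mem g V i (f.app V m) x
    refine ⟨W, hW, j, n, fun y => ?_⟩
    rw [LinearMap.comp_apply, StalkModule.stalkMapₗ_germ]
    exact w y⟩

/-- The transpose of a morphism. -/
def precomp (f : A ⟶ B) : RefHull.dual B ⟶ RefHull.dual A :=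
  ⟨PresheafOfModules.homMk
    { app := fun U => AddCommGrpCat.ofHom (AddMonoidHom.mk' (precompFun f U.unop) fun g g' =>
        Subtype.ext (funext fun _ => LinearMap.add_comp _ _ _))
      naturality := fun {U V} i => by
        ext g
        rfl }
    (fun U r g => Subtype.ext (funext fun x => LinearMap.smul_comp _ _ _))⟩

lemma evalStalk_precomp (f : A ⟶ B) (x : X) (θ : (RefHull.dual B).presheaf.stalk x) :
    RefHull.evalStalk A (Coh.structureModule X) x (StalkModule.stalkMapₗ (precomp f) x θ) =
      (RefHull.evalStalk B (Coh.structureModule X) x θ).comp (StalkModule.stalkMapₗ f x) := by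
  obtain ⟨U, hx, g, rfl⟩ := TopCat.Presheaf.exists_germ_eq (RefHull.dual B).presheaf θ
  rw [StalkModule.stalkMapₗ_germ, RefHull.evalStalk_germ, RefHull.evalStalk_germ]
  rfl

lemma precomp_comp_zero {f : A ⟶ B} {g : B ⟶ C} (w : f ≫ g = 0) : precomp g ≫ precomp f = 0 := by
  refine Scheme.Modules.hom_ext _ _ fun U => ConcreteCategory.ext_apply fun θ => ?_
  refine Subtype.ext (funext fun x => ?_)
  change ((θ.1 x).comp (StalkModule.stalkMapₗ g x.1)).comp (StalkModule.stalkMapₗ f x.1) = _
  rw [LinearMap.comp_assoc, ← StalkModule.stalkMapₗ_comp, w, StalkModule.stalkMapₗ_zero,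
    LinearMap.comp_zero]
  rfl

/-- Dualizing a sequence with locally free quotient. -/
theorem shortExact [IsLocallyNoetherian X] {S : ShortComplex X.Modules} (hS : S.ShortExact)
    (h₁ : Coh.IsCoh S.X₁) (h₂ : Coh.IsCoh S.X₂) (h₃ : Coh.IsCoh S.X₃)
    (hfree : ∀ x : X, Module.Free (X.presheaf.stalk x) (S.X₃.presheaf.stalk x)) :
    (ShortComplex.mk (precomp S.g) (precomp S.f) (precomp_comp_zero S.zero)).ShortExact := by
  rw [Stalk.shortExact_iff_stalk]
  intro x
  obtain ⟨hi, he, hs⟩ := Rank.stalk_exact hS x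
  haveI := hfree x
  obtain ⟨σ, hσ⟩ := Module.projective_lifting_property (StalkModule.stalkMapₗ S.g x) LinearMap.id hs
  have hE₁ := RefHull.HomSh.evalStalk_bijective (G := Coh.structureModule X) h₁ x
  have hE₂ := RefHull.HomSh.evalStalk_bijective (G := Coh.structureModule X) h₂ x
  have hE₃ := RefHull.HomSh.evalStalk_bijective (G := Coh.structureModule X) h₃ x
  have key : ∀ φ : RefHull.StalkHom S.X₂ (Coh.structureModule X) x,
      φ.comp (StalkModule.stalkMapₗ S.f x) = 0 → φ = (φ.comp σ).comp (StalkModule.stalkMapₗ S.g x) := by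
    intro φ hφ
    refine LinearMap.ext fun v => ?_
    have h0 : StalkModule.stalkMapₗ S.g x (v - σ (StalkModule.stalkMapₗ S.g x v)) = 0 := by
      rw [map_sub, ← LinearMap.comp_apply (StalkModule.stalkMapₗ S.g x) σ, hσ, LinearMap.id_apply, sub_self]
    obtain ⟨u', hu'⟩ := (he _).mp h0
    have h1 := LinearMap.congr_fun hφ u'
    rw [LinearMap.comp_apply, hu', map_sub, LinearMap.zero_apply, sub_eq_zero] at h1
    exact h1
  refine { exact := ?_, mono_f := ?_, epi_g := ?_ }
  · rw [ShortComplex.ab_exact_iff]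
    intro θ hθ
    have h1 : (RefHull.evalStalk S.X₂ (Coh.structureModule X) x θ).comp (StalkModule.stalkMapₗ S.f x) = 0 := by
      rw [← evalStalk_precomp]
      exact (congrArg _ hθ).trans (map_zero _)
    obtain ⟨ψ, hψ⟩ := hE₃.2 ((RefHull.evalStalk S.X₂ (Coh.structureModule X) x θ).comp σ)
    refine ⟨ψ, hE₂.1 ?_⟩
    refine (evalStalk_precomp S.g x ψ).trans ?_
    rw [hψ]
    exact (key _ h1).symm
  · refine (AddCommGrpCat.mono_iff_injective _).mpr fun a b hab => hE₃.1 ?_
    have h1 := congrArg (RefHull.evalStalk S.X₂ (Coh.structureModule X) x) hab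
    erw [evalStalk_precomp, evalStalk_precomp] at h1
    exact (LinearMap.cancel_right hs).mp h1
  · refine (AddCommGrpCat.epi_iff_surjective _).mpr fun a => ?_
    let ρ : S.X₂.presheaf.stalk x →ₗ[X.presheaf.stalk x] S.X₁.presheaf.stalk x :=
      (LinearEquiv.ofInjective (StalkModule.stalkMapₗ S.f x) hi).symm.toLinearMap.comp
        (LinearMap.codRestrict (LinearMap.range (StalkModule.stalkMapₗ S.f x))
          (LinearMap.id - σ.comp (StalkModule.stalkMapₗ S.g x)) fun v => (he _).mp (by
            simp only [LinearMap.sub_apply, LinearMap.id_apply, LinearMap.comp_apply, map_sub]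
            rw [← LinearMap.comp_apply (StalkModule.stalkMapₗ S.g x) σ, hσ, LinearMap.id_apply, sub_self]))
    obtain ⟨b, hb⟩ := hE₂.2 ((RefHull.evalStalk S.X₁ (Coh.structureModule X) x a).comp ρ)
    refine ⟨b, hE₁.1 ?_⟩
    refine (evalStalk_precomp S.f x b).trans ?_
    rw [hb]
    refine LinearMap.ext fun v => ?_
    simp only [LinearMap.comp_apply]
    refine congrArg _ (hi ?_)
    have h2 : StalkModule.stalkMapₗ S.f x (ρ (StalkModule.stalkMapₗ S.f x v)) =
        StalkModule.stalkMapₗ S.f x v - σ (StalkModule.stalkMapₗ S.g x (StalkModule.stalkMapₗ S.f x v)) := by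
      simp [ρ, LinearEquiv.ofInjective_symm_apply, LinearMap.codRestrict_apply]
    rw [h2, (he _).mpr ⟨v, rfl⟩, map_zero, sub_zero]

variable {k : Type u} [Field k] [X.Over (Spec (CommRingCat.of k))] [hC : CurveCtx k X]

include hC

/-- `deg F^* = - deg F` for torsion-free coherent sheaves on a curve with principal local rings. -/
theorem dg_dual {E : X.Modules} (hE : Coh.IsCoh E) (hT : TorSh.IsTorsionFree E) :
    gr k (RefHull.dual E) = gr k E ∧ dg k (RefHull.dual E) = -dg k E := by
  haveI := hC.integral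
  haveI := hC.locNoeth
  haveI := hC.noethSpace
  have hO1 : FlatMod.IsFinLocFreeOfRank 1 (Coh.structureModule X) :=
    TensorMod.LocFree.of_isInvertible (PicLoc.isInvertible_structureModule X)
  obtain ⟨hOc, hOT, hOg, -⟩ := Slope.bundle (k := k) hO1
  have line : ∀ L : X.Modules, PicF.IsInvertible L →
      gr k (RefHull.dual L) = 1 ∧ dg k (RefHull.dual L) = -dg k L := by
    intro L hL
    have hD := TensorMod.Invertible.isInvertible_dual hL
    have hDr := TensorMod.LocFree.of_isInvertible hD
    have hLr := TensorMod.LocFree.of_isInvertible hL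
    obtain ⟨hDc, -, hDg, -⟩ := Slope.bundle (k := k) hDr
    rw [gr_congr k (RefHull.DualComp.dualIso L), dg_congr k (RefHull.DualComp.dualIso L)]
    refine ⟨hDg, ?_⟩
    have h := (Twist.gr_dg_twist k hL hDc).2
    rw [hDg, dg_congr k (TensorMod.Basic.comm _ _ ≪≫ TensorMod.Invertible.tensorDualIso hL)] at h
    have h0 : dg k (Coh.structureModule X) = 0 := by
      simp only [dg, show Rank.grank (Coh.structureModule X) = 1 from hOg]
      ring
    push_cast at h
    linarith
  suffices H : ∀ (r : ℕ) (E : X.Modules), Coh.IsCoh E → TorSh.IsTorsionFree E → gr k E = r →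
      gr k (RefHull.dual E) = r ∧ dg k (RefHull.dual E) = -dg k E by
    exact H _ E hE hT rfl
  clear! E
  intro r
  induction r with
  | zero =>
    intro E hE hT hr
    have hz := isZero_of_gr k hE hT hr
    have hDz : IsZero (RefHull.dual E) := Stalk.isZero_iff_stalk_subsingleton.mpr fun x => by
      haveI := Stalk.isZero_iff_stalk_subsingleton.mp hz x
      exact (RefHull.HomSh.evalStalk_bijective (G := Coh.structureModule X) hE x).1.subsingleton
    rw [dg_of_isZero k hz hE, dg_of_isZero k hDz (RefHull.Reflexive.isCoh_dual hE)]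
    exact ⟨gr_of_isZero k hDz, by simp⟩
  | succ n ih =>
    intro E hE hT hr
    obtain ⟨G, a, b, _, _, hG, hG1⟩ := Devissage.exists_line hE hOc hT hOT
      (show 0 < Rank.grank E by change 0 < gr k E; omega) (show 0 < Rank.grank (Coh.structureModule X) by
        change 0 < gr k (Coh.structureModule X); omega)
    obtain ⟨L, j, c, hj, _, _, hLc, hL1, hQT, hQc⟩ := Saturation.exists_saturation a hG hE
    have hLr := rank_gr k hLc (Rank.isTorsionFree_of_mono j hT)
    have hL1' : gr k L = 1 := hL1.trans hG1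
    rw [hL1'] at hLr
    have hLi := TensorMod.LocFree.isInvertible_of_rank_one hLr
    have hS : (ShortComplex.mk j (cokernel.π j) (cokernel.condition j)).ShortExact :=
      { exact := ShortComplex.exact_cokernel j }
    have g1 := gr_add k hS hE
    have d1 := dg_add k hS hLc hE hQc
    dsimp only at g1 d1
    have hQn : gr k (cokernel j) = n := by omega
    obtain ⟨gQ, dQ⟩ := ih _ hQc hQT hQn
    have hQl := rank_gr k hQc hQT
    have hD := shortExact hS hLc hE hQc fun x =>
      RefHull.LocFree.free_stalk (TensorMod.LocFree.of_rank hQl) x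
    have hDc := fun {F : X.Modules} (hF : Coh.IsCoh F) => RefHull.Reflexive.isCoh_dual hF
    have g2 := gr_add k hD (hDc hE)
    have d2 := dg_add k hD (hDc hQc) (hDc hE) (hDc hLc)
    dsimp only at g2 d2
    obtain ⟨gL, dL⟩ := line L hLi
    exact ⟨by omega, by linarith⟩

/-- A pairing nondegenerate at the generic point bounds the degree by zero. -/
theorem dg_nonpos {E' : X.Modules} (hE : Coh.IsCoh E') (hT : TorSh.IsTorsionFree E') (a : E' ⟶ RefHull.dual E') [Mono a] :
    dg k E' ≤ 0 ∧ (IsIso a → dg k E' = 0) := by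
  haveI := hC.locNoeth
  obtain ⟨hg, hd⟩ := dg_dual (k := k) hE hT
  refine ⟨?_, fun h => ?_⟩
  · linarith [dg_le_of_mono k a hE (RefHull.Reflexive.isCoh_dual hE) hg.symm]
  · linarith [dg_congr k (asIso a)]

end Groth.Agent.Lib.Curves.DualDeg
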