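import Groth.Agent.Lib.H58RelFrobDeg
import Groth.Agent.Lib.FunFld.Gen.Bound
import Mathlib.FieldTheory.PurelyInseparable.Exponent
import Mathlib.FieldTheory.IntermediateField.Adjoin.Algebra

/-!
# Subfields of finite index `p ^ r` of one-dimensional separable function fields
-/

set_option autoImplicit false
set_option linter.style.haveILetI false
universe u

noncomputable section

namespace Groth.Agent.Lib.Curves.FrobFields

open IntermediateField EGA41

variable (k : Type u) [Field k] (p : ℕ) [Fact p.Prime] {L : Type u} [Field L] [Algebra k L] [CharP L p]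

/-- The generators of `k(L ^ (p ^ r))`. -/
def gens (r : ℕ) : Set L := Set.range (algebraMap k L) ∪ Set.range (fun x : L => x ^ p ^ r)

/-- `L = k(L ^ (p ^ r))(t)` for a single `t`. -/
theorem exists_mem_closure [Algebra.IsGeometricallyReduced k L] (hL : FunFld.Gen.Bound.IsFF k L) :
    ∃ t : L, ∀ (r : ℕ) (z : L), z ∈ Subfield.closure (gens k p r ∪ {t}) := by
  obtain ⟨S, hS, hSt⟩ := FunFld.Gen.Bound.exists_finite_adjoin_eq_top hL
  haveI : Algebra.EssFiniteType k L :=
    IntermediateField.fg_top_iff.mp ⟨hS.toFinset, by rwa [Set.Finite.coe_toFinset]⟩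
  have hdeg := H58RelFrobDeg.finrank_pPower p (k := k) (K := L)
  have htr : Cardinal.toNat (Algebra.trdeg k L) ≤ 1 := by
    simpa using Cardinal.toNat_le_toNat (FunFld.Gen.Bound.trdeg_le_one hL) Cardinal.one_lt_aleph0
  letI : Field (pPowerSubalgebra p k L) := (H58RelFrobDeg.isField_pPower p k L).toField
  have hle : ∀ (t z : L), z ∈ (pPowerSubalgebra p k L) → z ∈ Subfield.closure (gens k p 1 ∪ {t}) := by
    intro t z hz
    induction hz using Algebra.adjoin_induction with
    | mem x hx =>
      obtain ⟨b, rfl⟩ := hx
      exact Subfield.subset_closure (Or.inl (Or.inr ⟨b, by rw [pow_one]⟩))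
    | algebraMap a => exact Subfield.subset_closure (Or.inl (Or.inl ⟨a, rfl⟩))
    | add x y _ _ h1 h2 => exact add_mem h1 h2
    | mul x y _ _ h1 h2 => exact mul_mem h1 h2
  have hone : ∃ t : L, ∀ z, z ∈ Subfield.closure (gens k p 1 ∪ {t}) := by
    haveI : FiniteDimensional (pPowerSubalgebra p k L) L :=
      Module.finite_of_finrank_pos (by rw [hdeg]; exact pow_pos (Fact.out : p.Prime).pos _)
    by_cases htop : (⊥ : IntermediateField (pPowerSubalgebra p k L) L) = ⊤
    · refine ⟨0, fun z => hle 0 z ?_⟩
      obtain ⟨a, ha⟩ := IntermediateField.mem_bot.mp (htop ▸ IntermediateField.mem_top :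
        z ∈ (⊥ : IntermediateField (pPowerSubalgebra p k L) L))
      exact ha ▸ a.2
    · obtain ⟨t, -, ht⟩ := SetLike.exists_of_lt (lt_of_le_of_ne bot_le htop)
      refine ⟨t, fun z => ?_⟩
      have hadj : (IntermediateField.adjoin (pPowerSubalgebra p k L) {t}) = ⊤ := by
        have hp : Module.finrank (pPowerSubalgebra p k L) L ≤ p := by
          rw [hdeg]
          exact (Nat.pow_le_pow_right (Fact.out : p.Prime).pos htr).trans (pow_one p).le
        set E := IntermediateField.adjoin (pPowerSubalgebra p k L) {t}
        have h1 := Module.finrank_mul_finrank (pPowerSubalgebra p k L) E L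
        have h2 : Module.finrank (pPowerSubalgebra p k L) E ≠ 1 := fun h => ht
          ((IntermediateField.finrank_eq_one_iff.mp h) ▸ IntermediateField.mem_adjoin_simple_self _ t)
        have h3 : Module.finrank (pPowerSubalgebra p k L) L = p := by
          rcases Nat.le_one_iff_eq_zero_or_eq_one.mp htr with h | h
          · rw [hdeg, h, pow_zero] at h1
            exact absurd (Nat.eq_one_of_mul_eq_one_right h1) h2
          · rw [hdeg, h, pow_one]
        rw [h3] at h1
        rcases (Fact.out : p.Prime).eq_one_or_self_of_dvd _ (Dvd.intro _ h1) with h | h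
        · exact absurd h h2
        · refine IntermediateField.eq_of_le_of_finrank_eq le_top ?_
          rw [IntermediateField.finrank_top', h3, h]
      have hz : z ∈ IntermediateField.adjoin (pPowerSubalgebra p k L) {t} := hadj ▸ IntermediateField.mem_top
      induction hz using IntermediateField.adjoin_induction with
      | mem x hx => exact Subfield.subset_closure (Or.inr hx)
      | algebraMap a => exact hle t _ a.2
      | add x y _ _ h1 h2 => exact add_mem h1 h2
      | inv x _ h => exact inv_mem h
      | mul x y _ _ h1 h2 => exact mul_mem h1 h2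
  obtain ⟨t, ht⟩ := hone
  refine ⟨t, fun r => ?_⟩
  induction r with
  | zero =>
    intro z
    exact Subfield.subset_closure (Or.inl (Or.inr ⟨z, by simp⟩))
  | succ r ih =>
    intro z
    have hpow : ∀ x : L, x ^ p ^ r ∈ Subfield.closure (gens k p (r + 1) ∪ {t}) := by
      intro x
      have h1 : iterateFrobenius L p r x ∈ (Subfield.closure (gens k p 1 ∪ {t})).map (iterateFrobenius L p r) :=
        Subfield.mem_map.mpr ⟨x, ht x, rfl⟩
      rw [RingHom.map_field_closure] at h1
      rw [← iterateFrobenius_def]
      refine Subfield.closure_le.mpr ?_ h1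
      rintro _ ⟨y, (⟨a, rfl⟩ | ⟨b, rfl⟩) | hy, rfl⟩
      · refine Subfield.subset_closure (Or.inl (Or.inl ⟨a ^ p ^ r, ?_⟩))
        rw [iterateFrobenius_def, map_pow]
      · refine Subfield.subset_closure (Or.inl (Or.inr ⟨b, ?_⟩))
        simp only [iterateFrobenius_def, pow_one, pow_zero, mul_one, ← pow_mul, pow_succ']
      · rw [Set.mem_singleton_iff] at hy
        subst hy
        rw [iterateFrobenius_def]
        exact pow_mem (Subfield.subset_closure (s := gens k p (r + 1) ∪ {y}) (Or.inr rfl)) _
    have hle' : Subfield.closure (gens k p r ∪ {t}) ≤ Subfield.closure (gens k p (r + 1) ∪ {t}) :=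
      Subfield.closure_le.mpr ?_
    · exact hle' (ih z)
    rintro x ((hx | ⟨b, rfl⟩) | hx)
    · exact Subfield.subset_closure (Or.inl (Or.inl hx))
    · exact hpow b
    · exact Subfield.subset_closure (Or.inr hx)

variable {k p}

omit [Algebra k L] [CharP L p] [Fact p.Prime] in
/-- In a finite purely inseparable extension of degree `p ^ r`, all `p ^ r`-th powers are in the base. -/
theorem pow_mem_range {K : Type u} [Field K] [Algebra K L] [ExpChar K p] [IsPurelyInseparable K L]
    [FiniteDimensional K L] {r : ℕ} (hr : Module.finrank K L = p ^ r) (hp : p.Prime) (x : L) :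
    x ^ p ^ r ∈ (algebraMap K L).range := by
  have hd : p ^ IsPurelyInseparable.elemExponent K x ∣ p ^ r := by
    rw [← IsPurelyInseparable.minpoly_natDegree_eq' K p x, ← hr]
    exact minpoly.degree_dvd (Algebra.IsIntegral.isIntegral x)
  have hle := (Nat.pow_dvd_pow_iff_le_right hp.one_lt).mp hd
  obtain ⟨y, hy⟩ := IsPurelyInseparable.elemExponent_def' K p x
  refine ⟨y ^ p ^ (r - IsPurelyInseparable.elemExponent K x), ?_⟩
  rw [map_pow, hy, ← pow_mul, ← pow_add, Nat.add_sub_cancel' hle]

/-- A subfield of index `p ^ r` containing the constants and the `p ^ r`-th powers is generated by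
them. -/
theorem range_le_closure [Algebra.IsGeometricallyReduced k L] (hL : FunFld.Gen.Bound.IsFF k L)
    {K : Type u} [Field K] [Algebra K L] {r : ℕ} (hr : Module.finrank K L = p ^ r)
    (hg : gens k p r ⊆ ((algebraMap K L).range : Set L)) {z : L} (hz : z ∈ (algebraMap K L).range) :
    z ∈ Subfield.closure (gens k p r) := by
  obtain ⟨t, ht⟩ := exists_mem_closure k p hL
  set M : Subfield L := Subfield.closure (gens (L := L) k p r) with hM
  let F : Subfield L := (algebraMap K L).fieldRange
  have hMF : M ≤ F := Subfield.closure_le.mpr hg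
  let K' : IntermediateField M L := F.toIntermediateField fun m => hMF m.2
  have htp : t ^ p ^ r ∈ M := Subfield.subset_closure (Or.inr ⟨t, rfl⟩)
  have hint : IsIntegral M t := by
    refine ⟨Polynomial.X ^ p ^ r - Polynomial.C ⟨_, htp⟩,
      Polynomial.monic_X_pow_sub_C _ (pow_ne_zero _ (Fact.out : p.Prime).ne_zero), ?_⟩
    simp [show (algebraMap M L) ⟨_, htp⟩ = t ^ p ^ r from rfl]
  have htop : IntermediateField.adjoin M {t} = ⊤ := by
    rw [eq_top_iff]
    intro y _
    refine (Subfield.closure_le (t := (IntermediateField.adjoin M {t}).toSubfield)).mpr ?_ (ht r y)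
    rintro w (hw | rfl)
    · exact IntermediateField.algebraMap_mem _ (⟨w, Subfield.subset_closure hw⟩ : M)
    · exact IntermediateField.mem_adjoin_simple_self M _
  haveI : FiniteDimensional M L := by
    haveI := IntermediateField.adjoin.finiteDimensional hint
    rw [htop] at this
    exact Module.Finite.equiv (IntermediateField.topEquiv (F := M) (E := L)).toLinearEquiv
  have hle : Module.finrank M L ≤ p ^ r := by
    rw [← IntermediateField.finrank_top', ← htop, IntermediateField.adjoin.finrank hint]
    refine (Polynomial.natDegree_le_of_dvd (minpoly.dvd M t (p := Polynomial.X ^ p ^ r - Polynomial.C ⟨_, htp⟩) ?_)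
      (Polynomial.X_pow_sub_C_ne_zero (pow_pos (Fact.out : p.Prime).pos _) _)).trans
        (Polynomial.natDegree_X_pow_sub_C).le
    simp [show (algebraMap M L) ⟨_, htp⟩ = t ^ p ^ r from rfl]
  let e₁ : K ≃+* K' := (RingEquiv.ofBijective (algebraMap K L).rangeRestrictField
    ((algebraMap K L).rangeRestrictField_bijective))
  have hK'L : Module.finrank K' L = p ^ r :=
    (Algebra.finrank_eq_of_equiv_equiv e₁ (RingEquiv.refl L) (RingHom.ext fun a => rfl)).symm.trans hr
  have h1 := Module.finrank_mul_finrank M K' L
  have hbot : Module.finrank M K' = 1 := by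
    rw [hK'L] at h1
    have hpos : 0 < Module.finrank M K' := Module.finrank_pos
    have hq : 0 < p ^ r := pow_pos (Fact.out : p.Prime).pos _
    nlinarith
  have hzK : z ∈ K' := hz
  rw [IntermediateField.finrank_eq_one_iff.mp hbot, IntermediateField.mem_bot] at hzK
  obtain ⟨m, rfl⟩ := hzK
  exact m.2

end Groth.Agent.Lib.Curves.FrobFields
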