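import Groth.Agent.Lib.Curves.FrobPow
import Groth.Agent.Lib.Curves.FrobFields
import Groth.Agent.Lib.Curves.HurwitzLocal
import Groth.Agent.Lib.CurveBundle.SmoothField
import Groth.Agent.Lib.H58FrobHomeo
import Groth.Agent.Lib.GrpSch.SmoothReduced
import Groth.Agent.Lib.CurveFF.Basic
import Groth.Agent.S1544
import Groth.Agent.S7830

/-!
# Purely inseparable covers of smooth curves are iterated Frobenius twists
-/

set_option autoImplicit false
set_option linter.style.haveILetI false
universe u

open CategoryTheory CategoryTheory.Limits AlgebraicGeometry TopologicalSpace Opposite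

noncomputable section

attribute [local instance] Curv2.stalkAlgebra

namespace Groth.Agent.Lib.Curves.FrobCurve

open Groth.Agent.Lib

section Twist

variable (k : Type u) [Field k] (p : ℕ) [Fact p.Prime] [CharP k p]

theorem isUnivHomeo_frobenius (r : ℕ) :
    FlatMor.IsUnivHomeo (Spec.map (CommRingCat.ofHom (iterateFrobenius k p r))) := by
  rw [← FrobPow.frobPow_spec p k r]
  induction r with
  | zero =>
    exact (UnivHomeo.Basic.iff_integral_universallyInjective_surjective _).2
      ⟨inferInstanceAs (IsIntegralHom (𝟙 _)), inferInstanceAs (UniversallyInjective (𝟙 _)),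
        inferInstanceAs (Surjective (𝟙 _))⟩
  | succ r ih =>
    obtain ⟨h1, h2, h3⟩ := (UnivHomeo.Basic.iff_integral_universallyInjective_surjective _).1 ih
    obtain ⟨g1, g2, g3⟩ := (UnivHomeo.Basic.iff_integral_universallyInjective_surjective _).1
      (H58FrobHomeo.isUnivHomeo_frob p (Spec (CommRingCat.of k)))
    rw [FrobPow.frobPow]
    exact (UnivHomeo.Basic.iff_integral_universallyInjective_surjective _).2
      ⟨MorphismProperty.comp_mem _ _ _ h1 g1, MorphismProperty.comp_mem _ _ _ h2 g2,
        (inferInstance : Surjective _)⟩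

theorem isHomeomorph_fst {X : Scheme.{u}} (g : X ⟶ Spec (CommRingCat.of k)) (r : ℕ) :
    IsHomeomorph (pullback.fst g (Spec.map (CommRingCat.ofHom (iterateFrobenius k p r)))) :=
  UnivHomeo.Basic.isHomeomorph
    ((inferInstance : MorphismProperty.IsStableUnderBaseChange (FlatMor.IsUnivHomeo.{u})).of_isPullback
      (IsPullback.of_hasPullback _ _).flip (isUnivHomeo_frobenius k p r))

end Twist

variable {k : Type u} [Field k] {p : ℕ} [Fact p.Prime] [CharP k p] {X Y : Scheme.{u}}
  [X.Over (Spec (CommRingCat.of k))] [Y.Over (Spec (CommRingCat.of k))]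
  [IsProper (X ↘ Spec (CommRingCat.of k))] [IsProper (Y ↘ Spec (CommRingCat.of k))]
  [IsIntegral X] [IsIntegral Y] (f : X ⟶ Y) [IsFinite f]
  (hdom : f (genericPoint X) = genericPoint Y)

omit [IsProper (X ↘ Spec (CommRingCat.of k))] [IsProper (Y ↘ Spec (CommRingCat.of k))] in
include k hdom in
theorem surjective_of_finite : Surjective f := by
  refine ⟨fun y => ?_⟩
  have hc : IsClosed (Set.range f.base) := f.isClosedMap.isClosed_range
  have hy : y ∈ closure ({genericPoint Y} : Set Y) := specializes_iff_mem_closure.1 (genericPoint_specializes y)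
  exact hc.closure_subset_iff.mpr (Set.singleton_subset_iff.mpr ⟨_, hdom⟩) hy

theorem functionField_data :
    FunFld.Gen.Bound.IsFF k X.functionField → Smooth (X ↘ Spec (CommRingCat.of k)) →
      Algebra.IsGeometricallyReduced k X.functionField ∧ CharP X.functionField p := fun _ hs => by
  haveI := hs
  refine ⟨(Groth.Agent.S1544.result k X).1 (GrpSch.geometricallyReduced_of_smooth_field _), ?_⟩
  exact charP_of_injective_ringHom (algebraMap k X.functionField).injective p

variable (hnY : Pi1.IsNormalScheme Y) (hdY : topologicalKrullDim Y = 1) (r : ℕ)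
  (hpow : ∀ x : X.functionField, x ^ p ^ r ∈
    ((Y.presheaf.stalkSpecializes (specializes_of_eq hdom) ≫ f.stalkMap (genericPoint X)).hom).range)

include k hnY hdY hpow in
/-- The iterated absolute Frobenius factors through the cover. -/
theorem exists_factor [FrobSch.IsCharP X p] :
    ∃ g : Y ⟶ X, f ≫ g = FrobPow.frobPow X p r := by
  haveI := LocallyOfFiniteType.isLocallyNoetherian (Y ↘ Spec (CommRingCat.of k))
  haveI : X.IsSeparated := ⟨by
    rw [← terminal.comp_from (X ↘ Spec (CommRingCat.of k))]; infer_instance⟩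
  haveI := surjective_of_finite (k := k) f hdom
  let ι := {V : Y.Opens // IsAffineOpen V ∧ Nonempty V}
  have hV : ∀ V : ι, IsAffineOpen (V : ι).1 ∧ Nonempty (f ⁻¹ᵁ V.1 : X.Opens) := fun V => by
    haveI := V.2.2
    exact ⟨V.2.1, ⟨⟨genericPoint X, show f (genericPoint X) ∈ V.1 from hdom ▸
      ((genericPoint_spec Y).mem_open_set_iff V.1.2).mpr ⟨_, Set.mem_univ _, (Classical.arbitrary V.1).2⟩⟩⟩⟩
  -- powers of sections descend
  have key : ∀ (V : ι) (b : Γ(X, f ⁻¹ᵁ V.1)), b ^ p ^ r ∈ (f.app V.1).hom.range := by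
    intro V b
    haveI := V.2.2
    haveI := (hV V).2
    have hU := V.2.1.preimage f
    haveI := HurwitzLocal.isDedekindDomain_sections hdY.le hnY V.2.1
    haveI := functionField_isFractionRing_of_isAffineOpen Y V.1 V.2.1
    letI := (f.app V.1).hom.toAlgebra
    letI algKL : Algebra Y.functionField X.functionField :=
      ((Y.presheaf.stalkSpecializes (specializes_of_eq hdom) ≫ f.stalkMap (genericPoint X)).hom).toAlgebra
    obtain ⟨a, ha⟩ := hpow (algebraMap Γ(X, f ⁻¹ᵁ V.1) X.functionField b)
    have hηV : genericPoint Y ∈ V.1 :=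
      ((genericPoint_spec Y).mem_open_set_iff V.1.2).mpr ⟨_, Set.mem_univ _, (Classical.arbitrary V.1).2⟩
    have hη' : genericPoint X ∈ f ⁻¹ᵁ V.1 := show f (genericPoint X) ∈ V.1 from hdom ▸ hηV
    letI algAL : Algebra Γ(Y, V.1) X.functionField :=
      ((algebraMap Y.functionField X.functionField).comp (algebraMap Γ(Y, V.1) Y.functionField)).toAlgebra
    haveI : IsScalarTower Γ(Y, V.1) Y.functionField X.functionField := .of_algebraMap_eq' rfl
    haveI : IsScalarTower Γ(Y, V.1) Γ(X, f ⁻¹ᵁ V.1) X.functionField :=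
      .of_algebraMap_eq fun s => by
        change f.stalkMap (genericPoint X) (Y.presheaf.stalkSpecializes (specializes_of_eq hdom)
          (Y.presheaf.germ V.1 (genericPoint Y) hηV s)) =
            X.presheaf.germ (f ⁻¹ᵁ V.1) (genericPoint X) hη' (f.app V.1 s)
        rw [TopCat.Presheaf.germ_stalkSpecializes_apply]
        exact Scheme.Hom.germ_stalkMap_apply f V.1 (genericPoint X) hη' s
    haveI : Module.Finite Γ(Y, V.1) Γ(X, f ⁻¹ᵁ V.1) := RingHom.finite_algebraMap.mp (f.finite_app V.1 V.2.1)
    have hint : IsIntegral Γ(Y, V.1) a := by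
      refine (isIntegral_algebraMap_iff (B := X.functionField) (algebraMap Y.functionField X.functionField).injective).mp ?_
      change IsIntegral Γ(Y, V.1) (((Y.presheaf.stalkSpecializes (specializes_of_eq hdom) ≫
        f.stalkMap (genericPoint X)).hom) a)
      rw [ha, ← map_pow]
      exact (Algebra.IsIntegral.isIntegral (R := Γ(Y, V.1)) (b ^ p ^ r)).map
        (IsScalarTower.toAlgHom Γ(Y, V.1) Γ(X, f ⁻¹ᵁ V.1) X.functionField)
    obtain ⟨a', rfl⟩ := IsIntegrallyClosed.isIntegral_iff.mp hint
    refine ⟨a', ?_⟩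
    haveI := functionField_isFractionRing_of_isAffineOpen X (f ⁻¹ᵁ V.1) hU
    refine IsFractionRing.injective Γ(X, f ⁻¹ᵁ V.1) X.functionField ?_
    change algebraMap _ _ (algebraMap Γ(Y, V.1) Γ(X, f ⁻¹ᵁ V.1) a') = _
    rw [← IsScalarTower.algebraMap_apply, IsScalarTower.algebraMap_apply Γ(Y, V.1) Y.functionField X.functionField]
    exact ha.trans (map_pow _ _ _).symm
  have hinj : ∀ V : ι, Function.Injective (f.app V.1) := fun V => CurveFF.Dominant.app_injective hdom V.1
  let Φ := FrobPow.frobPow X p r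
  let ψ : ∀ V : ι, Γ(X, f ⁻¹ᵁ V.1) →+* Γ(Y, V.1) := fun V =>
    (RingEquiv.ofBijective (f.app V.1).hom.rangeRestrict
      ⟨fun a b h => hinj V (congrArg Subtype.val h), (f.app V.1).hom.rangeRestrict_surjective⟩).symm.toRingHom.comp
      ((Φ.appLE (f ⁻¹ᵁ V.1) (f ⁻¹ᵁ V.1) (FrobPow.le_preimage X p r _)).hom.codRestrict _ fun b => by
        rw [FrobPow.appLE_frobPow]
        exact key V b)
  have hψ : ∀ (V : ι), CommRingCat.ofHom (ψ V) ≫ f.app V.1 =
      Φ.appLE (f ⁻¹ᵁ V.1) (f ⁻¹ᵁ V.1) (FrobPow.le_preimage X p r _) := fun V => by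
    ext b
    let E := RingEquiv.ofBijective (f.app V.1).hom.rangeRestrict
      ⟨fun a b h => hinj V (congrArg Subtype.val h), (f.app V.1).hom.rangeRestrict_surjective⟩
    exact congrArg Subtype.val (E.apply_symm_apply _)
  -- the local maps
  let gl : ∀ V : ι, (V.1 : Scheme.{u}) ⟶ X := fun V =>
    V.1.toSpecΓ ≫ Spec.map (CommRingCat.ofHom (ψ V)) ≫ (V.2.1.preimage f).fromSpec
  have hgl : ∀ V : ι, (f ∣_ V.1) ≫ gl V = (f ⁻¹ᵁ V.1).ι ≫ Φ := fun V => by
    have hU := V.2.1.preimage f
    simp only [gl]
    rw [← Category.assoc, ← Scheme.Opens.toSpecΓ_naturality, Category.assoc, ← Category.assoc (Spec.map _),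
      ← Spec.map_comp, hψ V, IsAffineOpen.SpecMap_appLE_fromSpec Φ hU hU, ← Category.assoc,
      hU.toSpecΓ_fromSpec]
  have hcover : iSup (fun V : ι => V.1) = ⊤ := top_le_iff.mp fun y _ => by
    obtain ⟨V, hVa, hyV, -⟩ := exists_isAffineOpen_mem_and_subset (show y ∈ (⊤ : Y.Opens) from trivial)
    exact Opens.mem_iSup.mpr ⟨⟨V, hVa, ⟨⟨y, hyV⟩⟩⟩, hyV⟩
  let 𝒰 := Y.openCoverOfIsOpenCover (fun V : ι => V.1) hcover
  refine ⟨𝒰.glueMorphisms gl fun V W => ?_, ?_⟩
  · change pullback.fst V.1.ι W.1.ι ≫ gl V = pullback.snd V.1.ι W.1.ι ≫ gl W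
    haveI : IsReduced (pullback V.1.ι W.1.ι) := isReduced_of_isOpenImmersion (pullback.fst V.1.ι W.1.ι)
    haveI : Surjective (f ∣_ V.1) := IsZariskiLocalAtTarget.restrict (P := @Surjective) inferInstance V.1
    refine ext_of_isDominant (pullback.fst (pullback.fst V.1.ι W.1.ι) (f ∣_ V.1)) ?_
    let s := pullback.snd (pullback.fst V.1.ι W.1.ι) (f ∣_ V.1) ≫ (f ⁻¹ᵁ V.1).ι
    have hs : s ≫ f = (pullback.fst (pullback.fst V.1.ι W.1.ι) (f ∣_ V.1) ≫ pullback.snd V.1.ι W.1.ι) ≫ W.1.ι := by
      simp only [s]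
      rw [Category.assoc, ← morphismRestrict_ι f V.1, ← Category.assoc, ← pullback.condition,
        Category.assoc, pullback.condition, ← Category.assoc]
    let l := (isPullback_morphismRestrict f W.1).lift
      (pullback.fst (pullback.fst V.1.ι W.1.ι) (f ∣_ V.1) ≫ pullback.snd V.1.ι W.1.ι) s hs.symm
    have hl1 : l ≫ (f ∣_ W.1) = _ := (isPullback_morphismRestrict f W.1).lift_fst _ _ _
    have hl2 : l ≫ (f ⁻¹ᵁ W.1).ι = s := (isPullback_morphismRestrict f W.1).lift_snd _ _ _
    refine Eq.trans ?_ (Category.assoc _ _ _)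
    refine (pullback.condition_assoc _).trans ?_
    refine (congrArg (pullback.snd (pullback.fst V.1.ι W.1.ι) (f ∣_ V.1) ≫ ·) (hgl V)).trans ?_
    refine Eq.trans ?_ (congrArg (· ≫ gl W) hl1)
    refine Eq.trans ?_ (Category.assoc _ _ _).symm
    refine Eq.trans ?_ (congrArg (l ≫ ·) (hgl W)).symm
    exact (Category.assoc _ _ _).symm.trans ((congrArg (· ≫ Φ) hl2).symm.trans (Category.assoc _ _ _))
  · refine Scheme.Cover.hom_ext (𝒰.pullback₁ f) _ _ fun V => ?_
    change pullback.fst f V.1.ι ≫ f ≫ _ = pullback.fst f V.1.ι ≫ Φ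
    rw [pullback.condition_assoc]
    erw [𝒰.ι_glueMorphisms]
    let i := (isPullback_morphismRestrict f V.1).flip.isoPullback
    rw [← cancel_epi i.hom]
    have h1 : i.hom ≫ pullback.fst f V.1.ι = (f ⁻¹ᵁ V.1).ι := IsPullback.isoPullback_hom_fst _
    have h2 : i.hom ≫ pullback.snd f V.1.ι = f ∣_ V.1 := IsPullback.isoPullback_hom_snd _
    exact (Category.assoc _ _ _).symm.trans ((congrArg (· ≫ gl V) h2).trans
      ((hgl V).trans ((congrArg (· ≫ Φ) h1).symm.trans (Category.assoc _ _ _))))

omit [IsFinite f] [IsProper (X ↘ Spec (CommRingCat.of k))] [IsProper (Y ↘ Spec (CommRingCat.of k))]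
  [IsIntegral X] [IsIntegral Y] in
/-- Germs are insensitive to equalities of morphisms. -/
theorem germ_appLE_congr {W : Scheme.{u}} {g g' : X ⟶ W} (hg : g = g') {U : W.Opens} {V : X.Opens}
    (e : V ≤ g ⁻¹ᵁ U) (e' : V ≤ g' ⁻¹ᵁ U) (s : Γ(W, U)) : g.appLE U V e s = g'.appLE U V e' s := by
  subst hg; rfl

include hnY hdY in
/-- Purely inseparable covers of a smooth curve are iterated Frobenius twists of it. -/
theorem exists_iso [Smooth (X ↘ Spec (CommRingCat.of k))] (hdX : topologicalKrullDim X = 1)
    (hf : f ≫ (Y ↘ Spec (CommRingCat.of k)) = X ↘ Spec (CommRingCat.of k))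
    (hpi : letI := ((Y.presheaf.stalkSpecializes (specializes_of_eq hdom) ≫
        f.stalkMap (genericPoint X)).hom).toAlgebra
      IsPurelyInseparable Y.functionField X.functionField) :
    ∃ (r : ℕ) (i : Y ≅ pullback (X ↘ Spec (CommRingCat.of k))
        (Spec.map (CommRingCat.ofHom (iterateFrobenius k p r)))),
      i.hom ≫ pullback.snd (X ↘ Spec (CommRingCat.of k))
        (Spec.map (CommRingCat.ofHom (iterateFrobenius k p r))) = Y ↘ Spec (CommRingCat.of k) := by
  haveI := LocallyOfFiniteType.isLocallyNoetherian (Y ↘ Spec (CommRingCat.of k))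
  haveI := LocallyOfFiniteType.isLocallyNoetherian (X ↘ Spec (CommRingCat.of k))
  haveI hXc : FrobSch.IsCharP X p := FrobSch.IsCharP.of_hom (X ↘ Spec (CommRingCat.of k)) p
  haveI : FrobSch.IsCharP Y p := FrobSch.IsCharP.of_hom (Y ↘ Spec (CommRingCat.of k)) p
  haveI hfs := surjective_of_finite (k := k) f hdom
  -- the field extension
  letI algKL : Algebra Y.functionField X.functionField :=
    ((Y.presheaf.stalkSpecializes (specializes_of_eq hdom) ≫ f.stalkMap (genericPoint X)).hom).toAlgebra
  haveI : IsPurelyInseparable Y.functionField X.functionField := hpi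
  have hFF := CurveFF.isFF (k := k) (X := X) hdX
  obtain ⟨hgr, hcharL⟩ := functionField_data (k := k) (p := p) (X := X) hFF inferInstance
  haveI : CharP Y.functionField p :=
    (RingHom.charP_iff (algebraMap Y.functionField X.functionField) (RingHom.injective _) p).mpr hcharL
  haveI : ExpChar Y.functionField p := expChar_prime _ p
  haveI hKLfin : FiniteDimensional Y.functionField X.functionField := by
    obtain ⟨V, hV, hηV, -⟩ := exists_isAffineOpen_mem_and_subset (show genericPoint Y ∈ (⊤ : Y.Opens) from trivial)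
    haveI : Nonempty V := ⟨⟨_, hηV⟩⟩
    haveI := HurwitzLocal.isDedekindDomain_sections hdY.le hnY hV
    have hη' : genericPoint X ∈ f ⁻¹ᵁ V := show f (genericPoint X) ∈ V from hdom ▸ hηV
    haveI : Nonempty (f ⁻¹ᵁ V : X.Opens) := ⟨⟨_, hη'⟩⟩
    haveI := functionField_isFractionRing_of_isAffineOpen Y V hV
    haveI := functionField_isFractionRing_of_isAffineOpen X (f ⁻¹ᵁ V) (hV.preimage f)
    letI := (f.app V).hom.toAlgebra
    letI algAL : Algebra Γ(Y, V) X.functionField :=
      ((algebraMap Y.functionField X.functionField).comp (algebraMap Γ(Y, V) Y.functionField)).toAlgebra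
    haveI : IsScalarTower Γ(Y, V) Y.functionField X.functionField := .of_algebraMap_eq' rfl
    haveI : IsScalarTower Γ(Y, V) Γ(X, f ⁻¹ᵁ V) X.functionField :=
      .of_algebraMap_eq fun s => by
        change f.stalkMap (genericPoint X) (Y.presheaf.stalkSpecializes (specializes_of_eq hdom)
          (Y.presheaf.germ V (genericPoint Y) hηV s)) =
            X.presheaf.germ (f ⁻¹ᵁ V) (genericPoint X) hη' (f.app V s)
        rw [TopCat.Presheaf.germ_stalkSpecializes_apply]
        exact Scheme.Hom.germ_stalkMap_apply f V (genericPoint X) hη' s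
    haveI : Module.Finite Γ(Y, V) Γ(X, f ⁻¹ᵁ V) := RingHom.finite_algebraMap.mp (f.finite_app V hV)
    haveI : FaithfulSMul Γ(Y, V) Γ(X, f ⁻¹ᵁ V) :=
      (faithfulSMul_iff_algebraMap_injective _ _).2 (CurveFF.Dominant.app_injective hdom V)
    haveI := HurwitzLocal.isDedekindDomain_sections hdX.le (fun x => by
      have := CurveBundle.SmoothField.isPrincipal_stalk k hdX x
      exact ⟨inferInstance, inferInstance⟩) (hV.preimage f)
    haveI : Algebra.IsIntegral Γ(Y, V) Γ(X, f ⁻¹ᵁ V) := Algebra.IsIntegral.of_finite _ _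
    haveI := IsIntegralClosure.of_isIntegrallyClosed Γ(X, f ⁻¹ᵁ V) Γ(Y, V) X.functionField
    haveI : IsLocalization (Algebra.algebraMapSubmonoid Γ(X, f ⁻¹ᵁ V) (nonZeroDivisors Γ(Y, V))) X.functionField :=
      IsIntegralClosure.isLocalization Γ(Y, V) Y.functionField X.functionField Γ(X, f ⁻¹ᵁ V)
    exact Module.Finite.of_isLocalization Γ(Y, V) Γ(X, f ⁻¹ᵁ V) (nonZeroDivisors Γ(Y, V))
  obtain ⟨r, hr⟩ := IsPurelyInseparable.finrank_eq_pow (F := Y.functionField) X.functionField p
  have hpow : ∀ x : X.functionField, x ^ p ^ r ∈ (algebraMap Y.functionField X.functionField).range :=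
    FrobFields.pow_mem_range hr (Fact.out : p.Prime)
  obtain ⟨g, hg⟩ := exists_factor (k := k) f hdom hnY hdY r hpow
  let pX := X ↘ Spec (CommRingCat.of k)
  let pY := Y ↘ Spec (CommRingCat.of k)
  let σ := Spec.map (CommRingCat.ofHom (iterateFrobenius k p r))
  have hcond : g ≫ pX = pY ≫ σ := by
    refine ext_of_isDominant f ?_
    rw [← Category.assoc, hg, ← Category.assoc, hf, FrobPow.frobPow_comp, FrobPow.frobPow_spec]
  let G : Y ⟶ pullback pX σ := pullback.lift g pY hcond
  -- the twist is a normal curve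
  have hhomeo := isHomeomorph_fst k p pX r
  haveI hsm : Smooth (pullback.snd pX σ) := inferInstance
  haveI : IsProper (pullback.snd pX σ) := inferInstance
  letI : (pullback pX σ).Over (Spec (CommRingCat.of k)) := ⟨pullback.snd pX σ⟩
  haveI : Smooth ((pullback pX σ) ↘ Spec (CommRingCat.of k)) := hsm
  haveI : IrreducibleSpace ↥(pullback pX σ) := by
    let h := hhomeo.homeomorph
    haveI : Nonempty ↥(pullback pX σ) := ⟨h.symm (genericPoint X)⟩
    haveI : PreirreducibleSpace ↥(pullback pX σ) := ⟨by
      rw [← h.symm.surjective.range_eq, ← Set.image_univ]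
      exact (PreirreducibleSpace.isPreirreducible_univ (X := X)).image _ h.symm.continuous.continuousOn⟩
    exact ⟨inferInstance⟩
  haveI : IsReduced (pullback pX σ) := by
    haveI := GrpSch.geometricallyReduced_of_smooth_field pX
    exact GeometricallyReduced.geometrically_isReduced (f := pX) _ _ _ (.of_hasPullback _ _)
  haveI : IsIntegral (pullback pX σ) := isIntegral_of_irreducibleSpace_of_isReduced _
  have hdim : topologicalKrullDim ↥(pullback pX σ) = 1 :=
    (IsHomeomorph.topologicalKrullDim_eq _ hhomeo).trans hdX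
  have hN : Pi1.IsNormalScheme (pullback pX σ) := fun x => by
    have := CurveBundle.SmoothField.isPrincipal_stalk k hdim x
    exact ⟨inferInstance, inferInstance⟩
  -- dominance
  have hGs : Function.Surjective G := by
    intro z
    obtain ⟨y, hy⟩ : ∃ y, g y = pullback.fst pX σ z := by
      refine ⟨f (pullback.fst pX σ z), ?_⟩
      change (f ≫ g) _ = _
      rw [hg, FrobPow.frobPow_apply]
    refine ⟨y, hhomeo.injective ?_⟩
    change (G ≫ pullback.fst pX σ) y = _
    rw [pullback.lift_fst]
    exact hy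
  have hGdom : G (genericPoint Y) = genericPoint ↥(pullback pX σ) := by
    refine (((genericPoint_spec Y).image G.continuous).eq ?_)
    have : closure (⇑G '' Set.univ) = Set.univ := by rw [Set.image_univ, hGs.range_eq, closure_univ]
    rw [show (closure (⇑G '' (Set.univ : Set Y)) : Set ↥(pullback pX σ)) = Set.univ from this]
    exact genericPoint_spec _
  -- bijectivity at the generic point
  have hbij : IsIso (G.stalkMap (genericPoint Y)) := by
    letI : Field ((pullback pX σ).presheaf.stalk (G (genericPoint Y))) :=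
      (((pullback pX σ).presheaf.stalkCongr (.of_eq hGdom)).commRingCatIsoToRingEquiv.toMulEquiv.isField
        (Field.toIsField (pullback pX σ).functionField)).toField
    let Ĝ : (pullback pX σ).presheaf.stalk (G (genericPoint Y)) →+* Y.functionField :=
      (G.stalkMap (genericPoint Y)).hom
    let Ψ : (pullback pX σ).presheaf.stalk (G (genericPoint Y)) →+* X.functionField :=
      (algebraMap Y.functionField X.functionField).comp Ĝ
    -- germs of sections are in the range
    have hgerm : ∀ (W : (pullback pX σ).Opens) (U : X.Opens) (hU : genericPoint X ∈ U)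
        (hUW : U ≤ (f ≫ G) ⁻¹ᵁ W) (s : Γ(pullback pX σ, W)),
        X.presheaf.germ U (genericPoint X) hU ((f ≫ G).appLE W U hUW s) ∈ Ψ.range := by
      intro W U hU hUW s
      have hGW : G (genericPoint Y) ∈ W := by
        have := hUW hU
        rw [← hdom]
        exact this
      refine ⟨(pullback pX σ).presheaf.germ W (G (genericPoint Y)) hGW s, ?_⟩
      change f.stalkMap (genericPoint X) (Y.presheaf.stalkSpecializes (specializes_of_eq hdom)
        (G.stalkMap (genericPoint Y) ((pullback pX σ).presheaf.germ W (G (genericPoint Y)) hGW s))) = _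
      rw [Scheme.Hom.germ_stalkMap_apply G W (genericPoint Y) hGW s]
      erw [TopCat.Presheaf.germ_stalkSpecializes_apply]
      refine (Scheme.Hom.germ_stalkMap_apply f (G ⁻¹ᵁ W) (genericPoint X) (hUW hU) _).trans ?_
      rw [Scheme.Hom.appLE, Scheme.Hom.comp_app]
      exact (TopCat.Presheaf.germ_res_apply X.presheaf (homOfLE hUW) (genericPoint X) hU _).symm
    have hconst : ∀ a : k, algebraMap k X.functionField a ∈ Ψ.range := by
      intro a
      have h := hgerm ⊤ ⊤ trivial le_top
        ((pullback.snd pX σ).appTop (Coh.toGlobal (𝟙 (Spec (CommRingCat.of k))) a))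
      have e : (f ≫ G).appLE ⊤ ⊤ le_top ((pullback.snd pX σ).appTop (Coh.toGlobal (𝟙 (Spec (CommRingCat.of k))) a)) =
          Coh.toGlobal (X ↘ Spec (CommRingCat.of k)) a := by
        have hc : (f ≫ G) ≫ pullback.snd pX σ = X ↘ Spec (CommRingCat.of k) := by
          rw [Category.assoc, pullback.lift_snd, hf]
        have h1 : (f ≫ G).appLE ⊤ ⊤ le_top = (f ≫ G).appTop := (Scheme.Hom.app_eq_appLE _).symm
        rw [h1, ← hc]
        rfl
      rw [e] at h
      exact h
    obtain ⟨W₀, hW₀, hηW, -⟩ := exists_isAffineOpen_mem_and_subset (show genericPoint X ∈ (⊤ : X.Opens) from trivial)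
    haveI : Nonempty W₀ := ⟨⟨_, hηW⟩⟩
    haveI := functionField_isFractionRing_of_isAffineOpen X W₀ hW₀
    have hpowsec : ∀ b : Γ(X, W₀), (algebraMap Γ(X, W₀) X.functionField b) ^ p ^ r ∈ Ψ.range := by
      intro b
      have hle : W₀ ≤ (f ≫ G) ⁻¹ᵁ (pullback.fst pX σ ⁻¹ᵁ W₀) := by
        intro x hx
        change ((f ≫ G) ≫ pullback.fst pX σ) x ∈ W₀
        rw [Category.assoc, pullback.lift_fst, hg, FrobPow.frobPow_apply]
        exact hx
      have h := hgerm _ W₀ hηW hle ((pullback.fst pX σ).app W₀ b)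
      have e : (f ≫ G).appLE _ W₀ hle ((pullback.fst pX σ).app W₀ b) = b ^ p ^ r := by
        rw [← FrobPow.appLE_frobPow X p r W₀ b]
        refine Eq.trans ?_ (germ_appLE_congr (g := (f ≫ G) ≫ pullback.fst pX σ)
          (by rw [Category.assoc, pullback.lift_fst, hg]) hle (FrobPow.le_preimage X p r W₀) b)
        exact (congrArg (fun φ => φ.hom b) (Scheme.Hom.comp_appLE (f ≫ G) (pullback.fst pX σ) W₀ W₀ hle)).symm
      rw [e, map_pow] at h
      exact h
    have hgens : FrobFields.gens k p r ⊆ ((Ψ.fieldRange : Subfield X.functionField) : Set X.functionField) := by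
      rintro z (⟨a, rfl⟩ | ⟨x, rfl⟩)
      · exact hconst a
      · obtain ⟨b, c, -, rfl⟩ := IsFractionRing.div_surjective Γ(X, W₀) x
        dsimp only
        rw [div_pow]
        exact div_mem (H := (Ψ.fieldRange : Subfield X.functionField)) (hpowsec b) (hpowsec c)
    have hsurj : Function.Surjective Ĝ := by
      intro a
      have h := FrobFields.range_le_closure hFF hr
        (fun z hz => by
          obtain ⟨w, rfl⟩ := hgens hz
          exact ⟨Ĝ w, rfl⟩) (z := algebraMap Y.functionField X.functionField a) ⟨a, rfl⟩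
      obtain ⟨w, hw⟩ := (Subfield.closure_le.mpr hgens) h
      exact ⟨w, (algebraMap Y.functionField X.functionField).injective hw⟩
    exact (ConcreteCategory.isIso_iff_bijective _).mpr ⟨Ĝ.injective, hsurj⟩
  haveI : IsIso G := Groth.Agent.S7830.result k pY (pullback.snd pX σ) hdY hdim hN G
    (pullback.lift_snd _ _ _) hGdom hbij
  exact ⟨r, asIso G, pullback.lift_snd _ _ _⟩

end Groth.Agent.Lib.Curves.FrobCurve
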