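import Groth.Agent.Lib.Curves.NormStalk
import Groth.Agent.Lib.Cyc.PP.Count
import Groth.Agent.Lib.FibreDeg.Points
import Groth.Agent.Lib.SurfInt.Push
import Groth.Agent.H25.Node.Scheme

/-!
# The Euler characteristic of the normalization of a curve
-/

set_option autoImplicit false
set_option linter.style.haveILetI false

universe u

open CategoryTheory CategoryTheory.Limits AlgebraicGeometry TopologicalSpace Opposite

noncomputable section

attribute [local instance] Curv2.resAlgebra

namespace Groth.Agent.Lib.Curves.NormEuler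

open Groth.Agent.Lib
open Groth.Agent.H25

variable {k : Type u} [Field k] {X : Scheme.{u}} [X.Over (Spec (CommRingCat.of k))]

/-- The residue degree over a field is the dimension of the residue field. -/
theorem residueDegree_eq (x : X) :
    (X ↘ Spec (CommRingCat.of k)).residueDegree x = Module.finrank k (X.residueField x) := by
  let p := X ↘ Spec (CommRingCat.of k)
  let ι : k →+* (Spec (CommRingCat.of k)).residueField (p x) :=
    ((Scheme.ΓSpecIso (CommRingCat.of k)).inv ≫ (Spec (CommRingCat.of k)).Γevaluation (p x)).hom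
  letI := (p.residueFieldMap x).hom.toAlgebra
  exact (Algebra.finrank_eq_of_equiv_equiv
    (RingEquiv.ofBijective ι (FibreDeg.Points.bijective_Γevaluation_of_field k (p x)))
    (RingEquiv.refl _) (RingHom.ext fun c => Scheme.Γevaluation_naturality_apply p x _)).symm

/-- Closed points have finite residue extensions. -/
theorem residueFieldMap_finite [LocallyOfFiniteType (X ↘ Spec (CommRingCat.of k))] (x : X)
    (hx : IsClosed ({x} : Set X)) : ((X ↘ Spec (CommRingCat.of k)).residueFieldMap x).hom.Finite := by
  let p := X ↘ Spec (CommRingCat.of k)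
  have h := (Node.Sch.isClosed_iff k X x).1 hx
  have e : Curv2.resMap k X x = ((p.residueFieldMap x).hom.comp
      (((Scheme.ΓSpecIso (CommRingCat.of k)).inv ≫ (Spec (CommRingCat.of k)).Γevaluation (p x)).hom)) :=
    RingHom.ext fun c => (Scheme.Γevaluation_naturality_apply p x _).symm
  rw [e] at h
  exact RingHom.Finite.of_comp_finite h

variable [IsProper (X ↘ Spec (CommRingCat.of k))] [IsReduced X]
  {X' : Scheme.{u}} (π : X' ⟶ X) [IsFinite π] (hX' : Pi1.IsNormalScheme X')
  (U : X.Opens) (hU : Dense (U : Set X)) (hU' : Dense ((π ⁻¹ᵁ U : X'.Opens) : Set X'))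
  (hπU : IsIso (π ∣_ U))

include hX' hU hU' hπU in
/-- `χ(π_* O) = χ(O) + Σ [κ(x) : k] δ_x`, with only finitely many nonzero terms. -/
theorem euler_push_eq (hdim : topologicalKrullDim X ≤ 1) :
    Euler.IsGood k X ((Coh.push π).obj (Coh.structureModule X')) ∧
    Curv2.euler k X ((Coh.push π).obj (Coh.structureModule X')) =
      Curv2.euler k X (Coh.structureModule X) +
        ∑ᶠ x : X, (open Classical in if IsClosed ({x} : Set X) then
          ((Module.finrank k (X.residueField x) : ℤ) *
            ((Curv2.deltaInv (X.presheaf.stalk x)).toNat : ℤ)) else 0) := by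
  classical
  haveI := hπU
  haveI := GlobalSections.isNoetherian_of_proper k X
  haveI := GlobalSections.noetherianSpace_of_proper k X
  let p := X ↘ Spec (CommRingCat.of k)
  let u := ClSub.unitToPush π
  haveI : Mono u := NormStalk.mono_unit π hU
  have hcohP : Coh.IsCoh ((Coh.push π).obj (Coh.structureModule X')) := Birational.isCoh_push π
  have hcohQ : Coh.IsCoh (cokernel u) :=
    CohBasics.Closure.isCoh_cokernel u (TensorMod.QCohInv.isQCoh_structureModule X) hcohP
  have hsupp : CohB1.support (cokernel u) ⊆ (U : Set X)ᶜ := Birational.support_cokernel_unit π U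
  have hfinU : ((U : Set X)ᶜ).Finite := Birational.finite_compl p hdim U.2 hU
  have hfin : {z | Nontrivial ((cokernel u).presheaf.stalk z)}.Finite :=
    hfinU.subset fun z hz => hsupp (not_subsingleton_iff_nontrivial.2 hz)
  have hcl : ∀ z, Nontrivial ((cokernel u).presheaf.stalk z) → IsClosed ({z} : Set X) :=
    fun z hz => SurfInt.Bound.isClosed_singleton_of_finite p U.2.isClosed_compl hfinU
      (hsupp (not_subsingleton_iff_nontrivial.2 hz))
  have hlen : ∀ z, Nontrivial ((cokernel u).presheaf.stalk z) →
      Module.length (X.presheaf.stalk z) ((cokernel u).presheaf.stalk z) ≠ ⊤ := fun z hz =>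
    Cyc.SheafLen.length_ne_top hcohQ z fun y hy hny => (hy.mem_closed (hcl y hny) rfl).symm
  have hgood : ∀ {F : X.Modules}, Coh.IsCoh F → Euler.IsGood k X F :=
    fun hF => Finiteness.isGood_of_isCoh hdim hF
  refine ⟨hgood hcohP, ?_⟩
  have hadd := Euler.euler_add (k := k) (Positivity.cokerSES_shortExact u)
    (hgood Degree.isCoh_structureModule) (hgood hcohP) (hgood hcohQ)
  have hQ := @Cyc.PP.Count.euler_eq_sum X k _ _ _ _ (cokernel u) hcohQ.2 hfin
    (fun z hz => residueFieldMap_finite z (hcl z hz)) hlen 1
  have hE : Curv2.euler k X (cokernel u) = FGA.eulerCharLE k X (cokernel u) 1 := by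
    rw [(hgood hcohQ).euler, FGA.eulerCharLE, Finset.sum_range_succ, Finset.sum_range_one]
    simp only [Euler.hdim, pow_zero, one_mul, pow_one, neg_one_mul]
    ring
  refine hadd.trans ?_
  congr 1
  refine hE.trans (hQ.trans ?_)
  rw [finsum_eq_sum_of_support_subset _ (s := hfin.toFinset)]
  · refine Finset.sum_congr rfl fun z hz => ?_
    have hz' : Nontrivial ((cokernel u).presheaf.stalk z) := (Set.Finite.mem_toFinset hfin).1 hz
    rw [if_pos (hcl z hz'), residueDegree_eq, mul_comm]
    congr 3
    obtain ⟨e⟩ := NormStalk.exists_coker_equiv π hU hX' hU' z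
    exact e.length_eq
  · intro z hz
    rw [Function.mem_support] at hz
    rw [Finset.mem_coe, Set.Finite.mem_toFinset]
    by_contra hn
    haveI : Subsingleton ((cokernel u).presheaf.stalk z) := not_nontrivial_iff_subsingleton.1 hn
    obtain ⟨e⟩ := NormStalk.exists_coker_equiv π hU hX' hU' z
    apply hz
    have h0 : Curv2.deltaInv (X.presheaf.stalk z) = 0 :=
      e.length_eq.symm.trans Module.length_eq_zero
    rw [h0]
    simp

include hX' hU hU' hπU in
/-- `χ(O_{X'}) = χ(O_X) + Σ [κ(x) : k] δ_x`. -/
theorem euler_eq (hdim : topologicalKrullDim X ≤ 1) [X'.Over (Spec (CommRingCat.of k))]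
    (hπ : π ≫ (X ↘ Spec (CommRingCat.of k)) = X' ↘ Spec (CommRingCat.of k)) :
    Curv2.euler k X' (Coh.structureModule X') =
      Curv2.euler k X (Coh.structureModule X) +
        ∑ᶠ x : X, (open Classical in if IsClosed ({x} : Set X) then
          ((Module.finrank k (X.residueField x) : ℤ) *
            ((Curv2.deltaInv (X.presheaf.stalk x)).toNat : ℤ)) else 0) := by
  haveI := TensorMod.QCohInv.isQCoh_structureModule X'
  rw [← SurfInt.Push.euler_push π hπ (Coh.structureModule X')]
  exact (euler_push_eq π hX' U hU hU' hπU hdim).2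

end Groth.Agent.Lib.Curves.NormEuler
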