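import Groth.Agent.Lib.Curves.FrobNormal
import Groth.Agent.Lib.Curves.NormEuler
import Groth.Agent.Lib.FrobCoh.Basic
import Groth.Agent.Lib.ZarCoh.Linear

/-!
# The Frobenius on `H¹` and normalization of nodal curves
-/

set_option autoImplicit false
set_option linter.style.haveILetI false

universe u v

open CategoryTheory CategoryTheory.Limits AlgebraicGeometry TopologicalSpace Opposite Abelian

noncomputable section

namespace Groth.Agent.Lib.Curves.FrobH1

open Groth.Agent.Lib Groth.Agent.Lib.Modules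
open Groth.Agent.Lib.Modules.StalkModule (stalkMapₗ stalkMapₗ_germ)
open Groth.Agent.Lib.Curves.LES

/-- Five-lemma: for an endomorphism of a short exact sequence bijective on `H⁰(C)` and surjective on
`H⁰(B)`, with `H¹(C) = 0`, bijectivity on `H¹(A)` and on `H¹(B)` agree. -/
theorem bijective_iff {X : Scheme.{u}}
    {T : ShortComplex (Sheaf (Opens.grothendieckTopology X) AddCommGrpCat.{u})} (hT : T.ShortExact)
    (ψ : T ⟶ T)
    (hc : Function.Bijective (Sheaf.H.map ψ.τ₃ 0))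
    (hb : Function.Surjective (Sheaf.H.map ψ.τ₂ 0))
    (hC : Subsingleton (Sheaf.H T.X₃ 1)) :
    Function.Bijective (Sheaf.H.map ψ.τ₁ 1) ↔ Function.Bijective (Sheaf.H.map ψ.τ₂ 1) := by
  let f : ∀ n, Sheaf.H T.X₁ n →+ Sheaf.H T.X₂ n := fun n => Sheaf.H.map T.f n
  let g : ∀ n, Sheaf.H T.X₂ n →+ Sheaf.H T.X₃ n := fun n => Sheaf.H.map T.g n
  let δ : Sheaf.H T.X₃ 0 →+ Sheaf.H T.X₁ 1 :=
    hT.extClass.postcomp (cst X) (zero_add 1)
  let a := Sheaf.H.map ψ.τ₁ 1
  let b := Sheaf.H.map ψ.τ₂ 1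
  let b₀ := Sheaf.H.map ψ.τ₂ 0
  let c := Sheaf.H.map ψ.τ₃ 0
  have hf : ∀ x, b (f 1 x) = f 1 (a x) := fun x => by
    simp only [a, b, f]
    rw [← Sheaf.H.map_comp_apply, ← Sheaf.H.map_comp_apply, ψ.comm₁₂]
  have hg : ∀ y, c (g 0 y) = g 0 (b₀ y) := fun y => by
    simp only [c, b₀, g]
    rw [← Sheaf.H.map_comp_apply, ← Sheaf.H.map_comp_apply, ψ.comm₂₃]
  have hδ : ∀ z, a (δ z) = δ (c z) := fun z =>
    (postcomp_extClass_natural (Y := cst X) hT ψ (zero_add 1) z).symm
  have e1 : Function.Exact (g 0) δ := postcomp_exact₃ (cst X) hT 0 1 (zero_add 1)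
  have e2 : Function.Exact δ (f 1) := postcomp_exact₁ (cst X) hT 0 1 (zero_add 1)
  have e3 : Function.Exact (f 1) (g 1) := postcomp_exact₂ (cst X) hT 1
  have hs : Function.Surjective (f 1) := fun y => (e3 y).mp (@Subsingleton.elim _ hC _ _)
  constructor
  · intro ha
    refine ⟨(injective_iff_map_eq_zero _).mpr fun x hx => ?_, fun y => ?_⟩
    · obtain ⟨x, rfl⟩ := hs x
      obtain ⟨z, hz⟩ := (e2 (a x)).mp ((hf x).symm.trans hx)
      obtain ⟨w, rfl⟩ := hc.2 z
      have : x = δ w := ha.1 ((hz.symm).trans (hδ w).symm)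
      exact (e2 x).mpr ⟨w, this.symm⟩
    · obtain ⟨x, rfl⟩ := hs y
      obtain ⟨x', rfl⟩ := ha.2 x
      exact ⟨f 1 x', hf x'⟩
  · intro hb1
    refine ⟨(injective_iff_map_eq_zero _).mpr fun x hx => ?_, fun y => ?_⟩
    · have h0 : f 1 x = 0 := hb1.1 (by
        show b (f 1 x) = b 0
        rw [hf, show a x = 0 from hx, map_zero, map_zero])
      obtain ⟨z, rfl⟩ := (e2 x).mp h0
      have h2 : δ (c z) = 0 := (hδ z).symm.trans hx
      obtain ⟨y, hy⟩ := (e1 (c z)).mp h2
      obtain ⟨y', rfl⟩ := hb y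
      have : z = g 0 y' := hc.1 (hy.symm.trans (hg y').symm)
      exact (e1 z).mpr ⟨y', this.symm⟩
    · obtain ⟨x, hx⟩ := hb1.2 (f 1 y)
      obtain ⟨x, rfl⟩ := hs x
      obtain ⟨z, hz⟩ := (e2 (y - a x)).mp (by
        rw [map_sub, ← hf x]
        exact sub_eq_zero.mpr hx.symm)
      obtain ⟨w, rfl⟩ := hc.2 z
      exact ⟨x + δ w, by
        show a (x + δ w) = y
        rw [map_add, hδ w, hz]
        abel⟩

/-- An additive endomorphism of a module-level cokernel is injective on stalks when the middle one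
reflects the image. -/
theorem stalk_injective {X : Scheme.{u}} {S : ShortComplex X.Modules} (hS : S.ShortExact)
    (ψ : abSES S ⟶ abSES S) (x : X)
    (h : ∀ v : S.X₂.presheaf.stalk x,
      ((TopCat.Presheaf.stalkFunctor AddCommGrpCat.{u} x).map ψ.τ₂.hom).hom v ∈
        LinearMap.range (stalkMapₗ S.f x) → v ∈ LinearMap.range (stalkMapₗ S.f x))
    (w : S.X₃.presheaf.stalk x)
    (hw : ((TopCat.Presheaf.stalkFunctor AddCommGrpCat.{u} x).map ψ.τ₃.hom).hom w = 0) : w = 0 := by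
  have hx := (Modules.Stalk.shortExact_iff_stalk S).mp hS x
  have hex : Function.Exact (stalkMapₗ S.f x) (stalkMapₗ S.g x) :=
    (ShortComplex.ab_exact_iff_function_exact _).mp hx.exact
  have hsurj : Function.Surjective (stalkMapₗ S.g x) := hx.ab_surjective_g
  obtain ⟨v, rfl⟩ := hsurj w
  have hnat : ∀ v, ((TopCat.Presheaf.stalkFunctor AddCommGrpCat.{u} x).map ψ.τ₃.hom).hom
      (stalkMapₗ S.g x v) = stalkMapₗ S.g x
        (((TopCat.Presheaf.stalkFunctor AddCommGrpCat.{u} x).map ψ.τ₂.hom).hom v) := by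
    intro v
    obtain ⟨W, hxW, t, rfl⟩ := TopCat.Presheaf.exists_germ_eq S.X₂.presheaf v
    rw [stalkMapₗ_germ]
    refine (TopCat.Presheaf.stalkFunctor_map_germ_apply W x hxW ψ.τ₃.hom _).trans ?_
    refine Eq.trans ?_ (congrArg (stalkMapₗ S.g x)
      (TopCat.Presheaf.stalkFunctor_map_germ_apply W x hxW ψ.τ₂.hom t)).symm
    refine Eq.trans ?_ (stalkMapₗ_germ S.g hxW _).symm
    exact congrArg _ (ConcreteCategory.congr_hom (congr_app (congrArg (fun t => t.hom) ψ.comm₂₃) (op W)) t).symm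
  rw [hnat] at hw
  obtain ⟨s, hs⟩ := h v ((hex _).mp hw)
  exact (hex v).mpr ⟨s, hs⟩

/-- A sheaf endomorphism injective on stalks is injective on `H⁰`. -/
theorem h0_injective {X : Scheme.{u}} {M : X.Modules} (φ : Coh.toAb M ⟶ Coh.toAb M)
    (h : ∀ (x : X) (w : M.presheaf.stalk x),
      ((TopCat.Presheaf.stalkFunctor AddCommGrpCat.{u} x).map φ.hom).hom w = 0 → w = 0) :
    Function.Injective (Sheaf.H.map φ 0) := by
  refine (injective_iff_map_eq_zero _).mpr fun z hz => ?_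
  have e := Sheaf.H.equiv₀_naturality (isTerminalTop (α := Opens X)) φ z
  apply (Sheaf.H.equiv₀ (Coh.toAb M) (isTerminalTop (α := Opens X))).injective
  rw [map_zero]
  rw [hz, map_zero] at e
  refine Modules.Support.eq_zero_of_germ_eq_zero (M := M) _ fun x hx _ => h x _ ?_
  refine (TopCat.Presheaf.stalkFunctor_map_germ_apply ⊤ x hx φ.hom _).trans ?_
  rw [show (ConcreteCategory.hom (φ.hom.app (op ⊤))) _ = 0 from e]
  exact map_zero _

end Groth.Agent.Lib.Curves.FrobH1
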