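import Groth.Agent.H25.Node.Properties
import Groth.Agent.H25.NormRed
import Groth.Agent.Lib.Unram.OneBranch
import Groth.Prelude.Def_Curv2
import Mathlib.Algebra.CharP.Lemmas

/-!
# Frobenius on the normalization of a node
-/

set_option autoImplicit false
set_option linter.style.haveILetI false

universe u

noncomputable section

namespace Groth.Agent.Lib.Curves.FrobNode

open IsLocalRing
open Groth.Agent.Lib
open Groth.Agent.H25

variable {A : Type u} [CommRing A] [IsLocalRing A] [IsReduced A]

/-- With an algebraically closed residue field geometric branches are branches. -/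
theorem numGeomBranches_eq [IsAlgClosed (ResidueField A)] :
    Brnch.numGeomBranches A = Brnch.numBranches A := by
  classical
  unfold Brnch.numGeomBranches Brnch.numBranches
  split_ifs with h
  · have hu : ∀ q : MaximalSpectrum (CAlg2.normRed A),
        Nonempty (Brnch.Emb A q) ∧ Subsingleton (Brnch.Emb A q) := fun q => by
      obtain ⟨hne, hiff⟩ := Unram.OneBranch.nonempty_emb_and_subsingleton_iff A q
      refine ⟨hne, hiff.mpr fun x => ⟨0, ?_⟩⟩
      letI := Ideal.Quotient.field q.asIdeal
      obtain ⟨φ, hφ, hint⟩ := Unram.OneBranch.emb_spec A q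
      letI : Algebra (ResidueField A) (CAlg2.normRed A ⧸ q.asIdeal) := φ.toAlgebra
      haveI : Algebra.IsIntegral (ResidueField A) (CAlg2.normRed A ⧸ q.asIdeal) := ⟨hint⟩
      obtain ⟨c, hc⟩ := (IsAlgClosed.algebraMap_bijective_of_isIntegral
        (k := ResidueField A) (K := CAlg2.normRed A ⧸ q.asIdeal)).2 x
      obtain ⟨a, rfl⟩ := IsLocalRing.residue_surjective c
      refine ⟨a, ?_⟩
      rw [pow_zero, pow_one, ← hφ]
      exact hc
    haveI := fun q => (hu q).1
    haveI := fun q => (hu q).2
    exact ENat.card_congr (Equiv.ofBijective Sigma.fst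
      ⟨fun a b hab => Sigma.ext hab (by
          obtain ⟨q, s⟩ := a
          obtain ⟨q', t⟩ := b
          obtain rfl : q = q' := hab
          exact heq_of_eq (Subsingleton.elim _ _)),
        fun q => ⟨⟨q, (hu q).1.some⟩, rfl⟩⟩)
  · rfl

/-- A nodal local ring has two points in its normalization. -/
theorem nontrivial_maximalSpectrum (k : Type u) [Field k] [Algebra k A]
    [Algebra.FormallySmooth k (ResidueField A)] [IsAlgClosed (ResidueField A)]
    (hN : CAlg.IsNagata A) (hn : Node.IsNodal A) :
    Nontrivial (MaximalSpectrum ↥(integralClosure A (FractionRing A))) := by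
  classical
  have h := (Node.Properties.properties k A hN hn).2.2.2
  rw [numGeomBranches_eq] at h
  haveI := hN.1
  rw [Brnch.numBranches, if_pos (minimalPrimes.finite_of_isNoetherianRing (R := A))] at h
  obtain ⟨ε, -⟩ := NormRed.exists_normRed_equiv A A (RingEquiv.refl A)
  haveI : Nontrivial (MaximalSpectrum (CAlg2.normRed A)) := by
    rw [← ENat.one_lt_card_iff_nontrivial, h]
    norm_num
  obtain ⟨q, q', hqq'⟩ := exists_pair_ne (MaximalSpectrum (CAlg2.normRed A))
  refine ⟨⟨q.asIdeal.comap ε.toRingHom, ?_⟩, ⟨q'.asIdeal.comap ε.toRingHom, ?_⟩, fun e => hqq' ?_⟩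
  · haveI := q.isMaximal; exact Ideal.comap_isMaximal_of_surjective _ ε.surjective
  · haveI := q'.isMaximal; exact Ideal.comap_isMaximal_of_surjective _ ε.surjective
  · exact MaximalSpectrum.ext (Ideal.comap_injective_of_surjective _ ε.surjective
      (congrArg MaximalSpectrum.asIdeal e))

/-- If the normalization adds one simple module and separates two points, `p`-th roots of functions
are functions. -/
theorem mem_range_of_pow {B : Type u} [CommRing B] [Algebra A B] [Algebra.IsIntegral A B]
    (hl : Module.length A (B ⧸ LinearMap.range (Algebra.linearMap A B)) = 1)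
    (hB : Nontrivial (MaximalSpectrum B)) (p : ℕ) [Fact p.Prime] (hp : (p : A) = 0) {y : B}
    (hy : y ^ p ∈ (algebraMap A B).range) : y ∈ (algebraMap A B).range := by
  classical
  obtain ⟨q₁, q₂, hne⟩ := exists_pair_ne (MaximalSpectrum B)
  haveI := q₁.isMaximal
  haveI := q₂.isMaximal
  have hco : IsCoprime q₁.asIdeal q₂.asIdeal :=
    Ideal.isCoprime_of_isMaximal fun h => hne (MaximalSpectrum.ext h)
  obtain ⟨w', hw', w, hw, hsum⟩ := Ideal.isCoprime_iff_exists.mp hco
  have hm : ∀ (q : Ideal B), q.IsMaximal → ∀ a : A, algebraMap A B a ∈ q ↔ a ∈ maximalIdeal A :=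
    fun q hq a => by
      haveI := hq
      rw [← IsLocalRing.eq_maximalIdeal (Ideal.isMaximal_comap_of_isIntegral_of_isMaximal (R := A) q)]
      rfl
  let R := LinearMap.range (Algebra.linearMap A B)
  haveI : IsSimpleModule A (B ⧸ R) := Module.length_eq_one_iff.mp hl
  have hwR : w ∉ R := by
    rintro ⟨a, ha⟩
    have h2 : a ∈ maximalIdeal A := (hm _ q₂.isMaximal a).mp (by rw [show algebraMap A B a = w from ha]; exact hw)
    have h1 : algebraMap A B a ∈ q₁.asIdeal := (hm _ q₁.isMaximal a).mpr h2
    rw [show algebraMap A B a = w from ha] at h1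
    exact q₁.isMaximal.ne_top ((Ideal.eq_top_iff_one _).mpr (hsum ▸ add_mem hw' h1))
  have hgen : ∀ z : B, ∃ a b : A, z = algebraMap A B a + b • w := by
    intro z
    have := IsSimpleModule.toSpanSingleton_surjective A
      (show (Submodule.Quotient.mk w : B ⧸ R) ≠ 0 by rwa [ne_eq, Submodule.Quotient.mk_eq_zero])
    obtain ⟨b, hb⟩ := this (Submodule.Quotient.mk z)
    rw [LinearMap.toSpanSingleton_apply, ← Submodule.Quotient.mk_smul, Submodule.Quotient.eq] at hb
    obtain ⟨a, ha⟩ := hb
    exact ⟨-a, b, by rw [map_neg, show algebraMap A B a = b • w - z from ha]; ring⟩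
  have hann : ∀ b ∈ maximalIdeal A, b • w ∈ R := by
    intro b hb
    have h0 : b ∈ Module.annihilator A (B ⧸ R) :=
      (IsLocalRing.eq_maximalIdeal (IsSimpleModule.annihilator_isMaximal (R := A) (M := B ⧸ R))).ge hb
    rw [← Submodule.Quotient.mk_eq_zero, Submodule.Quotient.mk_smul]
    exact Module.mem_annihilator.mp h0 _
  obtain ⟨a, b, rfl⟩ := hgen y
  obtain ⟨c, hc⟩ := hy
  suffices b ∈ maximalIdeal A by
    obtain ⟨a', ha'⟩ := hann b this
    exact ⟨a + a', by rw [map_add, show algebraMap A B a' = b • w from ha']⟩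
  haveI hpB : CharP B p := by
    haveI : Nontrivial B := ⟨⟨0, 1, fun h => q₁.isMaximal.ne_top
      ((Ideal.eq_top_iff_one _).mpr (h ▸ q₁.asIdeal.zero_mem))⟩⟩
    exact CharP.charP_iff_prime_eq_zero Fact.out |>.mpr (by rw [← map_natCast (algebraMap A B), hp, map_zero])
  rw [add_pow_char, Algebra.smul_def, mul_pow, ← map_pow, ← map_pow] at hc
  have h2 : c - a ^ p ∈ maximalIdeal A := (hm _ q₂.isMaximal _).mp (by
    rw [map_sub, hc, add_sub_cancel_left]
    exact q₂.asIdeal.mul_mem_left _ (Ideal.pow_mem_of_mem _ hw p (Fact.out : p.Prime).pos))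
  have h1 : algebraMap A B (b ^ p) * w ^ p ∈ q₁.asIdeal := by
    have := (hm _ q₁.isMaximal _).mpr h2
    rwa [map_sub, hc, add_sub_cancel_left] at this
  rcases q₁.isMaximal.isPrime.mem_or_mem h1 with h | h
  · exact (maximalIdeal.isMaximal A).isPrime.mem_of_pow_mem p ((hm _ q₁.isMaximal _).mp h)
  · exact absurd ((Ideal.eq_top_iff_one _).mpr (hsum ▸ add_mem hw' (q₁.isMaximal.isPrime.mem_of_pow_mem p h)))
      q₁.isMaximal.ne_top

end Groth.Agent.Lib.Curves.FrobNode
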