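import Groth.Agent.Lib.Curves.NormStalk
import Groth.Agent.Lib.Curves.NormGenus
import Groth.Agent.Lib.Curves.FrobNode

/-!
# The Frobenius on the stalks of the direct image from the normalization of a nodal curve
-/

set_option autoImplicit false
set_option linter.style.haveILetI false

universe u

open CategoryTheory CategoryTheory.Limits AlgebraicGeometry TopologicalSpace Opposite

noncomputable section

attribute [local instance] Curv2.stalkAlgebra

namespace Groth.Agent.Lib.Curves.FrobNormal

open Groth.Agent.Lib Groth.Agent.Lib.Modules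
open Groth.Agent.Lib.Modules.StalkModule (stalkMapₗ stalkMapₗ_germ)
open Groth.Agent.H25

/-- In the normalization of an at worst nodal curve `p`-th roots of functions are functions. -/
theorem mem_range_of_pow (k : Type u) [Field k] [IsAlgClosed k] (p : ℕ) [Fact p.Prime] [CharP k p]
    (C : Scheme.{u}) [C.Over (Spec (CommRingCat.of k))]
    [LocallyOfFiniteType (C ↘ Spec (CommRingCat.of k))] (hdim : topologicalKrullDim C ≤ 1)
    (hC : Curv2.AtWorstNodal k C) (x : C)
    (y : ↥(integralClosure (C.presheaf.stalk x) (FractionRing (C.presheaf.stalk x))))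
    (hy : y ^ p ∈ (algebraMap (C.presheaf.stalk x)
      ↥(integralClosure (C.presheaf.stalk x) (FractionRing (C.presheaf.stalk x)))).range) :
    y ∈ (algebraMap (C.presheaf.stalk x)
      ↥(integralClosure (C.presheaf.stalk x) (FractionRing (C.presheaf.stalk x)))).range := by
  haveI := Node.AtWorst.isReduced k C hC
  haveI : IsLocallyNoetherian C :=
    LocallyOfFiniteType.isLocallyNoetherian (C ↘ Spec (CommRingCat.of k))
  have hsmooth : x ∈ (C ↘ Spec (CommRingCat.of k)).smoothLocus →
      y ∈ (algebraMap (C.presheaf.stalk x)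
        ↥(integralClosure (C.presheaf.stalk x) (FractionRing (C.presheaf.stalk x)))).range := fun hx => by
    haveI := Node.AtWorst.regular_of_smooth k C hx
    haveI := Regular.Quotient.isDomain (C.presheaf.stalk x)
    haveI := Regular.UFD.isIntegrallyClosed (C.presheaf.stalk x)
    obtain ⟨a, ha⟩ := IsIntegrallyClosed.isIntegral_iff.mp y.2
    exact ⟨a, Subtype.ext ha⟩
  by_cases hx : IsClosed ({x} : Set C)
  · rcases hC x hx with h | h
    · exact hsmooth ((Node.AtWorst.exists_smooth_iff k C x).1 h)
    · obtain ⟨-, hsep, hn⟩ := (Node.Sch.isNode_iff k C x).1 h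
      haveI := hsep
      haveI : Algebra.FormallyEtale k (IsLocalRing.ResidueField (C.presheaf.stalk x)) :=
        Algebra.FormallyEtale.of_isSeparable k _
      haveI := Node.Sch.finiteDimensional k C x hx
      haveI : IsAlgClosed (IsLocalRing.ResidueField (C.presheaf.stalk x)) :=
        IsAlgClosed.of_ringEquiv k _ (RingEquiv.ofBijective
          (algebraMap k (IsLocalRing.ResidueField (C.presheaf.stalk x)))
          IsAlgClosed.algebraMap_bijective_of_isIntegral)
      have hN := NagataStalk.isNagata_stalk (C ↘ Spec (CommRingCat.of k)) x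
      exact FrobNode.mem_range_of_pow (NormGenus.deltaInv_node k C h)
        (FrobNode.nontrivial_maximalSpectrum k hN hn) p
        (by rw [← map_natCast (algebraMap k (C.presheaf.stalk x)), CharP.cast_eq_zero, map_zero]) hy
  · exact hsmooth (Node.AtWorst.smooth_of_not_isClosed k C hdim hC x hx)

variable {X X' : Scheme.{u}} (π : X' ⟶ X)

/-- The map induced on stalks by an endomorphism of the sheaf `π_* O`. -/
abbrev stalkEnd (Φ : Coh.toAb ((Coh.push π).obj (Coh.structureModule X')) ⟶
      Coh.toAb ((Coh.push π).obj (Coh.structureModule X'))) (x : X) :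
    ((Coh.push π).obj (Coh.structureModule X')).presheaf.stalk x →+
      ((Coh.push π).obj (Coh.structureModule X')).presheaf.stalk x :=
  ((TopCat.Presheaf.stalkFunctor AddCommGrpCat.{u} x).map Φ.hom).hom

variable {U : X.Opens} (hU : Dense (U : Set X))

include hU in
/-- Sections with `p`-th power in `O` lie in `O`, on stalks. -/
theorem mem_range_stalk (k : Type u) [Field k] [IsAlgClosed k] (p : ℕ) [Fact p.Prime] [CharP k p]
    [X.Over (Spec (CommRingCat.of k))] [LocallyOfFiniteType (X ↘ Spec (CommRingCat.of k))]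
    [IsNoetherian X] [IsReduced X] [IsFinite π] (hX' : Pi1.IsNormalScheme X')
    (hU' : Dense ((π ⁻¹ᵁ U : X'.Opens) : Set X')) [IsIso (π ∣_ U)]
    (hdim : topologicalKrullDim X ≤ 1) (hC : Curv2.AtWorstNodal k X)
    (Φ : Coh.toAb ((Coh.push π).obj (Coh.structureModule X')) ⟶
      Coh.toAb ((Coh.push π).obj (Coh.structureModule X')))
    (hΦ : ∀ (W : X.Opens) (t : Γ(X', π ⁻¹ᵁ W)), (Φ.hom.app (op W)).hom t = t ^ p)
    (x : X) (v : ((Coh.push π).obj (Coh.structureModule X')).presheaf.stalk x)
    (hv : stalkEnd π Φ x v ∈ LinearMap.range (stalkMapₗ (ClSub.unitToPush π) x)) :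
    v ∈ LinearMap.range (stalkMapₗ (ClSub.unitToPush π) x) := by
  classical
  let M := (Coh.push π).obj (Coh.structureModule X')
  obtain ⟨e, he⟩ := NormStalk.exists_stalk_equiv π hU hX' hU' x
  set one := stalkMapₗ (ClSub.unitToPush π) x
    ((Coh.structureModule X).presheaf.germ ⊤ x trivial (NormStalk.oneTop X)) with hone
  have hgerm : ∀ (W : X.Opens) (hxW : x ∈ W) (t : Γ(X', π ⁻¹ᵁ W)),
      stalkEnd π Φ x (M.presheaf.germ W x hxW t) = M.presheaf.germ W x hxW (t ^ p : Γ(X', π ⁻¹ᵁ W)) := by
    intro W hxW t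
    refine (TopCat.Presheaf.stalkFunctor_map_germ_apply W x hxW Φ.hom t).trans ?_
    exact congrArg _ (hΦ W t)
  have hsmul : ∀ (a : X.presheaf.stalk x) (w : M.presheaf.stalk x),
      stalkEnd π Φ x (a • w) = a ^ p • stalkEnd π Φ x w := by
    intro a w
    obtain ⟨W, hxW, r, t, rfl, rfl⟩ := StalkModule.exists_germ_eq₂ a w
    let t' : Γ(X', π ⁻¹ᵁ W) := t
    have e1 : stalkEnd π Φ x (M.presheaf.germ W x hxW (r • t)) =
        M.presheaf.germ W x hxW ((π.app W r * t') ^ p : Γ(X', π ⁻¹ᵁ W)) := hgerm W hxW (π.app W r * t')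
    rw [← StalkModule.germ_smul, ← map_pow, e1, hgerm W hxW t', ← StalkModule.germ_smul, mul_pow,
      ← map_pow]
    rfl
  have hfix : stalkEnd π Φ x one = one := by
    rw [hone, stalkMapₗ_germ]
    refine (hgerm ⊤ trivial (π.app ⊤ (1 : Γ(X, ⊤)))).trans ?_
    rw [map_one, one_pow]
    exact congrArg _ (map_one (π.app ⊤).hom).symm
  have hpow : (e (stalkEnd π Φ x v) : FractionRing (X.presheaf.stalk x)) = (e v : FractionRing (X.presheaf.stalk x)) ^ p := by
    obtain ⟨⟨b, a⟩, hab⟩ := IsLocalization.surj (nonZeroDivisors (X.presheaf.stalk x))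
      (e v : FractionRing (X.presheaf.stalk x))
    have h1 : (a : X.presheaf.stalk x) • v = b • one := e.injective (by
      apply Subtype.ext
      rw [map_smul, map_smul, he, Subalgebra.coe_smul, Subalgebra.coe_smul, Subalgebra.coe_one,
        Algebra.smul_def, mul_comm, hab, ← Algebra.algebraMap_eq_smul_one])
    have h2 := congrArg (fun w => (e (stalkEnd π Φ x w) : FractionRing (X.presheaf.stalk x))) h1
    rw [hsmul, hsmul, hfix, map_smul, map_smul, he, Subalgebra.coe_smul, Subalgebra.coe_smul,
      Subalgebra.coe_one, Algebra.smul_def, Algebra.smul_def, map_pow, map_pow, mul_one] at h2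
    rw [← hab, mul_pow, mul_comm _ ((algebraMap _ _ (a : X.presheaf.stalk x)) ^ p)] at h2
    exact ((IsLocalization.map_units _ a).pow p).mul_left_cancel h2
  obtain ⟨s, hs⟩ := hv
  obtain ⟨c, rfl⟩ := Normalization.CokerStalk.exists_smul_germ_one X
    (U := ⊤) (show x ∈ (⊤ : X.Opens) from trivial) s
  rw [map_smul] at hs
  have hs' : e (stalkEnd π Φ x v) = algebraMap _ _ c := by
    rw [← hs, map_smul, Algebra.algebraMap_eq_smul_one]
    exact congrArg (c • ·) he
  obtain ⟨d, hd⟩ := mem_range_of_pow k p X hdim hC x (e v) ⟨c, Subtype.ext (by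
    rw [← hs', hpow]
    rfl)⟩
  refine ⟨d • (Coh.structureModule X).presheaf.germ ⊤ x trivial (NormStalk.oneTop X), e.injective ?_⟩
  rw [map_smul, map_smul, he, ← Algebra.algebraMap_eq_smul_one, hd]

end Groth.Agent.Lib.Curves.FrobNormal
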