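import Groth.Prelude.Def_Frob
import Mathlib.AlgebraicGeometry.AffineScheme
import Mathlib.Algebra.CharP.Frobenius

/-!
# Iterates of the absolute Frobenius
-/

set_option autoImplicit false
universe u

open CategoryTheory AlgebraicGeometry Opposite

noncomputable section

namespace Groth.Agent.Lib.Curves.FrobPow

variable (X : Scheme.{u}) (p : ℕ) [Fact p.Prime] [FrobSch.IsCharP X p]

/-- The iterated absolute Frobenius. -/
def frobPow : ℕ → (X ⟶ X)
  | 0 => 𝟙 X
  | r + 1 => frobPow r ≫ FrobSch.frob X p

theorem frobPow_apply (r : ℕ) (x : X) : frobPow X p r x = x := by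
  induction r with
  | zero => rfl
  | succ r ih =>
    change (FrobSch.frob X p) (frobPow X p r x) = x
    rw [FrobSch.frob_apply, ih]

theorem le_preimage (r : ℕ) (U : X.Opens) : U ≤ frobPow X p r ⁻¹ᵁ U := fun x hx => by
  change frobPow X p r x ∈ U
  rwa [frobPow_apply]

theorem appLE_frobPow (r : ℕ) (U : X.Opens) (s : Γ(X, U)) :
    (frobPow X p r).appLE U U (le_preimage X p r U) s = s ^ p ^ r := by
  induction r generalizing s with
  | zero =>
    rw [pow_zero, pow_one]
    change (Scheme.Hom.app (𝟙 X) U ≫ X.presheaf.map (homOfLE le_rfl).op) s = s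
    rw [Scheme.Hom.id_app]
    change X.presheaf.map (𝟙 (op U)) _ = _
    rw [CategoryTheory.Functor.map_id]
    rfl
  | succ r ih =>
    have h : (frobPow X p r ≫ FrobSch.frob X p).appLE U U (le_preimage X p (r + 1) U) =
        (FrobSch.frob X p).appLE U U le_rfl ≫ (frobPow X p r).appLE U U (le_preimage X p r U) :=
      (Scheme.Hom.appLE_comp_appLE _ _ _ _ _ _ _).symm
    refine (congrArg (fun φ => φ.hom s) h).trans ?_
    change (frobPow X p r).appLE U U _ (X.presheaf.map (𝟙 (op U)) (s ^ p)) = _
    rw [CategoryTheory.Functor.map_id]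
    change (frobPow X p r).appLE U U _ (s ^ p) = _
    rw [map_pow, ih, ← pow_mul, ← pow_succ]

variable {X} {Y : Scheme.{u}} [FrobSch.IsCharP Y p] (f : X ⟶ Y)

/-- Iterates of the absolute Frobenius commute with morphisms. -/
theorem frobPow_comp (r : ℕ) : frobPow X p r ≫ f = f ≫ frobPow Y p r := by
  induction r with
  | zero => exact (Category.id_comp f).trans (Category.comp_id f).symm
  | succ r ih =>
    rw [frobPow, frobPow, Category.assoc, FrobSch.frob_comp, ← Category.assoc, ih, Category.assoc]

/-- On the spectrum of a ring the iterated absolute Frobenius is the iterated Frobenius. -/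
theorem frobPow_spec (k : Type u) [CommRing k] [CharP k p] (r : ℕ) :
    frobPow (Spec (CommRingCat.of k)) p r = Spec.map (CommRingCat.ofHom (iterateFrobenius k p r)) := by
  refine ext_of_isAffine (CommRingCat.hom_ext (RingHom.ext fun s => ?_))
  have h1 : (frobPow (Spec (CommRingCat.of k)) p r).appTop s =
      (frobPow (Spec (CommRingCat.of k)) p r).appLE ⊤ ⊤ (le_preimage _ p r ⊤) s :=
    congrArg (fun φ : Γ(Spec (CommRingCat.of k), ⊤) ⟶ Γ(Spec (CommRingCat.of k), ⊤) => φ.hom s)
      (Scheme.Hom.app_eq_appLE (frobPow (Spec (CommRingCat.of k)) p r) (U := ⊤))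
  refine h1.trans ((appLE_frobPow _ p r ⊤ s).trans ?_)
  have h2 := congrArg (fun φ => φ.hom s) (Scheme.ΓSpecIso_naturality (CommRingCat.ofHom (iterateFrobenius k p r)))
  apply (Scheme.ΓSpecIso (CommRingCat.of k)).commRingCatIsoToRingEquiv.injective
  refine Eq.trans ?_ h2.symm
  change (Scheme.ΓSpecIso (CommRingCat.of k)).hom (s ^ p ^ r) = iterateFrobenius k p r _
  rw [map_pow, iterateFrobenius_def]
  rfl

end Groth.Agent.Lib.Curves.FrobPow
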