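import Mathlib.FieldTheory.IntermediateField.Adjoin.Basic
import Mathlib.RingTheory.Polynomial.Basic
import Mathlib.LinearAlgebra.Dimension.Constructions
import Mathlib.LinearAlgebra.Dimension.OrzechProperty
import Mathlib.RingTheory.IntegralClosure.IsIntegralClosure.Basic
import Mathlib.RingTheory.Algebraic.Basic
import Mathlib.LinearAlgebra.Basis.VectorSpace
import Mathlib.LinearAlgebra.FreeModule.Finite.Basic
import Mathlib.LinearAlgebra.FiniteDimensional.Lemmas
import Mathlib.Data.Fin.VecNotation
import Mathlib.LinearAlgebra.Matrix.Notation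

/-!
# The linear algebra of normal generation in genus one

If the products of the sections of a degree `d` system lay in the span of a pencil times the
system, the ratios would generate a subfield of index dividing `d` of degree `d - 1`.
-/

set_option autoImplicit false
set_option linter.style.haveILetI false

namespace Groth.Agent.Lib.Curves.QuadricRank

open Module Polynomial

variable {k K : Type*} [Field k] [Field K] [Algebra k K] (f : K)

/-- `M + f M`. -/
def step (M : Submodule k K) : Submodule k K := M ⊔ M.map (LinearMap.mulLeft k f)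

lemma mul_mem_step {M : Submodule k K} {x : K} (hx : x ∈ M) : f * x ∈ step f M :=
  Submodule.mem_sup_right ⟨x, hx, rfl⟩

lemma le_step (M : Submodule k K) : M ≤ step f M := le_sup_left

/-- `f^j` times the elements of a family, up to a bound. -/
def fam {ι : Type*} (v : ι → K) (b : ι → ℕ) (x : Σ i, Fin (b i)) : K := f ^ (x.2 : ℕ) * v x.1

lemma fam_mem {ι : Type*} (v : ι → K) (b : ι → ℕ) (i : ι) (j : ℕ) (h : j < b i) :
    f ^ j * v i ∈ Submodule.span k (Set.range (fam f v b)) :=
  Submodule.subset_span ⟨⟨i, j, h⟩, rfl⟩

lemma step_span_le {ι : Type*} (v : ι → K) (b : ι → ℕ) :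
    step f (Submodule.span k (Set.range (fam f v b))) ≤
      Submodule.span k (Set.range (fam f v fun i => b i + 1)) := by
  refine sup_le (Submodule.span_le.mpr ?_) ?_
  · rintro _ ⟨⟨i, j⟩, rfl⟩
    exact fam_mem f v _ i j (by omega)
  · rw [Submodule.map_span, Submodule.span_le]
    rintro _ ⟨_, ⟨⟨i, j⟩, rfl⟩, rfl⟩
    have h := fam_mem (k := k) f v (fun i => b i + 1) i (j + 1) (by omega)
    rw [SetLike.mem_coe]
    simpa only [fam, LinearMap.mulLeft_apply, pow_succ', mul_assoc] using h

/-- If the families of powers are linearly independent for all bounds, so is `v` over `k(f)`. -/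
theorem linearIndependent_adjoin {ι : Type*} [Fintype ι] (v : ι → K)
    (h : ∀ N : ℕ, ∃ b : ι → ℕ, (∀ i, N ≤ b i) ∧ LinearIndependent k (fam f v b)) :
    LinearIndependent (IntermediateField.adjoin k ({f} : Set K)) v := by
  classical
  rw [Fintype.linearIndependent_iff]
  intro c hc
  choose r s hrs using fun i => (IntermediateField.mem_adjoin_simple_iff k (c i : K)).1 (c i).2
  let E := IntermediateField.adjoin k ({f} : Set K)
  by_contra hne
  push Not at hne
  obtain ⟨i₀, hi₀⟩ := hne
  -- common denominator, ignoring the vanishing coefficients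
  let s' : ι → k[X] := fun i => if (c i : K) = 0 then 1 else s i
  let r' : ι → k[X] := fun i => if (c i : K) = 0 then 0 else r i
  have hs0 : ∀ i, aeval f (s' i) ≠ 0 := fun i => by
    simp only [s']
    split_ifs with hz
    · simp
    · intro h0
      exact hz (by rw [hrs i, h0, div_zero])
  have hrs' : ∀ i, (c i : K) * aeval f (s' i) = aeval f (r' i) := fun i => by
    simp only [s', r']
    split_ifs with hz
    · simp [hz]
    · have h0 := hs0 i
      simp only [s', if_neg hz] at h0
      rw [hrs i, div_mul_cancel₀ _ h0]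
  let p : ι → k[X] := fun i => r' i * ∏ j ∈ Finset.univ.erase i, s' j
  have hp : ∀ i, aeval f (p i) = (c i : K) * ∏ j, aeval f (s' j) := fun i => by
    rw [map_mul, map_prod, ← hrs', mul_assoc,
      ← Finset.mul_prod_erase Finset.univ (fun j => aeval f (s' j)) (Finset.mem_univ i)]
  have hsum : ∑ i, aeval f (p i) * v i = 0 := by
    simp only [hp, mul_right_comm _ _ (v _), ← Finset.sum_mul]
    have h' : ∑ i, (c i : K) * v i = 0 := hc
    rw [h', zero_mul]
  obtain ⟨b, hb, hli⟩ := h ((Finset.univ.sup fun i => (p i).natDegree) + 1)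
  rw [Fintype.linearIndependent_iff] at hli
  have hexp : ∀ i, aeval f (p i) = ∑ j : Fin (b i), (p i).coeff j • f ^ (j : ℕ) := fun i => by
    rw [aeval_eq_sum_range' (n := b i), ← Fin.sum_univ_eq_sum_range (fun j => (p i).coeff j • f ^ j)]
    have := Finset.le_sup (f := fun i => (p i).natDegree) (Finset.mem_univ i)
    have := hb i
    omega
  have hz : ∀ i (j : Fin (b i)), (p i).coeff j = 0 := fun i j => by
    refine hli (fun x => (p x.1).coeff x.2) ?_ ⟨i, j⟩
    rw [Fintype.sum_sigma, ← hsum]
    refine Finset.sum_congr rfl fun i _ => ?_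
    rw [hexp i, Finset.sum_mul]
    exact Finset.sum_congr rfl fun j _ => (smul_mul_assoc _ _ _).symm
  have h0 : aeval f (p i₀) = 0 := by
    rw [hexp i₀]
    exact Finset.sum_eq_zero fun j _ => by rw [hz, zero_smul]
  rw [hp, mul_eq_zero] at h0
  rcases h0 with h0 | h0
  · exact hi₀ (Subtype.ext h0)
  · exact Finset.prod_ne_zero_iff.2 (fun j _ => hs0 j) h0

/-- A finite dimensional space stable under a finite subfield has dimension divisible by its degree. -/
theorem finrank_dvd_of_smul_mem {E : Type*} [Field E] [Algebra E K] (S : Subalgebra E K)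
    [FiniteDimensional E S] (T : Submodule E K) (h : ∀ s ∈ S, ∀ t ∈ T, s * t ∈ T) :
    finrank E S ∣ finrank E T := by
  letI : Field S := (isField_of_isIntegral_of_isField' (R := E) (S := S) (Field.toIsField E)).toField
  let T' : Submodule S K :=
    { carrier := T
      add_mem' := fun ha hb => T.add_mem ha hb
      zero_mem' := T.zero_mem
      smul_mem' := fun s t ht => h s.1 s.2 t ht }
  let e : T' ≃ₗ[E] T :=
    { toFun := fun t => ⟨t.1, t.2⟩
      invFun := fun t => ⟨t.1, t.2⟩
      map_add' := fun _ _ => rfl
      map_smul' := fun _ _ => rfl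
      left_inv := fun _ => rfl
      right_inv := fun _ => rfl }
  rw [← e.finrank_eq, ← finrank_mul_finrank E S T']
  exact Dvd.intro _ rfl

/-- The contradiction behind normal generation. -/
theorem false_of_products (B M2 : Submodule k K) [FiniteDimensional k B] [FiniteDimensional k M2]
    {d : ℕ} (hd : 3 ≤ d) (h1 : (1 : K) ∈ B) (hf : f ∈ B) (hB : finrank k B = d)
    (hBB : ∀ a ∈ B, ∀ b ∈ B, a * b ∈ step f B)
    (hW : finrank k (step f B) + 1 = 2 * d) (hle : step f B ≤ M2) (hM : finrank k M2 = 2 * d)
    (h12 : ∀ a ∈ B, ∀ m ∈ M2, a * m ∈ step f M2)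
    (hdim : ∀ n : ℕ, finrank k ((step f)^[n] M2 : Submodule k K) = (n + 2) * d) : False := by
  classical
  haveI : FiniteDimensional k (step f B) := Submodule.finiteDimensional_of_le hle
  obtain ⟨e, he, heW⟩ : ∃ e ∈ M2, e ∉ step f B := by
    by_contra hc
    push Not at hc
    have := Submodule.finrank_mono (show M2 ≤ step f B from hc) 
    omega
  -- a complement of `⟨1, f⟩` in `B`
  let P : Submodule k B := Submodule.span k {⟨1, h1⟩, ⟨f, hf⟩}
  have hP : finrank k P = 2 := by
    have hli : LinearIndependent k ![(⟨1, h1⟩ : B), ⟨f, hf⟩] := by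
      refine (LinearIndependent.pair_iff' fun h => one_ne_zero (α := K) (congrArg Subtype.val h)).2 fun c hc => ?_
      have hfc : f = c • (1 : K) := (congrArg Subtype.val hc).symm
      have : step f B ≤ B := sup_le le_rfl (by
        rintro _ ⟨x, hx, rfl⟩
        rw [LinearMap.mulLeft_apply, hfc, smul_mul_assoc, one_mul]
        exact B.smul_mem c hx)
      have := Submodule.finrank_mono this
      omega
    have h := finrank_span_eq_card hli
    rwa [Matrix.range_cons_cons_empty, Fintype.card_fin] at h
  obtain ⟨C, hC⟩ := Submodule.exists_isCompl P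
  have hCd := Submodule.finrank_add_eq_of_isCompl hC
  let q := finrank k C
  haveI : Module.Free k C := Module.Free.of_divisionRing k C
  let g : Fin q → K := fun i => ((Module.finBasis k C i : C) : B).1
  have hBspan : B ≤ Submodule.span k (insert 1 (insert f (Set.range g))) := fun b hb => by
    obtain ⟨p, hp, c, hc, hpc⟩ := Submodule.mem_sup.1
      (show (⟨b, hb⟩ : B) ∈ P ⊔ C from hC.sup_eq_top ▸ Submodule.mem_top)
    rw [show b = (p : K) + (c : K) from (congrArg Subtype.val hpc).symm]
    refine add_mem ?_ ?_
    · obtain ⟨x, y, rfl⟩ := Submodule.mem_span_pair.1 hp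
      refine add_mem (Submodule.smul_mem _ _ (Submodule.subset_span (Set.mem_insert _ _)))
        (Submodule.smul_mem _ _ (Submodule.subset_span (Set.mem_insert_of_mem _ (Set.mem_insert _ _))))
    · have h := congrArg (fun z : C => ((z : B) : K)) ((Module.finBasis k C).sum_repr ⟨c, hc⟩)
      simp only [Submodule.coe_sum, Submodule.coe_smul] at h
      rw [← h]
      exact sum_mem fun i _ => Submodule.smul_mem _ _ (Submodule.subset_span
        (Set.mem_insert_of_mem _ (Set.mem_insert_of_mem _ ⟨i, rfl⟩)))
  -- the basis of the field generated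
  let v : Option (Option (Fin q)) → K := fun i => i.elim 1 fun j => j.elim e g
  let b : ℕ → Option (Option (Fin q)) → ℕ := fun n i => i.elim (n + 3) fun j => j.elim (n + 1) fun _ => n + 2
  have hW0 : step f B ≤ Submodule.span k (Set.range (fam f v (b 0))) := by
    refine sup_le (hBspan.trans (Submodule.span_le.mpr ?_)) ?_
    · rintro x (rfl | hx | ⟨i, rfl⟩)
      · simpa [v] using fam_mem (k := k) f v (b 0) none 0 (by simp [b])
      · rw [hx]
        simpa [v] using fam_mem (k := k) f v (b 0) none 1 (by simp [b])
      · simpa [v] using fam_mem (k := k) f v (b 0) (some (some i)) 0 (by simp [b])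
    · refine (Submodule.map_mono hBspan).trans ?_
      rw [Submodule.map_span, Submodule.span_le]
      rintro _ ⟨x, (rfl | hx | ⟨i, rfl⟩), rfl⟩
      · simpa [v] using fam_mem (k := k) f v (b 0) none 1 (by simp [b])
      · rw [hx]
        simpa [v, pow_two] using fam_mem (k := k) f v (b 0) none 2 (by simp [b])
      · simpa [v] using fam_mem (k := k) f v (b 0) (some (some i)) 1 (by simp [b])
  have hbase : M2 ≤ Submodule.span k (Set.range (fam f v (b 0))) := by
    have hsup : step f B ⊔ Submodule.span k {e} = M2 := by
      refine Submodule.eq_of_le_of_finrank_le (sup_le hle (Submodule.span_le.mpr (Set.singleton_subset_iff.mpr he))) ?_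
      have hlt : step f B < step f B ⊔ Submodule.span k {e} := lt_of_le_not_ge le_sup_left fun h =>
        heW (h (Submodule.mem_sup_right (Submodule.mem_span_singleton_self e)))
      haveI : FiniteDimensional k (step f B ⊔ Submodule.span k {e} : Submodule k K) :=
        Submodule.finiteDimensional_of_le (sup_le hle (Submodule.span_le.mpr (Set.singleton_subset_iff.mpr he)))
      have := Submodule.finrank_lt_finrank_of_lt hlt
      omega
    rw [← hsup]
    refine sup_le hW0 (Submodule.span_le.mpr (Set.singleton_subset_iff.mpr ?_))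
    simpa [v] using fam_mem (k := k) f v (b 0) (some none) 0 (by simp [b])
  have hiter : ∀ n, ((step f)^[n] M2 : Submodule k K) ≤ Submodule.span k (Set.range (fam f v (b n))) := by
    intro n
    induction n with
    | zero => exact hbase
    | succ n ih =>
      rw [Function.iterate_succ_apply']
      refine le_trans (sup_le_sup ih (Submodule.map_mono ih)) ((step_span_le f v (b n)).trans (le_of_eq ?_))
      exact congrArg (fun c => Submodule.span k (Set.range (fam f v c)))
        (funext fun i => by rcases i with _ | _ | i <;> rfl : (fun i => b n i + 1) = b (n + 1))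
  haveI : ∀ n, FiniteDimensional k (Submodule.span k (Set.range (fam f v (b n)))) := fun n =>
    FiniteDimensional.span_of_finite k (Set.finite_range _)
  have hcard : ∀ n, Fintype.card (Σ i, Fin (b n i)) = (n + 3) + ((n + 1) + q * (n + 2)) := fun n => by
    simp [Fintype.sum_option, b]
  have hq : q + 2 = d := by
    have h := (hdim 0).ge.trans ((Submodule.finrank_mono (hiter 0)).trans (finrank_range_le_card _))
    rw [hcard] at h
    omega
  have hli : ∀ n, LinearIndependent k (fam f v (b n)) := fun n => by
    rw [linearIndependent_iff_card_le_finrank_span, hcard]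
    refine le_trans (le_of_eq ?_) ((hdim n).ge.trans (Submodule.finrank_mono (hiter n)))
    rw [← hq]
    ring
  let E := IntermediateField.adjoin k ({f} : Set K)
  have hvE : LinearIndependent E v := linearIndependent_adjoin f v fun N => ⟨b N, fun i => by
    rcases i with _ | _ | i <;> simp only [b, Option.elim] <;> omega, hli N⟩
  let w : Option (Fin q) → K := fun i => i.elim 1 g
  have hwE : LinearIndependent E w := by
    have := hvE.comp (fun i : Option (Fin q) => i.map some) (Option.map_injective (Option.some_injective _))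
    convert this using 1
    funext i
    rcases i with _ | i <;> rfl
  let U : Submodule E K := Submodule.span E (Set.range w)
  let T : Submodule E K := Submodule.span E (Set.range v)
  have hfE : f ∈ E := IntermediateField.mem_adjoin_simple_self k f
  have hsB : ∀ (U : Submodule E K), (1 : K) ∈ U → (∀ i, g i ∈ U) → ∀ x ∈ B, x ∈ U := fun U h1U hgU x hx => by
    refine (Submodule.span_le (p := U.restrictScalars k)).mpr ?_ (hBspan hx)
    rintro x (rfl | hx | ⟨i, rfl⟩)
    · exact h1U
    · rw [hx]
      have := U.smul_mem (⟨f, hfE⟩ : E) h1U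
      rwa [show (⟨f, hfE⟩ : E) • (1 : K) = f from mul_one f] at this
    · exact hgU i
  have hBU : ∀ x ∈ B, x ∈ U := hsB U (Submodule.subset_span ⟨none, rfl⟩) fun i =>
    Submodule.subset_span ⟨some i, rfl⟩
  have hstep : ∀ (U : Submodule E K) (M : Submodule k K), (∀ x ∈ M, x ∈ U) → ∀ x ∈ step f M, x ∈ U := by
    intro U M hMU x hx
    obtain ⟨a, ha, _, ⟨c, hc, rfl⟩, rfl⟩ := Submodule.mem_sup.1 hx
    exact add_mem (hMU a ha) (U.smul_mem (⟨f, hfE⟩ : E) (hMU c hc))
  have hwB : ∀ i, w i ∈ B := fun i => by
    rcases i with _ | i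
    · exact h1
    · exact ((Module.finBasis k C i : C) : B).2
  have hUU : ∀ x ∈ U, ∀ y ∈ U, x * y ∈ U := fun x hx y hy => by
    refine Submodule.span_induction₂ (p := fun x y _ _ => x * y ∈ U) ?_ ?_ ?_ ?_ ?_ ?_ ?_ hx hy
    · rintro _ _ ⟨i, rfl⟩ ⟨j, rfl⟩
      exact hstep U B hBU _ (hBB _ (hwB i) _ (hwB j))
    · exact fun _ _ => by simp
    · exact fun _ _ => by simp
    · exact fun a b c _ _ _ h h' => by rw [add_mul]; exact add_mem h h'
    · exact fun a b c _ _ _ h h' => by rw [mul_add]; exact add_mem h h'
    · exact fun r a b _ _ h => by rw [smul_mul_assoc]; exact U.smul_mem r h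
    · exact fun r a b _ _ h => by rw [mul_smul_comm]; exact U.smul_mem r h
  let S : Subalgebra E K := U.toSubalgebra (Submodule.subset_span ⟨none, rfl⟩) fun x y hx hy => hUU x hx y hy
  have hTM : ∀ x ∈ M2, x ∈ T := fun x hx => by
    refine (Submodule.span_le (p := T.restrictScalars k)).mpr ?_ (hbase hx)
    rintro _ ⟨⟨i, j⟩, rfl⟩
    exact T.smul_mem ((⟨f, hfE⟩ : E) ^ (j : ℕ)) (Submodule.subset_span ⟨i, rfl⟩)
  have hUT : ∀ x ∈ U, ∀ y ∈ T, x * y ∈ T := fun x hx y hy => by
    refine Submodule.span_induction₂ (p := fun x y _ _ => x * y ∈ T) ?_ ?_ ?_ ?_ ?_ ?_ ?_ hx hy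
    · rintro _ _ ⟨i, rfl⟩ ⟨j, rfl⟩
      rcases j with _ | _ | j
      · exact hTM _ (hle (le_step f B (by simpa [v] using hwB i)))
      · exact hstep T M2 hTM _ (h12 _ (hwB i) e he)
      · exact hTM _ (hle (hBB _ (hwB i) _ (hwB (some j))))
    · exact fun _ _ => by simp
    · exact fun _ _ => by simp
    · exact fun a b c _ _ _ h h' => by rw [add_mul]; exact add_mem h h'
    · exact fun a b c _ _ _ h h' => by rw [mul_add]; exact add_mem h h'
    · exact fun r a b _ _ h => by rw [smul_mul_assoc]; exact T.smul_mem r h
    · exact fun r a b _ _ h => by rw [mul_smul_comm]; exact T.smul_mem r h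
  haveI : FiniteDimensional E U := FiniteDimensional.span_of_finite E (Set.finite_range _)
  haveI : FiniteDimensional E S := inferInstanceAs (FiniteDimensional E U)
  have hdvd := finrank_dvd_of_smul_mem S T hUT
  rw [show finrank E S = finrank E U from rfl, finrank_span_eq_card hwE, finrank_span_eq_card hvE,
    Fintype.card_option, Fintype.card_option, Fintype.card_option, Fintype.card_fin] at hdvd
  have h2 : q + 1 ∣ 1 := (Nat.dvd_add_right (dvd_refl (q + 1))).1 hdvd
  have := Nat.le_of_dvd one_pos h2
  omega

end Groth.Agent.Lib.Curves.QuadricRank
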