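import Groth.Agent.Lib.Curves.GenusOne
import Groth.Agent.Lib.Curves.QuadricRank
import Groth.Agent.Lib.Curves.RegPoints
import Groth.Agent.Lib.Curves.GGEmbed
import Groth.Agent.Lib.SurfInt.CurvePos
import Groth.Agent.Lib.SmoothCurve.Curve

/-!
# Invertible modules of degree at least three on curves of genus one are normally generated
-/

set_option autoImplicit false
set_option linter.style.haveILetI false
noncomputable section

universe u

open CategoryTheory CategoryTheory.Limits AlgebraicGeometry TopologicalSpace Opposite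

namespace Groth.Agent.Lib.Curves.GenusOneGen

open TensorMod TensorMod.Basic TensorMod.Free TensorMod.Dual TensorMod.Gen TensorMod.HomGlue TensorMod.LocIso Ample.GenLocus Ample.Extend
  ProjMor.Sec

variable {k : Type u} [Field k] {X : Scheme.{u}} [X.Over (Spec (CommRingCat.of k))]

/-- A section spanning the stalk at a point generates there. -/
theorem mem_locus_of_span {L : X.Modules} (hL : PicF.IsInvertible L) (m : Γ(L, ⊤)) {x : X}
    (h : Submodule.span (X.presheaf.stalk x) {L.presheaf.germ ⊤ x trivial m} = ⊤) : x ∈ locus m := by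
  obtain ⟨U, e, hx, he⟩ := isInvertible_iff.1 hL x
  obtain ⟨a, ha⟩ := exists_coord he (gl m U)
  refine ((locus_inf_eq he ha).ge ?_).1
  refine (X.mem_basicOpen a x hx).2 ?_
  have h1 : L.presheaf.germ ⊤ x trivial m = X.presheaf.germ U x hx a • L.presheaf.germ U x hx e := by
    have h1 := congrArg (L.presheaf.germ U x hx) ha
    rw [Modules.StalkModule.germ_smul] at h1
    exact (TopCat.Presheaf.germ_res_apply L.presheaf (homOfLE le_top) x hx m).symm.trans h1
  obtain ⟨c, hc⟩ := Submodule.mem_span_singleton.1 (h ▸ Submodule.mem_top :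
    L.presheaf.germ U x hx e ∈ Submodule.span _ {L.presheaf.germ ⊤ x trivial m})
  rw [h1, smul_smul] at hc
  have hbij := H34.UFDExt.Gen.IsGen.stalk_bijective (M := L) (fun W hW => he W hW) hx
  exact IsUnit.of_mul_eq_one_right c (hbij.1 (a₁ := c * X.presheaf.germ U x hx a) (a₂ := 1)
    (hc.trans (one_smul _ _).symm))

variable [IsIntegral X]

/-- Constants in the function field. -/
@[reducible] def kAlg : Algebra k X.functionField :=
  RingHom.toAlgebra ((X.presheaf.germ ⊤ (genericPoint X) trivial).hom.comp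
    (Coh.toGlobal (X ↘ Spec (CommRingCat.of k))))

attribute [local instance] kAlg

variable {L : X.Modules} (hL : PicF.IsInvertible L) (s₀ : Γ(L, ⊤))
  (hη : genericPoint X ∈ locus s₀)

omit [X.Over (Spec (CommRingCat.of k))] [IsIntegral X] in
theorem isGen_pow (n : ℕ) :
    IsGen (CohB1.tensorPow L n) (locus s₀) (powSec (gl s₀ (locus s₀)) n) :=
  isGen_powSec (isGen_locus s₀) n

/-- The coordinate of a section of a power on the locus. -/
def coef (n : ℕ) (z : Γ(CohB1.tensorPow L n, ⊤)) : Γ(X, locus s₀) :=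
  (exists_coord (isGen_pow s₀ n) (gl z (locus s₀))).choose

omit [X.Over (Spec (CommRingCat.of k))] [IsIntegral X] in
theorem coef_spec (n : ℕ) (z : Γ(CohB1.tensorPow L n, ⊤)) :
    gl z (locus s₀) = coef s₀ n z • powSec (gl s₀ (locus s₀)) n :=
  (exists_coord (isGen_pow s₀ n) (gl z (locus s₀))).choose_spec

omit [X.Over (Spec (CommRingCat.of k))] [IsIntegral X] in
theorem coef_eq {n : ℕ} {z : Γ(CohB1.tensorPow L n, ⊤)} {a : Γ(X, locus s₀)}
    (h : gl z (locus s₀) = a • powSec (gl s₀ (locus s₀)) n) : coef s₀ n z = a :=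
  (isGen_pow s₀ n (locus s₀) le_rfl).1 (by simpa only [rs_self] using (coef_spec s₀ n z).symm.trans h)

omit [X.Over (Spec (CommRingCat.of k))] [IsIntegral X] in
theorem coef_add (n : ℕ) (z z' : Γ(CohB1.tensorPow L n, ⊤)) :
    coef s₀ n (z + z') = coef s₀ n z + coef s₀ n z' :=
  coef_eq s₀ (by rw [add_smul, ← coef_spec, ← coef_spec]; exact map_add _ _ _)

theorem coef_scal (n : ℕ) (c : k) (z : Γ(CohB1.tensorPow L n, ⊤)) :
    coef s₀ n ((show Γ(X, ⊤) from Coh.toGlobal (X ↘ Spec (CommRingCat.of k)) c) • z) =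
      X.presheaf.map (homOfLE (le_top : locus s₀ ≤ ⊤)).op
        (Coh.toGlobal (X ↘ Spec (CommRingCat.of k)) c) * coef s₀ n z :=
  coef_eq s₀ (by rw [mul_smul, ← coef_spec]; exact rs_smul _ le_top _ _)

omit [X.Over (Spec (CommRingCat.of k))] [IsIntegral X] in
theorem coef_tmul (n : ℕ) (w : Γ(CohB1.tensorPow L n, ⊤)) (s : Γ(L, ⊤)) {b : Γ(X, locus s₀)}
    (hb : gl s (locus s₀) = b • gl s₀ (locus s₀)) :
    coef s₀ (n + 1) (SecTwist.tmul (CohB1.tensorPow L n) L ⊤ w s) = coef s₀ n w * b :=
  coef_eq s₀ (by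
    refine (rs_tmul (le_top : locus s₀ ≤ ⊤) w s).trans ?_
    rw [show rs _ (le_top : locus s₀ ≤ ⊤) w = _ from coef_spec s₀ n w,
      show rs L (le_top : locus s₀ ≤ ⊤) s = _ from hb]
    exact tmul_smul _ b _ _)

/-- Coordinates in the function field. -/
def kap (n : ℕ) : letI := GlobalSections.secModule k (CohB1.tensorPow L n)
    ((CohB1.tensorPow L n).val.obj (op ⊤) : Type u) →ₗ[k] X.functionField :=
  letI := GlobalSections.secModule k (CohB1.tensorPow L n)
  { toFun := fun z => X.presheaf.germ (locus s₀) (genericPoint X) hη (coef s₀ n z)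
    map_add' := fun z z' => by
      change X.presheaf.germ _ _ hη (coef s₀ n ((show Γ(CohB1.tensorPow L n, ⊤) from z) +
        (show Γ(CohB1.tensorPow L n, ⊤) from z'))) = _
      rw [coef_add, map_add]
    map_smul' := fun c z => by
      change X.presheaf.germ _ _ hη (coef s₀ n ((show Γ(X, ⊤) from
        Coh.toGlobal (X ↘ Spec (CommRingCat.of k)) c) • (show Γ(CohB1.tensorPow L n, ⊤) from z))) = _
      rw [coef_scal, map_mul, RingHom.id_apply, Algebra.smul_def, TopCat.Presheaf.germ_res_apply]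
      rfl }

omit [X.Over (Spec (CommRingCat.of k))] in
include hL in
theorem eq_zero_of_gl {n : ℕ} {z : Γ(CohB1.tensorPow L n, ⊤)} (hη : genericPoint X ∈ locus s₀)
    (h : gl z (locus s₀) = 0) : z = 0 := by
  have hn := Invertible.isInvertible_tensorPow hL n
  haveI := TensorMod.QCohInv.isQCoh_of_isInvertible hn
  have hT : TorSh.IsTorsionFree (CohB1.tensorPow L n) :=
    CurveBundle.Coherent.isTorsionFree (LocFree.of_rank (LocFree.of_isInvertible hn))
  refine Modules.Support.eq_zero_of_germ_eq_zero z fun x hx _ =>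
    CurveBundle.Rank.eq_zero_of_germ_generic hT hx z ?_
  refine (TopCat.Presheaf.germ_res_apply (CohB1.tensorPow L n).presheaf
    (homOfLE (le_top : locus s₀ ≤ ⊤)) _ hη z).symm.trans ?_
  exact (congrArg _ h).trans (map_zero _)

variable [IsProper (X ↘ Spec (CommRingCat.of k))]

include hL in
theorem kap_injective (n : ℕ) : Function.Injective (kap (k := k) s₀ hη n) := by
  letI := GlobalSections.secModule k (CohB1.tensorPow L n)
  rw [injective_iff_map_eq_zero]
  intro z hz
  refine eq_zero_of_gl hL s₀ hη ?_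
  rw [coef_spec, show coef s₀ n z = 0 from
    germ_injective_of_isIntegral X _ hη (hz.trans (map_zero _).symm), zero_smul]

variable (hdim : topologicalKrullDim X = 1) (hg : Curv2.genus k X = 1)

include hL hdim hg in
/-- The coordinates of the sections of a power form a space of dimension the degree. -/
theorem finrank_range (hd : 1 ≤ Curv2.deg k X L 1) (n : ℕ) :
    letI := GlobalSections.secModule k (CohB1.tensorPow L (n + 1))
    (Module.finrank k (LinearMap.range (kap (k := k) s₀ hη (n + 1))) : ℤ) =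
      (n + 1) * Curv2.deg k X L 1 ∧
    FiniteDimensional k (LinearMap.range (kap (k := k) s₀ hη (n + 1))) := by
  letI := GlobalSections.secModule k (CohB1.tensorPow L (n + 1))
  have hn := Invertible.isInvertible_tensorPow hL (n + 1)
  haveI := (Degree.isGood (k := k) hdim.le hn).fin₀
  haveI : Module.Finite k ((CohB1.tensorPow L (n + 1)).val.obj (op ⊤) : Type u) :=
    Module.Finite.equiv (GlobalSections.h0Linear k _)
  have hdeg := SurfInt.CurvePos.deg_tensorPow (k := k) hdim.le hL (n + 1)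
  refine ⟨?_, inferInstance⟩
  rw [LinearMap.finrank_range_of_inj (kap_injective hL s₀ hη (n + 1)),
    ← (GlobalSections.h0Linear k (CohB1.tensorPow L (n + 1))).finrank_eq]
  have h := GenusOne.hdim_zero (k := k) hdim hg hn (by rw [hdeg]; push_cast; nlinarith)
  rw [hdeg] at h
  push_cast at h
  exact h

include hL hdim hg in
/-- Quadrics: the products of pairs of sections span. -/
theorem closure_two [Infinite k] (hd : 3 ≤ Curv2.deg k X L 1) :
    AddSubgroup.closure {z : Γ(CohB1.tensorPow L 2, ⊤) |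
      ∃ (w : Γ(CohB1.tensorPow L 1, ⊤)) (s : Γ(L, ⊤)),
        z = SecTwist.tmul (CohB1.tensorPow L 1) L ⊤ w s} = ⊤ := by
  classical
  haveI := GlobalSections.noetherianSpace_of_proper k X
  haveI := GlobalSections.isNoetherian_of_proper k X
  have hgg := GenusOne.isGloballyGenerated hdim hg hL (by omega)
  obtain ⟨x₀, hx₀, -⟩ := RegPoints.exists_regular_point (k := k) hdim
  obtain ⟨s₀, hs₀⟩ := RegPoints.exists_section_avoid (k := k) hL hgg {x₀} (Set.finite_singleton x₀)
  have hloc : ∀ (t : Γ(L, ⊤)) (x : X) (hx : IsClosed ({x} : Set X)),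
      (PointIdeal.evQ hx L).app ⊤ t ≠ 0 → x ∈ locus t := fun t x hx h =>
    mem_locus_of_span hL t (((PointIdeal.span_or_app_eq_zero hx hL t).resolve_right h) x (specializes_refl x))
  have hU0 : x₀ ∈ locus s₀ := hloc s₀ x₀ hx₀ (hs₀ x₀ hx₀ rfl)
  let U := locus s₀
  have hη : genericPoint X ∈ U := (genericPoint_specializes x₀).mem_open U.2 hU0
  have hFin : ((U : Set X)ᶜ).Finite := Birational.finite_compl (k := k) (X ↘ Spec (CommRingCat.of k))
    hdim.le U.2 (U.2.dense ⟨_, hU0⟩)
  obtain ⟨s₁, hs₁⟩ := RegPoints.exists_section_avoid (k := k) hL hgg (insert x₀ (U : Set X)ᶜ) (hFin.insert x₀)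
  have hcov : ∀ x : X, x ∈ U ∨ x ∈ locus s₁ := fun x => by
    refine or_iff_not_imp_left.mpr fun hx => ?_
    have hxc : IsClosed ({x} : Set X) :=
      (SmoothCurve.Curve.eq_genericPoint_or_isClosed hdim x).resolve_left fun e => hx (e ▸ hη)
    exact hloc s₁ x hxc (hs₁ x hxc (Set.mem_insert_of_mem _ hx))
  have hV0 : x₀ ∈ locus s₁ := hloc s₁ x₀ hx₀ (hs₁ x₀ hx₀ (Set.mem_insert _ _))
  let V := locus s₁
  obtain ⟨a₁, ha₁⟩ := exists_coord (isGen_locus s₀) (gl s₁ U)
  let f : X.functionField := X.presheaf.germ U (genericPoint X) hη a₁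
  have hf0 : f ≠ 0 := fun h0 => by
    have : a₁ = 0 := germ_injective_of_isIntegral X _ hη (h0.trans (map_zero _).symm)
    have hxU := (locus_inf_eq (isGen_locus s₀) ha₁).le ⟨hV0, hU0⟩
    rw [this, Scheme.basicOpen_zero] at hxU
    exact hxU
  letI m1 := GlobalSections.secModule k (CohB1.tensorPow L 1)
  letI m2 := GlobalSections.secModule k (CohB1.tensorPow L 2)
  let e1 := leftUnit L
  -- `L` inside the first power
  let up : Γ(L, ⊤) → Γ(CohB1.tensorPow L 1, ⊤) := fun s => e1.inv.app ⊤ s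
  have hup : ∀ (s : Γ(L, ⊤)) (b : Γ(X, U)), gl s U = b • gl s₀ U → coef s₀ 1 (up s) = b := fun s b hb => by
    refine coef_eq s₀ ?_
    apply (bijective_app_of_isIso (inferInstance : IsIso (e1.hom.app U))).1
    refine (ProjMor.Sec.app_gl e1.hom _ _).trans ?_
    rw [show e1.hom.app ⊤ (up s) = s by
      change e1.hom.app ⊤ (e1.inv.app ⊤ s) = s
      rw [← CategoryTheory.comp_apply, ← Scheme.Modules.Hom.comp_app, Iso.inv_hom_id,
        Scheme.Modules.Hom.id_app, CategoryTheory.id_apply]]
    refine hb.trans (Eq.trans ?_ (e1.hom.app_smul (U := U) b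
      (pairM (𝟙 (CohB1.tensorMod (Coh.structureModule X) L)) (one X U) (gl s₀ U))).symm)
    congr 1
    rw [← pairM_comp, Category.id_comp, NormalGen.pairM_leftUnit, one_smul]
  have hfrom : ∀ (w : Γ(CohB1.tensorPow L 1, ⊤)) (b : Γ(X, U)),
      gl (e1.hom.app ⊤ w) U = b • gl s₀ U → coef s₀ 1 w = b := fun w b hb => by
    have := hup _ b hb
    rwa [show up (e1.hom.app ⊤ w) = w by
      change e1.inv.app ⊤ (e1.hom.app ⊤ w) = w
      rw [← CategoryTheory.comp_apply, ← Scheme.Modules.Hom.comp_app, Iso.hom_inv_id,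
        Scheme.Modules.Hom.id_app, CategoryTheory.id_apply]] at this
  let κ₁ := kap (k := k) s₀ hη 1
  let κ₂ := kap (k := k) s₀ hη 2
  let B := LinearMap.range κ₁
  let M2 := LinearMap.range κ₂
  have hone : coef s₀ 1 (up s₀) = 1 := hup s₀ 1 (one_smul _ _).symm
  have h1B : (1 : X.functionField) ∈ B := ⟨up s₀, by
    change X.presheaf.germ U _ hη (coef s₀ 1 (up s₀)) = 1
    rw [hone, map_one]⟩
  have hfB : f ∈ B := ⟨up s₁, by
    change X.presheaf.germ U _ hη (coef s₀ 1 (up s₁)) = f
    rw [hup s₁ a₁ ha₁]⟩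
  obtain ⟨d, hdd⟩ : ∃ d : ℕ, (d : ℤ) = Curv2.deg k X L 1 := ⟨(Curv2.deg k X L 1).toNat, by omega⟩
  obtain ⟨hB, hBf⟩ := finrank_range hL s₀ hη hdim hg (by omega) 0
  obtain ⟨hM, hMf⟩ := finrank_range hL s₀ hη hdim hg (by omega) 1
  haveI : FiniteDimensional k B := hBf
  haveI : FiniteDimensional k M2 := hMf
  have hB' : Module.finrank k B = d := by
    have h' : (Module.finrank k B : ℤ) = d := hB.trans (by rw [← hdd]; push_cast; ring)
    exact_mod_cast h'
  have hM' : Module.finrank k M2 = 2 * d := by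
    have h' : (Module.finrank k M2 : ℤ) = 2 * d := hM.trans (by rw [← hdd]; push_cast; ring)
    exact_mod_cast h'
  let P : Set ((CohB1.tensorPow L 2).val.obj (op ⊤) : Type u) := {z | ∃ (w : Γ(CohB1.tensorPow L 1, ⊤)) (s : Γ(L, ⊤)),
    z = SecTwist.tmul (CohB1.tensorPow L 1) L ⊤ w s}
  have hcs : ∀ (n : ℕ) (w : Γ(CohB1.tensorPow L n, ⊤)) (s : Γ(L, ⊤)) (b : Γ(X, U)),
      gl s U = b • gl s₀ U → kap (k := k) s₀ hη (n + 1) (SecTwist.tmul (CohB1.tensorPow L n) L ⊤ w s) =
        kap (k := k) s₀ hη n w * X.presheaf.germ U _ hη b := fun n w s b hb => by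
    change X.presheaf.germ U _ hη (coef s₀ (n + 1) _) = X.presheaf.germ U _ hη (coef s₀ n w) * _
    rw [coef_tmul s₀ n w s hb, map_mul]
  -- a product of coordinates is the coordinate of a product
  have hprod : ∀ (n : ℕ) (w : Γ(CohB1.tensorPow L n, ⊤)) (u : Γ(CohB1.tensorPow L 1, ⊤)),
      kap (k := k) s₀ hη (n + 1) (SecTwist.tmul (CohB1.tensorPow L n) L ⊤ w (e1.hom.app ⊤ u)) =
        kap (k := k) s₀ hη n w * κ₁ u := fun n w u => by
    obtain ⟨b, hb⟩ := exists_coord (isGen_locus s₀) (gl (e1.hom.app ⊤ u) U)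
    rw [hcs n w _ b hb]
    change _ = _ * X.presheaf.germ U _ hη (coef s₀ 1 u)
    rw [hfrom u b hb]
  have hW : QuadricRank.step f B ≤ M2 := by
    refine sup_le ?_ ?_
    · rintro _ ⟨w, rfl⟩
      exact ⟨SecTwist.tmul (CohB1.tensorPow L 1) L ⊤ w s₀, by
        rw [hcs 1 w s₀ 1 (one_smul _ _).symm, map_one, mul_one]⟩
    · rintro _ ⟨_, ⟨w, rfl⟩, rfl⟩
      exact ⟨SecTwist.tmul (CohB1.tensorPow L 1) L ⊤ w s₁, by
        rw [hcs 1 w s₁ a₁ ha₁, LinearMap.mulLeft_apply, mul_comm]⟩
  haveI : FiniteDimensional k (QuadricRank.step f B) := Submodule.finiteDimensional_of_le hW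
  -- the pencil: only the Koszul relation
  have hker : ∀ a ∈ B, ∀ b ∈ B, a + f * b = 0 → ∃ c : k, a = algebraMap k X.functionField c * f := by
    rintro _ ⟨w, rfl⟩ _ ⟨w', rfl⟩ h
    let t : Γ(L, ⊤) := e1.hom.app ⊤ w
    obtain ⟨b, hb⟩ := exists_coord (isGen_locus s₀) (gl t U)
    obtain ⟨b', hb'⟩ := exists_coord (isGen_locus s₀) (gl (e1.hom.app ⊤ w') U)
    change X.presheaf.germ U _ hη (coef s₀ 1 w) + f * X.presheaf.germ U _ hη (coef s₀ 1 w') = 0 at h
    rw [hfrom w b hb, hfrom w' b' hb', ← map_mul, ← map_add] at h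
    have hb0 : b = -(a₁ * b') :=
      eq_neg_of_add_eq_zero_left (germ_injective_of_isIntegral X _ hη (h.trans (map_zero _).symm))
    obtain ⟨a, ha⟩ := exists_coord (isGen_locus s₁) (gl t V)
    -- glue `-b'` and `a`
    let U' : Bool → X.Opens := fun i => cond i U V
    let F : ∀ i, Γ(X, U' i) := fun i => Bool.rec (show Γ(X, V) from a) (show Γ(X, U) from -b') i
    have hUt : gl t U = -b' • gl s₁ U := by
      rw [hb, ha₁, smul_smul, hb0, neg_mul, mul_comm]
    have hagree : ∀ (W : X.Opens) (hU' : W ≤ U) (hV' : W ≤ V),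
        X.presheaf.map (homOfLE hU').op (-b') = X.presheaf.map (homOfLE hV').op a := fun W hU' hV' => by
      refine (isGen_locus s₁ W hV').1 ?_
      change _ • rs L hV' (gl s₁ V) = _ • rs L hV' (gl s₁ V)
      rw [← rs_smul, ← ha, rs_gl, rs_gl, ← rs_gl hU' s₁, ← rs_smul, ← hUt, rs_gl]
    obtain ⟨g, hg', -⟩ := TopCat.Sheaf.existsUnique_gluing' X.sheaf U' ⊤ (fun i => homOfLE le_top)
      (fun y _ => Opens.mem_iSup.mpr ((hcov y).elim (fun h => ⟨true, h⟩) fun h => ⟨false, h⟩)) F
      fun i j => by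
        cases i <;> cases j
        · rfl
        · exact (hagree (V ⊓ U) inf_le_right inf_le_left).symm
        · exact hagree (U ⊓ V) inf_le_left inf_le_right
        · rfl
    -- constants
    letI : Algebra k Γ(X, ⊤) := RingHom.toAlgebra (S := Γ(X, ⊤)) (Coh.toGlobal (X ↘ Spec (CommRingCat.of k)))
    have hfr : Module.finrank k Γ(X, ⊤) = 1 := by
      letI := GlobalSections.secModule k (Coh.structureModule X)
      exact (GlobalSections.h0Linear k (Coh.structureModule X)).finrank_eq.symm.trans (GenusOne.h0_eq_one hg)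
    obtain ⟨c, hc⟩ := (finrank_eq_one_iff_of_nonzero' (1 : Γ(X, ⊤)) one_ne_zero).mp hfr g
    refine ⟨c, ?_⟩
    change X.presheaf.germ U _ hη (coef s₀ 1 w) = _
    have hgU : X.presheaf.map (homOfLE (le_top : U ≤ ⊤)).op g = -b' := hg' true
    rw [hfrom w b hb, hb0, ← mul_neg, map_mul, mul_comm, ← hgU, TopCat.Presheaf.germ_res_apply, ← hc,
      Algebra.smul_def, mul_one]
    rfl
  have hstep : 2 * d ≤ Module.finrank k (QuadricRank.step f B) + 1 := by
    let Φ : B × B →ₗ[k] X.functionField := B.subtype.coprod ((LinearMap.mulLeft k f).comp B.subtype)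
    have hr : LinearMap.range Φ = QuadricRank.step f B := by
      simp [Φ, LinearMap.range_coprod, LinearMap.range_comp, QuadricRank.step]
    have hk : Module.finrank k (LinearMap.ker Φ) ≤ 1 := by
      refine (Submodule.finrank_mono (t := Submodule.span k {((⟨f, hfB⟩ : B), -(⟨1, h1B⟩ : B))}) ?_).trans
        (by simpa using finrank_span_le_card (R := k) ({((⟨f, hfB⟩ : B), -(⟨1, h1B⟩ : B))} : Set (B × B)))
      rintro ⟨⟨a, ha⟩, ⟨b, hb⟩⟩ h
      have h' : a + f * b = 0 := h
      obtain ⟨c, hc⟩ := hker a ha b hb h'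
      refine Submodule.mem_span_singleton.mpr ⟨c, ?_⟩
      refine Prod.ext (Subtype.ext ?_) (Subtype.ext ?_)
      · change c • f = a
        rw [Algebra.smul_def, hc]
      · change c • (-(1 : X.functionField)) = b
        rw [Algebra.smul_def]
        refine mul_left_cancel₀ hf0 ?_
        rw [show f * b = -a from eq_neg_of_add_eq_zero_right h', hc]
        ring
    have h := Φ.finrank_range_add_finrank_ker
    rw [hr, Module.finrank_prod] at h
    omega
  -- the span of the products
  let S : Submodule k M2 := Submodule.comap M2.subtype (Submodule.map κ₂ (Submodule.span k P))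
  by_cases htop : Submodule.map κ₂ (Submodule.span k P) = M2
  · refine eq_top_iff.mpr fun z _ => ?_
    obtain ⟨y, hy, hyz⟩ := (htop.ge : M2 ≤ _) ⟨z, rfl⟩
    obtain rfl : y = z := kap_injective hL s₀ hη 2 hyz
    clear hyz
    revert hy
    intro hy
    clear * - hy
    induction hy using Submodule.span_induction with
    | mem v hv => exact AddSubgroup.subset_closure hv
    | zero => exact zero_mem _
    | add a b _ _ ha hb => exact add_mem ha hb
    | smul c v _ hv =>
    refine AddSubgroup.closure_induction (p := fun v _ => ((show Γ(X, ⊤) from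
      Coh.toGlobal (X ↘ Spec (CommRingCat.of k)) c) • v) ∈ AddSubgroup.closure P) (fun v hv => ?_)
      (Set.mem_of_eq_of_mem (smul_zero _) (zero_mem _))
      (fun a b _ _ ha hb => Set.mem_of_eq_of_mem (smul_add _ a b) (add_mem ha hb))
      (fun a _ ha => Set.mem_of_eq_of_mem (smul_neg _ a) (neg_mem ha)) hv
    obtain ⟨w, s, rfl⟩ := hv
    refine AddSubgroup.subset_closure ⟨w, (show Γ(X, ⊤) from Coh.toGlobal (X ↘ Spec (CommRingCat.of k)) c) • s, ?_⟩
    conv_rhs => rw [← one_smul Γ(X, ⊤) w, tmul_smul, one_mul]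
    rfl
  exfalso
  have hPM : Submodule.map κ₂ (Submodule.span k P) ≤ M2 := LinearMap.map_le_range
  have hBP : ∀ a ∈ B, ∀ b ∈ B, a * b ∈ Submodule.map κ₂ (Submodule.span k P) := by
    rintro _ ⟨w, rfl⟩ _ ⟨u, rfl⟩
    exact ⟨_, Submodule.subset_span ⟨w, _, rfl⟩, hprod 1 w u⟩
  have hsP : QuadricRank.step f B ≤ Submodule.map κ₂ (Submodule.span k P) := by
    refine sup_le (fun x hx => mul_one x ▸ hBP x hx 1 h1B) ?_
    rintro _ ⟨x, hx, rfl⟩
    exact hBP f hfB x hx
  haveI : FiniteDimensional k (Submodule.map κ₂ (Submodule.span k P)) := Submodule.finiteDimensional_of_le hPM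
  have hlt := Submodule.finrank_lt_finrank_of_lt (lt_of_le_of_ne hPM htop)
  have hle := Submodule.finrank_mono hsP
  have heq : QuadricRank.step f B = Submodule.map κ₂ (Submodule.span k P) :=
    Submodule.eq_of_le_of_finrank_le hsP (by omega)
  refine QuadricRank.false_of_products f B M2 (d := d) (by omega) h1B hfB (by omega)
    (fun a ha b hb => heq ▸ hBP a ha b hb) (by omega) hW (by omega) ?_ ?_
  -- the higher powers
  all_goals
    have hiter : ∀ n, (letI := GlobalSections.secModule k (CohB1.tensorPow L (n + 2))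
        LinearMap.range (kap (k := k) s₀ hη (n + 2))) =
        ((QuadricRank.step f)^[n] M2 : Submodule k X.functionField) := by
      intro n
      induction n with
      | zero => rfl
      | succ n ih =>
        letI := GlobalSections.secModule k (CohB1.tensorPow L (n + 2))
        letI := GlobalSections.secModule k (CohB1.tensorPow L (n + 1 + 2))
        rw [Function.iterate_succ_apply', ← ih]
        refine le_antisymm ?_ (sup_le ?_ ?_)
        · rintro _ ⟨z, rfl⟩
          let t : Fin 2 → Γ(L, ⊤) := ![s₀, s₁]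
          have hcv : ∀ x, ∃ i, x ∈ locus (t i) := fun x =>
            (hcov x).elim (fun h => ⟨0, h⟩) fun h => ⟨1, h⟩
          have hd1 : 1 ≤ Curv2.deg k X (CohB1.tensorPow L (n + 1)) 1 := by
            rw [SurfInt.CurvePos.deg_tensorPow (k := k) hdim.le hL]
            push_cast
            nlinarith
          obtain ⟨w, hw⟩ := SectionSurj.sections_eq_sum k (CohB1.tensorPow L (n + 1)) hcv
            (GGEmbed.vanish₂ (k := k) hdim.le)
            (GenusOne.subsingleton_h1 hdim hg (Invertible.isInvertible_tensorPow hL (n + 1)) hd1) z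
          rw [Fin.sum_univ_two] at hw
          refine (congrArg (kap (k := k) s₀ hη (n + 1 + 2)) hw).symm ▸ ?_
          refine Set.mem_of_eq_of_mem (map_add (kap (k := k) s₀ hη (n + 1 + 2)) _ _) (Submodule.add_mem _ ?_ ?_)
          · refine Submodule.mem_sup_left ⟨w 0, ?_⟩
            exact ((hcs (n + 2) (w 0) s₀ 1 (one_smul _ _).symm).trans (by rw [map_one, mul_one])).symm
          · refine Submodule.mem_sup_right ⟨_, ⟨w 1, rfl⟩, ?_⟩
            rw [LinearMap.mulLeft_apply, mul_comm]
            exact (hcs (n + 2) (w 1) s₁ a₁ ha₁).symm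
        · rintro _ ⟨w, rfl⟩
          exact ⟨SecTwist.tmul (CohB1.tensorPow L (n + 2)) L ⊤ w s₀,
            (hcs (n + 2) w s₀ 1 (one_smul _ _).symm).trans (by rw [map_one, mul_one])⟩
        · rintro _ ⟨_, ⟨w, rfl⟩, rfl⟩
          exact ⟨SecTwist.tmul (CohB1.tensorPow L (n + 2)) L ⊤ w s₁,
            (hcs (n + 2) w s₁ a₁ ha₁).trans (mul_comm _ _)⟩
  · rintro _ ⟨u, rfl⟩ _ ⟨w, rfl⟩
    change κ₁ u * κ₂ w ∈ ((QuadricRank.step f)^[1] M2 : Submodule k X.functionField)
    rw [← hiter 1, mul_comm]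
    exact ⟨_, hprod 2 w u⟩
  · intro n
    rw [← hiter n]
    have h := (finrank_range hL s₀ hη hdim hg (by omega) (n + 1)).1
    rw [← hdd] at h
    push_cast at h ⊢
    zify
    rw [h]
    ring

end Groth.Agent.Lib.Curves.GenusOneGen
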