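import Groth.Agent.Lib.Curves.PointIdeal

/-!
# Sections of an invertible module vanishing on a closed subscheme
-/

set_option autoImplicit false
universe u

open CategoryTheory CategoryTheory.Limits AlgebraicGeometry Opposite TopologicalSpace
open Groth.Agent.Lib.Curves.LES Groth.Agent.Lib.Curves.Euler Groth.Agent.Lib.TensorMod
  Groth.Agent.Lib.TensorMod.Basic Groth.Agent.Lib.TensorMod.Dual Groth.Agent.Lib.TensorMod.Gen
  Groth.Agent.Lib.TensorMod.HomGlue
  Groth.Agent.Lib.Modules

noncomputable section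

namespace Groth.Agent.Lib.Curves.IdealEval

variable {X : Scheme.{u}} (I : X.IdealSheafData)

/-- Evaluation on the closed subscheme. -/
def evI (L : X.Modules) : L ⟶ CohB1.tensorMod (ClSub.quotMod I) L :=
  (leftUnit L).inv ≫ tmap (ClSub.toSubscheme I) (𝟙 L)

/-- A section which is locally in `I • L` maps to zero. -/
theorem app_eq_zero {L : X.Modules} (hL : PicF.IsInvertible L) (t : Γ(L, ⊤))
    (h : ∀ y ∈ (I.support : Set X), ∃ (V : X.affineOpens) (e : Γ(L, V.1)) (a : Γ(X, V.1)),
      y ∈ V.1 ∧ IsGen L V.1 e ∧ a ∈ I.ideal V ∧ rs L le_top t = a • e) :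
    (evI I L).app ⊤ t = 0 := by
  refine Support.eq_zero_of_germ_eq_zero _ fun z hz hzs => ?_
  rw [CurveBundle.Twist.support_twist hL, ClSub.Quot.support_quotMod] at hzs
  obtain ⟨V, e, a, hzV, he, ha, hta⟩ := h z hzs
  obtain ⟨i⟩ := exists_iso_of_gen he
  obtain ⟨ε, hε⟩ := CurveBundle.Twist.exists_sections_equiv
    (CurveBundle.Twist.localIso i (ClSub.quotMod I)) V.1 le_rfl
  let m := (evI I L).app V.1 e
  have h0 : a • m = 0 := ε.injective (by
    rw [hε, map_zero]
    have h1 : I.subschemeι.app V.1 a = 0 := by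
      rw [← I.ker_subschemeι_app V] at ha
      exact ha
    change I.subschemeι.app V.1 a * (show Γ(I.subscheme, I.subschemeι ⁻¹ᵁ V.1) from ε m) = 0
    rw [h1, zero_mul])
  have h2 : rs (CohB1.tensorMod (ClSub.quotMod I) L) (le_top : V.1 ≤ ⊤) ((evI I L).app ⊤ t) = 0 := by
    rw [rs_app, hta, Scheme.Modules.Hom.app_smul]
    exact h0
  rw [← TopCat.Presheaf.germ_res_apply (CohB1.tensorMod (ClSub.quotMod I) L).presheaf
    (homOfLE (le_top : V.1 ≤ ⊤)) z hzV]
  exact (congrArg _ h2).trans (map_zero _)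

/-- Restriction of a module supported in a closed set to a neighbourhood of it. -/
lemma bijective_res {M : X.Modules} {S : Set X} (hS : IsClosed S) (hM : CohB1.support M ⊆ S)
    {U : X.Opens} (hSU : S ⊆ U) :
    Function.Bijective (fun t : Γ(M, ⊤) => (show Γ(M, U) from M.presheaf.map (homOfLE le_top).op t)) := by
  refine ⟨fun t t' h => ?_, fun s => ?_⟩
  · rw [← sub_eq_zero]
    refine Support.eq_zero_of_germ_eq_zero _ fun z _ hz => ?_
    have hzU : z ∈ U := hSU (hM hz)
    rw [map_sub, sub_eq_zero,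
      ← TopCat.Presheaf.germ_res_apply M.presheaf (homOfLE (le_top : U ≤ ⊤)) z hzU t,
      ← TopCat.Presheaf.germ_res_apply M.presheaf (homOfLE (le_top : U ≤ ⊤)) z hzU t']
    exact congrArg _ h
  · let U' : Bool → X.Opens := fun b => cond b U ⟨Sᶜ, hS.isOpen_compl⟩
    let f : ∀ b, Γ(M, U' b) := fun b => Bool.rec (0 : Γ(M, U' false)) s b
    have hz : ∀ (W : X.Opens), (W : Set X) ⊆ Sᶜ → ∀ m : Γ(M, W), m = 0 := fun W hW m =>
      Support.eq_zero_of_germ_eq_zero m fun z hz hzs => absurd (hM hzs) (hW hz)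
    obtain ⟨t, ht, -⟩ := TopCat.Sheaf.existsUnique_gluing' (⟨M.presheaf, M.isSheaf⟩ : TopCat.Sheaf _ X)
      U' ⊤ (fun b => homOfLE le_top) (fun y _ => Opens.mem_iSup.mpr (by
        by_cases hy : y ∈ S
        · exact ⟨true, hSU hy⟩
        · exact ⟨false, hy⟩)) f fun a b => by
        cases a <;> cases b
        · rfl
        · exact (hz (U' false ⊓ U' true) (fun y hy => hy.1) _).trans
            (hz (U' false ⊓ U' true) (fun y hy => hy.1) _).symm
        · exact (hz (U' true ⊓ U' false) (fun y hy => hy.2) _).trans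
            (hz (U' true ⊓ U' false) (fun y hy => hy.2) _).symm
        · rfl
    exact ⟨t, ht true⟩

variable {k : Type u} [Field k] [X.Over (Spec (CommRingCat.of k))]

lemma exact_incl {L : X.Modules} (hL : PicF.IsInvertible L) :
    Function.Exact (mapK k (IdealTwist.incl I L) 0) (mapK k (evI I L) 0) := by
  have h : Function.Exact (mapK k (tmap (ClSub.idealModι I) (𝟙 L)) 0)
      (mapK k (tmap (ClSub.toSubscheme I) (𝟙 L)) 0) :=
    exactK₂ k (CurveBundle.Twist.shortExact hL (ClSub.Quot.idealSeq_shortExact I)) 0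
  intro y
  rw [IdealTwist.incl, evI, mapK_comp, mapK_comp, LinearMap.comp_apply, h]
  refine ⟨fun ⟨a, ha⟩ => ⟨a, ?_⟩, fun ⟨a, ha⟩ => ⟨a, ?_⟩⟩
  · rw [LinearMap.comp_apply, ha, ← LinearMap.comp_apply, ← mapK_comp, Iso.inv_hom_id, mapK_id]
    rfl
  · rw [← ha, LinearMap.comp_apply, ← LinearMap.comp_apply, ← mapK_comp, Iso.hom_inv_id, mapK_id]
    rfl

variable [IsProper (X ↘ Spec (CommRingCat.of k))]

/-- A space of sections vanishing on the subscheme bounds `h⁰(I ⊗ L)` below. -/
theorem finrank_le_hdim (hdim : topologicalKrullDim X ≤ 1) {L : X.Modules} (hL : PicF.IsInvertible L) :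
    letI := GlobalSections.secModule k L
    ∀ W : Submodule k (L.val.obj (op ⊤) : Type u), (∀ t ∈ W, (evI I L).app ⊤ t = 0) →
      Module.finrank k W ≤ Euler.hdim k X (CohB1.tensorMod (ClSub.idealMod I) L) 0 := by
  letI := GlobalSections.secModule k L
  intro W hW
  have := (IdealTwist.mono_incl I hL)
  have := (Degree.isGood (k := k) hdim hL).fin₀
  have hinj := mapK_injective_of_mono k (IdealTwist.incl I L)
  have : Module.Finite k (L.val.obj (op ⊤) : Type u) :=
    Module.Finite.equiv (GlobalSections.h0Linear k L)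
  have hle : W.map (GlobalSections.h0Linear k L).symm.toLinearMap ≤
      LinearMap.range (mapK k (IdealTwist.incl I L) 0) := by
    rintro _ ⟨t, ht, rfl⟩
    refine LinearMap.mem_range.mpr ((exact_incl I hL _).mp ?_)
    apply (GlobalSections.h0Equiv (CohB1.tensorMod (ClSub.quotMod I) L)).injective
    rw [map_zero]
    refine (Sheaf.H.equiv₀_naturality (F := Coh.toAb L)
      (G := Coh.toAb (CohB1.tensorMod (ClSub.quotMod I) L)) (isTerminalTop (α := Opens X))
      (toAbMap (evI I L)) _).symm.trans ?_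
    exact (congrArg ((evI I L).app ⊤) ((GlobalSections.h0Linear k L).apply_symm_apply t)).trans (hW t ht)
  calc Module.finrank k W
      = Module.finrank k (W.map (GlobalSections.h0Linear k L).symm.toLinearMap) :=
        (LinearEquiv.finrank_map_eq (GlobalSections.h0Linear k L).symm W).symm
    _ ≤ Module.finrank k (LinearMap.range (mapK k (IdealTwist.incl I L) 0)) :=
        Submodule.finrank_mono hle
    _ = _ := LinearMap.finrank_range_of_inj hinj

end Groth.Agent.Lib.Curves.IdealEval
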