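import Groth.Agent.Lib.Curves.HurwitzLocal
import Groth.Agent.Lib.Curves.IdealEval

/-!
# The Hurwitz inequality for separable covers of normal curves
-/

set_option autoImplicit false
set_option linter.style.haveILetI false
universe u

open CategoryTheory CategoryTheory.Limits AlgebraicGeometry TopologicalSpace Opposite

noncomputable section

attribute [local instance] Curv2.resAlgebra FractionRing.liftAlgebra FractionRing.isScalarTower_liftAlgebra

namespace Groth.Agent.Lib.Curves.Hurwitz

open Groth.Agent.Lib Groth.Agent.Lib.CurveBundle Groth.Agent.H81.FinCovTrace HurwitzLocal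

section Partition

variable {k : Type u} [Field k] {Y : Scheme.{u}} [Y.Over (Spec (CommRingCat.of k))]

theorem h0_eq_secDim (M : Y.Modules) : Euler.hdim k Y M 0 = secDim k M ⊤ := by
  letI inst₁ := GlobalSections.secModule k M
  refine (GlobalSections.h0Linear k M).finrank_eq.trans ?_
  have hk : ∀ a, kHom k (⊤ : Y.Opens) a = Coh.toGlobal (Y ↘ Spec (CommRingCat.of k)) a := fun a => by
    change Y.presheaf.map (𝟙 (op ⊤)) _ = _
    rw [CategoryTheory.Functor.map_id]
    rfl
  letI inst₂ := kModule k M (⊤ : Y.Opens)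
  let e : (M.val.obj (op ⊤) : Type u) ≃ₗ[k] Γ(M, ⊤) :=
    { toFun := fun m => m
      invFun := fun m => m
      left_inv := fun _ => rfl
      right_inv := fun _ => rfl
      map_add' := fun _ _ => rfl
      map_smul' := fun a (m : Γ(M, ⊤)) => (congrArg (· • m) (hk a)).symm }
  exact e.finrank_eq

theorem secDim_eq_zero {M : Y.Modules} {V : Y.Opens} (h : ∀ z ∈ V, z ∉ CohB1.support M) :
    secDim k M V = 0 := by
  letI := kModule k M V
  haveI : Subsingleton Γ(M, V) := subsingleton_of_forall_eq 0 fun s =>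
    Modules.Support.eq_zero_of_germ_eq_zero s fun z hz hzs => absurd hzs (h z hz)
  exact Module.finrank_zero_of_subsingleton

/-- Sections of a module with finite support decompose over neighbourhoods of the points. -/
theorem secDim_eq_sum {M : Y.Modules} (s : Finset Y) (hs : ∀ z ∈ CohB1.support M, z ∈ s)
    (hcl : IsClosed (CohB1.support M)) (V : Y → Y.Opens)
    (hV : ∀ y ∈ s, y ∈ V y ∧ ∀ z ∈ V y, z ∈ CohB1.support M → z = y)
    (hfin : ∀ y ∈ s, letI := kModule k M (V y); Module.Finite k Γ(M, V y)) :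
    secDim k M ⊤ = ∑ y ∈ s, secDim k M (V y) := by
  classical
  letI := kModule k M (⊤ : Y.Opens)
  letI : ∀ y : {y // y ∈ s}, Module k Γ(M, V y.1) := fun y => kModule (X := Y) k M (V y.1)
  haveI : ∀ y : {y // y ∈ s}, Module.Finite k Γ(M, V y.1) := fun y => hfin y.1 y.2
  let Φ : Γ(M, ⊤) →ₗ[k] ((y : {y // y ∈ s}) → Γ(M, V y.1)) :=
    { toFun := fun t y => M.presheaf.map (homOfLE le_top).op t
      map_add' := fun t t' => funext fun y => map_add _ _ _
      map_smul' := fun a t => funext fun y => by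
        change M.presheaf.map (homOfLE le_top).op (kHom k (⊤ : Y.Opens) a • t) = kHom k (V y.1) a • _
        rw [← res_kHom (le_top : V y.1 ≤ ⊤) a]
        exact TensorMod.Dual.rs_smul M le_top _ t }
  have hbij : Function.Bijective Φ := by
    refine ⟨(injective_iff_map_eq_zero _).mpr fun t ht => ?_, fun t => ?_⟩
    · refine Modules.Support.eq_zero_of_germ_eq_zero _ fun z _ hz => ?_
      obtain ⟨hzV, -⟩ := hV z (hs z hz)
      rw [← TopCat.Presheaf.germ_res_apply M.presheaf (homOfLE (le_top : V z ≤ ⊤)) z hzV t]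
      exact (congrArg _ (congrFun ht ⟨z, hs z hz⟩)).trans (map_zero _)
    · let W : Y.Opens := ⟨(CohB1.support M)ᶜ, hcl.isOpen_compl⟩
      have hz : ∀ (U : Y.Opens), (∀ z ∈ U, z ∉ CohB1.support M) → ∀ m m' : Γ(M, U), m = m' :=
        fun U hU m m' => sub_eq_zero.mp
          (Modules.Support.eq_zero_of_germ_eq_zero _ fun z hz' hzs => absurd hzs (hU z hz'))
      let U' : Option {y // y ∈ s} → Y.Opens := fun o => o.elim W fun y => V y.1
      let g : ∀ o, Γ(M, U' o) := fun o => Option.rec (0 : Γ(M, U' none)) (fun y => t y) o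
      obtain ⟨r, hr, -⟩ := TopCat.Sheaf.existsUnique_gluing' (⟨M.presheaf, M.isSheaf⟩ : TopCat.Sheaf _ Y)
        U' ⊤ (fun o => homOfLE le_top) (fun z _ => Opens.mem_iSup.mpr (by
          by_cases hzM : z ∈ CohB1.support M
          · exact ⟨some ⟨z, hs z hzM⟩, (hV z (hs z hzM)).1⟩
          · exact ⟨none, hzM⟩)) g fun a b => by
          by_cases hab : a = b
          · subst hab; rfl
          · refine hz (U' a ⊓ U' b) (fun z ⟨hza, hzb⟩ hzM => ?_) _ _
            rcases a with _ | a
            · exact hza hzM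
            rcases b with _ | b
            · exact hzb hzM
            exact hab (congrArg some (Subtype.ext
              (((hV a.1 a.2).2 z hza hzM).symm.trans ((hV b.1 b.2).2 z hzb hzM))))
      exact ⟨r, funext fun y => hr (some y)⟩
  rw [secDim, (LinearEquiv.ofBijective Φ hbij).finrank_eq, Module.finrank_pi_fintype,
    ← Finset.sum_coe_sort s]
  rfl

end Partition

variable {k : Type u} [Field k] {X Y : Scheme.{u}} [X.Over (Spec (CommRingCat.of k))]
  [Y.Over (Spec (CommRingCat.of k))] [IsProper (X ↘ Spec (CommRingCat.of k))]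
  [IsProper (Y ↘ Spec (CommRingCat.of k))] [IsIntegral X] [IsIntegral Y]

theorem isClosed_point (f : X ⟶ Y) [IsFinite f] {x : X} (hc : IsClosed ({f x} : Set Y)) :
    IsClosed ({x} : Set X) := by
  have hpre : IsClosed (f ⁻¹' {f x}) := hc.preimage f.continuous
  haveI : DiscreteTopology ↥(f ⁻¹' {f x}) :=
    isDiscrete_iff_discreteTopology.mp (f.isDiscrete_preimage_singleton (f x))
  have h1 := hpre.isClosedEmbedding_subtypeVal.isClosedMap {⟨x, rfl⟩} (isClosed_discrete _)
  rwa [Set.image_singleton] at h1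

omit [X.Over (Spec (CommRingCat.of k))] [IsProper (X ↘ Spec (CommRingCat.of k))] in
/-- The degree is the rank of the direct image. -/
theorem finrank_eq_gr [hC : Degree.CurveCtx k Y] (f : X ⟶ Y) [IsFinite f]
    (hdom : f (genericPoint X) = genericPoint Y) :
    (letI := ((Y.presheaf.stalkSpecializes (specializes_of_eq hdom) ≫ f.stalkMap (genericPoint X)).hom).toAlgebra
    Module.finrank Y.functionField X.functionField) = Degree.gr k (TraceDual.alg f).toModule := by
  haveI := hC.locNoeth
  obtain ⟨U, hU, ⟨i⟩⟩ := Degree.rank_gr k (TraceDual.isCoh f) (TraceDual.isTorsionFree f hdom) (genericPoint Y)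
  obtain ⟨e, he⟩ := TensorMod.Basis.exists_basis_of_iso i
  obtain ⟨V, hV, hηV, hVU⟩ := exists_isAffineOpen_mem_and_subset hU
  obtain ⟨b, -⟩ := H81.FinCovTrace.exists_basis (TraceDual.alg f) he hVU
  haveI : Nonempty V := ⟨⟨_, hηV⟩⟩
  have hη' : genericPoint X ∈ f ⁻¹ᵁ V := show f (genericPoint X) ∈ V from hdom ▸ hηV
  haveI : Nonempty (f ⁻¹ᵁ V : X.Opens) := ⟨⟨_, hη'⟩⟩
  letI algKL : Algebra Y.functionField X.functionField :=
    ((Y.presheaf.stalkSpecializes (specializes_of_eq hdom) ≫ f.stalkMap (genericPoint X)).hom).toAlgebra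
  haveI := functionField_isFractionRing_of_isAffineOpen Y V hV
  letI : Algebra (ASec (TraceDual.alg f) V) X.functionField :=
    inferInstanceAs (Algebra Γ(X, f ⁻¹ᵁ V) X.functionField)
  haveI : IsFractionRing (ASec (TraceDual.alg f) V) X.functionField :=
    functionField_isFractionRing_of_isAffineOpen X (f ⁻¹ᵁ V) (hV.preimage f)
  letI algAL : Algebra Γ(Y, V) X.functionField :=
    ((algebraMap Y.functionField X.functionField).comp (algebraMap Γ(Y, V) Y.functionField)).toAlgebra
  haveI : IsScalarTower Γ(Y, V) Y.functionField X.functionField := .of_algebraMap_eq' rfl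
  haveI : IsScalarTower Γ(Y, V) (ASec (TraceDual.alg f) V) X.functionField :=
    .of_algebraMap_eq fun a => by
      change f.stalkMap (genericPoint X) (Y.presheaf.stalkSpecializes (specializes_of_eq hdom)
        (Y.presheaf.germ V (genericPoint Y) hηV a)) = X.presheaf.germ (f ⁻¹ᵁ V) (genericPoint X) hη' (f.app V a)
      rw [TopCat.Presheaf.germ_stalkSpecializes_apply]
      exact Scheme.Hom.germ_stalkMap_apply f V (genericPoint X) hη' a
  rw [IsFractionRing.finrank_eq Γ(Y, V) Y.functionField (ASec (TraceDual.alg f) V) X.functionField,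
    Module.finrank_eq_card_basis b, Fintype.card_fin]

open Classical in
/-- The Hurwitz inequality, with equality exactly for tame covers. -/
theorem hurwitz (hdX : topologicalKrullDim X = 1) (hdY : topologicalKrullDim Y = 1)
    (hnX : Pi1.IsNormalScheme X) (hnY : Pi1.IsNormalScheme Y) (f : X ⟶ Y) [IsFinite f]
    (hf : f ≫ (Y ↘ Spec (CommRingCat.of k)) = X ↘ Spec (CommRingCat.of k))
    (hdom : f (genericPoint X) = genericPoint Y)
    (hsep : letI := ((Y.presheaf.stalkSpecializes (specializes_of_eq hdom) ≫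
        f.stalkMap (genericPoint X)).hom).toAlgebra
      Algebra.IsSeparable Y.functionField X.functionField) :
    ∃ n : ℕ, (letI := ((Y.presheaf.stalkSpecializes (specializes_of_eq hdom) ≫
        f.stalkMap (genericPoint X)).hom).toAlgebra
      Module.finrank Y.functionField X.functionField) = n ∧
      (∑ᶠ x : X, if IsClosed ({x} : Set X) then
          ((ram f x - 1 : ℕ) : ℤ) * (Module.finrank k (X.residueField x) : ℤ) else 0) ≤
        2 * (n : ℤ) * Curv2.euler k Y (Coh.structureModule Y) - 2 * Curv2.euler k X (Coh.structureModule X) ∧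
      ((∑ᶠ x : X, if IsClosed ({x} : Set X) then
          ((ram f x - 1 : ℕ) : ℤ) * (Module.finrank k (X.residueField x) : ℤ) else 0) =
        2 * (n : ℤ) * Curv2.euler k Y (Coh.structureModule Y) - 2 * Curv2.euler k X (Coh.structureModule X) ↔
        ∀ x : X, IsClosed ({x} : Set X) → Tame f x) := by
  have hH := CurveFF.curveHyp_of_isNormalScheme k hdY hnY
  have hY : ∀ y : Y, IsPrincipalIdealRing (Y.presheaf.stalk y) := fun y => by
    by_cases hy : IsClosed ({y} : Set Y)
    · haveI := hH.dvr y hy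
      infer_instance
    · haveI := GlobalSections.noetherianSpace_of_proper k Y
      rcases H34.DimOne.isClosed_or_component hdY.le y with h | h
      · exact absurd h hy
      · rw [irreducibleComponents_eq_singleton, Set.mem_singleton_iff] at h
        obtain rfl : y = genericPoint Y :=
          ((isGenericPoint_def.mpr h : IsGenericPoint y Set.univ)).eq (genericPoint_spec Y)
        letI : Field (Y.presheaf.stalk (genericPoint Y)) := inferInstanceAs (Field Y.functionField)
        infer_instance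
  haveI hC := TraceBound.curveCtx (k := k) hdY.le hY
  obtain ⟨hc, ht, hlf, hpos, he⟩ := TraceBound.euler_eq f hf hdom
  refine ⟨_, finrank_eq_gr (k := k) f hdom, ?_⟩
  haveI := hC.locNoeth
  haveI := hC.noethSpace
  haveI := LocallyOfFiniteType.isLocallyNoetherian (X ↘ Spec (CommRingCat.of k))
  obtain ⟨τ, hτ, -⟩ := existsUnique_trace (TraceDual.alg f) hlf
  haveI hmono : Mono (TraceDual.adj (TraceDual.alg f) τ) :=
    TraceDual.mono_adj (TraceDual.alg f) τ hlf hτ fun V hV hs => by
      by_cases hne : Nonempty V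
      · haveI := hne
        haveI : Nonempty (f ⁻¹ᵁ V : X.Opens) := ⟨⟨_, show f (genericPoint X) ∈ V from hdom ▸
          ((genericPoint_spec Y).mem_open_set_iff V.2).mpr ⟨_, Set.mem_univ _, (Classical.arbitrary V).2⟩⟩⟩
        haveI : IsDomain (ASec (TraceDual.alg f) V) := inferInstanceAs (IsDomain Γ(X, f ⁻¹ᵁ V))
        haveI : Module.IsTorsionFree Γ(Y, V) (ASec (TraceDual.alg f) V) :=
          Module.isTorsionFree_iff_smul_eq_zero.mpr fun r m h => by
            rw [Algebra.smul_def, mul_eq_zero] at h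
            exact h.imp_left fun h => CurveFF.Dominant.app_injective hdom V (h.trans (map_zero _).symm)
        haveI := isSeparable_fractionRing f hdom hsep hV
        obtain ⟨h1, h2⟩ := free_of_small (TraceDual.alg f) hs
        exact TraceBound.traceForm_injective Γ(Y, V) (ASec (TraceDual.alg f) V) (FractionRing Γ(Y, V))
          (FractionRing (ASec (TraceDual.alg f) V))
      · haveI : Subsingleton (ASec (TraceDual.alg f) V) := by
          have : f ⁻¹ᵁ V = ⊥ := eq_bot_iff.mpr fun x hx => (hne ⟨⟨f x, hx⟩⟩).elim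
          change Subsingleton Γ(X, f ⁻¹ᵁ V)
          rw [this]; infer_instance
        exact Function.injective_of_subsingleton _
  -- the cokernel
  let a := TraceDual.adj (TraceDual.alg f) τ
  have hDc : Coh.IsCoh (TensorMod.Dual.dual (TraceDual.alg f).toModule) :=
    CohBasics.Closure.isCoh_of_iso (RefHull.DualComp.dualIso _) (RefHull.Reflexive.isCoh_dual hc)
  obtain ⟨hgD, hdD⟩ := DualDeg.dg_dual (k := k) hc ht
  rw [Degree.gr_congr k (RefHull.DualComp.dualIso _)] at hgD
  rw [Degree.dg_congr k (RefHull.DualComp.dualIso _)] at hdD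
  obtain ⟨hQc, hQg, hQd⟩ := Degree.cokernel_ses k a hc hDc
  have hg0 : Degree.gr k (cokernel a) = 0 := by omega
  have hgen : Subsingleton ((cokernel a).presheaf.stalk (genericPoint Y)) :=
    Rank.subsingleton_of_grank_eq_zero hQc hg0
  have hQeq : (secDim k (cokernel a) ⊤ : ℤ) = -2 * Degree.dg k (TraceDual.alg f).toModule := by
    rw [← h0_eq_secDim, Euler.hdim, ← (Degree.isTorsion k hgen).euler hdY.le,
      show Curv2.euler k Y (cokernel a) = Degree.dg k (cokernel a) by
        rw [Degree.dg, show Rank.grank (cokernel a) = 0 from hg0, Nat.cast_zero, zero_mul, sub_zero]]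
    linarith
  obtain ⟨hfs, hsc⟩ := Twist.finite_support hdY.le hQc (Modules.Support.not_mem_support_iff.mpr hgen)
  haveI := hQc.2
  have hcls := Modules.Support.isClosed_support (cokernel a)
  let S := hfs.toFinset
  -- good neighbourhoods
  have hnb : ∀ y : Y, IsClosed ({y} : Set Y) → ∃ V : Y.Opens, IsAffineOpen V ∧ Small (TraceDual.alg f) V ∧
      y ∈ V ∧ ∀ z ∈ V, z ∈ CohB1.support (cokernel a) → z = y := by
    intro y hy
    have hT : IsClosed (CohB1.support (cokernel a) \ {y}) := by
      rw [← Set.biUnion_of_singleton (CohB1.support (cokernel a) \ {y})]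
      exact hfs.diff.isClosed_biUnion fun z hz => hsc z hz.1
    obtain ⟨T, hyT, hTs⟩ := exists_small (TraceDual.alg f) hlf y
    obtain ⟨V, hV, hyV, hVT⟩ := exists_isAffineOpen_mem_and_subset
      (show y ∈ (⟨_, hT.isOpen_compl⟩ : Y.Opens) ⊓ T from ⟨fun h => h.2 rfl, hyT⟩)
    exact ⟨V, hV, hTs.mono _ fun z hz => (hVT hz).2, hyV,
      fun z hz hzs => by_contra fun hne => (hVT hz).1 ⟨hzs, hne⟩⟩
  choose V hVa hVs hyV hVsupp using hnb
  have hfibfin : ∀ y : Y, IsClosed ({y} : Set Y) → (f ⁻¹' {y}).Finite := fun y hy => by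
    haveI := GlobalSections.noetherianSpace_of_proper k X
    haveI : DiscreteTopology ↥(f ⁻¹' {y}) :=
      isDiscrete_iff_discreteTopology.mp (f.isDiscrete_preimage_singleton y)
    haveI : CompactSpace ↥(f ⁻¹' {y}) := isCompact_iff_compactSpace.mp (hy.preimage f.continuous).isCompact
    exact Set.finite_coe_iff.mp finite_of_compact_of_discrete
  have hclim : ∀ x : X, IsClosed ({x} : Set X) → IsClosed ({f x} : Set Y) := fun x hx => by
    have h := f.isClosedMap _ hx
    rwa [Set.image_singleton] at h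
  let fib : Y → Finset X := fun y => if hy : IsClosed ({y} : Set Y) then (hfibfin y hy).toFinset else ∅
  have hfib : ∀ y (hy : IsClosed ({y} : Set Y)) (x : X), x ∈ fib y ↔ f x = y := fun y hy x => by
    simp [fib, dif_pos hy]
  have loc : ∀ y (hy : IsClosed ({y} : Set Y)),
      (∑ x ∈ fib y, wt k f x) ≤ secDim k (cokernel a) (V y hy) ∧
      ((∑ x ∈ fib y, wt k f x) = secDim k (cokernel a) (V y hy) ↔ ∀ x ∈ fib y, Tame f x) ∧
      (letI := kModule k (cokernel a) (V y hy); Module.Finite k Γ(cokernel a, V y hy)) :=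
    fun y hy => local_bound f hf hdom hdX hdY hnX hnY hsep hτ (hVa y hy) (hVs y hy) (hyV y hy) hy
      (hVsupp y hy) (fib y) (hfib y hy)
  have hout : ∀ y (hy : IsClosed ({y} : Set Y)), y ∉ S → ∀ x ∈ fib y, wt k f x = 0 ∧ Tame f x := by
    intro y hy hyS x hx
    obtain ⟨h1, h2, -⟩ := loc y hy
    have h0 : secDim k (cokernel a) (V y hy) = 0 := secDim_eq_zero fun z hz hzs =>
      hyS (hfs.mem_toFinset.mpr (hVsupp y hy z hz hzs ▸ hzs))
    rw [h0, Nat.le_zero] at h1
    exact ⟨(Finset.sum_eq_zero_iff.mp h1) x hx, h2.mp (h1.trans h0.symm) x hx⟩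
  have hSc : ∀ y ∈ S, IsClosed ({y} : Set Y) := fun y hy => hsc y (hfs.mem_toFinset.mp hy)
  let V' : Y → Y.Opens := fun y => if hy : IsClosed ({y} : Set Y) then V y hy else ⊤
  have hV' : ∀ y (hy : IsClosed ({y} : Set Y)), V' y = V y hy := fun y hy => dif_pos hy
  have hsum := secDim_eq_sum (k := k) (M := cokernel a) S (fun z hz => hfs.mem_toFinset.mpr hz) hcls V'
    (fun y hy => by rw [hV' y (hSc y hy)]; exact ⟨hyV y _, hVsupp y _⟩)
    (fun y hy => by rw [hV' y (hSc y hy)]; exact (loc y _).2.2)
  -- the ramification sum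
  have hdisj : (S : Set Y).PairwiseDisjoint fib := fun y hy z hz hne => by
    rw [Function.onFun, Finset.disjoint_left]
    intro x hxy hxz
    exact hne (((hfib y (hSc y hy) x).mp hxy).symm.trans ((hfib z (hSc z hz) x).mp hxz))
  have hS : (∑ᶠ x : X, if IsClosed ({x} : Set X) then
      ((ram f x - 1 : ℕ) : ℤ) * (Module.finrank k (X.residueField x) : ℤ) else 0) =
      ((∑ y ∈ S, ∑ x ∈ fib y, wt k f x : ℕ) : ℤ) := by
    rw [finsum_eq_sum_of_support_subset _ (s := S.biUnion fib) fun x hx => ?_, Finset.sum_biUnion hdisj,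
      Nat.cast_sum]
    · refine Finset.sum_congr rfl fun y hy => ?_
      rw [Nat.cast_sum]
      refine Finset.sum_congr rfl fun x hx => ?_
      rw [if_pos (isClosed_point f (((hfib y (hSc y hy) x).mp hx).symm ▸ hSc y hy)), wt, Nat.cast_mul]
    · simp only [Function.mem_support, ne_eq, ite_eq_right_iff, Classical.not_imp] at hx
      obtain ⟨hxc, hx0⟩ := hx
      refine Finset.mem_coe.mpr (Finset.mem_biUnion.mpr ⟨f x, ?_, (hfib _ (hclim x hxc) x).mpr rfl⟩)
      by_contra hn
      refine hx0 ?_
      rw [← Nat.cast_mul]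
      exact_mod_cast (hout (f x) (hclim x hxc) hn x ((hfib _ (hclim x hxc) x).mpr rfl)).1
  have hle : ∀ y ∈ S, (∑ x ∈ fib y, wt k f x) ≤ secDim k (cokernel a) (V' y) := fun y hy => by
    rw [hV' y (hSc y hy)]; exact (loc y _).1
  have hmain : 2 * (Degree.gr k (TraceDual.alg f).toModule : ℤ) * Curv2.euler k Y (Coh.structureModule Y) -
      2 * Curv2.euler k X (Coh.structureModule X) = ((∑ y ∈ S, secDim k (cokernel a) (V' y) : ℕ) : ℤ) := by
    rw [← hsum, hQeq, he]; ring
  rw [hS, hmain, Nat.cast_le, Nat.cast_inj]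
  refine ⟨Finset.sum_le_sum hle, ?_⟩
  rw [Finset.sum_eq_sum_iff_of_le hle]
  constructor
  · intro h x hx
    by_cases hy : f x ∈ S
    · have h1 := h _ hy
      rw [hV' _ (hSc _ hy)] at h1
      exact (loc _ (hSc _ hy)).2.1.mp h1 x ((hfib _ (hSc _ hy) x).mpr rfl)
    · exact (hout _ (hclim x hx) hy x ((hfib _ (hclim x hx) x).mpr rfl)).2
  · intro h y hy
    rw [hV' y (hSc y hy)]
    refine (loc y _).2.1.mpr fun x hx => h x ?_
    exact isClosed_point f (((hfib y (hSc y hy) x).mp hx).symm ▸ hSc y hy)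

end Groth.Agent.Lib.Curves.Hurwitz
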