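import Mathlib

/-!
# Length of the module of differentials of an extension of discrete valuation rings

For a local algebra `S` over `R`, `S` a discrete valuation ring, with finite residue extension and
`m_R S = m_S ^ e`, the length of `Ω[S⁄R]` is at least `e - 1`, with equality iff the residue
extension is separable and `e` is invertible in the residue field.
-/

set_option autoImplicit false
universe u

open scoped IntermediateField
open MvPolynomial

namespace Groth.Agent.Lib.Curves.KaehlerLength

section Presentation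

variable {R κ L : Type u} [CommRing R] [Field κ] [Field L] [Algebra R κ] [Algebra κ L] [Algebra R L]
  [IsScalarTower R κ L]

/-- A finite field extension has as many relations as generators. -/
theorem exists_presentation [FiniteDimensional κ L] (hκ : Function.Surjective (algebraMap R κ)) :
    ∃ (σ : Type) (_ : Fintype σ) (x : σ → L) (G : σ → MvPolynomial σ R),
      Function.Surjective (aeval x : MvPolynomial σ R →ₐ[R] L) ∧
      RingHom.ker (aeval x : MvPolynomial σ R →ₐ[R] L) =
        Ideal.span (Set.range G) ⊔ (RingHom.ker (algebraMap R κ)).map C := by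
  classical
  let P : IntermediateField κ L → Prop := fun E =>
    ∃ (σ : Type) (_ : Fintype σ) (x : σ → L) (G : σ → MvPolynomial σ R),
      (∀ z, z ∈ E ↔ ∃ q : MvPolynomial σ R, aeval x q = z) ∧
      RingHom.ker (aeval x : MvPolynomial σ R →ₐ[R] L) =
        Ideal.span (Set.range G) ⊔ (RingHom.ker (algebraMap R κ)).map C
  suffices h : P ⊤ by
    obtain ⟨σ, hσ, x, G, hx, hker⟩ := h
    exact ⟨σ, hσ, x, G, fun z => (hx z).mp IntermediateField.mem_top, hker⟩
  refine IntermediateField.induction_on_adjoin P ?_ ?_ ⊤
  · refine ⟨Empty, inferInstance, Empty.elim, Empty.elim, fun z => ?_, ?_⟩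
    · rw [IntermediateField.mem_bot]
      constructor
      · rintro ⟨c, rfl⟩
        obtain ⟨r, rfl⟩ := hκ c
        exact ⟨C r, by rw [aeval_C, IsScalarTower.algebraMap_apply R κ L]⟩
      · rintro ⟨q, rfl⟩
        obtain ⟨r, rfl⟩ := C_surjective Empty q
        exact ⟨algebraMap R κ r, by rw [aeval_C, IsScalarTower.algebraMap_apply R κ L]⟩
    · ext q
      obtain ⟨r, rfl⟩ := C_surjective Empty q
      rw [RingHom.mem_ker, aeval_C, IsScalarTower.algebraMap_apply R κ L, map_eq_zero,
        Set.range_eq_empty, Ideal.span_empty, bot_sup_eq]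
      constructor
      · exact fun h => Ideal.mem_map_of_mem _ h
      · intro h
        obtain ⟨r', hr', he⟩ := (Ideal.mem_map_iff_of_surjective C (C_surjective Empty)).mp h
        rwa [C_injective _ _ he] at hr'
  · rintro E α ⟨σ, hσ, x, G, hx, hker⟩
    let φ : MvPolynomial σ R →+* E :=
      (aeval x : MvPolynomial σ R →ₐ[R] L).toRingHom.codRestrict E.toSubalgebra.toSubring
        fun q => (hx _).mpr ⟨q, rfl⟩
    have hφc : (algebraMap E L).comp φ = (aeval x : MvPolynomial σ R →ₐ[R] L).toRingHom := rfl
    have hφs : Function.Surjective φ := fun z => by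
      obtain ⟨q, hq⟩ := (hx _).mp z.2
      exact ⟨q, Subtype.ext hq⟩
    have hα : IsIntegral E α := (Algebra.IsIntegral.isIntegral (R := κ) α).tower_top
    obtain ⟨g, hg⟩ := Polynomial.map_surjective φ hφs (minpoly E α)
    let Ψ := optionEquivLeft R σ
    let y : Option σ → L := fun o => o.elim α x
    have hΨ : ∀ q : MvPolynomial (Option σ) R,
        aeval y q = Polynomial.aeval α ((Ψ q).map φ) := fun q => by
      induction q using MvPolynomial.induction_on with
      | C r =>
        simp only [Ψ, aeval_C, optionEquivLeft_C, Polynomial.map_C, Polynomial.aeval_C]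
        exact (aeval_C x r).symm
      | add p q hp hq => simp [map_add, Polynomial.map_add, hp, hq]
      | mul_X p o hp =>
        cases o with
        | none => simp [map_mul, Polynomial.map_mul, hp, Ψ, y]
        | some s =>
          simp only [map_mul, Polynomial.map_mul, hp, Ψ, optionEquivLeft_X_some, Polynomial.map_C,
            Polynomial.aeval_C, aeval_X]
          congr 1
          exact (aeval_X (R := R) x s).symm
    refine ⟨Option σ, inferInstance, y,
      fun o => o.elim (Ψ.symm g) fun s => rename some (G s), fun z => ?_, ?_⟩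
    · rw [IntermediateField.mem_restrictScalars, ← IntermediateField.mem_toSubalgebra,
        IntermediateField.adjoin_simple_toSubalgebra_of_isAlgebraic hα.isAlgebraic, Algebra.adjoin_singleton_eq_range_aeval]
      constructor
      · rintro ⟨p, rfl⟩
        obtain ⟨p', rfl⟩ := Polynomial.map_surjective φ hφs p
        exact ⟨Ψ.symm p', by rw [hΨ, AlgEquiv.apply_symm_apply]; rfl⟩
      · rintro ⟨q, rfl⟩
        exact ⟨(Ψ q).map φ, (hΨ q).symm⟩
    · have hΨC : ∀ q : MvPolynomial σ R, Ψ (rename some q) = Polynomial.C q := fun q => by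
        induction q using MvPolynomial.induction_on with
        | C r => simp [Ψ]
        | add p q hp hq => simp [map_add, hp, hq]
        | mul_X p s hp => simp [map_mul, hp, Ψ, rename_X]
      have hφker : RingHom.ker φ = Ideal.span (Set.range G) ⊔ (RingHom.ker (algebraMap R κ)).map C := by
        rw [← hker]
        ext q
        rw [RingHom.mem_ker, RingHom.mem_ker, ← Subtype.coe_inj]
        rfl
      refine le_antisymm ?_ (sup_le ?_ ?_)
      · intro q hq
        rw [RingHom.mem_ker, hΨ] at hq
        obtain ⟨h, hh⟩ := minpoly.dvd E α hq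
        obtain ⟨h', rfl⟩ := Polynomial.map_surjective φ hφs h
        have h1 : Ψ q - g * h' ∈ (RingHom.ker φ).map (Polynomial.C : _ →+* Polynomial (MvPolynomial σ R)) := by
          rw [← Polynomial.ker_mapRingHom, RingHom.mem_ker, Polynomial.coe_mapRingHom, Polynomial.map_sub,
            Polynomial.map_mul, hg, hh, sub_self]
        have h2 : (RingHom.ker φ).map ((Ψ.symm.toRingEquiv : _ →+* _).comp Polynomial.C) ≤
            Ideal.span (Set.range fun o => Option.elim o (Ψ.symm g) fun s => rename some (G s)) ⊔
              (RingHom.ker (algebraMap R κ)).map C := by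
          rw [hφker, Ideal.map_sup, Ideal.map_span, Ideal.map_map]
          refine sup_le_sup (Ideal.span_mono ?_) (le_of_eq ?_)
          · rintro _ ⟨_, ⟨s, rfl⟩, rfl⟩
            exact ⟨some s, Ψ.injective (by simp [hΨC])⟩
          · congr 1
            refine RingHom.ext fun r => Ψ.injective ?_
            simp [Ψ]
        have h3 : Ψ.symm (Ψ q - g * h') ∈ (RingHom.ker φ).map ((Ψ.symm.toRingEquiv : _ →+* _).comp Polynomial.C) := by
          rw [← Ideal.map_map]
          exact Ideal.mem_map_of_mem _ h1
        have h4 := h2 h3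
        rw [map_sub, map_mul, AlgEquiv.symm_apply_apply] at h4
        have h5 : Ψ.symm g * Ψ.symm h' ∈
            Ideal.span (Set.range fun o => Option.elim o (Ψ.symm g) fun s => rename some (G s)) ⊔
              (RingHom.ker (algebraMap R κ)).map C :=
          Ideal.mul_mem_right _ _ (Ideal.mem_sup_left (Ideal.subset_span ⟨none, rfl⟩))
        simpa using add_mem h4 h5
      · rw [Ideal.span_le]
        rintro _ ⟨o, rfl⟩
        rw [SetLike.mem_coe, RingHom.mem_ker, hΨ]
        cases o with
        | none => simp [hg, minpoly.aeval]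
        | some s =>
          have h0 : φ (G s) = 0 := by
            rw [← RingHom.mem_ker, hφker]
            exact Ideal.mem_sup_left (Ideal.subset_span ⟨s, rfl⟩)
          simp [hΨC, h0]
      · rw [Ideal.map_le_iff_le_comap]
        intro r hr
        rw [Ideal.mem_comap, RingHom.mem_ker, aeval_C, IsScalarTower.algebraMap_apply R κ L,
          RingHom.mem_ker.mp hr, map_zero]

end Presentation

section Main

open IsLocalRing

variable {R S : Type u} [CommRing R] [IsLocalRing R] [CommRing S] [IsDomain S]
  [IsDiscreteValuationRing S] [Algebra R S] [IsLocalHom (algebraMap R S)]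
  [FiniteDimensional (ResidueField R) (ResidueField S)]
  (e : ℕ) (he : 1 ≤ e)
  (hmap : (maximalIdeal R).map (algebraMap R S) = maximalIdeal S ^ e)

include he hmap in
/-- The lower bounds for the length of the differentials. -/
theorem lower :
    ((e - 1 : ℕ) : ℕ∞) ≤ Module.length S (KaehlerDifferential R S) ∧
      (¬ (Algebra.IsSeparable (ResidueField R) (ResidueField S) ∧ (e : ResidueField S) ≠ 0) →
        (e : ℕ∞) ≤ Module.length S (KaehlerDifferential R S)) := by
  classical
  obtain ⟨σ, hσ, xb, G, hxb, hker⟩ := exists_presentation (R := R) (κ := ResidueField R)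
    (L := ResidueField S) residue_surjective
  have hkerp : RingHom.ker (algebraMap R (ResidueField R)) = maximalIdeal R := ker_residue
  rw [hkerp] at hker
  choose x hx using fun i => residue_surjective (xb i)
  obtain ⟨t, ht⟩ := IsDiscreteValuationRing.exists_irreducible S
  have hm : maximalIdeal S = Ideal.span {t} := ht.maximalIdeal_eq
  have hmj : ∀ (j : ℕ) (a : S), a ∈ maximalIdeal S ^ j ↔ t ^ j ∣ a := fun j a => by
    rw [hm, Ideal.span_singleton_pow, Ideal.mem_span_singleton]
  have htm : t ∈ maximalIdeal S := hm ▸ Ideal.mem_span_singleton_self t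
  have hrt : residue S t = 0 := residue_eq_zero_iff t |>.mpr htm
  let M := S ⧸ maximalIdeal S ^ e
  let π : S →ₗ[S] M := Submodule.mkQ (maximalIdeal S ^ e)
  have hπ : ∀ a, π a = 0 ↔ a ∈ maximalIdeal S ^ e := fun a => Submodule.Quotient.mk_eq_zero _
  have hπM : ∀ (a : S) (m : M), a ∈ maximalIdeal S ^ e → a • m = 0 := fun a m ha => by
    obtain ⟨b, rfl⟩ := Submodule.Quotient.mk_surjective _ m
    exact (hπ (a * b)).mpr (Ideal.mul_mem_right _ _ ha)
  let Φ : MvPolynomial (Option σ) R →ₐ[R] S := aeval fun o => o.elim t x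
  have hres : ∀ q : MvPolynomial σ R, residue S (Φ (rename some q)) = aeval xb q := fun q => by
    simp only [Φ, aeval_rename]
    induction q using MvPolynomial.induction_on with
    | C r => simp only [aeval_C]; rfl
    | add p q hp hq => simp only [map_add, hp, hq]
    | mul_X p i hp =>
      rw [map_mul, map_mul, map_mul, hp, aeval_X, aeval_X]
      exact congrArg (_ * ·) (hx i)
  -- surjectivity modulo powers of the maximal ideal
  have hsurj : ∀ (j : ℕ) (a : S), ∃ q, t ^ j ∣ a - Φ q := by
    intro j
    induction j with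
    | zero => exact fun a => ⟨0, by simp⟩
    | succ j ih =>
      intro a
      obtain ⟨q, b, hb⟩ := ih a
      obtain ⟨q', hq'⟩ := hxb (residue S b)
      have h1 : residue S (b - Φ (rename some q')) = 0 := by rw [map_sub, hres, hq', sub_self]
      rw [residue_eq_zero_iff, hm, Ideal.mem_span_singleton] at h1
      obtain ⟨c, hc⟩ := h1
      refine ⟨q + X none ^ j * rename some q', c, ?_⟩
      have hXn : Φ (X none) = t := aeval_X _ none
      rw [map_add, map_mul, map_pow, hXn]
      linear_combination hb + t ^ j * hc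
  -- the relations
  have hG : ∀ i, ∃ H, Φ (rename some (G i)) - t * Φ H ∈ maximalIdeal S ^ e := by
    intro i
    have h1 : residue S (Φ (rename some (G i))) = 0 := by
      rw [hres, ← RingHom.mem_ker, hker]
      exact Ideal.mem_sup_left (Ideal.subset_span ⟨i, rfl⟩)
    rw [residue_eq_zero_iff, hm, Ideal.mem_span_singleton] at h1
    obtain ⟨h, hh⟩ := h1
    obtain ⟨H, hH⟩ := hsurj e h
    refine ⟨H, (hmj e _).mpr ?_⟩
    rw [hh, ← mul_sub]
    exact hH.mul_left t
  choose H hH using hG
  let rel : σ → MvPolynomial (Option σ) R := fun i => rename some (G i) - X none * H i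
  let K : Ideal (MvPolynomial (Option σ) R) :=
    Ideal.span (Set.range rel) ⊔ (maximalIdeal R).map C ⊔ Ideal.span {X none ^ e}
  have hT : ∀ q : MvPolynomial (Option σ) R,
      q - rename some (aeval (fun o => o.elim 0 X : Option σ → MvPolynomial σ R) q) ∈
        Ideal.span {(X none : MvPolynomial (Option σ) R)} := by
    intro q
    induction q using MvPolynomial.induction_on with
    | C r => simp
    | add p q hp hq =>
      simp only [map_add]
      rw [add_sub_add_comm]
      exact add_mem hp hq
    | mul_X p o hp =>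
      cases o with
      | none => simpa using Ideal.mul_mem_left _ p (Ideal.mem_span_singleton_self _)
      | some s =>
        simp only [map_mul, aeval_X, Option.elim, rename_X, ← sub_mul]
        exact Ideal.mul_mem_right _ _ hp
  have hK : ∀ q, Φ q ∈ maximalIdeal S ^ e → q ∈ K := by
    intro q hq
    suffices h : ∀ j ≤ e, ∃ a, q - X none ^ j * a ∈ K by
      obtain ⟨a, ha⟩ := h e le_rfl
      have := add_mem ha (show X none ^ e * a ∈ K from
        Ideal.mul_mem_right _ _ (Ideal.mem_sup_right (Ideal.mem_span_singleton_self _)))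
      simpa using this
    have hKΦ : ∀ z ∈ K, Φ z ∈ maximalIdeal S ^ e := by
      suffices h : K ≤ Ideal.comap Φ (maximalIdeal S ^ e) from fun z hz => h hz
      refine sup_le (sup_le ?_ ?_) ?_
      · rw [Ideal.span_le]
        rintro _ ⟨i, rfl⟩
        rw [SetLike.mem_coe, Ideal.mem_comap]
        simp only [rel, map_sub, map_mul, Φ, aeval_X, Option.elim]
        exact hH i
      · rw [Ideal.map_le_iff_le_comap]
        intro r hr
        rw [Ideal.mem_comap, Ideal.mem_comap, ← hmap, show Φ (C r) = algebraMap R S r from aeval_C _ r]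
        exact Ideal.mem_map_of_mem _ hr
      · rw [Ideal.span_le, Set.singleton_subset_iff, SetLike.mem_coe, Ideal.mem_comap, map_pow,
          show Φ (X none) = t from aeval_X _ none, hmj]
    intro j
    induction j with
    | zero => exact fun _ => ⟨q, by simp⟩
    | succ j ih =>
      intro hj
      obtain ⟨a, ha⟩ := ih (by omega)
      have h1 : t ^ e ∣ t ^ j * Φ a := by
        have h0 := sub_mem hq (hKΦ _ ha)
        rw [map_sub, sub_sub_cancel, map_mul, map_pow, show Φ (X none) = t from aeval_X _ none] at h0
        exact (hmj e _).mp h0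
      have h2 : t ∣ Φ a := by
        have h3 : t ^ j * t ∣ t ^ j * Φ a := by rw [← pow_succ]; exact (pow_dvd_pow t hj).trans h1
        exact (mul_dvd_mul_iff_left (pow_ne_zero _ ht.ne_zero)).mp h3
      set q0 := aeval (fun o => o.elim 0 X : Option σ → MvPolynomial σ R) a
      obtain ⟨a', ha'⟩ := Ideal.mem_span_singleton'.mp (hT a)
      have h4 : q0 ∈ Ideal.span (Set.range G) ⊔ (maximalIdeal R).map C := by
        rw [← hker, RingHom.mem_ker, ← hres, residue_eq_zero_iff, hm, Ideal.mem_span_singleton,
          show rename some q0 = a - a' * X none by rw [ha']; ring, map_sub, map_mul,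
          show Φ (X none) = t from aeval_X _ none]
        exact dvd_sub h2 (dvd_mul_left t _)
      have h5 : rename some q0 ∈ K ⊔ Ideal.span {(X none : MvPolynomial (Option σ) R)} := by
        have h6 : (Ideal.span (Set.range G) ⊔ (maximalIdeal R).map C).map (rename some) ≤
            K ⊔ Ideal.span {(X none : MvPolynomial (Option σ) R)} := by
          rw [Ideal.map_sup]
          refine sup_le ?_ ?_
          · rw [Ideal.map_span, Ideal.span_le]
            rintro _ ⟨_, ⟨i, rfl⟩, rfl⟩
            have : rename some (G i) = rel i + H i * X none := by simp only [rel]; ring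
            rw [SetLike.mem_coe, this]
            exact add_mem (Ideal.mem_sup_left (Ideal.mem_sup_left (Ideal.mem_sup_left
              (Ideal.subset_span ⟨i, rfl⟩)))) (Ideal.mem_sup_right
              (Ideal.mul_mem_left _ _ (Ideal.mem_span_singleton_self _)))
          · rw [Ideal.map_le_iff_le_comap, Ideal.map_le_iff_le_comap]
            intro r hr
            rw [Ideal.mem_comap, Ideal.mem_comap, rename_C]
            exact Ideal.mem_sup_left (Ideal.mem_sup_left (Ideal.mem_sup_right (Ideal.mem_map_of_mem _ hr)))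
        exact h6 (Ideal.mem_map_of_mem _ h4)
      obtain ⟨k0, hk0, _, hc, hsum⟩ := Submodule.mem_sup.mp h5
      obtain ⟨c, rfl⟩ := Ideal.mem_span_singleton'.mp hc
      refine ⟨a' + c, ?_⟩
      have : q - X none ^ (j + 1) * (a' + c) = (q - X none ^ j * a) + X none ^ j * k0 := by
        rw [show rename some q0 = a - a' * X none by rw [ha']; ring] at hsum
        linear_combination -(X none ^ j) * hsum
      rw [this]
      exact add_mem ha (Ideal.mul_mem_left _ _ hk0)
  -- the Jacobian
  let Dv : MvPolynomial (Option σ) R →ₗ[R] (Option σ → M) := LinearMap.pi fun o =>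
    (π.restrictScalars R).comp (Φ.toLinearMap.comp (pderiv o).toLinearMap)
  have hDv : ∀ q o, Dv q o = π (Φ (pderiv o q)) := fun _ _ => rfl
  have hleib : ∀ q r, Dv (q * r) = Φ q • Dv r + Φ r • Dv q := fun q r => by
    funext o
    rw [Pi.add_apply, Pi.smul_apply, Pi.smul_apply, hDv, hDv, hDv, Derivation.leibniz, map_add,
      smul_eq_mul, smul_eq_mul, map_mul, map_mul, ← smul_eq_mul, map_add, map_smul, ← smul_eq_mul, map_smul]
  let v : σ → Option σ → M := fun i => Dv (rel i)
  let f1 : (σ → M) →ₗ[S] (Option σ → M) := ∑ i : σ, LinearMap.pi fun o => (show M →ₗ[S] M from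
    (Φ (pderiv o (rel i))) • (LinearMap.id : M →ₗ[S] M)).comp (LinearMap.proj i)
  have hf1 : ∀ a o, f1 a o = ∑ i, Φ (pderiv o (rel i)) • a i := fun a o => by
    simp only [f1, LinearMap.coe_sum, Finset.sum_apply]
    rfl
  let c0 : M := π ((e : S) * t ^ (e - 1))
  let w : Option σ → M := Pi.single none c0
  have hw : ∀ a ∈ maximalIdeal S, a • w = 0 := fun a ha => by
    rw [show a • w = Pi.single none (a • c0) by funext o; cases o <;> simp [w]]
    suffices h : a • c0 = 0 by rw [h, Pi.single_zero]
    rw [hm, Ideal.mem_span_singleton] at ha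
    obtain ⟨b, rfl⟩ := ha
    refine (hπ _).mpr ((hmj e _).mpr ⟨b * e, ?_⟩)
    show t * b * ((e : S) * t ^ (e - 1)) = _
    conv_rhs => rw [show e = e - 1 + 1 by omega, pow_succ, show e - 1 + 1 = e by omega]
    ring
  let f2 : (S ⧸ maximalIdeal S) →ₗ[S] (Option σ → M) :=
    Submodule.liftQ _ (LinearMap.toSpanSingleton S _ w) fun a ha => hw a ha
  let N := LinearMap.range f1 ⊔ LinearMap.range f2
  have hwN : w ∈ N := Submodule.mem_sup_right ⟨Submodule.Quotient.mk 1, one_smul S w⟩
  have hvN : ∀ i, Dv (rel i) ∈ N := fun i => Submodule.mem_sup_left ⟨Pi.single i (π 1), funext fun o => by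
    rw [hf1, Finset.sum_eq_single i (fun j _ hj => by rw [Pi.single_eq_of_ne hj, smul_zero])
      (by simp), Pi.single_eq_same, ← map_smul, smul_eq_mul, mul_one, hDv]⟩
  have hKN : ∀ q ∈ K, Φ q ∈ maximalIdeal S ^ e ∧ Dv q ∈ N := by
    let I0 : Ideal (MvPolynomial (Option σ) R) :=
      { carrier := {q | Φ q ∈ maximalIdeal S ^ e ∧ Dv q ∈ N}
        add_mem' := fun ha hb => ⟨by rw [map_add]; exact add_mem ha.1 hb.1, by
          rw [map_add]; exact add_mem ha.2 hb.2⟩
        zero_mem' := ⟨by simp, by simp⟩
        smul_mem' := fun r q hq => ⟨by rw [smul_eq_mul, map_mul]; exact Ideal.mul_mem_left _ _ hq.1, by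
          rw [smul_eq_mul, hleib]
          refine add_mem (N.smul_mem _ hq.2) ?_
          rw [show Φ q • Dv r = 0 from funext fun o => hπM _ _ hq.1]
          exact N.zero_mem⟩ }
    suffices h : K ≤ I0 from fun q hq => h hq
    refine sup_le (sup_le ?_ ?_) ?_
    · rw [Ideal.span_le]
      rintro _ ⟨i, rfl⟩
      refine ⟨?_, hvN i⟩
      simp only [rel, map_sub, map_mul, Φ, aeval_X, Option.elim]
      exact hH i
    · rw [Ideal.map_le_iff_le_comap]
      intro r hr
      refine ⟨?_, ?_⟩
      · rw [← hmap, show Φ (C r) = algebraMap R S r from aeval_C _ r]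
        exact Ideal.mem_map_of_mem _ hr
      · rw [show Dv (C r) = 0 from funext fun o => by simp [hDv]]
        exact N.zero_mem
    · rw [Ideal.span_le, Set.singleton_subset_iff]
      refine ⟨?_, ?_⟩
      · rw [map_pow, show Φ (X none) = t from aeval_X _ none, hmj]
      · convert hwN using 1
        funext o
        rw [hDv, Derivation.leibniz_pow]
        cases o with
        | none => simp [w, c0, Φ, nsmul_eq_mul]
        | some s => simp [w]
  -- the derivation into the cokernel
  choose ℓ hℓ using hsurj e
  have hd : ∀ (a : S) (q), a - Φ q ∈ maximalIdeal S ^ e → N.mkQ (Dv (ℓ a)) = N.mkQ (Dv q) := fun a q hq => by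
    rw [← sub_eq_zero, ← map_sub, ← map_sub, Submodule.mkQ_apply, Submodule.Quotient.mk_eq_zero]
    refine (hKN _ (hK _ ?_)).2
    rw [map_sub]
    simpa using sub_mem hq ((hmj e _).mpr (hℓ a))
  let δ : S →ₗ[R] (Option σ → M) ⧸ N :=
    { toFun := fun a => N.mkQ (Dv (ℓ a))
      map_add' := fun a b => by
        rw [hd (a + b) (ℓ a + ℓ b) (by
          rw [map_add, add_sub_add_comm]
          exact add_mem ((hmj e _).mpr (hℓ a)) ((hmj e _).mpr (hℓ b))), map_add, map_add]
      map_smul' := fun r a => by
        rw [RingHom.id_apply, hd (r • a) (r • ℓ a) (by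
          rw [map_smul, ← smul_sub, Algebra.smul_def]
          exact Ideal.mul_mem_left _ _ ((hmj e _).mpr (hℓ a))), map_smul]
        rfl }
  have hcong : ∀ (a b : S) (z : Option σ → M), a - b ∈ maximalIdeal S ^ e → a • z = b • z := fun a b z h => by
    rw [← sub_eq_zero, ← sub_smul]
    exact funext fun o => hπM _ _ h
  let d : Derivation R S ((Option σ → M) ⧸ N) := Derivation.mk' δ fun a b => by
    change N.mkQ (Dv (ℓ (a * b))) = a • N.mkQ (Dv (ℓ b)) + b • N.mkQ (Dv (ℓ a))
    rw [hd (a * b) (ℓ a * ℓ b) (by
      rw [map_mul, show a * b - Φ (ℓ a) * Φ (ℓ b) = a * (b - Φ (ℓ b)) + Φ (ℓ b) * (a - Φ (ℓ a)) by ring]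
      exact add_mem (Ideal.mul_mem_left _ _ ((hmj e _).mpr (hℓ b)))
        (Ideal.mul_mem_left _ _ ((hmj e _).mpr (hℓ a)))), hleib,
      ← hcong a (Φ (ℓ a)) _ ((hmj e _).mpr (hℓ a)),
      ← hcong b (Φ (ℓ b)) _ ((hmj e _).mpr (hℓ b)), map_add, map_smul, map_smul]
  have hsur : Function.Surjective d.liftKaehlerDifferential := by
    rw [← LinearMap.range_eq_top, eq_top_iff]
    rintro z -
    obtain ⟨z, rfl⟩ := Submodule.mkQ_surjective N z
    rw [← Finset.univ_sum_single z, map_sum]
    refine Submodule.sum_mem _ fun o _ => ?_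
    obtain ⟨b, hb⟩ := Submodule.mkQ_surjective (maximalIdeal S ^ e) (z o)
    refine ⟨b • KaehlerDifferential.D R S (Φ (X o)), ?_⟩
    rw [map_smul, Derivation.liftKaehlerDifferential_comp_D]
    change b • N.mkQ (Dv (ℓ (Φ (X o)))) = _
    rw [hd (Φ (X o)) (X o) (by simp), ← map_smul]
    congr 1
    funext p
    rw [Pi.smul_apply, hDv]
    by_cases hp : p = o
    · subst hp
      rw [pderiv_X_self, map_one, Pi.single_eq_same, ← map_smul, smul_eq_mul, mul_one]
      exact hb
    · rw [pderiv_X_of_ne (Ne.symm hp), map_zero, map_zero, smul_zero, Pi.single_eq_of_ne hp]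
  -- lengths
  set n := Fintype.card σ
  have hM : Module.length S M = e := IsDiscreteValuationRing.length_quotient_pow_maximalIdeal (R := S) e
  have hV : Module.length S (Option σ → M) = (((n + 1) * e : ℕ) : ℕ∞) := by
    rw [Module.length_pi_of_fintype]
    simp [hM, n, Finset.sum_const]
  have hU : Module.length S (σ → M) = ((n * e : ℕ) : ℕ∞) := by
    rw [Module.length_pi_of_fintype]
    simp [hM, n, Finset.sum_const]
  have h1len : Module.length S (S ⧸ maximalIdeal S) = 1 := by
    have := IsDiscreteValuationRing.length_quotient_pow_maximalIdeal (R := S) 1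
    rwa [pow_one, Nat.cast_one] at this
  have hQ : Module.length S ((Option σ → M) ⧸ N) ≤ Module.length S (KaehlerDifferential R S) :=
    Module.length_le_of_surjective _ hsur
  have hex : Module.length S (Option σ → M) = Module.length S N + Module.length S ((Option σ → M) ⧸ N) :=
    Module.length_eq_add_of_exact N.subtype N.mkQ (Submodule.subtype_injective N)
      (Submodule.mkQ_surjective N) (LinearMap.exact_subtype_mkQ N)
  have hNle : Module.length S N ≤ Module.length S (LinearMap.range f1) + Module.length S (LinearMap.range f2) := by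
    rw [← Module.length_prod]
    refine Module.length_le_of_surjective
      ((Submodule.inclusion le_sup_left).coprod (Submodule.inclusion le_sup_right)) ?_
    rintro ⟨z, hz⟩
    obtain ⟨a, ha, b, hb, rfl⟩ := Submodule.mem_sup.mp hz
    exact ⟨(⟨a, ha⟩, ⟨b, hb⟩), rfl⟩
  have hr1 : Module.length S (LinearMap.range f1) ≤ ((n * e : ℕ) : ℕ∞) :=
    hU ▸ Module.length_le_of_surjective _ f1.surjective_rangeRestrict
  have hr2 : Module.length S (LinearMap.range f2) ≤ 1 :=
    h1len ▸ Module.length_le_of_surjective _ f2.surjective_rangeRestrict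
  have key : ∀ l : ℕ, Module.length S N ≤ ((n * e + l : ℕ) : ℕ∞) →
      ((e - l : ℕ) : ℕ∞) ≤ Module.length S (KaehlerDifferential R S) := by
    intro l hl
    refine le_trans ?_ hQ
    rw [hV] at hex
    obtain ⟨a, ha⟩ := ENat.ne_top_iff_exists.mp (ne_top_of_le_ne_top (ENat.natCast_ne_top _) hl)
    obtain ⟨b, hb⟩ := ENat.ne_top_iff_exists.mp (ne_top_of_le_ne_top (ENat.natCast_ne_top ((n + 1) * e))
      (hex ▸ (le_add_self : Module.length S ((Option σ → M) ⧸ N) ≤ _)))
    rw [← ha, Nat.cast_le] at hl
    rw [← ha, ← hb, ← Nat.cast_add, Nat.cast_inj, add_one_mul] at hex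
    rw [← hb, Nat.cast_le]
    omega
  refine ⟨key 1 ?_, fun hwild => ?_⟩
  · rw [Nat.cast_add, Nat.cast_one]
    exact hNle.trans (add_le_add hr1 hr2)
  rw [← Nat.sub_zero e]
  refine key 0 ?_
  rw [add_zero]
  by_cases hw1 : w ∈ LinearMap.range f1
  · refine le_trans ?_ hr1
    refine (LinearEquiv.length_eq (LinearEquiv.ofEq N (LinearMap.range f1) ?_)).le
    refine sup_eq_left.mpr ?_
    rintro _ ⟨z, rfl⟩
    obtain ⟨a, rfl⟩ := Submodule.Quotient.mk_surjective _ z
    exact Submodule.smul_mem _ a hw1
  -- `w ∉ range f1`: then `f1` is not injective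
  suffices hker1 : LinearMap.ker f1 ≠ ⊥ by
    refine hNle.trans ?_
    have h1 : Module.length S (σ → M) =
        Module.length S (LinearMap.ker f1) + Module.length S (LinearMap.range f1) :=
      Module.length_eq_add_of_exact _ _ (Submodule.subtype_injective _) f1.surjective_rangeRestrict
        (LinearMap.exact_subtype_ker_map f1 |> fun h => by
          intro z
          rw [← h z]
          exact Subtype.ext_iff)
    haveI : Nontrivial (LinearMap.ker f1) := Submodule.nontrivial_iff_ne_bot.mpr hker1
    refine le_trans (add_le_add_right hr2 _) ?_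
    rw [← hU, h1, add_comm]
    exact add_le_add_left (ENat.one_le_iff_ne_zero.mpr (Module.length_pos (R := S)).ne') _
  have he0 : (e : ResidueField S) ≠ 0 := fun h0 => hw1 (by
    have h1 : c0 = 0 := by
      rw [← map_natCast (residue S), residue_eq_zero_iff, hm, Ideal.mem_span_singleton] at h0
      obtain ⟨b, hb⟩ := h0
      refine (hπ _).mpr ((hmj e _).mpr ⟨b, ?_⟩)
      rw [hb, mul_right_comm, ← pow_succ', show e - 1 + 1 = e by omega]
    simp [w, h1])
  have hins : ¬ Algebra.IsSeparable (ResidueField R) (ResidueField S) := fun h => hwild ⟨h, he0⟩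
  -- a derivation of the residue fields
  obtain ⟨ψ, hψ⟩ : ∃ ψ : Derivation R (ResidueField S) (ResidueField S), ψ ≠ 0 := by
    have : Nontrivial (KaehlerDifferential (ResidueField R) (ResidueField S)) := by
      rw [← not_subsingleton_iff_nontrivial]
      exact fun h => hins ((Algebra.FormallyUnramified.iff_isSeparable _ _).mp ⟨h⟩)
    obtain ⟨z, hz⟩ := exists_ne (0 : KaehlerDifferential (ResidueField R) (ResidueField S))
    obtain ⟨f, hf⟩ : ∃ f : KaehlerDifferential (ResidueField R) (ResidueField S) →ₗ[ResidueField S] ResidueField S,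
        f z ≠ 0 := by
      by_contra! h
      exact hz ((Module.forall_dual_apply_eq_zero_iff (ResidueField S) z).mp h)
    refine ⟨(f.compDer (KaehlerDifferential.D (ResidueField R) (ResidueField S))).restrictScalars R, ?_⟩
    intro h
    apply hf
    have : f = 0 := Derivation.liftKaehlerDifferential_unique _ _ (Derivation.ext fun a => by
      simpa using DFunLike.congr_fun h a)
    simp [this]
  have hchain : ∀ q : MvPolynomial σ R, ψ (aeval xb q) = ∑ j, aeval xb (pderiv j q) * ψ (xb j) := fun q => by
    induction q using MvPolynomial.induction_on with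
    | C r => simp
    | add p q hp hq => simp [hp, hq, Finset.sum_add_distrib, add_mul]
    | mul_X p i hp =>
      simp only [map_mul, aeval_X, Derivation.leibniz, hp, smul_eq_mul, map_add, pderiv_X, add_mul,
        Finset.sum_add_distrib, Finset.mul_sum]
      congr 1
      · rw [Finset.sum_eq_single i (fun j _ hj => by simp [Ne.symm hj]) (by simp)]
        simp
      · exact Finset.sum_congr rfl fun j _ => by ring
  let Mat : Matrix σ σ (ResidueField S) := fun i j => aeval xb (pderiv j (G i))
  have hMat : Mat.mulVec (fun j => ψ (xb j)) = 0 := funext fun i => by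
    change ∑ j, aeval xb (pderiv j (G i)) * ψ (xb j) = 0
    rw [← hchain, show aeval xb (G i) = 0 from ?_, map_zero]
    rw [← RingHom.mem_ker, hker]
    exact Ideal.mem_sup_left (Ideal.subset_span ⟨i, rfl⟩)
  have hne : (fun j => ψ (xb j)) ≠ 0 := fun h => hψ (Derivation.ext fun a => by
    obtain ⟨q, rfl⟩ := hxb a
    rw [hchain]
    simp [fun j => congrFun h j])
  obtain ⟨bb, hbb, hb0⟩ := Matrix.exists_vecMul_eq_zero_iff.mpr
    (Matrix.exists_mulVec_eq_zero_iff.mp ⟨_, hne, hMat⟩)
  choose β hβ using fun i => residue_surjective (bb i)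
  let z : σ → M := fun i => π (β i)
  have hsome : ∀ j, f1 (t ^ (e - 1) • z) (some j) = 0 := fun j => by
    rw [map_smul, Pi.smul_apply, hf1]
    simp only [z, ← map_smul, ← map_sum]
    refine (hπ _).mpr ((hmj e _).mpr ?_)
    rw [smul_eq_mul]
    conv_lhs => rw [show e = e - 1 + 1 by omega, pow_succ]
    refine mul_dvd_mul_left _ ?_
    rw [← Ideal.mem_span_singleton, ← hm, ← residue_eq_zero_iff, map_sum]
    refine Eq.trans (Finset.sum_congr rfl fun i _ => ?_) (congrFun hb0 j)
    rw [smul_eq_mul, map_mul, hβ, mul_comm]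
    congr 1
    simp only [rel, Mat, map_sub, Derivation.leibniz, smul_eq_mul, map_add, map_mul,
      pderiv_rename (Option.some_injective σ), hres]
    rw [pderiv_X_of_ne (by simp : (none : Option σ) ≠ some j)]
    simp [Φ, hrt]
  set c := ∑ i, Φ (pderiv none (rel i)) * β i with hcdef
  have hnone : f1 (t ^ (e - 1) • z) none = π (t ^ (e - 1) * c) := by
    rw [map_smul, Pi.smul_apply, hf1]
    simp only [z, ← map_smul, ← map_sum, smul_eq_mul, hcdef]
  by_cases hc : IsUnit c
  · refine absurd ⟨((e : S) * ↑hc.unit⁻¹) • (t ^ (e - 1) • z), funext fun o => ?_⟩ hw1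
    rw [map_smul, Pi.smul_apply]
    cases o with
    | none =>
      rw [hnone, ← map_smul, smul_eq_mul]
      simp only [w, c0, Pi.single_eq_same]
      congr 1
      have hcc : c * ↑hc.unit⁻¹ = 1 := hc.mul_val_inv
      linear_combination ((e : S) * t ^ (e - 1)) * hcc
    | some s => rw [hsome, smul_zero]; simp [w]
  · obtain ⟨i, hi⟩ := Function.ne_iff.mp hbb
    refine (Submodule.ne_bot_iff _).mpr ⟨t ^ (e - 1) • z, LinearMap.mem_ker.mpr (funext fun o => ?_), fun h => ?_⟩
    · cases o with
      | none =>
        rw [hnone, Pi.zero_apply]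
        refine (hπ _).mpr ((hmj e _).mpr ?_)
        conv_lhs => rw [show e = e - 1 + 1 by omega, pow_succ]
        refine mul_dvd_mul_left _ ?_
        rw [← Ideal.mem_span_singleton, ← hm]
        exact hc
      | some s => exact hsome s
    · have h1 : π (t ^ (e - 1) * β i) = 0 := congrFun h i
      rw [hπ, hmj] at h1
      have h2 : t ^ (e - 1) * t ∣ t ^ (e - 1) * β i := by rwa [← pow_succ, show e - 1 + 1 = e by omega]
      have h3 := (mul_dvd_mul_iff_left (pow_ne_zero _ ht.ne_zero)).mp h2
      rw [← Ideal.mem_span_singleton, ← hm, ← residue_eq_zero_iff, hβ] at h3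
      exact hi h3

variable [Algebra.EssFiniteType R S]

include he hmap in
/-- The upper bound in the tame case. -/
theorem upper (hp : (maximalIdeal R).IsPrincipal)
    (hsep : Algebra.IsSeparable (ResidueField R) (ResidueField S)) (he0 : (e : ResidueField S) ≠ 0) :
    Module.length S (KaehlerDifferential R S) ≤ ((e - 1 : ℕ) : ℕ∞) := by
  obtain ⟨t, ht⟩ := IsDiscreteValuationRing.exists_irreducible S
  have hm : maximalIdeal S = Ideal.span {t} := ht.maximalIdeal_eq
  let D := KaehlerDifferential.D R S
  let P0 : Submodule S (KaehlerDifferential R S) :=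
    Submodule.span S {D t} ⊔ maximalIdeal S • ⊤
  have hDm : ∀ a ∈ maximalIdeal S, D a ∈ P0 := fun a ha => by
    rw [hm, Ideal.mem_span_singleton] at ha
    obtain ⟨b, rfl⟩ := ha
    rw [Derivation.leibniz]
    exact add_mem (Submodule.mem_sup_right (Submodule.smul_mem_smul
      (hm ▸ Ideal.mem_span_singleton_self t) Submodule.mem_top))
      (Submodule.smul_mem _ _ (Submodule.mem_sup_left (Submodule.mem_span_singleton_self _)))
  have hD : ∀ a, D a ∈ P0 := fun a => by
    obtain ⟨G, hG⟩ := Polynomial.map_surjective (residue R) residue_surjective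
      (minpoly (ResidueField R) (residue S a))
    have hev : ∀ Q : Polynomial R, residue S (Polynomial.aeval a Q) =
        Polynomial.aeval (residue S a) (Q.map (residue R)) := fun Q => by
      change residue S _ = Polynomial.aeval _ (Q.map (algebraMap R (ResidueField R)))
      rw [← ResidueField.algebraMap_eq (R := S), Polynomial.aeval_map_algebraMap]
      exact (Polynomial.aeval_algebraMap_apply (ResidueField S) a Q).symm
    have h1 : D (Polynomial.aeval a G) ∈ P0 := hDm _ (by
      rw [← residue_eq_zero_iff, hev, hG, minpoly.aeval])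
    rw [Derivation.map_aeval] at h1
    have h2 : IsUnit (Polynomial.aeval a (Polynomial.derivative G)) := by
      rw [← residue_ne_zero_iff_isUnit, hev, ← Polynomial.derivative_map, hG]
      exact (hsep.isSeparable' (residue S a)).aeval_derivative_ne_zero (minpoly.aeval _ _)
    exact (P0.smul_mem_iff_of_isUnit h2).mp h1
  have hgen : (⊤ : Submodule S (KaehlerDifferential R S)) ≤ Submodule.span S {D t} := by
    refine Submodule.le_of_le_smul_of_le_jacobson_bot Module.Finite.fg_top
      (jacobson_eq_maximalIdeal ⊥ bot_ne_top).ge ?_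
    have h : Submodule.span S (Set.range D) ≤ P0 := Submodule.span_le.mpr (by rintro _ ⟨a, rfl⟩; exact hD a)
    rwa [KaehlerDifferential.span_range_derivation] at h
  obtain ⟨s, hs⟩ := hp
  have hspan : Ideal.span {algebraMap R S s} = Ideal.span {t ^ e} := by
    rw [← Ideal.span_singleton_pow, ← hm, ← hmap, hs, Ideal.submodule_span_eq, Ideal.map_span,
      Set.image_singleton]
  obtain ⟨u, hu⟩ := (Ideal.span_singleton_eq_span_singleton.mp hspan).symm
  have hte : t ^ (e - 1) • D t = 0 := by
    obtain ⟨g, hg⟩ := Submodule.mem_span_singleton.mp (hgen (Submodule.mem_top (x := D ↑u)))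
    have h1 : D (t ^ e * ↑u) = 0 := by rw [hu]; exact D.map_algebraMap s
    rw [Derivation.leibniz, Derivation.leibniz_pow, ← hg, ← Nat.cast_smul_eq_nsmul S, smul_smul,
      smul_smul, smul_smul, ← add_smul] at h1
    have hunit : IsUnit (↑u * (e : S) + t * g) := by
      rw [← residue_ne_zero_iff_isUnit, map_add, map_mul, map_mul, map_natCast,
        (residue_eq_zero_iff t).mpr (hm ▸ Ideal.mem_span_singleton_self t), zero_mul, add_zero]
      exact mul_ne_zero (residue_ne_zero_iff_isUnit _ |>.mpr u.isUnit) he0
    refine hunit.smul_eq_zero.mp ?_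
    rw [smul_smul, ← h1]
    congr 1
    conv_rhs => rw [show e = e - 1 + 1 by omega, pow_succ, show e - 1 + 1 = e by omega]
    ring
  have hle : maximalIdeal S ^ (e - 1) ≤ LinearMap.ker (LinearMap.toSpanSingleton S _ (D t)) := by
    rw [hm, Ideal.span_singleton_pow, Ideal.span_le, Set.singleton_subset_iff]
    exact hte
  rw [← IsDiscreteValuationRing.length_quotient_pow_maximalIdeal (R := S) (e - 1)]
  refine Module.length_le_of_surjective (Submodule.liftQ _ _ hle) fun z => ?_
  obtain ⟨a, ha⟩ := Submodule.mem_span_singleton.mp (hgen (Submodule.mem_top (x := z)))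
  exact ⟨Submodule.Quotient.mk a, ha⟩

include he hmap in
/-- Length at least `e - 1`, equality iff tame. -/
theorem length_kaehler (hp : (maximalIdeal R).IsPrincipal) :
    ((e - 1 : ℕ) : ℕ∞) ≤ Module.length S (KaehlerDifferential R S) ∧
      (Module.length S (KaehlerDifferential R S) = ((e - 1 : ℕ) : ℕ∞) ↔
        Algebra.IsSeparable (ResidueField R) (ResidueField S) ∧ (e : ResidueField R) ≠ 0) := by
  obtain ⟨h1, h2⟩ := lower e he hmap
  have hcast : ((e : ResidueField R) ≠ 0) ↔ ((e : ResidueField S) ≠ 0) := by
    rw [← map_natCast (algebraMap (ResidueField R) (ResidueField S)), map_ne_zero]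
  refine ⟨h1, fun heq => ?_, fun h => le_antisymm (upper e he hmap hp h.1 (hcast.mp h.2)) h1⟩
  rw [hcast]
  by_contra h
  have h3 := h2 h
  rw [heq, Nat.cast_le] at h3
  omega

end Main

end Groth.Agent.Lib.Curves.KaehlerLength
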