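import Groth.Agent.Lib.Cech.MV
import Groth.Agent.Lib.ZarCoh.Compare

/-!
# The Mayer-Vietoris map `G(U ⊓ V) → H¹(G)` for a cover by two opens
-/

set_option autoImplicit false

universe u

open CategoryTheory CategoryTheory.Limits CategoryTheory.Abelian Opposite TopologicalSpace
open Groth.Agent.Lib.ZarCoh Groth.Agent.Lib.Cech

noncomputable section

namespace Groth.Agent.Lib.Curves.MVConnecting

variable {T : TopCat.{u}} (G : CohTop.Ab T)

/-- A section as a class of degree zero. -/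
def cls (W : Opens T) : G.obj.obj (op W) →+ Ext.{u} (Basic.Zs.obj W) G 0 :=
  AddMonoidHom.mk' (fun s => Ext.mk₀ ((Basic.homEquiv W G).symm s)) fun s t => by
    rw [← Ext.mk₀_add]
    congr 1
    apply (Basic.homEquiv W G).injective
    rw [Basic.homEquiv_add]
    simp only [Equiv.apply_symm_apply]

lemma cls_apply (W : Opens T) (s : G.obj.obj (op W)) :
    cls G W s = Ext.mk₀ ((Basic.homEquiv W G).symm s) := rfl

lemma rs_cls {W W' : Opens T} (h : W' ≤ W) (s : G.obj.obj (op W)) :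
    Basic.rs G 0 h (cls G W s) = cls G W' (G.obj.map (homOfLE h).op s) := by
  rw [Basic.rs_apply, cls_apply, cls_apply, Ext.mk₀_comp_mk₀]
  congr 1
  apply (Basic.homEquiv W' G).injective
  rw [Basic.homEquiv_res, Equiv.apply_symm_apply, Equiv.apply_symm_apply]

lemma cls_comp (W : Opens T) (φ : G ⟶ G) (s : G.obj.obj (op W)) :
    cls G W (φ.hom.app (op W) s) = (cls G W s).comp (Ext.mk₀ φ) (add_zero 0) := by
  rw [cls_apply, cls_apply, Ext.mk₀_comp_mk₀]
  congr 1
  apply (Basic.homEquiv W G).injective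
  rw [Basic.homEquiv_comp, Equiv.apply_symm_apply, Equiv.apply_symm_apply]

variable {U V : Opens T} (hUV : U ⊔ V = ⊤)

/-- The connecting map `G(U ⊓ V) → H¹(G)`. -/
def connecting : G.obj.obj (op (U ⊓ V)) →+ CohTop.H G 1 :=
  (Compare.hTop G 1).symm.toAddMonoidHom.comp
    ((Basic.rs G 1 (show ⊤ ≤ U ⊔ V from hUV.ge)).comp
      ((MV.δ G U V 0 1 rfl).comp (cls G (U ⊓ V))))

lemma connecting_apply (s : G.obj.obj (op (U ⊓ V))) :
    connecting G hUV s = (Compare.hTop G 1).symm (Basic.rs G 1 hUV.ge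
      (MV.δ G U V 0 1 rfl (cls G (U ⊓ V) s))) := rfl

lemma δ_comp (φ : G ⟶ G) (w : Ext.{u} (Basic.Zs.obj (U ⊓ V)) G 0) :
    (MV.δ G U V 0 1 rfl (w.comp (Ext.mk₀ φ) (add_zero 0)) : Ext.{u} (Basic.Zs.obj (U ⊔ V)) G 1) =
      (MV.δ G U V 0 1 rfl w : Ext.{u} (Basic.Zs.obj (U ⊔ V)) G 1).comp (Ext.mk₀ φ) (add_zero 1) :=
  (Ext.comp_assoc (Opens.mayerVietorisSquare U V).shortComplex_shortExact.extClass w (Ext.mk₀ φ)
    (add_zero 1) (add_zero 0) (by omega)).symm

lemma connecting_natural (φ : G ⟶ G) (s : G.obj.obj (op (U ⊓ V))) :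
    connecting G hUV (φ.hom.app (op (U ⊓ V)) s) = Sheaf.H.map φ 1 (connecting G hUV s) := by
  apply (Compare.hTop G 1).injective
  rw [Sheaf.H.map_apply, Compare.hTop_comp, connecting_apply, connecting_apply,
    AddEquiv.apply_symm_apply, AddEquiv.apply_symm_apply, ← Basic.rs_comp]
  congr 1
  rw [cls_comp]
  exact δ_comp G φ _

lemma connecting_res_left (x : G.obj.obj (op U)) :
    connecting G hUV (G.obj.map (homOfLE (inf_le_left : U ⊓ V ≤ U)).op x) = 0 := by
  have h := MV.δ_sub G U V 0 (cls G U x) 0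
  rw [map_zero, sub_zero] at h
  rw [connecting_apply, ← rs_cls]
  refine (congrArg (fun z : Ext.{u} (Basic.Zs.obj (U ⊔ V)) G 1 =>
    (Compare.hTop G 1).symm (Basic.rs G 1 hUV.ge z)) h).trans ?_
  exact ((congrArg (Compare.hTop G 1).symm (map_zero _))).trans (map_zero _)

lemma connecting_res_right (x : G.obj.obj (op V)) :
    connecting G hUV (G.obj.map (homOfLE (inf_le_right : U ⊓ V ≤ V)).op x) = 0 := by
  have h := MV.δ_sub G U V 0 0 (cls G V x)
  rw [map_zero, zero_sub, map_neg, neg_eq_zero] at h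
  rw [connecting_apply, ← rs_cls]
  refine (congrArg (fun z : Ext.{u} (Basic.Zs.obj (U ⊔ V)) G 1 =>
    (Compare.hTop G 1).symm (Basic.rs G 1 hUV.ge z)) h).trans ?_
  exact ((congrArg (Compare.hTop G 1).symm (map_zero _))).trans (map_zero _)

lemma connecting_surjective (hU : Subsingleton (CohTop.HU G 1 U))
    (hV : Subsingleton (CohTop.HU G 1 V)) : Function.Surjective (connecting G hUV) := by
  intro z
  obtain ⟨w, hw⟩ := MV.exists_δ_eq G U V 0
    (Basic.rs G 1 (le_top : U ⊔ V ≤ ⊤) (Compare.hTop G 1 z))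
    (Subsingleton.elim _ _) (Subsingleton.elim _ _)
  obtain ⟨g, rfl⟩ := (Ext.mk₀_bijective _ _).2 w
  refine ⟨Basic.homEquiv (U ⊓ V) G g, ?_⟩
  rw [connecting_apply, cls_apply, Equiv.symm_apply_apply]
  erw [hw]
  apply (Compare.hTop G 1).injective
  rw [AddEquiv.apply_symm_apply, Basic.rs_apply, Basic.rs_apply, Ext.mk₀_comp_mk₀_assoc,
    ← Functor.map_comp, show (homOfLE (hUV.ge : (⊤ : Opens T) ≤ U ⊔ V) ≫ homOfLE le_top) = 𝟙 _ from
      Subsingleton.elim _ _, CategoryTheory.Functor.map_id, Ext.mk₀_id_comp]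

include hUV in
/-- A section killed on both opens is zero. -/
lemma eq_zero_of_res (s : G.obj.obj (op ⊤))
    (hU : G.obj.map (homOfLE (le_top : U ≤ ⊤)).op s = 0)
    (hV : G.obj.map (homOfLE (le_top : V ≤ ⊤)).op s = 0) : s = 0 := by
  refine TopCat.Sheaf.eq_of_locally_eq' (C := AddCommGrpCat.{u}) G
    (fun b : Bool => if b then U else V) ⊤ (fun _ => homOfLE le_top) ?_ s 0 fun b => ?_
  · rw [← hUV]
    exact sup_le (le_iSup (fun b : Bool => if b then U else V) true)
      (le_iSup (fun b : Bool => if b then U else V) false)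
  · cases b
    · exact hV.trans (map_zero _).symm
    · exact hU.trans (map_zero _).symm

end Groth.Agent.Lib.Curves.MVConnecting
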