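import Groth.Agent.Lib.Curves.RegPoints
import Groth.Agent.Lib.TensorMod.Invertible
import Groth.Prelude.Def_PicGrp

/-!
# Regular points of minimal degree on curves with `H¹(O) = 0`
-/

set_option autoImplicit false
set_option linter.style.haveILetI false
noncomputable section

universe u

open CategoryTheory CategoryTheory.Limits AlgebraicGeometry TopologicalSpace Opposite

namespace Groth.Agent.Lib.Curves.MinPoint

open Groth.Agent.Lib PointIdeal

variable (k : Type u) [Field k] {X : Scheme.{u}} [X.Over (Spec (CommRingCat.of k))] [IsIntegral X]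
  [IsProper (X ↘ Spec (CommRingCat.of k))]

/-- Modules of positive degree are globally generated. -/
theorem isGloballyGenerated (hdim : topologicalKrullDim X = 1)
    (h1 : Subsingleton (Coh.HH X (Coh.structureModule X) 1)) {L : X.Modules} (hL : PicF.IsInvertible L)
    (hd : 0 < Curv2.deg k X L 1) : Curv2.IsGloballyGenerated L :=
  (NefDescent.main (k := k) hdim.le hL h1 (NefDescent.isNef_of_isAmple (k := k)
    (Groth.Agent.H97.CurvePositivity.isAmple_of_deg_pos (k := k) hdim hL hd))).2

/-- The degree of a regular closed point is positive and minus the degree of its ideal. -/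
theorem deg_ideal_point (hdim : topologicalKrullDim X = 1) {x : X} (hx : IsClosed ({x} : Set X))
    (hI : PicF.IsInvertible (ClSub.idealMod (ptI hx))) :
    Curv2.deg k X (ClSub.idealMod (ptI hx)) 1 = -(Euler.hdim k X (ClSub.quotMod (ptI hx)) 0 : ℤ) ∧
      0 < Euler.hdim k X (ClSub.quotMod (ptI hx)) 0 := by
  haveI := GlobalSections.isNoetherian_of_proper k X
  have hne : genericPoint X ≠ x :=
    (SmoothCurve.Stalk.ne_genericPoint_of_isClosed (by rw [hdim]; exact one_ne_zero) hx).symm
  have hs : genericPoint X ∉ ((ptI hx).support : Set X) := by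
    rw [support_ptI]; exact hne
  have hd := Degree.deg_idealMod (k := k) hdim.le hI hs
  refine ⟨hd, Nat.pos_of_ne_zero fun h0 => ?_⟩
  rw [h0, Nat.cast_zero, neg_zero] at hd
  haveI := ClSub.Quot.epi_toSubscheme (ptI hx)
  have hS := ClSub.Quot.idealSeq_shortExact (ptI hx)
  have hO := PicLoc.isInvertible_structureModule X
  have hi : ClSub.idealModι (ptI hx) ≠ 0 := fun h => by
    haveI : Mono (ClSub.idealModι (ptI hx)) := hS.mono_f
    have hz := IsZero.of_mono_eq_zero _ h
    have h1 := Modules.Stalk.isZero_iff_stalk_subsingleton.mp hz (genericPoint X)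
    have h2 := Degree.grank_of_isInvertible hI
    rw [CurveBundle.Rank.grank, Module.finrank_zero_of_subsingleton] at h2
    omega
  haveI := Positivity.isIso_of_deg_eq hdim.le hI hO (Degree.isGood (k := k) hdim.le hI)
    (Degree.isGood_structureModule (k := k) hdim.le) hi
    (by rw [hd, Degree.deg_structureModule])
  have hz : IsZero (ClSub.quotMod (ptI hx)) := by
    refine IsZero.of_epi_eq_zero (ClSub.toSubscheme (ptI hx)) ?_
    rw [← cancel_epi (ClSub.idealModι (ptI hx)), comp_zero]
    exact (ClSub.Quot.idealSeq (ptI hx)).zero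
  have : x ∈ CohB1.support (ClSub.quotMod (ptI hx)) := by
    rw [ClSub.Quot.support_quotMod, support_ptI]; rfl
  exact this (Modules.Stalk.isZero_iff_stalk_subsingleton.mp hz x)

/-- A regular closed point of minimal degree generates the Picard group. -/
theorem mem_zpowers [Infinite k] (hdim : topologicalKrullDim X = 1)
    (h1 : Subsingleton (Coh.HH X (Coh.structureModule X) 1))
    {P : X} (hP : IsClosed ({P} : Set X))
    (hmin : ∀ (Q : X) (hQ : IsClosed ({Q} : Set X)), IsRegularLocalRing (X.presheaf.stalk Q) →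
      Euler.hdim k X (ClSub.quotMod (ptI hP)) 0 ≤ Euler.hdim k X (ClSub.quotMod (ptI hQ)) 0)
    (hI : PicF.IsInvertible (ClSub.idealMod (ptI hP))) [PicGrp.Law X] (c : PicLoc.PicSet X) :
    c ∈ Subgroup.zpowers (PicGrp.cls (ClSub.idealMod (ptI hP)) hI) := by
  classical
  have hd1 := hdim.le
  haveI := GlobalSections.noetherianSpace_of_proper k X
  let D : PicLoc.PicSet X → ℤ := fun c => Curv2.deg k X (PicGrp.exists_eq_cls c).choose 1
  have hD : ∀ (L : X.Modules) (hL : PicF.IsInvertible L), D (PicGrp.cls L hL) = Curv2.deg k X L 1 :=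
    fun L hL => by
      obtain ⟨hL', e⟩ := (PicGrp.exists_eq_cls (PicGrp.cls L hL)).choose_spec
      exact Euler.deg_eq_of_iso ((PicGrp.cls_eq_cls_iff hL' hL).1 e.symm).some 1
  let φ : PicLoc.PicSet X →* Multiplicative ℤ := MonoidHom.mk' (fun c => Multiplicative.ofAdd (D c))
    fun a b => by
      obtain ⟨A, hA, rfl⟩ := PicGrp.exists_eq_cls a
      obtain ⟨B, hB, rfl⟩ := PicGrp.exists_eq_cls b
      have hAB := TensorMod.Invertible.isInvertible_tensorMod hA hB
      rw [show PicGrp.cls A hA * PicGrp.cls B hB = PicGrp.cls (CohB1.tensorMod A B) hAB from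
        Subtype.ext (PicGrp.cls_mul_cls_val hA hB), hD, hD, hD, ← ofAdd_add,
        Degree.deg_tensor hd1 hA hB]
  obtain ⟨hdI, hdpos⟩ := deg_ideal_point k hdim hP hI
  set d := Euler.hdim k X (ClSub.quotMod (ptI hP)) 0
  set g := PicGrp.cls (ClSub.idealMod (ptI hP)) hI
  let q : ℤ := D c / d
  obtain ⟨M, hM, hc⟩ := PicGrp.exists_eq_cls (c * g ^ q)
  have hMd : Curv2.deg k X M 1 = D c % d := by
    have h : φ (c * g ^ q) = Multiplicative.ofAdd (Curv2.deg k X M 1) := by
      rw [hc]
      exact congrArg Multiplicative.ofAdd (hD M hM)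
    rw [map_mul, map_zpow] at h
    have h' := congrArg Multiplicative.toAdd h
    simp only [φ, MonoidHom.mk'_apply, toAdd_mul, toAdd_zpow, toAdd_ofAdd, hD, g, hdI, smul_eq_mul] at h'
    rw [← h', Int.emod_def]
    ring
  have hd' : (0 : ℤ) < d := by exact_mod_cast hdpos
  rcases (Int.emod_nonneg (D c) hd'.ne').lt_or_eq with hr | hr
  · obtain ⟨F, hF, hreg⟩ := RegPoints.exists_finite_irregular (k := k) hdim
    obtain ⟨Q, hQ, hQF, hle⟩ := RegPoints.exists_point (k := k) hdim hM
      (isGloballyGenerated k hdim h1 hM (by omega)) (by omega) F hF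
    have := hmin Q hQ (hreg Q hQ hQF)
    have := Int.emod_lt_of_pos (D c) hd'
    omega
  · have gO := Degree.isGood_structureModule (k := k) (X := X) hd1
    have gM := Degree.isGood (k := k) hd1 hM
    haveI := gO.fin₀
    haveI := gM.fin₀
    have hne : Nontrivial (Coh.HH X (Coh.structureModule X) 0) :=
      (GlobalSections.h0Equiv (Coh.structureModule X)).toEquiv.nontrivial_congr.mpr
        (inferInstanceAs (Nontrivial Γ(X, ⊤)))
    have hpos : 0 < Euler.hdim k X (Coh.structureModule X) 0 := Module.finrank_pos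
    have h := Degree.deg_eq (k := k) (X := X) M
    rw [Euler.euler_eq gM.vanish, Euler.euler_eq gO.vanish, hMd, ← hr,
      show Euler.hdim k X (Coh.structureModule X) 1 = 0 from Module.finrank_zero_of_subsingleton] at h
    have : 0 < Euler.hdim k X M 0 := by omega
    obtain ⟨e⟩ := Positivity.nonempty_iso_of_deg_eq_zero hd1 hM gO gM
      (Module.nontrivial_of_finrank_pos this) (hMd.trans hr.symm)
    rw [(PicGrp.cls_eq_one_iff hM).2 ⟨e⟩] at hc
    exact Subgroup.mem_zpowers_iff.2 ⟨-q, by rw [zpow_neg, ← eq_inv_of_mul_eq_one_left hc]⟩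

/-- There are infinitely many regular closed points of minimal degree. -/
theorem infinite_minimal [Infinite k] (hdim : topologicalKrullDim X = 1)
    (h1 : Subsingleton (Coh.HH X (Coh.structureModule X) 1)) :
    {P : X | ∃ hP : IsClosed ({P} : Set X), IsRegularLocalRing (X.presheaf.stalk P) ∧
      ∀ (Q : X) (hQ : IsClosed ({Q} : Set X)), IsRegularLocalRing (X.presheaf.stalk Q) →
        Euler.hdim k X (ClSub.quotMod (ptI hP)) 0 ≤
          Euler.hdim k X (ClSub.quotMod (ptI hQ)) 0}.Infinite := by
  classical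
  haveI := GlobalSections.isNoetherian_of_proper k X
  intro hS
  obtain ⟨x₀, hx₀, hr₀⟩ := RegPoints.exists_regular_point (k := k) hdim
  have hex : ∃ n, ∃ (P : X) (hP : IsClosed ({P} : Set X)), IsRegularLocalRing (X.presheaf.stalk P) ∧
      Euler.hdim k X (ClSub.quotMod (ptI hP)) 0 = n := ⟨_, x₀, hx₀, hr₀, rfl⟩
  obtain ⟨P, hP, hPr, hPd⟩ := Nat.find_spec hex
  have hI := GenusZero.isInvertible_ptI hdim hP (RegPoints.isPrincipal_of_regular hdim hP hPr)
  obtain ⟨L, hL, hiso⟩ := TensorMod.Invertible.exists_inverse hI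
  obtain ⟨hdI, hpos⟩ := deg_ideal_point k hdim hP hI
  have hLd : Curv2.deg k X L 1 = Nat.find hex := by
    have := Degree.deg_of_isInverseOf (k := k) hdim.le hI hL hiso
    omega
  obtain ⟨F, hF, hreg⟩ := RegPoints.exists_finite_irregular (k := k) hdim
  obtain ⟨Q, hQ, hQF, hle⟩ := RegPoints.exists_point (k := k) hdim hL
    (isGloballyGenerated k hdim h1 hL (by omega)) (by omega) _ (hF.union hS)
  refine hQF (Or.inr ⟨hQ, hreg Q hQ fun h => hQF (Or.inl h), fun R hR hRr => ?_⟩)
  have := Nat.find_min' hex ⟨R, hR, hRr, rfl⟩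
  omega

end Groth.Agent.Lib.Curves.MinPoint
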