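import Groth.Agent.Lib.Curves.NefGG
import Groth.Agent.Lib.Curves.BaseChange
import Groth.Agent.Lib.Curves.VeryAmple
import Groth.Agent.Lib.SurfInt.CurvePos
import Groth.Agent.Lib.SchImage.Integral
import Groth.Agent.Lib.Ample.RelAmple
import Groth.Agent.H97.CurveProj
import Groth.Agent.H97.CurvePositivity
import Groth.Agent.H56.DimBaseChange

/-!
# Nef invertible modules on proper schemes of dimension at most one without `H¹(O)`, over any field

Nefness passes to an extension of the field: if `A` is ample and `L` is nef then `Lⁿ ⊗ A` is ample on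
each closed integral subscheme, hence has positive degree on all integral curves over it.
-/

set_option autoImplicit false
set_option linter.style.haveILetI false
universe u

open CategoryTheory CategoryTheory.Limits AlgebraicGeometry Opposite TopologicalSpace

noncomputable section

namespace Groth.Agent.Lib.Curves.NefDescent

open Groth.Agent.Lib Groth.Agent.Lib.ProjMor.Sec
open Groth.Agent.Lib.TensorMod.Pullback (pb pullbackTensorIso)
open Groth.Agent.Lib.TensorMod.Basic (tensorIso)

variable {k : Type u} [Field k] {X : Scheme.{u}} [X.Over (Spec (CommRingCat.of k))]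
  [IsProper (X ↘ Spec (CommRingCat.of k))]

/-- Nonnegative degree on the integral curves in `X`. -/
def IsNef (k : Type u) [Field k] (X : Scheme.{u}) [X.Over (Spec (CommRingCat.of k))] (L : X.Modules) : Prop :=
  ∀ J : X.IdealSheafData, IsIntegral J.subscheme → topologicalKrullDim J.subscheme = 1 →
    0 ≤ @Curv2.deg k _ J.subscheme ⟨J.subschemeι ≫ (X ↘ Spec (CommRingCat.of k))⟩
      ((Scheme.Modules.pullback J.subschemeι).obj L) 1

theorem isNef_of_isAmple {L : X.Modules} (hA : CohB1.IsAmple L) : IsNef k X L := fun J hJ hd => by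
  letI : J.subscheme.Over (Spec (CommRingCat.of k)) := ⟨J.subschemeι ≫ (X ↘ Spec (CommRingCat.of k))⟩
  haveI : IsProper (J.subscheme ↘ Spec (CommRingCat.of k)) :=
    inferInstanceAs (IsProper (J.subschemeι ≫ (X ↘ Spec (CommRingCat.of k))))
  haveI := hJ
  exact (SurfInt.CurvePos.deg_pos_of_isAmple hd (Ample.Pullback.isAmple_pullback J.subschemeι
    (Ample.Pullback.isQuasiAffine_of_isAffineHom _) hA)).le

variable (hdim : topologicalKrullDim X ≤ 1) {L : X.Modules} (hL : PicF.IsInvertible L)

include k hdim hL

/-- Powers of a nef module times an ample one are ample on integral subschemes. -/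
theorem isAmple_twist (hnef : IsNef k X L) {A : X.Modules} (hA : CohB1.IsAmple A)
    (J : X.IdealSheafData) (hJ : IsIntegral J.subscheme) (n : ℕ) :
    CohB1.IsAmple (CohB1.tensorMod (CohB1.tensorPow ((Scheme.Modules.pullback J.subschemeι).obj L) n)
      ((Scheme.Modules.pullback J.subschemeι).obj A)) := by
  letI : J.subscheme.Over (Spec (CommRingCat.of k)) := ⟨J.subschemeι ≫ (X ↘ Spec (CommRingCat.of k))⟩
  haveI : IsProper (J.subscheme ↘ Spec (CommRingCat.of k)) :=
    inferInstanceAs (IsProper (J.subschemeι ≫ (X ↘ Spec (CommRingCat.of k))))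
  haveI := hJ
  have hL' := PicLoc.isInvertible_pullback J.subschemeι hL
  have hA' := Ample.Pullback.isAmple_pullback J.subschemeι
    (Ample.Pullback.isQuasiAffine_of_isAffineHom _) hA
  have hd : topologicalKrullDim J.subscheme ≤ 1 :=
    (J.subschemeι.isClosedEmbedding.isInducing.topologicalKrullDim_le).trans hdim
  have hAi := (Ample.Pow.isAmple_iff.1 hA').1
  have hM := TensorMod.Invertible.isInvertible_tensorMod
    (TensorMod.Invertible.isInvertible_tensorPow hL' n) hAi
  by_cases h1 : topologicalKrullDim J.subscheme = 1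
  · refine H97.CurvePositivity.isAmple_of_deg_pos (k := k) h1 hM ?_
    rw [Degree.deg_tensor hd (TensorMod.Invertible.isInvertible_tensorPow hL' n) hAi,
      SurfInt.CurvePos.deg_tensorPow hd hL']
    have h2 := SurfInt.CurvePos.deg_pos_of_isAmple (k := k) h1 hA'
    have h3 : (0 : ℤ) ≤ n * Curv2.deg k J.subscheme ((Scheme.Modules.pullback J.subschemeι).obj L) 1 :=
      mul_nonneg n.cast_nonneg (hnef J hJ h1)
    omega
  · haveI : IsAffine J.subscheme := by
      have h0d : topologicalKrullDim J.subscheme ≤ 0 := Order.le_of_lt_succ (lt_of_le_of_ne hd h1)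
      haveI : Subsingleton J.subscheme := ⟨by
        suffices hg : ∀ a : J.subscheme, a = genericPoint J.subscheme from
          fun a b => (hg a).trans (hg b).symm
        intro a
        have hmax := Order.krullDim_nonpos_iff_forall_isMax.mp h0d
          ⟨closure {a}, isIrreducible_singleton.closure, isClosed_closure⟩
        have hu := hmax (b := ⟨Set.univ, IrreducibleSpace.isIrreducible_univ _, isClosed_univ⟩)
          (Set.subset_univ _)
        exact ((genericPoint_specializes a).antisymm
          (specializes_iff_mem_closure.mpr (hu (Set.mem_univ (genericPoint J.subscheme))))).eq.symm⟩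
      obtain ⟨U, hU, hz, -⟩ := exists_isAffineOpen_mem_and_subset
        (show genericPoint J.subscheme ∈ (⊤ : J.subscheme.Opens) from trivial)
      obtain rfl : U = ⊤ := top_le_iff.mp fun y _ => Subsingleton.elim _ y ▸ hz
      haveI : IsAffine (⊤ : J.subscheme.Opens) := hU
      exact .of_isIso (Scheme.topIso J.subscheme).inv
    exact Ample.RelAmple.isAmple_of_isAffine hM

/-- Nefness passes to a scheme affine over `X`. -/
theorem isNef_pullback (hnef : IsNef k X L) {K : Type u} [Field K] {X' : Scheme.{u}}
    [X'.Over (Spec (CommRingCat.of K))] [IsProper (X' ↘ Spec (CommRingCat.of K))]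
    (hdim' : topologicalKrullDim X' ≤ 1) (g : X' ⟶ X) [IsAffineHom g] :
    IsNef K X' ((Scheme.Modules.pullback g).obj L) := by
  intro J' hJ' hd'
  haveI := GlobalSections.isNoetherian_of_proper k X
  haveI : X.IsSeparated := ⟨by
    rw [← terminal.comp_from (X ↘ Spec (CommRingCat.of k))]; infer_instance⟩
  obtain ⟨A, hA⟩ := H97.CurveProj.exists_isAmple (X := X) hdim
  haveI := hJ'
  let f := J'.subschemeι ≫ g
  haveI := SchImage.Integral.isIntegral f
  let t := f.toImage
  haveI : IsAffineHom (t ≫ f.imageι) := by rw [f.toImage_imageι]; infer_instance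
  haveI : IsAffineHom t := IsAffineHom.of_comp t f.imageι
  letI : J'.subscheme.Over (Spec (CommRingCat.of K)) := ⟨J'.subschemeι ≫ (X' ↘ Spec (CommRingCat.of K))⟩
  haveI : IsProper (J'.subscheme ↘ Spec (CommRingCat.of K)) :=
    inferInstanceAs (IsProper (J'.subschemeι ≫ (X' ↘ Spec (CommRingCat.of K))))
  have hLf := PicLoc.isInvertible_pullback f hL
  have hAi := (Ample.Pow.isAmple_iff.1 hA).1
  have hAf := PicLoc.isInvertible_pullback f hAi
  let e : ∀ M : X.Modules, (pb t).obj ((pb f.imageι).obj M) ≅ (pb f).obj M := fun M =>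
    (Scheme.Modules.pullbackComp t f.imageι).app M ≪≫ (Scheme.Modules.pullbackCongr f.toImage_imageι).app M
  have hpos : ∀ n : ℕ, 0 < (n : ℤ) * Curv2.deg K J'.subscheme ((pb f).obj L) 1 +
      Curv2.deg K J'.subscheme ((pb f).obj A) 1 := fun n => by
    have h := Ample.Pullback.isAmple_pullback t (Ample.Pullback.isQuasiAffine_of_isAffineHom t)
      (isAmple_twist (k := k) hdim hL hnef hA f.ker (inferInstanceAs (IsIntegral f.image)) n)
    have e' := pullbackTensorIso t (CohB1.tensorPow ((pb f.imageι).obj L) n) ((pb f.imageι).obj A) ≪≫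
      tensorIso (Ample.Pow.pullbackPow t _ n ≪≫ Ample.Pow.powIso (e L) n) (e A)
    have h' := SurfInt.CurvePos.deg_pos_of_isAmple (k := K) hd' (Ample.Pow.isAmple_of_iso e' h)
    rwa [Degree.deg_tensor hd'.le (TensorMod.Invertible.isInvertible_tensorPow hLf n) hAf,
      SurfInt.CurvePos.deg_tensorPow hd'.le hLf] at h'
  have key : 0 ≤ Curv2.deg K J'.subscheme ((pb f).obj L) 1 := by
    by_contra hneg
    set d := Curv2.deg K J'.subscheme ((pb f).obj L) 1
    have h0 := hpos 0
    set a := Curv2.deg K J'.subscheme ((pb f).obj A) 1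
    have hn := hpos a.toNat
    simp only [Nat.cast_zero, zero_mul, zero_add] at h0
    rw [Int.toNat_of_nonneg h0.le] at hn
    nlinarith
  refine key.trans_eq ?_
  unfold Curv2.deg
  exact congrArg (· - _) (Euler.euler_eq_of_iso (k := K) ((Scheme.Modules.pullbackComp J'.subschemeι g).app L).symm)

/-- Nef, `H¹(O) = 0`: no `H¹` and globally generated. -/
theorem main (h1 : Subsingleton (Coh.HH X (Coh.structureModule X) 1)) (hnef : IsNef k X L) :
    Subsingleton (Coh.HH X L 1) ∧ Curv2.IsGloballyGenerated L := by
  haveI := GlobalSections.isNoetherian_of_proper k X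
  let K := AlgebraicClosure k
  let f := X ↘ Spec (CommRingCat.of k)
  let b := Spec.map (CommRingCat.ofHom (algebraMap k K))
  let X' := pullback f b
  letI : X'.Over (Spec (CommRingCat.of K)) := ⟨pullback.snd f b⟩
  let g : X' ⟶ X := pullback.fst f b
  have hpb : IsPullback g (X' ↘ Spec (CommRingCat.of K)) f b := IsPullback.of_hasPullback f b
  haveI := BaseChange.isProper hpb
  haveI := GlobalSections.isNoetherian_of_proper K X'
  have hdim' : topologicalKrullDim X' ≤ 1 :=
    (H56.DimBaseChange.topologicalKrullDim_baseChange b f _ g hpb).trans_le hdim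
  have hO := PicLoc.isInvertible_structureModule X
  have h1' : Subsingleton (Coh.HH X' (Coh.structureModule X') 1) := by
    haveI := (Degree.isGood_structureModule (k := K) (X := X') hdim').fin₁
    refine (Module.finrank_zero_iff (R := K)).mp ?_
    haveI := h1
    exact (BaseChange.hdim_structureModule hpb 1).trans Module.finrank_zero_of_subsingleton
  haveI : IsAffineHom b := inferInstance
  haveI : IsAffineHom g := MorphismProperty.of_isPullback hpb.flip ‹IsAffineHom b›
  have hL' := PicLoc.isInvertible_pullback g hL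
  obtain ⟨hs, hgen⟩ := NefGG.main (k := K) hdim' h1' hL'
    (isNef_pullback (k := k) hdim hL hnef hdim' g) ⊥
  -- remove the trivial quotient
  haveI : Mono (_root_.ClSub.toSubscheme (⊥ : X'.IdealSheafData)) := by
    refine ClSub.Basis.mono_of_injective_affine _ fun U => ?_
    rw [injective_iff_map_eq_zero]
    intro (r : Γ(X', U.1)) hr
    have hr' : r ∈ (⊥ : X'.IdealSheafData).ideal U := by
      rw [← (⊥ : X'.IdealSheafData).ker_subschemeι_app U, RingHom.mem_ker]
      exact hr
    rwa [Scheme.IdealSheafData.ideal_bot, Pi.bot_apply, Ideal.mem_bot] at hr'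
  haveI := ClSub.Quot.epi_toSubscheme (⊥ : X'.IdealSheafData)
  haveI : IsIso (_root_.ClSub.toSubscheme (⊥ : X'.IdealSheafData)) := isIso_of_mono_of_epi _
  let L' := (Scheme.Modules.pullback g).obj L
  let i : CohB1.tensorMod L' (_root_.ClSub.quotMod (⊥ : X'.IdealSheafData)) ≅ L' :=
    tensorIso (Iso.refl L') (asIso (_root_.ClSub.toSubscheme (⊥ : X'.IdealSheafData))).symm ≪≫
      TensorMod.Basic.rightUnit L'
  have hs' : Subsingleton (Coh.HH X' L' 1) := H34.HOne.h1_of_iso i hs
  refine ⟨?_, ?_⟩
  · haveI := (Degree.isGood (k := k) hdim hL).fin₁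
    refine (Module.finrank_zero_iff (R := k)).mp ?_
    exact (BaseChange.hdim_eq hpb hL 1).symm.trans Module.finrank_zero_of_subsingleton
  obtain ⟨N, t, hspan, -⟩ := GGEmbed.exists_sections (k := k) hdim hL
  haveI : Surjective b := ⟨fun _ => ⟨IsLocalRing.closedPoint K, Subsingleton.elim _ _⟩⟩
  haveI : Surjective g := MorphismProperty.of_isPullback hpb.flip ‹Surjective b›
  haveI := TensorMod.QCohInv.isQCoh_of_isInvertible hL
  have hgg' : Curv2.IsGloballyGenerated L' :=
    Ample.GG.isGloballyGenerated_of_genAt fun x => (hgen x).of_iso i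
  letI := GlobalSections.secModule k L
  have hs1 : Submodule.span k (Set.range fun j => (show (L.val.obj (op ⊤) : Type u) from t j)) = ⊤ := by
    refine eq_top_iff.2 fun s _ => ?_
    obtain ⟨r, hr⟩ := hspan s
    exact (Submodule.mem_span_range_iff_exists_fun k).mpr ⟨r, hr.symm⟩
  have hcov' := exists_mem_locus hL' (VeryAmple.generatedBy_of_span hgg' _
    (BaseChange.span_pullSec_of_span hpb L t hs1))
  have hcov : ∀ x, ∃ j, x ∈ locus (t j) := fun x => by
    obtain ⟨x', rfl⟩ := g.surjective x
    obtain ⟨j, hj⟩ := hcov' x'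
    exact ⟨j, (locus_pullback hL g (t j)).le hj⟩
  refine Ample.GG.isGloballyGenerated_of_genAt fun x => ?_
  obtain ⟨j, hj⟩ := hcov x
  refine eq_top_iff.2 fun v _ => ?_
  obtain ⟨a, rfl⟩ := (H34.UFDExt.Gen.IsGen.stalk_bijective (M := L)
    (fun W h => isGen_locus (t j) W h) hj).2 v
  exact Submodule.smul_mem _ _ (Submodule.subset_span
    ⟨t j, (TopCat.Presheaf.germ_res_apply L.presheaf (homOfLE le_top) x hj (t j)).symm⟩)

omit hdim in
/-- The dimension of the sections. -/
theorem finrank_h0 (hd : topologicalKrullDim X ≤ 1) (h1 : Subsingleton (Coh.HH X L 1))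
    (hO : Subsingleton (Coh.HH X (Coh.structureModule X) 1)) :
    (Module.finrank k (Coh.HH X L 0) : ℤ) =
      Module.finrank k (Coh.HH X (Coh.structureModule X) 0) + Curv2.deg k X L 1 := by
  have e₁ : Euler.hdim k X L 1 = 0 := Module.finrank_zero_of_subsingleton
  have e₂ : Euler.hdim k X (Coh.structureModule X) 1 = 0 := Module.finrank_zero_of_subsingleton
  have h := Degree.deg_eq (k := k) (X := X) L
  rw [Euler.euler_eq (Degree.isGood (k := k) hd hL).vanish,
    Euler.euler_eq (Degree.isGood_structureModule (k := k) hd).vanish, e₁, e₂] at h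
  change (Euler.hdim k X L 0 : ℤ) = Euler.hdim k X (Coh.structureModule X) 0 + _
  omega

end Groth.Agent.Lib.Curves.NefDescent
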