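import Groth.Agent.Lib.Curves.GGEmbed
import Groth.Agent.Lib.Curves.EqualityCase
import Groth.Agent.Lib.Curves.IdealTwist
import Groth.Agent.Lib.Curves.Clifford
import Groth.Agent.Lib.SurfInt.Surface
import Groth.Agent.Lib.SurfInt.Semiample
import Groth.Agent.Lib.SurfInt.Mul
import Groth.Agent.Lib.ZarCoh.AnnIdeal
import Groth.Agent.Lib.ProjCoh.Gen
import Groth.Agent.Lib.Devissage.Closure
import Groth.Agent.H34.DefAmple
import Mathlib.RingTheory.Ideal.AssociatedPrime.Localization

/-!
# Nef invertible modules on proper schemes of dimension at most one without `H¹(O)`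

Over an algebraically closed field such a module has no `H¹` and is globally generated.  The proof is an
induction over closed subschemes: if `V(J)` is not integral and `P` is the ideal of a component, the
kernel `N` of `O/J ⟶ O/P` has no `H¹` as `H⁰(O/P) = k`, and is annihilated by an ideal larger than
`J`, so that twisting `N` leaves `H¹` zero.
-/

set_option autoImplicit false
set_option linter.style.haveILetI false
universe u

open CategoryTheory CategoryTheory.Limits AlgebraicGeometry Opposite TopologicalSpace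

noncomputable section

namespace Groth.Agent.Lib.Curves.NefGG

open Groth.Agent.Lib Groth.Agent.Lib.Modules Groth.Agent.Lib.Ample.GG
open Groth.Agent.Lib.TensorMod.Basic (comm assoc tensorIso leftUnit rightUnit tensorBy tmap)
open Groth.Agent.Lib.TensorMod.Free (pairM)
open Groth.Agent.Lib.Curves.LES (mapK exactK₁ exactK₂ exactK₃ isoK)

variable {X : Scheme.{u}}

section Modules

theorem genAt_of_subsingleton {M : X.Modules} {x : X} (h : Subsingleton (M.presheaf.stalk x)) :
    GenAt M x :=
  eq_top_iff.2 fun v _ => (Subsingleton.elim 0 v) ▸ zero_mem _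

/-- A module killed by an ideal is unchanged by the tensor product with the quotient. -/
theorem nonempty_iso_tensor_quot {N : X.Modules} (K : X.IdealSheafData)
    (h : ∀ (V : X.affineOpens) (a : Γ(X, V.1)), a ∈ K.ideal V → ∀ n : Γ(N, V.1), a • n = 0) :
    Nonempty (CohB1.tensorMod (_root_.ClSub.quotMod K) N ≅ N) := by
  let S := ClSub.Quot.idealSeq K
  have hS := ClSub.Quot.idealSeq_shortExact K
  haveI : Epi S.g := hS.epi_g
  obtain ⟨w, hw⟩ := H34.HOne.exact_tensor N hS.exact
  obtain ⟨hex, hepi⟩ := hw w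
  have hzero : (tensorBy N).map S.f = 0 := by
    change tmap (_root_.ClSub.idealModι K) (𝟙 N) = 0
    rw [← cancel_mono (leftUnit N).hom, zero_comp]
    refine TensorMod.Free.hom_ext_pairM fun U (a : Γ(_root_.ClSub.idealMod K, U)) (n : Γ(N, U)) => ?_
    rw [TensorMod.Free.pairM_tmap_comp]
    refine (NormalGen.pairM_leftUnit N _ _).trans ?_
    change (show Γ(X, U) from (_root_.ClSub.idealModι K).app U a) • n = 0
    choose V hV hxV hVle using fun x : U =>
      exists_isAffineOpen_mem_and_subset (U := U) x.2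
    refine TensorMod.HomGlue.sections_ext_cover (fun x : U => (⟨V x, hV x⟩ : X.affineOpens).1) N (V := U)
      (fun y hy => Opens.mem_iSup.2 ⟨⟨y, hy⟩, hxV _⟩) fun x => ?_
    change TensorMod.Dual.rs N (inf_le_left : U ⊓ V x ≤ U) _ = TensorMod.Dual.rs N inf_le_left 0
    have hle : V x ≤ U := hVle x
    have he : U ⊓ V x = V x := inf_eq_right.mpr hle
    suffices h0 : TensorMod.Dual.rs N hle ((show Γ(X, U) from (_root_.ClSub.idealModι K).app U a) • n) = 0 by
      have h' := congrArg (TensorMod.Dual.rs N he.le) h0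
      rw [TensorMod.Dual.rs_rs] at h'
      refine h'.trans ?_
      exact (map_zero (N.presheaf.map _).hom).trans (map_zero (N.presheaf.map _).hom).symm
    rw [TensorMod.Dual.rs_smul]
    refine h ⟨V x, hV x⟩ _ ?_ _
    refine (ClSub.Sections.mem_range_idealModι_app_affine_iff K ⟨V x, hV x⟩ _).mp
      ⟨TensorMod.Dual.rs (_root_.ClSub.idealMod K) hle a, ?_⟩
    exact (TensorMod.HomGlue.rs_app (_root_.ClSub.idealModι K) hle a).symm
  haveI : Mono ((tensorBy N).map S.g) := hex.mono_g hzero
  haveI := hepi
  haveI : IsIso ((tensorBy N).map S.g) := isIso_of_mono_of_epi _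
  exact ⟨(asIso ((tensorBy N).map S.g)).symm ≪≫ leftUnit N⟩

variable (J P : X.IdealSheafData) (hJP : J ≤ P)

include hJP

theorem idealModι_toSubscheme_of_le :
    _root_.ClSub.idealModι J ≫ _root_.ClSub.toSubscheme P = 0 := by
  refine (Modules.Stalk.hom_ext_stalk fun x => ?_)
  ext v
  obtain ⟨U, hxU, m, rfl⟩ := (_root_.ClSub.idealMod J).presheaf.exists_germ_eq v
  obtain ⟨V, hVU, hxV⟩ := ClSub.Basis.exists_affine_le hxU
  rw [← ClSub.Basis.germ_map hVU hxV m, Modules.Stalk.stalkFunctor_map_germ]
  set m' := (_root_.ClSub.idealMod J).presheaf.map (homOfLE hVU).op m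
  have key : ∀ t : Γ(X, V.1), t ∈ J.ideal V → (_root_.ClSub.toSubscheme P).app V.1 t = 0 := fun t ht => by
    have h := hJP V ht
    rwa [← P.ker_subschemeι_app V, RingHom.mem_ker] at h
  have h0 := key _ ((ClSub.Sections.mem_range_idealModι_app_affine_iff J V _).mp ⟨m', rfl⟩)
  rw [Scheme.Modules.Hom.comp_app, Functor.map_zero]
  exact (congrArg ((_root_.ClSub.quotMod P).presheaf.germ V.1 x hxV) h0).trans (map_zero _)

/-- The map `O/J ⟶ O/P`. -/
def quotHom : _root_.ClSub.quotMod J ⟶ _root_.ClSub.quotMod P :=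
  haveI := (ClSub.Quot.idealSeq_shortExact J).epi_g
  (ClSub.Quot.idealSeq_shortExact J).exact.desc (_root_.ClSub.toSubscheme P)
    (idealModι_toSubscheme_of_le J P hJP)

theorem toSubscheme_quotHom :
    _root_.ClSub.toSubscheme J ≫ quotHom J P hJP = _root_.ClSub.toSubscheme P :=
  haveI := (ClSub.Quot.idealSeq_shortExact J).epi_g
  (ClSub.Quot.idealSeq_shortExact J).exact.g_desc _ _

theorem epi_quotHom : Epi (quotHom J P hJP) := by
  haveI : Epi (_root_.ClSub.toSubscheme J ≫ quotHom J P hJP) := by
    rw [toSubscheme_quotHom]; exact ClSub.Quot.epi_toSubscheme P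
  exact epi_of_epi (_root_.ClSub.toSubscheme J) _

end Modules

/-- Generation lifts along a map of cyclic modules onto a nonzero quotient. -/
theorem genAt_of_lift {L M Q : X.Modules} (hL : PicF.IsInvertible L) (π : L ⟶ M) [Epi π] (g : M ⟶ Q)
    [Epi g] {x : X} (hsurj : Function.Surjective (g.app ⊤)) (hQ : GenAt Q x)
    (hx : x ∈ CohB1.support Q) : GenAt M x := by
  by_contra hne
  obtain ⟨U, e, hxU, he⟩ := TensorMod.Gen.isInvertible_iff.1 hL x
  have hbe := H34.UFDExt.Gen.IsGen.stalk_bijective (M := L) he hxU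
  set v₀ := StalkModule.stalkMapₗ π x (gm hxU e)
  have hgen : ∀ w : M.presheaf.stalk x, ∃ a : X.presheaf.stalk x, a • v₀ = w := fun w => by
    obtain ⟨l, rfl⟩ := (StalkModule.epi_iff_stalkMapₗ_surjective π).1 inferInstance x w
    obtain ⟨a, rfl⟩ := hbe.2 l
    exact ⟨a, (map_smul _ a _).symm⟩
  let p := StalkModule.stalkMapₗ g x
  have hp : Function.Surjective p := (StalkModule.epi_iff_stalkMapₗ_surjective g).1 inferInstance x
  let S := Submodule.span (X.presheaf.stalk x) (Set.range fun t : Γ(M, ⊤) => gm (memTop x) t)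
  have hmap : S.map p = ⊤ := by
    rw [eq_top_iff, ← hQ, Submodule.span_le]
    rintro _ ⟨t, rfl⟩
    obtain ⟨t', rfl⟩ := hsurj t
    exact ⟨_, Submodule.subset_span ⟨t', rfl⟩, StalkModule.stalkMapₗ_germ g (memTop x) t'⟩
  obtain ⟨v, hvS, hv⟩ : p v₀ ∈ S.map p := hmap ▸ trivial
  obtain ⟨c, rfl⟩ := hgen v
  have hcn : ¬ IsUnit c := fun hu => hne (eq_top_iff.2 fun w _ => by
    obtain ⟨a, rfl⟩ := hgen w
    obtain ⟨d, hd⟩ := hu.exists_left_inv
    have : (a * d) • c • v₀ ∈ S := Submodule.smul_mem _ _ hvS
    simpa only [smul_smul, mul_assoc, hd, mul_one] using this)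
  have h0 : p v₀ = 0 := by
    have hu : IsUnit (1 - c) := IsLocalRing.isUnit_one_sub_self_of_mem_nonunits c hcn
    rw [← hu.smul_eq_zero, sub_smul, one_smul, sub_eq_zero]
    exact hv.symm.trans (map_smul p _ _)
  refine hx (subsingleton_of_forall_eq 0 fun q => ?_)
  obtain ⟨w, rfl⟩ := hp q
  obtain ⟨a, rfl⟩ := hgen w
  exact (map_smul p _ _).trans (by rw [h0, smul_zero])

variable {k : Type u} [Field k] [X.Over (Spec (CommRingCat.of k))]
  [IsProper (X ↘ Spec (CommRingCat.of k))] (hdim : topologicalKrullDim X ≤ 1)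
  (h1 : Subsingleton (Coh.HH X (Coh.structureModule X) 1))
  {L : X.Modules} (hL : PicF.IsInvertible L)

include k hdim

theorem h1_quot (h1 : Subsingleton (Coh.HH X (Coh.structureModule X) 1)) (J : X.IdealSheafData) :
    Subsingleton (Coh.HH X (_root_.ClSub.quotMod J) 1) := by
  haveI := GlobalSections.isNoetherian_of_proper k X
  haveI := ClSub.Quot.epi_toSubscheme J
  exact H34.HOne.h1_of_epi hdim (_root_.ClSub.toSubscheme J) h1

include h1 hL

omit h1 in
/-- The restriction to a subscheme, pushed forward. -/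
theorem exists_pushIso (J : X.IdealSheafData) :
    Nonempty (CohB1.tensorMod L (_root_.ClSub.quotMod J) ≅
      (Coh.push J.subschemeι).obj ((Scheme.Modules.pullback J.subschemeι).obj L)) :=
  ⟨(Modules.ProjFormula.projIso J.subschemeι (Modules.DualBasis.hasDBases_of_isFinLocFree
    (TensorMod.LocFree.of_rank (TensorMod.LocFree.of_isInvertible hL)))).app
      (Coh.structureModule J.subscheme) ≪≫ (Coh.push J.subschemeι).mapIso (rightUnit _)⟩

omit h1 in
theorem genAt_of_notMem {J : X.IdealSheafData} {x : X} (hx : x ∉ J.support) :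
    GenAt (CohB1.tensorMod L (_root_.ClSub.quotMod J)) x := by
  refine genAt_of_subsingleton ?_
  by_contra hc
  have : x ∈ CohB1.support (CohB1.tensorMod L (_root_.ClSub.quotMod J)) := hc
  rw [Snapper.Twist.support_twist hL, ClSub.Quot.support_quotMod] at this
  exact hx this

/-- The integral case. -/
theorem of_isIntegral [IsAlgClosed k] (J : X.IdealSheafData) (hI : IsIntegral J.subscheme)
    (hnef : topologicalKrullDim J.subscheme = 1 →
      0 ≤ @Curv2.deg k _ J.subscheme ⟨J.subschemeι ≫ (X ↘ Spec (CommRingCat.of k))⟩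
        ((Scheme.Modules.pullback J.subschemeι).obj L) 1) :
    Subsingleton (Coh.HH X (CohB1.tensorMod L (_root_.ClSub.quotMod J)) 1) ∧
      ∀ x, GenAt (CohB1.tensorMod L (_root_.ClSub.quotMod J)) x := by
  obtain ⟨e⟩ := exists_pushIso (k := k) hdim hL J
  letI : J.subscheme.Over (Spec (CommRingCat.of k)) := ⟨J.subschemeι ≫ (X ↘ Spec (CommRingCat.of k))⟩
  haveI : IsProper (J.subscheme ↘ Spec (CommRingCat.of k)) :=
    inferInstanceAs (IsProper (J.subschemeι ≫ (X ↘ Spec (CommRingCat.of k))))
  haveI := GlobalSections.noetherianSpace_of_proper k J.subscheme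
  set L' := (Scheme.Modules.pullback J.subschemeι).obj L
  have hL' : PicF.IsInvertible L' := PicLoc.isInvertible_pullback J.subschemeι hL
  haveI := TensorMod.QCohInv.isQCoh_of_isInvertible hL'
  haveI := TensorMod.QCohInv.isQCoh_structureModule J.subscheme
  have hd : topologicalKrullDim J.subscheme ≤ 1 :=
    (J.subschemeι.isClosedEmbedding.isInducing.topologicalKrullDim_le).trans hdim
  have h1Z : Subsingleton (Coh.HH J.subscheme (Coh.structureModule J.subscheme) 1) :=
    (ZarCoh.Morph.affineEquiv J.subschemeι (Coh.structureModule J.subscheme) 1).toEquiv.subsingleton_congr.mp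
      (h1_quot (k := k) hdim h1 J)
  suffices h : Subsingleton (Coh.HH J.subscheme L' 1) ∧ ∀ z, GenAt L' z by
    refine ⟨?_, fun x => ?_⟩
    · haveI := h.1
      haveI : Subsingleton (Coh.HH X ((Coh.push J.subschemeι).obj L') 1) :=
        (ZarCoh.Morph.affineEquiv J.subschemeι L' 1).toEquiv.subsingleton
      exact (isoK k e 1).toEquiv.subsingleton
    · by_cases hx : x ∈ J.support
      · obtain ⟨z, rfl⟩ : x ∈ Set.range J.subschemeι := by rw [J.range_subschemeι]; exact hx
        exact (SurfInt.Semiample.genAt_push J.subschemeι (h.2 z)).of_iso e.symm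
      · exact genAt_of_notMem (k := k) hdim hL hx
  by_cases h1d : topologicalKrullDim J.subscheme = 1
  · have hh0 := GlobalSections.finrank_h0_structure (k := k) (X := J.subscheme)
    have hg : Curv2.genus k J.subscheme = 0 := by
      haveI := h1Z
      exact Module.finrank_zero_of_subsingleton
    have hdeg : 0 ≤ Curv2.deg k J.subscheme L' 1 := hnef h1d
    haveI hs := Clifford.subsingleton_one_of_deg k hd hh0 hL' (by omega)
    refine ⟨hs, H34.GlobGen.gl_eq_top_of_gg ?_⟩
    have hrr := Degree.riemann_roch (k := k) hd hh0 hL'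
    have hz : Euler.hdim k J.subscheme L' 1 = 0 := Module.finrank_zero_of_subsingleton
    rcases hdeg.lt_or_eq with hp | hp
    · exact EqualityCase.isGloballyGenerated k h1d hh0 hL' (by omega) hp
    · obtain ⟨i⟩ := Positivity.nonempty_iso_of_deg_eq_zero (k := k) hd hL'
        (Degree.isGood_structureModule hd) (Degree.isGood hd hL')
        (Module.nontrivial_of_finrank_pos (R := k) (by
          change 0 < Euler.hdim k J.subscheme L' 0
          omega)) hp.symm
      exact H34.GlobGen.gg_of_epi i.inv (H34.GlobGen.gg_structureModule _)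
  · have h0d : topologicalKrullDim J.subscheme ≤ 0 :=
      Order.le_of_lt_succ (lt_of_le_of_ne hd h1d)
    refine ⟨Snapper.Chi.subsingleton_HH_of_lt (d := 0) (by exact_mod_cast h0d) L' one_pos, fun z => ?_⟩
    haveI : Subsingleton J.subscheme := ⟨by
      suffices hg : ∀ a : J.subscheme, a = genericPoint J.subscheme from fun a b => (hg a).trans (hg b).symm
      intro a
      have hmax := Order.krullDim_nonpos_iff_forall_isMax.mp h0d
        ⟨closure {a}, isIrreducible_singleton.closure, isClosed_closure⟩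
      have hu := hmax (b := ⟨Set.univ, IrreducibleSpace.isIrreducible_univ _, isClosed_univ⟩)
        (Set.subset_univ _)
      exact ((genericPoint_specializes a).antisymm
        (specializes_iff_mem_closure.mpr (hu (Set.mem_univ (genericPoint J.subscheme))))).eq.symm⟩
    obtain ⟨U, e', hzU, he'⟩ := TensorMod.Gen.isInvertible_iff.1 hL' z
    obtain rfl : U = ⊤ := top_le_iff.mp fun y _ => Subsingleton.elim z y ▸ hzU
    refine eq_top_iff.2 fun v _ => ?_
    obtain ⟨c, rfl⟩ := (H34.UFDExt.Gen.IsGen.stalk_bijective (M := L') he' hzU).2 v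
    exact Submodule.smul_mem _ _ (Submodule.subset_span ⟨e', rfl⟩)

omit h1 hL in
/-- A component of a closed subscheme through a point. -/
theorem exists_component (J : X.IdealSheafData) {x : X} (hx : x ∈ J.support) :
    ∃ P : X.IdealSheafData, J ≤ P ∧ x ∈ P.support ∧ IsIntegral P.subscheme ∧
      (P ≠ J → ∃ (U : X.affineOpens) (a : Γ(X, U.1)), a ∉ J.ideal U ∧
        ∀ s ∈ P.ideal U, a * s ∈ J.ideal U) := by
  haveI := GlobalSections.isNoetherian_of_proper k X
  obtain ⟨y, hyJ, hyx, hmax⟩ := Ideal.Prime.exists_maximal_generization J.support.isClosed hx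
  let P := IntMult.ptIdeal y
  have hsupp : (P.support : Set X) = closure ({y} : Set X) := rfl
  haveI : AlgebraicGeometry.IsReduced P.subscheme := H75.RedSub.isReduced_vanishingIdeal _
  haveI : IrreducibleSpace P.subscheme := by
    let i := P.subschemeι
    obtain ⟨z, hz⟩ : y ∈ Set.range i := by
      rw [Devissage.Closure.range_ptIdeal y]; exact subset_closure rfl
    have hcl : closure {z} = Set.univ := by
      rw [i.isClosedEmbedding.isInducing.closure_eq_preimage_closure_image, Set.image_singleton, hz,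
        ← Devissage.Closure.range_ptIdeal y, Set.preimage_range]
    exact { isPreirreducible_univ := hcl ▸ isIrreducible_singleton.closure.2
            toNonempty := ⟨z⟩ }
  have hJP : J ≤ P := Scheme.IdealSheafData.le_support_iff_le_vanishingIdeal.mp
    (closure_minimal (Set.singleton_subset_iff.mpr hyJ) J.support.isClosed)
  refine ⟨P, hJP, hsupp.ge (specializes_iff_mem_closure.mp hyx),
    isIntegral_of_irreducibleSpace_of_isReduced _, fun _ => ?_⟩
  obtain ⟨U', hU', hyU, -⟩ := exists_isAffineOpen_mem_and_subset (show y ∈ (⊤ : X.Opens) from trivial)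
  let U : X.affineOpens := ⟨U', hU'⟩
  haveI : IsNoetherianRing Γ(X, U.1) := IsLocallyNoetherian.component_noetherian U
  set p := (U.2.primeIdealOf ⟨y, hyU⟩).asIdeal with hp
  have hmin : p ∈ (J.ideal U).minimalPrimes := by
    refine ⟨⟨(U.2.primeIdealOf ⟨y, hyU⟩).2,
      (Ideal.Prime.mem_support_iff_le_prime J U hyU).mp hyJ⟩, fun q hq hle => ?_⟩
    haveI := hq.1
    obtain ⟨z, hz, rfl⟩ := AssPt.Basic.exists_point_of_prime U.2 q
    have hzy := (AssPt.Basic.specializes_iff_primeIdealOf U.2 hyU hz).mpr hle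
    have := hmax z ((Ideal.Prime.mem_support_iff_le_prime J U hz).mpr hq.2) hzy
    subst this
    exact le_rfl
  have hass : p ∈ associatedPrimes Γ(X, U.1) (Γ(X, U.1) ⧸ J.ideal U) :=
    Module.associatedPrimes.minimalPrimes_annihilator_subset_associatedPrimes _ _
      (by rwa [Ideal.annihilator_quotient])
  obtain ⟨hprime, m, hm⟩ := isAssociatedPrime_iff.mp hass
  obtain ⟨a, rfl⟩ := Ideal.Quotient.mk_surjective m
  have hPp : P.ideal U ≤ p :=
    (Ideal.Prime.mem_support_iff_le_prime P U hyU).mp (hsupp.ge (subset_closure rfl))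
  refine ⟨U, a, fun ha => hprime.ne_top ?_, fun s hs => ?_⟩
  · rw [hm, Ideal.Quotient.eq_zero_iff_mem.mpr ha, Submodule.colon_singleton_zero]
  · have h := hPp hs
    rw [hm, Submodule.mem_colon_singleton, Submodule.mem_bot, ← Ideal.Quotient.mk_eq_mk, ← Submodule.Quotient.mk_smul,
      Submodule.Quotient.mk_eq_zero, smul_eq_mul, mul_comm] at h
    exact h

/-- Main theorem. -/
theorem main [IsAlgClosed k]
    (hnef : ∀ J : X.IdealSheafData, IsIntegral J.subscheme → topologicalKrullDim J.subscheme = 1 →
      0 ≤ @Curv2.deg k _ J.subscheme ⟨J.subschemeι ≫ (X ↘ Spec (CommRingCat.of k))⟩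
        ((Scheme.Modules.pullback J.subschemeι).obj L) 1) (J : X.IdealSheafData) :
    Subsingleton (Coh.HH X (CohB1.tensorMod L (_root_.ClSub.quotMod J)) 1) ∧
      ∀ x, GenAt (CohB1.tensorMod L (_root_.ClSub.quotMod J)) x := by
  haveI := GlobalSections.isNoetherian_of_proper k X
  haveI := FinCond.wellFoundedGT_idealSheafData (X := X)
  induction J using (inferInstance : WellFoundedGT X.IdealSheafData).wf.induction with
  | _ J ih =>
    by_cases hI : IsIntegral J.subscheme
    · exact of_isIntegral (k := k) hdim h1 hL J hI (hnef J hI)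
    by_cases hne : (J.support : Set X) = ∅
    · refine ⟨?_, fun x => genAt_of_notMem (k := k) hdim hL (fun hx => hne.le hx)⟩
      refine Positivity.IsTorsion.subsingleton_HH_succ hdim (fun x _ => ?_) 0
      by_contra hc
      have : x ∈ CohB1.support (CohB1.tensorMod L (_root_.ClSub.quotMod J)) := hc
      rw [Snapper.Twist.support_twist hL, ClSub.Quot.support_quotMod, hne] at this
      exact this
    suffices key : ∀ x ∈ J.support,
        Subsingleton (Coh.HH X (CohB1.tensorMod L (_root_.ClSub.quotMod J)) 1) ∧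
          GenAt (CohB1.tensorMod L (_root_.ClSub.quotMod J)) x by
      obtain ⟨x₀, hx₀⟩ := Set.nonempty_iff_ne_empty.mpr hne
      refine ⟨(key x₀ hx₀).1, fun x => ?_⟩
      by_cases hx : x ∈ J.support
      · exact (key x hx).2
      · exact genAt_of_notMem (k := k) hdim hL hx
    intro x hx
    obtain ⟨P, hJP, hxP, hPint, hcol⟩ := exists_component (k := k) hdim J hx
    have hPJ : P ≠ J := fun h => hI (h ▸ hPint)
    obtain ⟨U, a, haJ, haP⟩ := hcol hPJ
    obtain ⟨hP1, hP2⟩ := ih P (lt_of_le_of_ne hJP hPJ.symm)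
    let g := quotHom J P hJP
    haveI : Epi g := epi_quotHom J P hJP
    let T : ShortComplex X.Modules := ShortComplex.mk (kernel.ι g) g (kernel.condition g)
    have hT : T.ShortExact := { exact := ShortComplex.exact_kernel g }
    set N := kernel g
    have hNc : Coh.IsCoh N :=
      CohBasics.Closure.isCoh_kernel g (IdealTwist.isCoh_quot J) (IdealTwist.isCoh_quot P).1
    haveI := hNc.1
    haveI := hNc.2
    let K := ZarCoh.AnnIdeal.annIdeal N
    -- the annihilator is larger
    have hker : ∀ (V : X.affineOpens) (n : Γ(N, V.1)), ∃ s : Γ(X, V.1),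
        s ∈ P.ideal V ∧ (kernel.ι g).app V.1 n = (_root_.ClSub.toSubscheme J).app V.1 s := fun V n => by
      obtain ⟨s, hs⟩ := ClSub.Sections.toSubscheme_app_surjective J V ((kernel.ι g).app V.1 n)
      refine ⟨s, ?_, hs.symm⟩
      have h0 : (_root_.ClSub.toSubscheme P).app V.1 s = 0 := by
        rw [← toSubscheme_quotHom J P hJP, Scheme.Modules.Hom.comp_app]
        exact (congrArg (g.app V.1) hs).trans (ClSub.Sections.app_kernel_ι_app g V.1 n)
      rw [← P.ker_subschemeι_app V, RingHom.mem_ker]
      exact h0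
    have hkill : ∀ (V : X.affineOpens) (b : Γ(X, V.1)) (n : Γ(N, V.1)),
        (∀ s ∈ P.ideal V, b * s ∈ J.ideal V) → b • n = 0 := fun V b n hb => by
      obtain ⟨s, hs, he⟩ := hker V n
      refine ClSub.Sections.kernel_ι_app_injective g V.1 ?_
      rw [map_zero, Scheme.Modules.Hom.app_smul, he, ← Scheme.Modules.Hom.app_smul]
      have : b * s ∈ J.ideal V := hb s hs
      rw [← J.ker_subschemeι_app V, RingHom.mem_ker] at this
      exact this
    have hJK : J ≤ K := fun V b hb => by
      rw [ZarCoh.AnnIdeal.annIdeal_ideal, Module.mem_annihilator]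
      exact fun n => hkill V b n fun s _ => Ideal.mul_mem_right _ _ hb
    have hJK' : J < K := lt_of_le_of_ne hJK fun h => haJ (by
      rw [h, ZarCoh.AnnIdeal.annIdeal_ideal, Module.mem_annihilator]
      exact fun n => hkill U a n haP)
    obtain ⟨-, hK2⟩ := ih K hJK'
    -- `H¹` of the kernel
    have hN1 : Subsingleton (Coh.HH X N 1) := by
      haveI : Subsingleton (Coh.HH X T.X₂ 1) := h1_quot (k := k) hdim h1 J
      letI : P.subscheme.Over (Spec (CommRingCat.of k)) := ⟨P.subschemeι ≫ (X ↘ Spec (CommRingCat.of k))⟩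
      haveI : IsProper (P.subscheme ↘ Spec (CommRingCat.of k)) :=
        inferInstanceAs (IsProper (P.subschemeι ≫ (X ↘ Spec (CommRingCat.of k))))
      haveI := TensorMod.QCohInv.isQCoh_structureModule P.subscheme
      haveI := hPint
      have h01 : Module.finrank k (Coh.HH X (_root_.ClSub.quotMod P) 0) = 1 :=
        ((ZarCoh.Linear.affineLinearEquiv P.subschemeι rfl (Coh.structureModule P.subscheme) 0).finrank_eq).trans
          (GlobalSections.finrank_h0_structure k P.subscheme)
      let sJ : Γ(_root_.ClSub.quotMod J, ⊤) := (_root_.ClSub.toSubscheme J).app ⊤ (1 : Γ(X, ⊤))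
      let c₀ := (GlobalSections.h0Equiv T.X₂).symm sJ
      have hc₀ : mapK k T.g 0 c₀ ≠ 0 := by
        intro h0
        have h2 : g.app ⊤ sJ = 0 := by
          have h3 := (congrArg (GlobalSections.h0Equiv T.X₃) h0).trans (map_zero _)
          refine Eq.trans ?_ h3
          refine Eq.trans ?_ (Sheaf.H.equiv₀_naturality (isTerminalTop (α := Opens X)) (LES.toAbMap g) c₀)
          exact congrArg (g.app ⊤) ((GlobalSections.h0Equiv T.X₂).apply_symm_apply sJ).symm
        have h4 : (_root_.ClSub.toSubscheme P).app ⊤ (1 : Γ(X, ⊤)) = 0 := by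
          rw [← toSubscheme_quotHom J P hJP, Scheme.Modules.Hom.comp_app]
          exact h2
        rw [ClSub.Sections.toSubscheme_app, map_one] at h4
        haveI : Nonempty P.subscheme := inferInstance
        exact one_ne_zero (α := Γ(P.subscheme, ⊤)) h4
      refine subsingleton_of_forall_eq 0 fun z => ?_
      obtain ⟨c, rfl⟩ := (exactK₁ k hT 0 1 rfl z).mp (Subsingleton.elim _ _)
      obtain ⟨r, rfl⟩ := (finrank_eq_one_iff_of_nonzero' _ hc₀).mp h01 c
      exact (exactK₃ k hT 0 1 rfl _).mpr ⟨r • c₀, map_smul _ r c₀⟩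
    -- twisting keeps it zero
    have hLN : Subsingleton (Coh.HH X (CohB1.tensorMod L N) 1) := by
      obtain ⟨i⟩ := nonempty_iso_tensor_quot K fun V b hb n => by
        rw [ZarCoh.AnnIdeal.annIdeal_ideal, Module.mem_annihilator] at hb
        exact hb n
      obtain ⟨m, p, hp⟩ := ProjCoh.Gen.exists_epi_freeMod
        (Snapper.Twist.isCoh_twist hL (IdealTwist.isCoh_quot K)) hK2
      obtain ⟨q, hq⟩ := H34.DefAmple.exists_epi_tensor N p
      have := H34.HOne.h1_of_epi hdim q (H34.HOne.h1_sigma _ fun _ => hN1)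
      exact H34.HOne.h1_of_iso
        (comm N (CohB1.tensorMod L (_root_.ClSub.quotMod K)) ≪≫ assoc _ _ _ ≪≫ tensorIso (Iso.refl L) i) this
    let S := Snapper.Twist.twistSeq L T
    have hS : S.ShortExact := Snapper.Twist.twistSeq_shortExact hL hT
    refine ⟨H34.HOne.h1_of_shortExact (S := S) hS hLN hP1, ?_⟩
    let g' : CohB1.tensorMod L (_root_.ClSub.quotMod J) ⟶ CohB1.tensorMod L (_root_.ClSub.quotMod P) := S.g
    haveI : Epi g' := hS.epi_g
    haveI : Subsingleton (Coh.HH X S.X₁ 1) := hLN
    haveI : Epi (tmap (𝟙 L) (_root_.ClSub.toSubscheme J)) :=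
      (Snapper.Twist.twistSeq_shortExact hL (ClSub.Quot.idealSeq_shortExact J)).epi_g
    refine genAt_of_lift (L := CohB1.tensorMod L (Coh.structureModule X))
      (TensorMod.Invertible.isInvertible_tensorMod hL (PicLoc.isInvertible_structureModule X))
      (tmap (𝟙 L) (_root_.ClSub.toSubscheme J)) g'
      (SurfInt.Semiample.app_top_surjective_of_injective k hS fun a b _ => Subsingleton.elim a b)
      (hP2 x) ?_
    change x ∈ CohB1.support (CohB1.tensorMod L (_root_.ClSub.quotMod P))
    rw [Snapper.Twist.support_twist hL, ClSub.Quot.support_quotMod]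
    exact hxP

end Groth.Agent.Lib.Curves.NefGG
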