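import Groth.Agent.Lib.Curves.NormStalk
import Groth.Agent.Lib.ModelFibre.MaxPoint
import Groth.Agent.S9679

/-!
# Normalizations described through generic points
-/

set_option autoImplicit false
set_option linter.style.haveILetI false

universe u

open CategoryTheory CategoryTheory.Limits AlgebraicGeometry TopologicalSpace Opposite

noncomputable section

namespace Groth.Agent.Lib.Curves.NormComponents

open Groth.Agent.Lib

/-- Irreducible components through a point with a domain as local ring coincide. -/
theorem eq_of_mem {X : Scheme.{u}} (hX : ∀ x : X, IsDomain (X.presheaf.stalk x))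
    {Z W : Set X} (hZ : Z ∈ irreducibleComponents (X : Type u))
    (hW : W ∈ irreducibleComponents (X : Type u)) {y : X} (hyZ : y ∈ Z) (hyW : y ∈ W) : Z = W := by
  haveI := hX y
  let ξ := X.fromSpecStalk y (genericPoint (Spec (X.presheaf.stalk y)))
  have key : ∀ Z' ∈ irreducibleComponents (X : Type u), y ∈ Z' → Z' = closure {ξ} := by
    intro Z' hZ' hy'
    obtain ⟨η, hη⟩ := QuasiSober.sober hZ'.1 (isClosed_of_mem_irreducibleComponents Z' hZ')
    obtain ⟨t, ht⟩ : η ∈ Set.range (X.fromSpecStalk y) := by
      rw [Scheme.range_fromSpecStalk]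
      exact hη.specializes hy'
    have hsp : ξ ⤳ η := ht ▸ (genericPoint_specializes t).map (X.fromSpecStalk y).continuous
    refine hη.def.symm.trans (Set.Subset.antisymm ?_ ?_)
    · exact specializes_iff_closure_subset.mp hsp
    · have := hZ'.2 isIrreducible_singleton.closure
        (hη.def ▸ specializes_iff_closure_subset.mp hsp)
      rwa [← hη.def] at this
  rw [key Z hZ hyZ, key W hW hyW]

/-- For a noetherian scheme with domains as local rings the connected components are the
irreducible components. -/
theorem card_connectedComponents {X : Scheme.{u}} [NoetherianSpace X]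
    (hX : ∀ x : X, IsDomain (X.presheaf.stalk x)) :
    Nat.card (_root_.ConnectedComponents X) = Nat.card (irreducibleComponents (X : Type u)) := by
  have hfin : (irreducibleComponents (X : Type u)).Finite := NoetherianSpace.finite_irreducibleComponents
  have hopen : ∀ Z ∈ irreducibleComponents (X : Type u), IsOpen Z := by
    intro Z hZ
    have h : Zᶜ = ⋃ W ∈ irreducibleComponents (X : Type u) \ {Z}, W := by
      ext y
      simp only [Set.mem_compl_iff, Set.mem_iUnion, Set.mem_sdiff, Set.mem_singleton_iff, exists_prop]
      constructor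
      · intro hy
        exact ⟨irreducibleComponent y, ⟨irreducibleComponent_mem_irreducibleComponents y,
          fun h => hy (h ▸ mem_irreducibleComponent)⟩, mem_irreducibleComponent⟩
      · rintro ⟨W, ⟨hW, hne⟩, hyW⟩ hy
        exact hne (eq_of_mem hX hW hZ hyW hy)
    rw [← isClosed_compl_iff, h]
    exact (hfin.subset Set.sdiff_subset).isClosed_biUnion
      fun W hW => isClosed_of_mem_irreducibleComponents W hW.1
  have hcc : ∀ Z ∈ irreducibleComponents (X : Type u), ∀ x ∈ Z, connectedComponent x = Z :=
    fun Z hZ x hx => Set.Subset.antisymm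
      (IsClopen.connectedComponent_subset ⟨isClosed_of_mem_irreducibleComponents Z hZ, hopen Z hZ⟩ hx)
      (hZ.1.isConnected.isPreconnected.subset_connectedComponent hx)
  let F : irreducibleComponents (X : Type u) → _root_.ConnectedComponents X :=
    fun Z => ConnectedComponents.mk Z.2.1.nonempty.some
  symm
  refine Nat.card_eq_of_bijective F ⟨fun Z W h => Subtype.ext ?_, fun c => ?_⟩
  · have h' := ConnectedComponents.coe_eq_coe.mp h
    rwa [hcc Z.1 Z.2 _ Z.2.1.nonempty.some_mem, hcc W.1 W.2 _ W.2.1.nonempty.some_mem] at h'
  · obtain ⟨x, rfl⟩ := ConnectedComponents.surjective_coe c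
    refine ⟨⟨irreducibleComponent x, irreducibleComponent_mem_irreducibleComponents x⟩,
      ConnectedComponents.coe_eq_coe'.mpr ?_⟩
    rw [hcc _ (irreducibleComponent_mem_irreducibleComponents x) x mem_irreducibleComponent]
    exact Set.Nonempty.some_mem _

/-- A bijection on generic points with equal residue fields is an isomorphism over a dense open. -/
theorem exists_dense_isIso {X X' : Scheme.{u}} [NoetherianSpace X] [NoetherianSpace X'] [IsReduced X]
    [IsReduced X'] (π : X' ⟶ X) [IsFinite π]
    (hbij : Set.BijOn (fun x' : X' => π x') {x' : X' | closure ({x'} : Set X') ∈ irreducibleComponents (X' : Type u)}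
      {x : X | closure ({x} : Set X) ∈ irreducibleComponents (X : Type u)})
    (hres : ∀ x' : X', closure ({x'} : Set X') ∈ irreducibleComponents (X' : Type u) →
      Function.Bijective (π.residueFieldMap x').hom) :
    ∃ U : X.Opens, Dense (U : Set X) ∧ Dense ((π ⁻¹ᵁ U : X'.Opens) : Set X') ∧ IsIso (π ∣_ U) := by
  have hiso : ∀ x' : X', closure ({x'} : Set X') ∈ irreducibleComponents (X' : Type u) →
      IsIso (π.stalkMap x') := by
    intro x' hx'
    have hF : IsField (X.presheaf.stalk (π x')) :=
      ModelFibre.MaxPoint.isField_stalk fun y hy =>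
        H75.Birat.IsGen.eq_of_specializes (hbij.mapsTo hx') hy
    have hF' : IsField (X'.presheaf.stalk x') :=
      ModelFibre.MaxPoint.isField_stalk fun y hy => H75.Birat.IsGen.eq_of_specializes hx' hy
    have h := hres x' hx'
    have hi : Function.Injective (IsLocalRing.residue (X'.presheaf.stalk x')) :=
      (injective_iff_map_eq_zero _).mpr fun a ha => by
        rwa [IsLocalRing.residue_eq_zero_iff, (IsLocalRing.isField_iff_maximalIdeal_eq.mp hF'),
          Ideal.mem_bot] at ha
    have hj : Function.Injective (IsLocalRing.residue (X.presheaf.stalk (π x'))) :=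
      (injective_iff_map_eq_zero _).mpr fun a ha => by
        rwa [IsLocalRing.residue_eq_zero_iff, (IsLocalRing.isField_iff_maximalIdeal_eq.mp hF),
          Ideal.mem_bot] at ha
    rw [ConcreteCategory.isIso_iff_bijective]
    refine ⟨fun a b hab => hj (h.1 ?_), fun b => ?_⟩
    · exact congrArg (IsLocalRing.residue (X'.presheaf.stalk x')) hab
    · obtain ⟨c, hc⟩ := h.2 (IsLocalRing.residue _ b)
      obtain ⟨a, rfl⟩ := IsLocalRing.residue_surjective c
      exact ⟨a, hi hc⟩
  obtain ⟨V, hV, hVi⟩ := S9679.result π NoetherianSpace.finite_irreducibleComponents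
    NoetherianSpace.finite_irreducibleComponents hbij hiso (Or.inl inferInstance)
    (Or.inl ⟨inferInstance, inferInstance⟩)
  exact ⟨V, hV, H75.Birat.dense_of_isGen_mem fun x' hx' =>
    show π x' ∈ V from NormStalk.generic_mem_dense hV (hbij.mapsTo hx'), hVi⟩

end Groth.Agent.Lib.Curves.NormComponents
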