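import Groth.Agent.Lib.Curves.NormStalkAlg
import Groth.Agent.Lib.Normalization.CokerStalk
import Groth.Agent.Lib.Curves.Birational
import Groth.Agent.Lib.TFOne.Generic
import Groth.Agent.Lib.QCoh.Stalk

/-!
# The stalks of the direct image of a finite birational normal model
-/

set_option autoImplicit false
set_option linter.style.haveILetI false

universe u

open CategoryTheory CategoryTheory.Limits AlgebraicGeometry TopologicalSpace Opposite

noncomputable section

namespace Groth.Agent.Lib.Curves.NormStalk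

open Groth.Agent.Lib Groth.Agent.Lib.Modules
open Groth.Agent.Lib.Modules.StalkModule (stalkMapₗ stalkMapₗ_germ)

variable {X X' : Scheme.{u}}

/-- A generic point of a component lies in every dense open. -/
theorem generic_mem_dense [NoetherianSpace X] {U : X.Opens} (hU : Dense (U : Set X)) {η : X}
    (hη : η ∈ genericPoints X) : η ∈ U := by
  classical
  have hfin : (genericPoints X \ {η}).Finite :=
    (genericPoints.finite NoetherianSpace.finite_irreducibleComponents).sdiff
  have hW : IsOpen (⋃ η' ∈ genericPoints X \ {η}, closure ({η'} : Set X))ᶜ :=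
    (hfin.isClosed_biUnion fun _ _ => isClosed_closure).isOpen_compl
  obtain ⟨y, hyW, hyU⟩ := hU.inter_open_nonempty _ hW ⟨η, fun h => by
    obtain ⟨η', hη', hmem⟩ := Set.mem_iUnion₂.mp h
    exact hη'.2 (Flat55.GenericPoints.eq_of_specializes hη (specializes_iff_mem_closure.mpr hmem))⟩
  obtain ⟨η', hη', hC⟩ := Flat55.GenericPoints.exists_closure_eq
    (irreducibleComponent_mem_irreducibleComponents y)
  have hy : η' ⤳ y := specializes_iff_mem_closure.mpr (hC.ge mem_irreducibleComponent)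
  have : η' = η := by
    by_contra hne
    exact hyW (Set.mem_biUnion (x := η') ⟨hη', hne⟩ (specializes_iff_mem_closure.mp hy))
  exact this ▸ hy.mem_open U.2 hyU

/-- A normal scheme is reduced. -/
theorem isReduced_of_normal (h : Pi1.IsNormalScheme X) : AlgebraicGeometry.IsReduced X := by
  haveI : ∀ x : X, _root_.IsReduced (X.presheaf.stalk x) := fun x => by
    haveI := (h x).1; infer_instance
  exact isReduced_of_isReduced_stalk X

variable [IsReduced X] (π : X' ⟶ X) {U : X.Opens} (hU : Dense (U : Set X))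

include hU in
/-- Functions pull back injectively. -/
theorem app_injective [IsIso (π ∣_ U)] (V : X.Opens) : Function.Injective (π.app V) := by
  refine (injective_iff_map_eq_zero _).mpr fun s hs => (basicOpen_eq_bot_iff s).mp ?_
  by_contra hne
  obtain ⟨x, hx, hxU⟩ := hU.inter_open_nonempty _ (X.basicOpen s).2
    (Set.nonempty_iff_ne_empty.mpr fun h => hne (Opens.ext h))
  obtain ⟨x', hx'⟩ := (asIso (π ∣_ U)).hom.homeomorph.surjective ⟨x, hxU⟩
  have h1 : π x'.1 = x := ((morphismRestrict_base_coe π U x').symm.trans (congrArg Subtype.val hx') :)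
  have h2 : x'.1 ∈ π ⁻¹ᵁ X.basicOpen s := show π x'.1 ∈ X.basicOpen s from h1 ▸ hx
  rw [Scheme.preimage_basicOpen, hs, Scheme.basicOpen_zero] at h2
  exact h2

include hU in
theorem mono_unit [IsIso (π ∣_ U)] : Mono (ClSub.unitToPush π) := by
  rw [Stalk.mono_iff_app_injective]
  exact app_injective π hU

omit [IsReduced X] in
/-- Over affines inside `U` functions pull back surjectively. -/
theorem app_surjective [IsIso (π ∣_ U)] {V : X.Opens} (hV : IsAffineOpen V) (hVU : V ≤ U) :
    Function.Surjective (π.app V) := by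
  have hV' : IsAffineOpen (U.ι ⁻¹ᵁ V) := hV.preimage_of_isOpenImmersion U.ι (by
    rwa [Scheme.Opens.opensRange_ι])
  have h1 := (π ∣_ U).app_surjective (U.ι ⁻¹ᵁ V) hV'
  rw [morphismRestrict_app'] at h1
  have key : ∀ (A : X.Opens) (B : X'.Opens) (e : B ≤ π ⁻¹ᵁ A), A = V → B = π ⁻¹ᵁ V →
      Function.Surjective (π.appLE A B e) → Function.Surjective (π.app V) := by
    rintro A B e rfl rfl h
    rwa [Scheme.Hom.appLE_eq_app] at h
  have e : U.ι ''ᵁ U.ι ⁻¹ᵁ V = V := by
    rw [Scheme.Hom.image_preimage_eq_opensRange_inf, Scheme.Opens.opensRange_ι, inf_eq_right.mpr hVU]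
  exact key _ _ _ e ((image_morphismRestrict_preimage π U _).trans (by rw [e])) h1

/-- The section `1` of `O_X`. -/
abbrev oneTop (X : Scheme.{u}) : Γ(Coh.structureModule X, ⊤) := (show Γ(X, ⊤) from 1)

include hU in
/-- **The stalks of `π_* O` are the integral closures.** -/
theorem exists_stalk_equiv [IsNoetherian X] [IsFinite π] (hX' : Pi1.IsNormalScheme X')
    (hU' : Dense ((π ⁻¹ᵁ U : X'.Opens) : Set X')) [IsIso (π ∣_ U)] (x : X) :
    ∃ e : ((Coh.push π).obj (Coh.structureModule X')).presheaf.stalk x ≃ₗ[X.presheaf.stalk x]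
        ↥(integralClosure (X.presheaf.stalk x) (FractionRing (X.presheaf.stalk x))),
      e (stalkMapₗ (ClSub.unitToPush π) x
        ((Coh.structureModule X).presheaf.germ ⊤ x trivial (oneTop X))) = 1 := by
  classical
  haveI := isReduced_of_normal hX'
  obtain ⟨V, hV, hxV, -⟩ := exists_isAffineOpen_mem_and_subset (show x ∈ (⊤ : X.Opens) from trivial)
  haveI : IsNoetherianRing Γ(X, V) := IsLocallyNoetherian.component_noetherian ⟨V, hV⟩
  haveI : IsLocallyNoetherian X := inferInstance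
  set A := Γ(X, V) with hA
  set B := Γ(X', π ⁻¹ᵁ V) with hB
  letI : Algebra Γ(X, V) Γ(X', π ⁻¹ᵁ V) := (π.app V).hom.toAlgebra
  haveI : Module.Finite Γ(X, V) Γ(X', π ⁻¹ᵁ V) := π.finite_app V hV
  set R := X.presheaf.stalk x
  letI : Algebra Γ(X, V) R := TopCat.Presheaf.algebra_section_stalk X.presheaf (⟨x, hxV⟩ : V)
  haveI hloc : IsLocalization.AtPrime R (hV.primeIdealOf ⟨x, hxV⟩).asIdeal :=
    hV.isLocalization_stalk ⟨x, hxV⟩
  -- a regular function vanishing off `U`
  let I : Ideal Γ(X, V) :=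
    { carrier := {g | X.basicOpen g ≤ U}
      zero_mem' := by simp [Scheme.basicOpen_zero]
      add_mem' := fun {g h} hg hh y hy => by
        have hyV : y ∈ V := X.basicOpen_le _ hy
        rw [Scheme.mem_basicOpen _ _ y hyV, map_add] at hy
        rcases IsLocalRing.isUnit_or_isUnit_of_isUnit_add hy with h' | h'
        · exact hg ((Scheme.mem_basicOpen _ _ y hyV).mpr h')
        · exact hh ((Scheme.mem_basicOpen _ _ y hyV).mpr h')
      smul_mem' := fun c g hg => by
        rw [Set.mem_setOf_eq, smul_eq_mul, Scheme.basicOpen_mul]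
        exact inf_le_right.trans hg }
  obtain ⟨f, hfI, hfA⟩ := TFOne.Generic.exists_mem_nonZeroDivisors I fun p hp hle => by
    let q : PrimeSpectrum Γ(X, V) := ⟨p, Ideal.minimalPrimes_isPrime hp⟩
    have hqV : hV.fromSpec q ∈ V := by
      rw [← SetLike.mem_coe, ← hV.range_fromSpec]; exact Set.mem_range_self q
    have hgen : hV.fromSpec q ∈ genericPoints X := by
      refine Flat55.GenericPoints.mem_of_forall_specializes fun y hy => ?_
      obtain ⟨q', rfl⟩ : y ∈ Set.range hV.fromSpec := by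
        rw [hV.range_fromSpec]; exact hy.mem_open V.isOpen hqV
      have hle' := (PrimeSpectrum.le_iff_specializes q' q).mpr
        (hV.fromSpec.isOpenEmbedding.isInducing.specializes_iff.mp hy)
      have he : (q' : PrimeSpectrum Γ(X, V)) = q :=
        le_antisymm (α := PrimeSpectrum Γ(X, V)) hle' (hp.2 ⟨q'.isPrime, bot_le⟩ hle')
      exact congrArg hV.fromSpec he
    obtain ⟨g, hgU, hgq⟩ := hV.exists_basicOpen_le (V := U) ⟨_, generic_mem_dense hU hgen⟩ hqV
    have h1 : q ∈ hV.fromSpec ⁻¹ᵁ X.basicOpen g := hgq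
    rw [hV.fromSpec_preimage_basicOpen] at h1
    exact h1 (hle hgU)
  have hfU : X.basicOpen f ≤ U := hfI
  have hinj : Function.Injective (algebraMap Γ(X, V) Γ(X', π ⁻¹ᵁ V)) := app_injective π hU V
  have hfB : ∀ b : Γ(X', π ⁻¹ᵁ V), algebraMap Γ(X, V) Γ(X', π ⁻¹ᵁ V) f * b = 0 → b = 0 := by
    intro b hb
    refine (basicOpen_eq_bot_iff b).mp ?_
    by_contra hne
    obtain ⟨y, hyb, hyU⟩ := hU'.inter_open_nonempty _ (X'.basicOpen b).2
      (Set.nonempty_iff_ne_empty.mpr fun h => hne (Opens.ext h))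
    let W : (π ⁻¹ᵁ U : Scheme).Opens := (π ⁻¹ᵁ U).ι ⁻¹ᵁ X'.basicOpen b
    have hWo : IsOpen (((asIso (π ∣_ U)).hom.homeomorph) '' (W : Set _)) :=
      (asIso (π ∣_ U)).hom.homeomorph.isOpenMap _ W.2
    have hO : IsOpen (Subtype.val '' (((asIso (π ∣_ U)).hom.homeomorph) '' (W : Set _)) : Set X) :=
      U.2.isOpenMap_subtype_val _ hWo
    have hOne : (Subtype.val '' (((asIso (π ∣_ U)).hom.homeomorph) '' (W : Set _)) : Set X).Nonempty :=
      ⟨_, _, ⟨⟨y, hyU⟩, hyb, rfl⟩, rfl⟩
    obtain ⟨z, ⟨⟨z', ⟨w, hw, rfl⟩, rfl⟩, hzf⟩⟩ : ((Subtype.val '' (((asIso (π ∣_ U)).hom.homeomorph) ''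
        (W : Set _)) : Set X) ∩ X.basicOpen f).Nonempty := by
      obtain ⟨z, hz⟩ := hOne
      by_contra hemp
      have hzV : z ∈ V := by
        obtain ⟨z', ⟨w, hw, rfl⟩, rfl⟩ := hz
        have h1 : π w.1 ∈ V := X'.basicOpen_le b hw
        exact (morphismRestrict_base_coe π U w).symm ▸ h1
      obtain ⟨g, hgO, hzg⟩ := hV.exists_basicOpen_le (V := ⟨_, hO⟩) ⟨z, hz⟩ hzV
      have hfg : X.basicOpen (f * g) = ⊥ := by
        rw [Scheme.basicOpen_mul, eq_bot_iff]
        exact fun t ht => absurd ⟨t, hgO ht.2, ht.1⟩ hemp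
      have hg0 : g = 0 := mul_left_mem_nonZeroDivisors_eq_zero_iff hfA |>.mp
        ((basicOpen_eq_bot_iff _).mp hfg)
      rw [hg0, Scheme.basicOpen_zero] at hzg
      exact hzg
    have h1 : w.1 ∈ π ⁻¹ᵁ X.basicOpen f := show π w.1 ∈ X.basicOpen f from
      (morphismRestrict_base_coe π U w) ▸ hzf
    have h2 : w.1 ∈ X'.basicOpen (π.app V f) ⊓ X'.basicOpen b := ⟨by rwa [← Scheme.preimage_basicOpen], hw⟩
    rw [← Scheme.basicOpen_mul, show π.app V f * b = 0 from hb, Scheme.basicOpen_zero] at h2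
    exact h2
  have hV' : IsAffineOpen (π ⁻¹ᵁ V) := hV.preimage π
  have hbir : ∀ b : Γ(X', π ⁻¹ᵁ V), ∃ (j : ℕ) (a : Γ(X, V)),
      algebraMap Γ(X, V) Γ(X', π ⁻¹ᵁ V) a = algebraMap Γ(X, V) Γ(X', π ⁻¹ᵁ V) f ^ j * b := by
    intro b
    have hpre : π ⁻¹ᵁ X.basicOpen f = X'.basicOpen (π.app V f) := Scheme.preimage_basicOpen _ _
    haveI := hV.isLocalization_basicOpen f
    haveI := hV'.isLocalization_basicOpen (π.app V f)
    obtain ⟨w, hw⟩ := app_surjective π (hV.basicOpen f) hfU
      (X'.presheaf.map (homOfLE (π.preimage_mono (X.basicOpen_le f))).op b)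
    obtain ⟨⟨a, ⟨_, n, rfl⟩⟩, hwa⟩ := IsLocalization.surj (Submonoid.powers f) w
    refine ⟨n, a, ?_⟩
    show π.app V a = π.app V f ^ n * b
    have hD : X'.basicOpen (π.app V f) ≤ π ⁻¹ᵁ V := X'.basicOpen_le _
    have e : X'.presheaf.map (homOfLE hD).op (π.app V a) =
        X'.presheaf.map (homOfLE hD).op (π.app V f ^ n * b) := by
      have h1 := congrArg (π.app (X.basicOpen f)) hwa
      rw [map_mul, hw] at h1
      have nat : ∀ c : Γ(X, V), π.app (X.basicOpen f) (algebraMap Γ(X, V) Γ(X, X.basicOpen f) c) =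
          X'.presheaf.map (homOfLE (π.preimage_mono (X.basicOpen_le f))).op (π.app V c) :=
        fun c => congr($(π.naturality (homOfLE (X.basicOpen_le f)).op) c)
      rw [nat, nat, map_pow, map_pow] at h1
      have h2 := congrArg (X'.presheaf.map (eqToHom hpre.symm).op) h1
      simp only [map_mul, map_pow, ← CommRingCat.comp_apply, ← Functor.map_comp, Category.assoc] at h2 ⊢
      rw [mul_comm]
      exact h2.symm
    obtain ⟨⟨_, m, rfl⟩, hm⟩ :=
      (IsLocalization.eq_iff_exists (Submonoid.powers (π.app V f)) Γ(X', X'.basicOpen (π.app V f))).mp e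
    exact NormStalkAlg.pow_cancel hfB m hm
  have hstalk : ∀ (q : Ideal Γ(X', π ⁻¹ᵁ V)) [q.IsPrime],
      IsDomain (Localization.AtPrime q) ∧ IsIntegrallyClosed (Localization.AtPrime q) := by
    intro q hq
    let y : PrimeSpectrum Γ(X', π ⁻¹ᵁ V) := ⟨q, hq⟩
    have hy : hV'.fromSpec y ∈ π ⁻¹ᵁ V := by
      rw [← SetLike.mem_coe, ← hV'.range_fromSpec]; exact Set.mem_range_self y
    letI : Algebra Γ(X', π ⁻¹ᵁ V) (X'.presheaf.stalk (hV'.fromSpec y)) :=
      TopCat.Presheaf.algebra_section_stalk X'.presheaf (⟨_, hy⟩ : (π ⁻¹ᵁ V : X'.Opens))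
    haveI : IsLocalization.AtPrime (X'.presheaf.stalk (hV'.fromSpec y)) q := hV'.isLocalization_stalk' y hy
    haveI := (hX' (hV'.fromSpec y)).1
    haveI := (hX' (hV'.fromSpec y)).2
    let e := IsLocalization.algEquiv q.primeCompl (X'.presheaf.stalk (hV'.fromSpec y)) (Localization.AtPrime q)
    exact ⟨e.toRingEquiv.symm.toMulEquiv.isDomain (X'.presheaf.stalk (hV'.fromSpec y)),
      IsIntegrallyClosed.of_equiv e.toRingEquiv⟩
  obtain ⟨g, hg1, hg⟩ := NormStalkAlg.exists_incl (R := R) (hV.primeIdealOf ⟨x, hxV⟩).asIdeal hfA hfB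
    hinj hbir (fun q _ => (hstalk q).1) (fun q _ => (hstalk q).2)
  -- the germ map is a localization
  set N := (Coh.push π).obj (Coh.structureModule X')
  haveI : (Coh.structureModule X').IsQuasicoherent := TensorMod.QCohInv.isQCoh_structureModule X'
  haveI : N.IsQuasicoherent := QCoh.Pushforward.isQCoh_pushforward π (M := Coh.structureModule X')
  letI : Module Γ(X, V) (N.presheaf.stalk x) := Module.compHom _ (X.presheaf.germ V x hxV).hom
  haveI : IsScalarTower Γ(X, V) R (N.presheaf.stalk x) :=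
    ⟨fun r a v => mul_smul (X.presheaf.germ V x hxV r) a v⟩
  let toN : Γ(X', π ⁻¹ᵁ V) → Γ(N, V) := fun t => t
  let g0 : Γ(X', π ⁻¹ᵁ V) →ₗ[Γ(X, V)] N.presheaf.stalk x :=
    { toFun := fun b => N.presheaf.germ V x hxV (toN b)
      map_add' := fun b b' => map_add (N.presheaf.germ V x hxV).hom (toN b) (toN b')
      map_smul' := fun c b => StalkModule.germ_smul (M := N) hxV c (toN b) }
  haveI hg0 : IsLocalizedModule (hV.primeIdealOf ⟨x, hxV⟩).asIdeal.primeCompl g0 :=
    { map_units := fun s => by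
        rw [Module.End.isUnit_iff]
        obtain ⟨r, hr⟩ := (IsLocalization.map_units R s).exists_left_inv
        refine Function.bijective_iff_has_inverse.2 ⟨fun n => r • n, fun n => ?_, fun n => ?_⟩
        · show r • (s : Γ(X, V)) • n = n
          rw [← algebraMap_smul R (s : Γ(X, V)) n, smul_smul, hr, one_smul]
        · show (s : Γ(X, V)) • r • n = n
          rw [← algebraMap_smul R (s : Γ(X, V)) (r • n), smul_smul, mul_comm, hr, one_smul]
      surj := fun z => by
        obtain ⟨s, t, hs, hst⟩ := QCoh.Stalk.exists_smul_eq_germ N hV hxV z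
        exact ⟨(t, ⟨s, (QCoh.Stalk.mem_primeIdealOf_compl_iff hV hxV s).mpr hs⟩), hst⟩
      exists_of_eq := fun {b b'} h => by
        have h0 : N.presheaf.germ V x hxV (toN b - toN b') = 0 := by
          rw [map_sub, sub_eq_zero]; exact h
        obtain ⟨s, hs, hs0⟩ := (QCoh.Stalk.germ_eq_zero_iff N hV hxV _).mp h0
        refine ⟨⟨s, (QCoh.Stalk.mem_primeIdealOf_compl_iff hV hxV s).mpr hs⟩, ?_⟩
        rw [smul_sub, sub_eq_zero] at hs0
        exact hs0 }
  haveI := hg
  let e₀ := IsLocalizedModule.linearEquiv (hV.primeIdealOf ⟨x, hxV⟩).asIdeal.primeCompl g0 g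
  refine ⟨e₀.extendScalarsOfIsLocalization (hV.primeIdealOf ⟨x, hxV⟩).asIdeal.primeCompl R, ?_⟩
  have h1 : stalkMapₗ (ClSub.unitToPush π) x
      ((Coh.structureModule X).presheaf.germ ⊤ x trivial (oneTop X)) = g0 1 := by
    rw [← TopCat.Presheaf.germ_res_apply (Coh.structureModule X).presheaf
      (homOfLE (le_top : V ≤ ⊤)) x hxV, stalkMapₗ_germ]
    refine congrArg (N.presheaf.germ V x hxV) ?_
    show π.app V (X.presheaf.map (homOfLE le_top).op (1 : Γ(X, ⊤))) = (1 : Γ(X', π ⁻¹ᵁ V))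
    rw [map_one, map_one]
  rw [h1]
  show e₀ (g0 1) = 1
  rw [IsLocalizedModule.linearEquiv_apply, hg1]

include hU in
/-- The stalks of `π_* O / O` compute the δ-invariant. -/
theorem exists_coker_equiv [IsNoetherian X] [IsFinite π] (hX' : Pi1.IsNormalScheme X')
    (hU' : Dense ((π ⁻¹ᵁ U : X'.Opens) : Set X')) [IsIso (π ∣_ U)] (x : X) :
    Nonempty ((cokernel (ClSub.unitToPush π)).presheaf.stalk x ≃ₗ[X.presheaf.stalk x]
      (↥(integralClosure (X.presheaf.stalk x) (FractionRing (X.presheaf.stalk x))) ⧸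
        LinearMap.range (Algebra.linearMap (X.presheaf.stalk x)
          ↥(integralClosure (X.presheaf.stalk x) (FractionRing (X.presheaf.stalk x)))))) := by
  obtain ⟨e, he⟩ := exists_stalk_equiv π hU hX' hU' x
  obtain ⟨c⟩ := Normalization.CokerStalk.exists_cokernel_stalk_equiv (ClSub.unitToPush π) x
  refine ⟨c.trans (Submodule.Quotient.equiv _ _ e (le_antisymm ?_ ?_))⟩
  · rintro _ ⟨_, ⟨v, rfl⟩, rfl⟩
    obtain ⟨a, rfl⟩ := Normalization.CokerStalk.exists_smul_germ_one X
      (U := ⊤) (show x ∈ (⊤ : X.Opens) from trivial) v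
    refine ⟨a, ?_⟩
    show _ = e _
    rw [map_smul, map_smul, Algebra.linearMap_apply, Algebra.algebraMap_eq_smul_one]
    exact congrArg (a • ·) he.symm
  · rintro _ ⟨a, rfl⟩
    refine ⟨a • stalkMapₗ (ClSub.unitToPush π) x ((Coh.structureModule X).presheaf.germ ⊤ x trivial
      (oneTop X)), Submodule.smul_mem _ _ ⟨_, rfl⟩, ?_⟩
    show e _ = _
    rw [map_smul, he, Algebra.linearMap_apply, Algebra.algebraMap_eq_smul_one]

end Groth.Agent.Lib.Curves.NormStalk
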