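import Groth.Prelude.Def_Curv2
import Mathlib.RingTheory.Localization.AtPrime.Basic
import Mathlib.RingTheory.IntegralClosure.IntegrallyClosed
import Mathlib.Algebra.Module.LocalizedModule.Basic
import Mathlib.RingTheory.Ideal.MinimalPrime.Localization
import Mathlib.RingTheory.Length

/-!
# A finite birational normal extension localises to the integral closure
-/

set_option autoImplicit false
set_option linter.style.haveILetI false

universe u

noncomputable section

namespace Groth.Agent.Lib.Curves.NormStalkAlg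

variable {A B R : Type u} [CommRing A] [CommRing B] [CommRing R] [Algebra A B] [Algebra A R]
  (p : Ideal A) [p.IsPrime] [IsLocalization.AtPrime R p] [Module.Finite A B]

variable {f : A} (hfA : f ∈ nonZeroDivisors A) (hfB : ∀ b : B, algebraMap A B f * b = 0 → b = 0)
  (hinj : Function.Injective (algebraMap A B))
  (hbir : ∀ b : B, ∃ (j : ℕ) (a : A), algebraMap A B a = algebraMap A B f ^ j * b)
  (hdom : ∀ (q : Ideal B) [q.IsPrime], IsDomain (Localization.AtPrime q))
  (hcl : ∀ (q : Ideal B) [q.IsPrime], IsIntegrallyClosed (Localization.AtPrime q))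

include hfB in
/-- The power of `f` is cancellable. -/
theorem pow_cancel (j : ℕ) {b b' : B} (h : algebraMap A B f ^ j * b = algebraMap A B f ^ j * b') :
    b = b' := by
  induction j with
  | zero => simpa using h
  | succ j ih =>
    refine ih (sub_eq_zero.mp (hfB _ ?_))
    rw [mul_sub, ← mul_assoc, ← mul_assoc, ← pow_succ']
    exact sub_eq_zero.mpr h

include hdom in
/-- An element of a prime, for `B` locally a domain, is killed outside a minimal prime below. -/
theorem exists_annihilator {q₀ : Ideal B} (h₀ : q₀ ∈ minimalPrimes B) {x : B} (hx : x ∈ q₀) :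
    ∃ b ∉ q₀, b * x = 0 := by
  haveI : q₀.IsPrime := Ideal.minimalPrimes_isPrime h₀
  haveI := hdom q₀
  have hbot : IsLocalRing.maximalIdeal (Localization.AtPrime q₀) = ⊥ := by
    by_contra hne
    have hlt : (⊥ : Ideal (Localization.AtPrime q₀)).comap (algebraMap B _) < q₀ := by
      have hc : (IsLocalRing.maximalIdeal (Localization.AtPrime q₀)).comap (algebraMap B _) = q₀ :=
        IsLocalization.AtPrime.comap_maximalIdeal _ q₀
      refine lt_of_le_of_ne (hc.le.trans' (Ideal.comap_mono bot_le)) fun h => hne ?_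
      have hc' : (IsLocalRing.maximalIdeal (Localization.AtPrime q₀)).under B = q₀ := hc
      exact (IsLocalization.map_comap q₀.primeCompl _ _).symm.trans
        ((congrArg (Ideal.map _) (hc'.trans h.symm)).trans (IsLocalization.map_comap q₀.primeCompl _ _))
    haveI : ((⊥ : Ideal (Localization.AtPrime q₀)).comap (algebraMap B _)).IsPrime :=
      Ideal.IsPrime.comap _ (hK := Ideal.isPrime_bot)
    exact hlt.not_ge (h₀.2 ⟨inferInstance, bot_le⟩ hlt.le)
  have hz : algebraMap B (Localization.AtPrime q₀) x = 0 := by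
    have : algebraMap B (Localization.AtPrime q₀) x ∈ IsLocalRing.maximalIdeal _ :=
      (IsLocalization.AtPrime.to_map_mem_maximal_iff _ q₀ x).mpr hx
    rwa [hbot, Submodule.mem_bot] at this
  obtain ⟨⟨b, hb⟩, hbx⟩ := (IsLocalization.map_eq_zero_iff q₀.primeCompl _ x).mp hz
  exact ⟨b, hb, hbx⟩

include hfB hinj hbir hdom in
/-- Minimal primes pull back to minimal primes. -/
theorem comap_minimal {q₀ : Ideal B} (h₀ : q₀ ∈ minimalPrimes B) :
    q₀.comap (algebraMap A B) ∈ minimalPrimes A := by
  haveI : q₀.IsPrime := Ideal.minimalPrimes_isPrime h₀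
  refine ⟨⟨inferInstance, bot_le⟩, fun P hP hle a ha => ?_⟩
  obtain ⟨b, hb, hba⟩ := exists_annihilator hdom h₀ ha
  obtain ⟨j, a', ha'⟩ := hbir b
  have h1 : a' * a = 0 := hinj (by rw [map_mul, ha', mul_assoc, hba, mul_zero, map_zero])
  have h2 : a' ∉ q₀.comap (algebraMap A B) := by
    intro h
    rw [Ideal.mem_comap, ha'] at h
    rcases ‹q₀.IsPrime›.mem_or_mem h with h' | h'
    · obtain ⟨c, hc, hcf⟩ := exists_annihilator hdom h₀ (‹q₀.IsPrime›.mem_of_pow_mem j h')
      exact hc ((hfB c (by rwa [mul_comm])).symm ▸ q₀.zero_mem)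
    · exact hb h'
  exact (hP.1.mem_or_mem (h1 ▸ P.zero_mem)).resolve_left fun h => h2 (hle h)

include hfA hfB hinj hbir hdom hcl

/-- The localisation of `B` at `p` is the integral closure of `R` in its total ring of fractions. -/
theorem exists_incl :
    ∃ g : B →ₗ[A] ↥(integralClosure R (FractionRing R)),
      g 1 = 1 ∧ IsLocalizedModule p.primeCompl g := by
  classical
  let Q := FractionRing R
  let ι : A →+* Q := algebraMap A Q
  have hfR : algebraMap A R f ∈ nonZeroDivisors R :=
    IsLocalization.nonZeroDivisors_le_comap p.primeCompl R hfA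
  have hu : IsUnit (ι f) := by
    rw [show ι f = algebraMap R Q (algebraMap A R f) from IsScalarTower.algebraMap_apply A R Q f]
    exact IsLocalization.map_units Q (⟨_, hfR⟩ : nonZeroDivisors R)
  obtain ⟨u, hu'⟩ := hu
  choose j a ha using hbir
  let ψ : B → Q := fun b => ι (a b) * ((u⁻¹ : Qˣ) : Q) ^ j b
  have key : ∀ (b : B) (m : ℕ) (c : A), algebraMap A B c = algebraMap A B f ^ m * b →
      ψ b * ι f ^ m = ι c := by
    intro b m c hc
    have hcross : a b * f ^ m = c * f ^ j b := hinj (by
      rw [map_mul, map_mul, map_pow, map_pow, ha, hc]; ring)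
    have h2 := congrArg ι hcross
    rw [map_mul, map_mul, map_pow, map_pow] at h2
    have hone : ((u⁻¹ : Qˣ) : Q) ^ j b * ι f ^ j b = 1 := by
      rw [← mul_pow, ← hu', Units.inv_mul, one_pow]
    calc ψ b * ι f ^ m = (ι (a b) * ι f ^ m) * ((u⁻¹ : Qˣ) : Q) ^ j b := by simp only [ψ]; ring
      _ = (ι c * ι f ^ j b) * ((u⁻¹ : Qˣ) : Q) ^ j b := by rw [h2]
      _ = ι c * (((u⁻¹ : Qˣ) : Q) ^ j b * ι f ^ j b) := by ring
      _ = ι c := by rw [hone, mul_one]
  have cancel : ∀ (m : ℕ) {y y' : Q}, y * ι f ^ m = y' * ι f ^ m → y = y' := fun m y y' h =>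
    ((hu' ▸ u.isUnit : IsUnit (ι f)).pow m).mul_right_cancel h
  let φ : B →ₐ[A] Q :=
    { toFun := ψ
      map_one' := by
        refine cancel 0 ?_
        rw [key 1 0 1 (by simp), map_one]; simp
      map_mul' := fun b b' => by
        refine cancel (j b + j b') ?_
        rw [key (b * b') (j b + j b') (a b * a b') (by rw [map_mul, ha, ha]; ring), pow_add,
          show ψ b * ψ b' * (ι f ^ j b * ι f ^ j b') = (ψ b * ι f ^ j b) * (ψ b' * ι f ^ j b') by ring,
          key b _ _ (ha b), key b' _ _ (ha b'), map_mul]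
      map_zero' := by
        refine cancel 0 ?_
        rw [key 0 0 0 (by simp), map_zero]; simp
      map_add' := fun b b' => by
        refine cancel (j b + j b') ?_
        rw [key (b + b') (j b + j b') (a b * f ^ j b' + a b' * f ^ j b) (by
          rw [map_add, map_mul, map_mul, map_pow, map_pow, ha, ha]; ring), pow_add,
          show (ψ b + ψ b') * (ι f ^ j b * ι f ^ j b') =
            (ψ b * ι f ^ j b) * ι f ^ j b' + (ψ b' * ι f ^ j b') * ι f ^ j b by ring,
          key b _ _ (ha b), key b' _ _ (ha b'), map_add, map_mul, map_mul, map_pow, map_pow]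
      commutes' := fun c => by
        refine cancel 0 ?_
        show ψ (algebraMap A B c) * _ = algebraMap A Q c * _
        rw [key (algebraMap A B c) 0 c (by simp), pow_zero, mul_one] }
  have hint : ∀ b : B, φ b ∈ integralClosure R Q := fun b =>
    ((Algebra.IsIntegral.isIntegral (R := A) b).map φ).tower_top
  let g : B →ₗ[A] ↥(integralClosure R Q) :=
    { toFun := fun b => ⟨φ b, hint b⟩
      map_add' := fun b b' => Subtype.ext (map_add φ b b')
      map_smul' := fun c b => Subtype.ext (map_smul φ c b) }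
  refine ⟨g, Subtype.ext (map_one φ), ?_⟩
  -- killed elements
  have hzero : ∀ b : B, φ b = 0 → ∃ w ∈ p.primeCompl, algebraMap A B w * b = 0 := fun b hb => by
    have h0 : ι (a b) = 0 := by rw [← key b _ _ (ha b), show ψ b = 0 from hb, zero_mul]
    have h1 : algebraMap A R (a b) = 0 := IsFractionRing.injective R Q (by
      rw [← IsScalarTower.algebraMap_apply, map_zero]; exact h0)
    obtain ⟨⟨w, hw⟩, hwa⟩ := (IsLocalization.map_eq_zero_iff p.primeCompl R (a b)).mp h1
    refine ⟨w, hw, pow_cancel hfB (j b) ?_⟩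
    rw [mul_zero, mul_left_comm, ← ha, ← map_mul, hwa, map_zero]
  refine
    { map_units := fun s => ?_
      surj := fun z => ?_
      exists_of_eq := fun {b b'} h => ?_ }
  · rw [Module.End.isUnit_iff]
    obtain ⟨r, hr⟩ := (IsLocalization.map_units R s).exists_left_inv
    refine Function.bijective_iff_has_inverse.2 ⟨fun n => r • n, fun n => ?_, fun n => ?_⟩
    · show r • (s : A) • n = n
      rw [← algebraMap_smul R (s : A) n, smul_smul, hr, one_smul]
    · show (s : A) • r • n = n
      rw [← algebraMap_smul R (s : A) (r • n), smul_smul, mul_comm, hr, one_smul]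
  · obtain ⟨z, hz⟩ := z
    obtain ⟨x, ⟨y, hy⟩, rfl⟩ := IsLocalization.exists_mk'_eq (nonZeroDivisors R) z
    obtain ⟨a₀, ⟨w₁, hw₁⟩, rfl⟩ := IsLocalization.exists_mk'_eq p.primeCompl x
    obtain ⟨s₀, ⟨w₂, hw₂⟩, rfl⟩ := IsLocalization.exists_mk'_eq p.primeCompl y
    set z := IsLocalization.mk' Q (IsLocalization.mk' R a₀ (⟨w₁, hw₁⟩ : p.primeCompl))
      (⟨IsLocalization.mk' R s₀ (⟨w₂, hw₂⟩ : p.primeCompl), hy⟩ : nonZeroDivisors R) with hzdef
    have hw₂' : IsUnit (algebraMap A R w₂) := IsLocalization.map_units R (⟨w₂, hw₂⟩ : p.primeCompl)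
    have hs₀ : algebraMap A R s₀ ∈ nonZeroDivisors R := by
      rw [← IsLocalization.mk'_spec R s₀ (⟨w₂, hw₂⟩ : p.primeCompl)]
      exact mul_mem hy (hw₂'.mem_nonZeroDivisors)
    have hzeq : z * ι (w₁ * s₀) = ι (a₀ * w₂) := by
      have e := IsLocalization.mk'_spec Q (IsLocalization.mk' R a₀ (⟨w₁, hw₁⟩ : p.primeCompl))
        (⟨IsLocalization.mk' R s₀ (⟨w₂, hw₂⟩ : p.primeCompl), hy⟩ : nonZeroDivisors R)
      have e1 := IsLocalization.mk'_spec R a₀ (⟨w₁, hw₁⟩ : p.primeCompl)
      have e2 := IsLocalization.mk'_spec R s₀ (⟨w₂, hw₂⟩ : p.primeCompl)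
      rw [← hzdef] at e
      have e' := congrArg (· * algebraMap R Q (algebraMap A R w₂ * algebraMap A R w₁)) e
      simp only [map_mul, ι, IsScalarTower.algebraMap_apply A R Q] at e' ⊢
      rw [← e2, ← e1, map_mul, map_mul]
      linear_combination e'
    -- integral equation of `w • z` over `A`
    obtain ⟨⟨w, hw⟩, hwint⟩ := IsIntegral.exists_multiple_integral_of_isLocalization p.primeCompl z hz
    obtain ⟨num, hnum⟩ : ∃ c, c = w * (a₀ * w₂) := ⟨_, rfl⟩
    obtain ⟨den, hden⟩ : ∃ c, c = w₁ * s₀ := ⟨_, rfl⟩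
    have hwz : (w • z : Q) * ι den = ι num := by
      rw [hnum, hden, Algebra.smul_def, mul_assoc, hzeq, ← map_mul]
    -- the ideal of denominators
    let I : Ideal B :=
      { carrier := {c | ∃ b : B, algebraMap A B num * c = algebraMap A B den * b}
        zero_mem' := ⟨0, by simp⟩
        add_mem' := fun ⟨b, hb⟩ ⟨b', hb'⟩ => ⟨b + b', by rw [mul_add, hb, hb', mul_add]⟩
        smul_mem' := fun c x ⟨b, hb⟩ => ⟨c * b, by rw [smul_eq_mul, mul_left_comm, hb, mul_left_comm]⟩ }
    have hI : ∃ v ∈ p.primeCompl, algebraMap A B v ∈ I := by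
      by_contra hcon
      push Not at hcon
      obtain ⟨q, hqI, hq, hdisj⟩ : ∃ q : Ideal B, I ≤ q ∧ q.IsPrime ∧
          Disjoint (q : Set B) ((p.primeCompl.map (algebraMap A B)) : Set B) := by
        obtain ⟨q, hq, hle, hd⟩ := Ideal.exists_le_prime_disjoint I (p.primeCompl.map (algebraMap A B))
          (Set.disjoint_left.mpr fun c hc hc' => by
            obtain ⟨v, hv, rfl⟩ := hc'
            exact hcon v hv hc)
        exact ⟨q, hle, hq, hd⟩
      haveI := hdom q
      haveI := hcl q
      let Bq := Localization.AtPrime q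
      let L := FractionRing Bq
      let q₀ : Ideal B := RingHom.ker (algebraMap B Bq)
      haveI hq₀p : q₀.IsPrime := RingHom.ker_isPrime _
      have hq₀ : q₀ ∈ minimalPrimes B := by
        refine ⟨⟨hq₀p, bot_le⟩, fun P hP hle c hc => ?_⟩
        obtain ⟨⟨v, hv⟩, hvc⟩ := (IsLocalization.map_eq_zero_iff q.primeCompl Bq c).mp hc
        refine (hP.1.mem_or_mem (hvc ▸ P.zero_mem)).resolve_left fun hvP => ?_
        obtain ⟨⟨v', hv'⟩, hvv⟩ := (IsLocalization.map_eq_zero_iff q.primeCompl Bq v).mp (hle hvP)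
        exact hv ((hq.mem_or_mem (hvv ▸ q.zero_mem)).resolve_left hv')
      have hq₀q : q₀ ≤ q := fun c hc => by
        obtain ⟨⟨v, hv⟩, hvc⟩ := (IsLocalization.map_eq_zero_iff q.primeCompl Bq c).mp hc
        exact (hq.mem_or_mem (hvc ▸ q.zero_mem)).resolve_left hv
      have hp₀ := comap_minimal hfB hinj (fun b => ⟨j b, a b, ha b⟩) hdom hq₀
      have hp₀p : q₀.comap (algebraMap A B) ≤ p := fun c hc => by
        by_contra hcp
        exact Set.disjoint_left.mp hdisj (hq₀q hc) ⟨c, hcp, rfl⟩
      haveI : (q₀.comap (algebraMap A B)).IsPrime := inferInstance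
      have hdisj' : Disjoint (p.primeCompl : Set A) (q₀.comap (algebraMap A B) : Set A) :=
        Set.disjoint_left.mpr fun c hc hc' => hc (hp₀p hc')
      set P := (q₀.comap (algebraMap A B)).map (algebraMap A R) with hP
      haveI hPp : P.IsPrime := IsLocalization.isPrime_of_isPrime_disjoint p.primeCompl R _ inferInstance hdisj'
      have hPc : P.comap (algebraMap A R) = q₀.comap (algebraMap A B) :=
        IsLocalization.under_map_of_isPrime_disjoint p.primeCompl R inferInstance hdisj'
      have hPmin : P ∈ minimalPrimes R := by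
        refine ⟨⟨hPp, bot_le⟩, fun P' hP' hle => ?_⟩
        haveI := hP'.1
        have h2 : q₀.comap (algebraMap A B) ≤ P'.comap (algebraMap A R) :=
          hp₀.2 ⟨inferInstance, bot_le⟩ (hPc ▸ Ideal.comap_mono hle)
        rw [hP]
        exact Ideal.map_le_iff_le_comap.mpr h2
      -- the denominator is nonzero there
      let θ : B →+* L := (algebraMap Bq L).comp (algebraMap B Bq)
      have hθker : ∀ c, θ c = 0 → c ∈ q₀ := fun c hc =>
        IsFractionRing.injective Bq L (hc.trans (map_zero _).symm)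
      have hden0 : θ (algebraMap A B den) ≠ 0 := fun h => by
        have h1 : den ∈ q₀.comap (algebraMap A B) := hθker _ h
        rw [← hPc, Ideal.mem_comap, hden, map_mul] at h1
        exact Set.disjoint_left.mp (Ideal.disjoint_nonZeroDivisors_of_mem_minimalPrimes hPmin) h1
          (mul_mem ((IsLocalization.map_units R (⟨w₁, hw₁⟩ : p.primeCompl)).mem_nonZeroDivisors) hs₀)
      -- extend `A → L` to `Q`
      let θA : A →+* L := θ.comp (algebraMap A B)
      have hθp : ∀ v : p.primeCompl, IsUnit (θA v) := fun v => isUnit_iff_ne_zero.mpr fun h =>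
        v.2 (hp₀p (hθker _ h))
      let θR : R →+* L := IsLocalization.lift hθp
      have hθR : ∀ c, θR (algebraMap A R c) = θA c := IsLocalization.lift_eq hθp
      have hθy : ∀ y : nonZeroDivisors R, IsUnit (θR y) := fun y => isUnit_iff_ne_zero.mpr fun h => by
        obtain ⟨c, ⟨v, hv⟩, hcv⟩ := IsLocalization.exists_mk'_eq p.primeCompl (y : R)
        have e := IsLocalization.mk'_spec R c (⟨v, hv⟩ : p.primeCompl)
        rw [hcv] at e
        have h1 : θA c = 0 := by rw [← hθR, ← e, map_mul, h, zero_mul]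
        have h2 : c ∈ q₀.comap (algebraMap A B) := hθker _ h1
        rw [← hPc, Ideal.mem_comap, ← e] at h2
        exact Set.disjoint_left.mp (Ideal.disjoint_nonZeroDivisors_of_mem_minimalPrimes hPmin)
          ((hPp.mem_or_mem h2).resolve_right fun h3 => (hp₀p.trans' hPc.le h3 : v ∈ p) |> hv) y.2
      let θQ : Q →+* L := IsLocalization.lift hθy
      have hθQ : ∀ c : A, θQ (ι c) = θA c := fun c => by
        rw [show ι c = algebraMap R Q (algebraMap A R c) from IsScalarTower.algebraMap_apply A R Q c,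
          show θQ (algebraMap R Q (algebraMap A R c)) = θR (algebraMap A R c) from
            IsLocalization.lift_eq hθy _, hθR]
      have hint' : IsIntegral Bq (θQ (w • z)) :=
        IsIntegral.map_of_comp_eq (R := A) ((algebraMap B Bq).comp (algebraMap A B)) θQ
          (RingHom.ext fun c => (hθQ c).symm) hwint
      obtain ⟨t, ht⟩ := IsIntegrallyClosed.algebraMap_eq_of_integral hint'
      have ht2 : algebraMap B Bq (algebraMap A B num) = t * algebraMap B Bq (algebraMap A B den) := by
        refine IsFractionRing.injective Bq L ?_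
        rw [map_mul, ht]
        show θA num = θQ (w • z) * θA den
        rw [← hθQ, ← hθQ, ← map_mul, hwz]
      obtain ⟨b, ⟨v, hv⟩, hbv⟩ := IsLocalization.exists_mk'_eq q.primeCompl t
      have e := IsLocalization.mk'_spec Bq b (⟨v, hv⟩ : q.primeCompl)
      rw [hbv] at e
      have h3 : algebraMap B Bq (algebraMap A B num * v) =
          algebraMap B Bq (algebraMap A B den * b) := by
        rw [map_mul, map_mul, ht2, ← e]; ring
      obtain ⟨⟨v', hv'⟩, h4⟩ := (IsLocalization.eq_iff_exists q.primeCompl Bq).mp h3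
      exact (mul_mem hv' hv : v' * v ∈ q.primeCompl) (hqI ⟨v' * b, by
        simp only at h4
        linear_combination h4⟩)
    obtain ⟨v, hv, b, hb⟩ := hI
    refine ⟨⟨b, ⟨v * w, mul_mem hv hw⟩⟩, Subtype.ext ?_⟩
    show (v * w) • z = φ b
    have hdenu : IsUnit (ι den) := by
      rw [show ι den = algebraMap R Q (algebraMap A R den) from IsScalarTower.algebraMap_apply A R Q den]
      exact IsLocalization.map_units Q (⟨_, by
        rw [hden, map_mul]
        exact mul_mem ((IsLocalization.map_units R (⟨w₁, hw₁⟩ : p.primeCompl)).mem_nonZeroDivisors) hs₀⟩ : nonZeroDivisors R)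
    refine hdenu.mul_right_cancel ?_
    have h5 := congrArg φ hb
    rw [map_mul, map_mul, φ.commutes, φ.commutes, φ.commutes] at h5
    rw [mul_comm (φ b), ← h5, mul_smul, Algebra.smul_def, mul_assoc, hwz, mul_comm]
  · have h' : φ (b - b') = 0 := by
      rw [map_sub, sub_eq_zero]
      exact congrArg Subtype.val h
    obtain ⟨w, hw, hw0⟩ := hzero _ h'
    refine ⟨⟨w, hw⟩, ?_⟩
    show w • b = w • b'
    rw [Algebra.smul_def, Algebra.smul_def, ← sub_eq_zero, ← mul_sub]
    exact hw0

end Groth.Agent.Lib.Curves.NormStalkAlg
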