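import Groth.Prelude.Def_Pi1
import Mathlib.AlgebraicGeometry.Properties
import Mathlib.AlgebraicGeometry.Noetherian

/-!
# A connected noetherian normal scheme is integral
-/

set_option autoImplicit false
universe u

open CategoryTheory AlgebraicGeometry TopologicalSpace

namespace Groth.Agent.Lib.Curves.NormalConnected

/-- A connected scheme with noetherian space whose local rings are domains is integral. -/
theorem isIntegral {X : Scheme.{u}} [NoetherianSpace X] [ConnectedSpace X]
    (hX : ∀ x : X, IsDomain (X.presheaf.stalk x)) : IsIntegral X := by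
  have hmax : ∀ Z ∈ irreducibleComponents (X : Type u), ∀ W ∈ irreducibleComponents (X : Type u),
      ∀ y ∈ Z, y ∈ W → Z = W := by
    intro Z hZ W hW y hyZ hyW
    haveI := hX y
    let ξ := X.fromSpecStalk y (genericPoint (Spec (X.presheaf.stalk y)))
    have key : ∀ Z' ∈ irreducibleComponents (X : Type u), y ∈ Z' → Z' = closure {ξ} := by
      intro Z' hZ' hy'
      obtain ⟨η, hη⟩ := QuasiSober.sober hZ'.1 (isClosed_of_mem_irreducibleComponents Z' hZ')
      obtain ⟨t, ht⟩ : η ∈ Set.range (X.fromSpecStalk y) := by
        rw [Scheme.range_fromSpecStalk]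
        exact hη.specializes hy'
      have hsp : ξ ⤳ η := ht ▸ (genericPoint_specializes t).map (X.fromSpecStalk y).continuous
      refine hη.def.symm.trans (Set.Subset.antisymm ?_ ?_)
      · exact specializes_iff_closure_subset.mp hsp
      · have := hZ'.2 isIrreducible_singleton.closure
          (hη.def ▸ specializes_iff_closure_subset.mp hsp)
        rwa [← hη.def] at this
    rw [key Z hZ hyZ, key W hW hyW]
  obtain ⟨x⟩ := (inferInstance : Nonempty X)
  have hfin : (irreducibleComponents (X : Type u)).Finite := NoetherianSpace.finite_irreducibleComponents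
  let Z := irreducibleComponent x
  have hZ : Z ∈ irreducibleComponents (X : Type u) := irreducibleComponent_mem_irreducibleComponents x
  have hopen : IsOpen Z := by
    rw [← isClosed_compl_iff]
    have h : Zᶜ = ⋃ W ∈ irreducibleComponents (X : Type u) \ {Z}, W := by
      ext y
      simp only [Set.mem_compl_iff, Set.mem_iUnion, Set.mem_diff, Set.mem_singleton_iff, exists_prop]
      constructor
      · intro hy
        exact ⟨irreducibleComponent y, ⟨irreducibleComponent_mem_irreducibleComponents y,
          fun h => hy (h ▸ mem_irreducibleComponent)⟩, mem_irreducibleComponent⟩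
      · rintro ⟨W, ⟨hW, hne⟩, hyW⟩ hy
        exact hne (hmax W hW Z hZ y hyW hy)
    rw [h]
    exact (hfin.subset Set.diff_subset).isClosed_biUnion
      fun W hW => isClosed_of_mem_irreducibleComponents W hW.1
  have huniv : Z = Set.univ :=
    IsClopen.eq_univ ⟨isClosed_irreducibleComponent, hopen⟩ ⟨x, mem_irreducibleComponent⟩
  haveI : IrreducibleSpace X := by
    rw [irreducibleSpace_def, Set.top_eq_univ, ← huniv]
    exact hZ.1
  haveI : ∀ y : X, _root_.IsReduced (X.presheaf.stalk y) := fun y =>
    haveI := hX y
    inferInstance
  haveI : IsReduced X := isReduced_of_isReduced_stalk X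
  exact isIntegral_of_irreducibleSpace_of_isReduced X

end Groth.Agent.Lib.Curves.NormalConnected
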