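import Mathlib.RingTheory.Ideal.GoingUp
import Mathlib.RingTheory.Polynomial.Basic
import Mathlib.RingTheory.Noetherian.Basic
import Mathlib.RingTheory.Localization.Away.Basic

/-!
# Poles at a missing closed point: the commutative algebra

`ρ : B → C`, `p` a maximal ideal of `B` not in the image of `Spec C`, `t : C` with `C` integral over
`B[t]`.  Then (`exists_eq_sum`) some `e ∉ p` has `ρ e = ∑ ρ (m i) * t ^ (i + 1)`; and if `ρ e = 1` and
high powers of `p` kill `C / im ρ`, some positive power of `t` is the inverse of an element of `B`.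
-/

universe u v

open Polynomial

namespace Groth.Agent.Lib.Curves.PoleAlgebra

variable {B : Type u} {C : Type v} [CommRing B] [CommRing C] (ρ : B →+* C) (p : Ideal B) (t : C)

/-- `t` has a pole at the missing point: `e ∈ t·p[t]` for some `e ∉ p`. -/
theorem exists_eq_sum [p.IsMaximal]
    (hp : ∀ q : Ideal C, q.IsPrime → q.comap ρ ≠ p)
    (hint : (eval₂RingHom ρ t).IsIntegral) :
    ∃ e ∉ p, ∃ (r : ℕ) (m : ℕ → B), 0 < r ∧ (∀ i, m i ∈ p) ∧
      ρ e = ∑ i ∈ Finset.range r, ρ (m i) * t ^ (i + 1) := by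
  set φ := eval₂RingHom ρ t with hφ
  have htop : RingHom.ker φ ⊔ p.map (Polynomial.C : B →+* B[X]) = ⊤ := by
    by_contra h
    obtain ⟨P, hP, hle⟩ := Ideal.exists_le_maximal _ h
    letI := φ.toAlgebra
    haveI : Algebra.IsIntegral B[X] C := ⟨hint⟩
    obtain ⟨Q, -, hQ, hQP⟩ := Ideal.exists_ideal_over_prime_of_isIntegral P (⊥ : Ideal C)
      (le_trans (le_of_eq rfl) ((le_sup_left).trans hle))
    refine hp Q hQ ((Ideal.IsMaximal.eq_of_le ‹p.IsMaximal› (Ideal.IsPrime.ne_top ?_) ?_).symm)
    · exact hQ.comap ρ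
    · intro b hb
      have h1 : (Polynomial.C b : B[X]) ∈ P := hle (Ideal.mem_sup_right (Ideal.mem_map_of_mem _ hb))
      rw [← hQP, Ideal.mem_comap] at h1
      simpa [RingHom.algebraMap_toAlgebra, hφ] using h1
  obtain ⟨g, hg, h, hh, hgh⟩ := Submodule.mem_sup.mp (htop ▸ Submodule.mem_top (x := (1 : B[X])))
  rw [Ideal.mem_map_C_iff] at hh
  refine ⟨1 - h.coeff 0, fun he => ?_, h.natDegree + 1, fun i => h.coeff (i + 1),
    Nat.succ_pos _, fun i => hh (i + 1), ?_⟩
  · exact ‹p.IsMaximal›.ne_top ((Ideal.eq_top_iff_one p).mpr (sub_add_cancel 1 (h.coeff 0) ▸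
      p.add_mem he (hh 0)))
  · have h1 : φ h = 1 := by
      have := congrArg φ hgh
      rwa [map_add, RingHom.mem_ker.mp hg, zero_add, map_one] at this
    rw [hφ, coe_eval₂RingHom, eval₂_eq_sum_range' ρ
      (show h.natDegree < h.natDegree + 2 by omega), Finset.sum_range_succ'] at h1
    rw [map_sub, map_one, pow_zero, mul_one] at *
    exact sub_eq_iff_eq_add.mpr h1.symm

/-- If moreover `ρ e = 1`, a positive power of `t` is inverse to an element of `B`. -/
theorem exists_mul_pow_eq_one {r : ℕ} (m : ℕ → B) (hm : ∀ i, m i ∈ p)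
    (hsum : ∑ i ∈ Finset.range r, ρ (m i) * t ^ (i + 1) = 1)
    (hbd : ∀ c, ∃ a : ℕ, ∀ b ∈ p ^ a, ρ b * c ∈ ρ.range) :
    ∃ (u : B) (n : ℕ), 0 < n ∧ ρ u * t ^ n = 1 := by
  set z := ∑ i ∈ Finset.range r, ρ (m i) * t ^ i with hzdef
  have hz : z * t = 1 := by
    rw [hzdef, Finset.sum_mul, ← hsum]
    exact Finset.sum_congr rfl fun i _ => by ring
  choose a ha using fun i : ℕ => hbd (z ^ i)
  set A := (Finset.range r).sup a with hA
  have hzt : ∀ i : ℕ, z ^ i * t ^ i = 1 := fun i => by rw [← mul_pow, hz, one_pow]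
  have hrel : ∀ n, r ≤ n → z ^ n = ∑ i ∈ Finset.range r, ρ (m i) * z ^ (n - 1 - i) := by
    intro n hn
    calc z ^ n = z ^ n * ∑ i ∈ Finset.range r, ρ (m i) * t ^ (i + 1) := by rw [hsum, mul_one]
      _ = _ := by
        rw [Finset.mul_sum]
        refine Finset.sum_congr rfl fun i hi => ?_
        have hi' := Finset.mem_range.mp hi
        obtain ⟨j, rfl⟩ : ∃ j, n = (i + 1) + j := ⟨n - (i + 1), by omega⟩
        rw [show i + 1 + j - 1 - i = j by omega, pow_add,
          show z ^ (i + 1) * z ^ j * (ρ (m i) * t ^ (i + 1)) =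
            (z ^ (i + 1) * t ^ (i + 1)) * (ρ (m i) * z ^ j) by ring, hzt, one_mul]
  have key : ∀ n l : ℕ, A * r ≤ l * r + n → ∀ b ∈ p ^ l, ρ b * z ^ n ∈ ρ.range := by
    intro n
    induction n using Nat.strong_induction_on with
    | _ n ih =>
      intro l hl b hb
      by_cases hn : n < r
      · have hAl : A ≤ l := by
          by_contra hcon
          push_neg at hcon
          have : (l + 1) * r ≤ A * r := Nat.mul_le_mul_right r hcon
          rw [add_mul, one_mul] at this
          omega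
        exact ha n b (Ideal.pow_le_pow_right
          ((Finset.le_sup (f := a) (Finset.mem_range.mpr hn)).trans hAl) hb)
      · rw [hrel n (by omega), Finset.mul_sum]
        refine Subring.sum_mem _ fun i hi => ?_
        have hi' := Finset.mem_range.mp hi
        rw [← mul_assoc, ← map_mul]
        refine ih (n - 1 - i) (by omega) (l + 1) ?_ _ (by
          rw [pow_succ]; exact Ideal.mul_mem_mul hb (hm i))
        rw [add_mul, one_mul]
        omega
  obtain ⟨u, hu⟩ := key (A * r + 1) 0 (by omega) 1 (by simp)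
  refine ⟨u, A * r + 1, Nat.succ_pos _, ?_⟩
  rw [hu, map_one, one_mul, hzt]

/-- Elements killed into the image by inverting every element of `p` are killed by a power of `p`. -/
theorem exists_pow_le (hfg : p.FG) (c : C)
    (h : ∀ f ∈ p, ∃ n : ℕ, ρ (f ^ n) * c ∈ ρ.range) :
    ∃ a : ℕ, ∀ b ∈ p ^ a, ρ b * c ∈ ρ.range := by
  let J : Ideal B :=
    { carrier := {b | ρ b * c ∈ ρ.range}
      zero_mem' := by
        show ρ 0 * c ∈ ρ.range
        rw [map_zero, zero_mul]; exact zero_mem _
      add_mem' := fun {a b} ha hb => by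
        show ρ (a + b) * c ∈ ρ.range
        rw [map_add, add_mul]
        exact add_mem ha hb
      smul_mem' := fun x b hb => by
        show ρ (x * b) * c ∈ ρ.range
        rw [map_mul, mul_assoc]
        exact mul_mem ⟨x, rfl⟩ hb }
  obtain ⟨a, ha⟩ := Ideal.exists_pow_le_of_le_radical_of_fg (I := p) (J := J)
    (fun f hf => h f hf) hfg
  exact ⟨a, fun b hb => ha hb⟩

end Groth.Agent.Lib.Curves.PoleAlgebra
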