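import Groth.Agent.Lib.Curves.SectionMult
import Groth.Agent.H34.DefAmple
import Groth.Agent.Lib.Ample.GG
import Groth.Agent.Lib.Perfect.Coherent
import Groth.Agent.Lib.DecSh.Family

/-!
# Global generation from the vanishing of `H¹` on schemes of dimension at most one

For an ample `L` there is `M` with `H ⊗ L^M` globally generated whenever `H` is coherent and
`H¹(H) = 0`: the multiplication by the sections of a globally generated ample power is surjective on
global sections, and large twists are globally generated.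
-/

set_option autoImplicit false
universe u

open CategoryTheory CategoryTheory.Limits AlgebraicGeometry Opposite TopologicalSpace
open Groth.Agent.Lib.TensorMod Groth.Agent.Lib.TensorMod.Basic Groth.Agent.Lib.Modules
open Groth.Agent.Lib.Curves.SectionMult

noncomputable section

namespace Groth.Agent.Lib.Curves.RegGG

variable {X : Scheme.{u}} [IsLocallyNoetherian X] [CompactSpace X]

/-- Tensoring on the left is right exact. -/
theorem exact_lt (G : X.Modules) {S : ShortComplex X.Modules} (hS : S.Exact) [Epi S.g] :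
    ∃ w, (ShortComplex.mk (tmap (𝟙 G) S.f) (tmap (𝟙 G) S.g) w).Exact ∧ Epi (tmap (𝟙 G) S.g) := by
  let F := lt G
  haveI : PreservesColimitsOfSize.{0, 0} F := preservesSmallestColimits_of_preservesColimits F
  haveI : PreservesFiniteColimits F := PreservesColimitsOfSize.preservesFiniteColimits F
  haveI : F.Additive := additive_lt G
  have w : F.map S.f ≫ F.map S.g = 0 := by rw [← Functor.map_comp, S.zero, F.map_zero]
  refine ⟨w, ?_⟩
  have htfae := (F.preservesFiniteColimits_tfae.out 3 1 :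
    PreservesFiniteColimits F ↔ ∀ S : ShortComplex X.Modules, S.Exact ∧ Epi S.g →
      (S.map F).Exact ∧ Epi (F.map S.g))
  exact htfae.1 inferInstance S ⟨hS, ‹Epi S.g›⟩

/-- Sections of `G ⊗ A` come from those of `G` by the sections of `A`. -/
theorem surjective_mul (hdim : topologicalKrullDim X ≤ 1) {A : X.Modules} {n : ℕ}
    (p : FlatMod.freeMod X n ⟶ A) [Epi p] (G : X.Modules)
    (h1 : Subsingleton (Coh.HH X (CohB1.tensorMod G (kernel p)) 1))
    (z : Γ(CohB1.tensorMod G A, ⊤)) :
    ∃ y : Fin n → Γ(G, ⊤),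
      z = ∑ i, (ν (Sigma.ι (fun _ : Fin n => Coh.structureModule X) i ≫ p) G).app ⊤ (y i) := by
  obtain ⟨w, hex, hepi⟩ := exact_lt G
    (S := ShortComplex.mk (kernel.ι p) p (kernel.condition p)) (ShortComplex.exact_kernel p)
  let S := ShortComplex.mk (tmap (𝟙 G) (kernel.ι p)) (tmap (𝟙 G) p) w
  haveI : Epi S.g := hepi
  let T : ShortComplex X.Modules := ShortComplex.mk (kernel.ι S.g) S.g (kernel.condition S.g)
  have hT : T.ShortExact := { exact := ShortComplex.exact_kernel S.g }
  haveI : Epi (kernel.lift S.g S.f S.zero) := ShortComplex.Exact.epi_kernelLift (S := S) hex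
  obtain ⟨v, rfl⟩ := H34.HOne.app_top_surjective hT
    (H34.HOne.h1_of_epi hdim (kernel.lift S.g S.f S.zero) h1) z
  let ι := fun i : Fin n => Sigma.ι (fun _ : Fin n => Coh.structureModule X) i
  refine ⟨fun i => (tmap (𝟙 G) (proj X i) ≫ (rightUnit G).hom).app ⊤ v, ?_⟩
  have hadd := additive_lt G
  have hid : ∑ i : Fin n, tmap (𝟙 G) (proj X i) ≫ tmap (𝟙 G) (ι i) =
      𝟙 (CohB1.tensorMod G (FlatMod.freeMod X n)) := by
    have h : ∀ i, tmap (𝟙 G) (proj X i) ≫ tmap (𝟙 G) (ι i) = (lt G).map (proj X i ≫ ι i) :=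
      fun i => ((lt G).map_comp _ _).symm
    refine Eq.trans ?_ ((congrArg (lt G).map (sum_proj X n)).trans ((lt G).map_id _))
    exact (Finset.sum_congr rfl fun i _ => h i).trans
      ((lt G).map_sum (fun i => proj X i ≫ ι i) Finset.univ).symm
  let Φ : (CohB1.tensorMod G (FlatMod.freeMod X n) ⟶ CohB1.tensorMod G (FlatMod.freeMod X n)) →+
      Γ(CohB1.tensorMod G A, ⊤) :=
    AddMonoidHom.mk' (fun φ => (φ ≫ tmap (𝟙 G) p).app ⊤ v)
      fun φ ψ => by rw [Preadditive.add_comp]; rfl
  have h0 : Φ (𝟙 _) = S.g.app ⊤ v := by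
    change (𝟙 _ ≫ tmap (𝟙 G) p).app ⊤ v = _
    rw [Category.id_comp]
  refine (h0.symm.trans ((congrArg Φ hid.symm).trans (map_sum Φ _ _))).trans
    (Finset.sum_congr rfl fun i _ => ?_)
  change ((tmap (𝟙 G) (proj X i) ≫ tmap (𝟙 G) (ι i)) ≫ tmap (𝟙 G) p).app ⊤ v = _
  rw [← CategoryTheory.comp_apply, ← Scheme.Modules.Hom.comp_app]
  refine congrArg (fun g => (Scheme.Modules.Hom.app g ⊤) v) ?_
  rw [ν, Category.assoc, Category.assoc, Iso.hom_inv_id_assoc]
  congr 1
  rw [← tmap_comp, Category.id_comp]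

/-- `G ⊗ A^{⊗ j}`, iterated. -/
def tw (A G : X.Modules) : ℕ → X.Modules
  | 0 => G
  | j + 1 => CohB1.tensorMod (tw A G j) A

/-- `q ⊗ A^{⊗ j}`, iterated. -/
def twMap (A : X.Modules) {G C : X.Modules} (q : G ⟶ C) : (j : ℕ) → (tw A G j ⟶ tw A C j)
  | 0 => q
  | j + 1 => tmap (twMap A q j) (𝟙 A)

/-- `tw A G j` is `G ⊗ A^{⊗ j}`. -/
def twIso (A G : X.Modules) : (j : ℕ) → (tw A G j ≅ CohB1.tensorMod G (CohB1.tensorPow A j))
  | 0 => (rightUnit G).symm
  | j + 1 => tensorIso (twIso A G j) (Iso.refl A) ≪≫ Basic.assoc G (CohB1.tensorPow A j) A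

omit [IsLocallyNoetherian X] [CompactSpace X] in
theorem tmap_epi_eq_zero {A : X.Modules} (hA : PicF.IsInvertible A) {G C : X.Modules} (q : G ⟶ C)
    (h : tmap q (𝟙 A) = 0) : q = 0 :=
  haveI := CurveBundle.Twist.isEquivalence hA
  (tensorBy A).map_injective (h.trans (TensorMod.Integral.tmap_zero_left G C A).symm)

variable (hdim : topologicalKrullDim X ≤ 1)
  (k : Type u) [Field k] [X.Over (Spec (CommRingCat.of k))] [IsProper (X ↘ Spec (CommRingCat.of k))]

include hdim k in
/-- Vanishing `H¹` and enough twisting give global generation, and surjective multiplication. -/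
theorem exists_gg_mul {L : X.Modules} (hL : CohB1.IsAmple L) : ∃ (M : ℕ) (A : X.Modules), CohB1.IsAmple A ∧
    ∀ H : X.Modules, Coh.IsCoh H → Subsingleton (Coh.HH X H 1) →
      Curv2.IsGloballyGenerated (CohB1.tensorMod H (CohB1.tensorPow L M)) ∧
      ∀ (E : X.Modules) (e : E ⟶ CohB1.tensorMod H (CohB1.tensorPow L M)),
        Function.Surjective (e.app ⊤) → ∀ j, Function.Surjective ((twMap A e j).app ⊤) := by
  have hLi := (Ample.Pow.isAmple_iff.1 hL).1
  obtain ⟨a, ha, hA⟩ := Ample.GG.exists_isAmple_isGloballyGenerated hL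
    (PicLoc.isInvertible_structureModule X)
  obtain ⟨hAa, hAg⟩ := hA a le_rfl
  set A := CohB1.tensorMod (CohB1.tensorPow L a) (Coh.structureModule X)
  have hAi := (Ample.Pow.isAmple_iff.1 hAa).1
  have hAf := LocFree.of_rank (LocFree.of_isInvertible hAi)
  obtain ⟨n, p, hp⟩ := H34.GlobGen.exists_free_epi hAf hAg
  haveI := hp
  have hK : Coh.IsCoh (kernel p) :=
    CohBasics.Closure.isCoh_kernel p (Perfect.Coherent.isCoh_freeMod X n) (CurveBundle.Coherent.isCoh hAf).1
  obtain ⟨M, hM⟩ := Ample.GG.eventually_genAt_twist hL (kernel p) hK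
  set P := CohB1.tensorPow L M
  have hPi : PicF.IsInvertible P := Invertible.isInvertible_tensorPow hLi M
  have hKc : Coh.IsCoh (CohB1.tensorMod (kernel p) P) := CurveBundle.Twist.isCoh hPi hK
  obtain ⟨r, q₀, hq₀⟩ : ∃ (r : ℕ) (q₀ : FlatMod.freeMod X r ⟶ CohB1.tensorMod (kernel p) P), Epi q₀ :=
    ⟨_, DecShLib.Family.exists_free_epi k hKc (Ample.GG.isGloballyGenerated_of_genAt (hM M le_rfl)) le_rfl⟩
  haveI := hq₀
  refine ⟨M, A, hAa, fun H hH h1 => ?_⟩
  -- the vanishing propagates
  have hK1 : ∀ H' : X.Modules, Subsingleton (Coh.HH X H' 1) →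
      Subsingleton (Coh.HH X (CohB1.tensorMod (CohB1.tensorMod H' P) (kernel p)) 1) := fun H' h' => by
    obtain ⟨q, hq⟩ := H34.DefAmple.exists_epi_tensor H' q₀
    haveI := hq
    exact H34.HOne.h1_of_iso (tensorIso (Iso.refl H') (comm (kernel p) P) ≪≫ (Basic.assoc H' P (kernel p)).symm)
      (H34.HOne.h1_of_epi hdim q (H34.HOne.h1_sigma _ fun _ => h'))
  have hv : ∀ j, Subsingleton (Coh.HH X (tw A H j) 1) := by
    intro j
    induction j with
    | zero => exact h1
    | succ j ih =>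
      obtain ⟨q, hq⟩ := H34.DefAmple.exists_epi_tensor (tw A H j) p
      let q' : (∐ fun _ : Fin n => tw A H j) ⟶ tw A H (j + 1) := q
      have : Epi q' := hq
      exact H34.HOne.h1_of_epi hdim q' (H34.HOne.h1_sigma _ fun _ => ih)
  set G := CohB1.tensorMod H P with hG
  have hswap : ∀ j, Nonempty (CohB1.tensorMod (tw A H j) P ≅ tw A G j) := by
    intro j
    induction j with
    | zero => exact ⟨Iso.refl _⟩
    | succ j ih =>
      obtain ⟨e⟩ := ih
      exact ⟨Basic.assoc (tw A H j) A P ≪≫ tensorIso (Iso.refl _) (comm A P) ≪≫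
        (Basic.assoc (tw A H j) P A).symm ≪≫ tensorIso e (Iso.refl A)⟩
  have hvK : ∀ j, Subsingleton (Coh.HH X (CohB1.tensorMod (tw A G j) (kernel p)) 1) := fun j => by
    obtain ⟨e⟩ := hswap j
    exact H34.HOne.h1_of_iso (tensorIso e (Iso.refl (kernel p))) (hK1 _ (hv j))
  have hGc : Coh.IsCoh G := CurveBundle.Twist.isCoh hPi hH
  refine ⟨?_, fun E e he j => ?_⟩
  swap
  · induction j with
    | zero => exact he
    | succ j ih =>
      intro z
      obtain ⟨y, rfl⟩ := surjective_mul hdim p (tw A G j) (hvK j) z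
      choose x hx using fun i => ih (y i)
      refine ⟨∑ i, (ν (Sigma.ι (fun _ : Fin n => Coh.structureModule X) i ≫ p) (tw A E j)).app ⊤ (x i),
        (map_sum ((twMap A e (j + 1)).app ⊤).hom _ _).trans (Finset.sum_congr rfl fun i _ => ?_)⟩
      change (tmap (twMap A e j) (𝟙 A)).app ⊤ _ = _
      rw [← CategoryTheory.comp_apply, ← Scheme.Modules.Hom.comp_app, ν_natural,
        Scheme.Modules.Hom.comp_app, CategoryTheory.comp_apply]
      exact congrArg _ (hx i)
  -- the cokernel of evaluation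
  let E : X.Modules := SheafOfModules.free (R := X.ringCatSheaf) Γ(G, ⊤)
  let ev : E ⟶ G :=
    Cofan.IsColimit.desc (SheafOfModules.isColimitFreeCofan (R := X.ringCatSheaf) Γ(G, ⊤))
      fun m => Modules.Free.unitHom G m
  let q : G ⟶ cokernel ev := cokernel.π ev
  have hq0 : ∀ m : Γ(G, ⊤), q.app ⊤ m = 0 := fun m => by
    let im : Coh.structureModule X ⟶ E := SheafOfModules.ιFree (R := X.ringCatSheaf) m
    have hfac : im ≫ ev = Modules.Free.unitHom G m :=
      Cofan.IsColimit.fac (SheafOfModules.isColimitFreeCofan (R := X.ringCatSheaf) Γ(G, ⊤)) _ m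
    have h : Modules.Free.unitHom G m ≫ q = 0 := by
      rw [← hfac, Category.assoc, cokernel.condition, comp_zero]
    have h' := congrArg (fun g => (Scheme.Modules.Hom.app g ⊤) (1 : Γ(X, ⊤))) h
    change q.app ⊤ ((Modules.Free.unitHom G m).app ⊤ (1 : Γ(X, ⊤))) = 0 at h'
    rwa [Modules.Free.unitHom_app_one] at h'
  have hkill : ∀ j (z : Γ(tw A G j, ⊤)), (twMap A q j).app ⊤ z = 0 := by
    intro j
    induction j with
    | zero => exact hq0
    | succ j ih =>
      intro z
      obtain ⟨y, rfl⟩ := surjective_mul hdim p (tw A G j) (hvK j) z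
      refine (map_sum ((twMap A q (j + 1)).app ⊤).hom _ _).trans ?_
      refine Finset.sum_eq_zero fun i _ => ?_
      change (tmap (twMap A q j) (𝟙 A)).app ⊤ _ = 0
      rw [← CategoryTheory.comp_apply, ← Scheme.Modules.Hom.comp_app, ν_natural,
        Scheme.Modules.Hom.comp_app, CategoryTheory.comp_apply, ih, map_zero]
  obtain ⟨j₀, hj₀⟩ := Ample.GG.eventually_genAt_twist hAa G hGc
  have hgg : Curv2.IsGloballyGenerated (tw A G j₀) :=
    Ample.GG.isGloballyGenerated_of_genAt fun y => (hj₀ j₀ le_rfl y).of_iso (twIso A G j₀).symm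
  have hz : twMap A q j₀ = 0 := by
    refine StalkModule.hom_ext_stalkMapₗ fun y => LinearMap.ext fun w => ?_
    rw [StalkModule.stalkMapₗ_zero, LinearMap.zero_apply]
    refine LinearMap.mem_ker.mp ((H34.GlobGen.gl_eq_top_of_gg hgg y).ge.trans ?_ Submodule.mem_top)
    rw [H34.GlobGen.Gl, Submodule.span_le]
    rintro _ ⟨m, rfl⟩
    rw [SetLike.mem_coe, LinearMap.mem_ker, StalkModule.stalkMapₗ_germ, hkill, map_zero]
  have hall : ∀ j, twMap A q j = 0 → q = 0 := by
    intro j
    induction j with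
    | zero => exact id
    | succ j ih => exact fun h => ih (tmap_epi_eq_zero hAi _ h)
  have hepi : Epi ev := Preadditive.epi_of_cokernel_zero (hall j₀ hz)
  exact ⟨_, ev, hepi⟩

include hdim k in
/-- Vanishing `H¹` and enough twisting give global generation. -/
theorem exists_gg {L : X.Modules} (hL : CohB1.IsAmple L) : ∃ M : ℕ, ∀ H : X.Modules, Coh.IsCoh H →
    Subsingleton (Coh.HH X H 1) →
      Curv2.IsGloballyGenerated (CohB1.tensorMod H (CohB1.tensorPow L M)) := by
  obtain ⟨M, A, -, h⟩ := exists_gg_mul hdim k hL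
  exact ⟨M, fun H hH h1 => (h H hH h1).1⟩

end Groth.Agent.Lib.Curves.RegGG
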