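import Groth.Agent.Lib.Curves.RelNef
import Groth.Agent.Lib.Modules.ClosedUnit
import Groth.Agent.Lib.Cyc.K0.Sum
import Groth.Agent.Lib.Cyc.FP.Stalk
import Groth.Agent.S0057

/-!
# Second cohomology vanishes for proper morphisms to affine schemes with fibres of dimension at most one

`H²(X, M/𝔪ⁿM) = 0` as the module lives on a closed fibre, and the kernels of `H²(M) → H²(M/𝔪ⁿM)` are
adically small, so `H²(M) = 𝔪H²(M)`.
-/

set_option autoImplicit false
set_option linter.style.haveILetI false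
universe u

open CategoryTheory CategoryTheory.Limits AlgebraicGeometry Opposite TopologicalSpace

noncomputable section

namespace Groth.Agent.Lib.Curves.RelH2

open Groth.Agent.Lib

variable {A : Type u} [CommRing A] [IsNoetherianRing A] {X : Scheme.{u}}
  [X.Over (Spec (CommRingCat.of A))] [IsProper (X ↘ Spec (CommRingCat.of A))]
  (hfib : ∀ y : ↥(Spec (CommRingCat.of A)),
    topologicalKrullDim ↥((X ↘ Spec (CommRingCat.of A)).fiber y) ≤ 1)

include hfib

/-- `H²(M/𝔪ⁿM) = 0`. -/
theorem subsingleton_modPow (𝔪 : Ideal A) [h𝔪 : 𝔪.IsMaximal] (n : ℕ) {M : X.Modules} (hM : Coh.IsCoh M) :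
    Subsingleton (Coh.HH X (_root_.Formal.modPow 𝔪 n M) 2) := by
  haveI : IsLocallyNoetherian X := LocallyOfFiniteType.isLocallyNoetherian (X ↘ Spec (CommRingCat.of A))
  haveI : CompactSpace X := QuasiCompact.compactSpace_of_compactSpace (X ↘ Spec (CommRingCat.of A))
  set f := X ↘ Spec (CommRingCat.of A)
  let φ := _root_.Formal.smulFamily (𝔪 ^ n) M
  let C := cokernel φ
  change Subsingleton (Coh.HH X C 2)
  have hC : Coh.IsCoh C :=
    CohBasics.Closure.isCoh_cokernel φ (Cyc.K0.Sum.isQCoh_sigma _ fun _ => hM.1) hM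
  haveI := hC.1
  haveI := hC.2
  let y : ↥(Spec (CommRingCat.of A)) := (⟨𝔪, h𝔪.isPrime⟩ : PrimeSpectrum A)
  have hsupp : ∀ x ∈ CohB1.support C, f x = y := fun x hx => by
    by_contra hne
    have hnle : ¬ 𝔪 ≤ (f x).asIdeal := fun hle =>
      hne (PrimeSpectrum.ext (h𝔪.eq_of_le (f x).isPrime.ne_top hle).symm)
    obtain ⟨b, hb, hbx⟩ := SetLike.not_le_iff_exists.mp hnle
    let r : Γ(X, ⊤) := Coh.toGlobal f (b ^ n)
    have hzero : CurveBundle.EndAlg.scal C r = 0 := by
      rw [← cancel_epi (cokernel.π φ), ← CurveBundle.EndAlg.scal_comm, comp_zero]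
      have : Sigma.ι (fun _ : ↥(𝔪 ^ n) => M) ⟨b ^ n, Ideal.pow_mem_pow hb n⟩ ≫ φ =
          CurveBundle.EndAlg.scal M r := Sigma.ι_desc _ _
      rw [← this, Category.assoc, cokernel.condition, comp_zero]
    have hu : IsUnit (X.presheaf.germ ⊤ x trivial r) := by
      rw [← X.mem_basicOpen r x trivial]
      have e : X.basicOpen r = f ⁻¹ᵁ (Spec (CommRingCat.of A)).basicOpen
          ((Scheme.ΓSpecIso (CommRingCat.of A)).inv (b ^ n)) := (Scheme.preimage_basicOpen_top f _).symm
      rw [e, AlgebraicGeometry.basicOpen_eq_of_affine']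
      change (Scheme.ΓSpecIso (CommRingCat.of A)).hom _ ∉ (f x).asIdeal
      rw [← CommRingCat.comp_apply, Iso.inv_hom_id]
      exact fun h => hbx ((f x).isPrime.mem_of_pow_mem n h)
    refine hx (subsingleton_of_forall_eq 0 fun v => hu.smul_eq_zero.mp ?_)
    rw [← CurveBundle.EndAlg.stalk_scal C r x v, hzero, Modules.StalkModule.stalkMapₗ_zero]
    rfl
  let J := Modules.ClosedUnit.annIdeal C
  haveI := Modules.ClosedUnit.isIso_unit_annIdeal C
  let P := (Scheme.Modules.pullback J.subschemeι).obj C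
  haveI : IsLocallyNoetherian J.subscheme := LocallyOfFiniteType.isLocallyNoetherian J.subschemeι
  haveI : CompactSpace J.subscheme := QuasiCompact.compactSpace_of_compactSpace J.subschemeι
  have hd : topologicalKrullDim J.subscheme ≤ 1 := by
    refine le_trans ?_ (hfib y)
    rw [FibreDim.Basic.topologicalKrullDim_fiber]
    have hmem : ∀ z, J.subschemeι z ∈ f.base ⁻¹' {y} := fun z => hsupp _ (by
      rw [← Modules.ClosedUnit.support_annIdeal C, ← J.range_subschemeι]
      exact ⟨z, rfl⟩)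
    refine Topology.IsInducing.topologicalKrullDim_le (f := fun z => (⟨J.subschemeι z, hmem z⟩ : _)) ?_
    exact J.subschemeι.isClosedEmbedding.isInducing.codRestrict hmem
  haveI : P.IsQuasicoherent := (Cyc.FP.Stalk.isCoh_pullback J.subschemeι hC).1
  have h := H34.HOne.h2_subsingleton hd P
  have h' : Subsingleton (Coh.HH X ((Coh.push J.subschemeι).obj P) 2) :=
    (ZarCoh.Morph.affineEquiv J.subschemeι P 2).toEquiv.subsingleton_congr.mpr h
  exact (Curves.LES.isoK A (asIso ((Scheme.Modules.pullbackPushforwardAdjunction J.subschemeι).unit.app C)) 2).toEquiv.subsingleton_congr.mpr h'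

/-- `H²` of a coherent module vanishes. -/
theorem subsingleton_h2 (M : X.Modules) (hM : Coh.IsCoh M) : Subsingleton (Coh.HH X M 2) := by
  haveI : Module.Finite A (Coh.HH X M 2) := ProperFin.Assembly.qfin_of_isCoh Snapper.Finite.facts M hM 2
  have hann : Module.annihilator A (Coh.HH X M 2) = ⊤ := by
    by_contra hne
    obtain ⟨𝔪, h𝔪, hle⟩ := _root_.Ideal.exists_le_maximal _ hne
    haveI := h𝔪
    obtain ⟨c, hc⟩ := Groth.Agent.S0057.result A 𝔪 X M hM 2
    have hsm : (⊤ : Submodule A (Coh.HH X M 2)) ≤ 𝔪 • ⊤ := fun z _ => by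
      haveI := subsingleton_modPow (X := X) hfib 𝔪 (c + 1 + 1) hM
      have := hc (c + 1) (by omega) (show z ∈ ((_root_.Formal.toHHmodPow 𝔪 M 2 (c + 1)).ker : Set _) from
        Subsingleton.elim _ _)
      rwa [show c + 1 - c = 1 by omega, pow_one] at this
    obtain ⟨r, hr, hr0⟩ := Submodule.exists_sub_one_mem_and_smul_eq_zero_of_fg_of_le_smul 𝔪 ⊤
      Module.Finite.fg_top hsm
    have h1r : r ∈ 𝔪 := hle (Module.mem_annihilator.mpr fun n => hr0 n Submodule.mem_top)
    exact h𝔪.ne_top ((_root_.Ideal.eq_top_iff_one _).mpr (by simpa using sub_mem h1r hr))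
  exact Module.annihilator_eq_top_iff.mp hann

end Groth.Agent.Lib.Curves.RelH2
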