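import Groth.Agent.Lib.Curves.NefDescent
import Groth.Agent.Lib.SurfInt.PushIso
import Groth.Agent.Lib.ProperFin.Assembly
import Groth.Agent.Lib.Snapper.Finite
import Groth.Agent.Lib.Ideal.Comap
import Groth.Agent.Lib.FibreDim.Basic

/-!
# Relatively nef invertible modules over an affine base, fibres of dimension at most one

If second cohomology of coherent modules vanishes, `H¹` is right exact, so `H¹(L)/𝔪H¹(L)` is a quotient of
`H¹` of the restriction to the closed fibre, and Nakayama applies; sections lift from the closed fibres.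
-/

set_option autoImplicit false
set_option linter.style.haveILetI false
universe u

open CategoryTheory CategoryTheory.Limits AlgebraicGeometry Opposite TopologicalSpace

noncomputable section

namespace Groth.Agent.Lib.Curves.RelNef

open Groth.Agent.Lib Groth.Agent.Lib.Modules
open Groth.Agent.Lib.TensorMod.Basic (tensorIso leftUnit rightUnit tmap)
open Groth.Agent.Lib.Curves.LES (mapK exactK₃ isoK)

variable {A : Type u} [CommRing A] [IsNoetherianRing A] {X : Scheme.{u}}
  [X.Over (Spec (CommRingCat.of A))] [IsProper (X ↘ Spec (CommRingCat.of A))]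
  (h2 : ∀ M : X.Modules, Coh.IsCoh M → Subsingleton (Coh.HH X M 2))

/-- The ideal of the fibre over a closed point. -/
def fibIdeal (𝔪 : Ideal A) : X.IdealSheafData :=
  (Spec.map (CommRingCat.ofHom (Ideal.Quotient.mk 𝔪))).ker.comap (X ↘ Spec (CommRingCat.of A))

omit [IsNoetherianRing A] [IsProper (X ↘ Spec (CommRingCat.of A))] in
theorem fibIdeal_ideal (𝔪 : Ideal A) (V : X.affineOpens) :
    (fibIdeal (X := X) 𝔪).ideal V = 𝔪.map ((X.presheaf.map (homOfLE (le_top (a := V.1))).op).hom.comp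
      (Coh.toGlobal (X ↘ Spec (CommRingCat.of A)))) := by
  let g := X ↘ Spec (CommRingCat.of A)
  rw [fibIdeal, Ideal.Comap.ideal_comap g _ ⟨⊤, isAffineOpen_top _⟩ V (by simp)]
  let q := Spec.map (CommRingCat.ofHom (Ideal.Quotient.mk 𝔪))
  let E := (Scheme.ΓSpecIso (CommRingCat.of A)).inv.hom
  have hk : q.ker.ideal ⟨⊤, isAffineOpen_top _⟩ = 𝔪.map E := by
    rw [Scheme.Hom.ker_apply]
    have hn : ∀ a : A, (q.app ⊤).hom (E a) =
        (Scheme.ΓSpecIso (CommRingCat.of (A ⧸ 𝔪))).inv (Ideal.Quotient.mk 𝔪 a) := fun a =>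
      (congr($(Scheme.ΓSpecIso_inv_naturality (CommRingCat.ofHom (Ideal.Quotient.mk 𝔪))) a)).symm
    refine le_antisymm (fun z hz => ?_) (Ideal.map_le_iff_le_comap.mpr fun a ha => ?_)
    · obtain ⟨a, rfl⟩ : ∃ a, E a = z := ⟨(Scheme.ΓSpecIso (CommRingCat.of A)).hom z, by
        exact congr($((Scheme.ΓSpecIso (CommRingCat.of A)).hom_inv_id) z)⟩
      refine Ideal.mem_map_of_mem _ ?_
      rw [RingHom.mem_ker, hn] at hz
      rw [← Ideal.Quotient.eq_zero_iff_mem]
      exact ((Scheme.ΓSpecIso (CommRingCat.of (A ⧸ 𝔪))).symm.commRingCatIsoToRingEquiv).injective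
        (hz.trans (map_zero _).symm)
    · rw [Ideal.mem_comap, RingHom.mem_ker, hn, Ideal.Quotient.eq_zero_iff_mem.mpr ha, map_zero]
      first | rfl | simp
  rw [hk, Ideal.map_map]
  rfl

omit [IsNoetherianRing A] in
theorem exists_lift (𝔪 : Ideal A) : ∃ t : (fibIdeal (X := X) 𝔪).subscheme ⟶ Spec (CommRingCat.of (A ⧸ 𝔪)),
    t ≫ Spec.map (CommRingCat.ofHom (Ideal.Quotient.mk 𝔪)) =
      (fibIdeal (X := X) 𝔪).subschemeι ≫ (X ↘ Spec (CommRingCat.of A)) ∧ IsProper t := by
  let q := Spec.map (CommRingCat.ofHom (Ideal.Quotient.mk 𝔪))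
  haveI : IsClosedImmersion q := IsClosedImmersion.spec_of_surjective _ Ideal.Quotient.mk_surjective
  have hle : q.ker ≤ ((fibIdeal (X := X) 𝔪).subschemeι ≫ (X ↘ Spec (CommRingCat.of A))).ker := by
    rw [Scheme.Hom.ker_comp, Scheme.IdealSheafData.ker_subschemeι]
    exact Scheme.IdealSheafData.le_map_comap _ _
  refine ⟨IsClosedImmersion.lift q _ hle, IsClosedImmersion.lift_fac _ _ hle, ?_⟩
  haveI : IsProper (IsClosedImmersion.lift q _ hle ≫ q) := by
    rw [IsClosedImmersion.lift_fac]; infer_instance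
  exact IsProper.of_comp _ q

omit [IsNoetherianRing A] in
theorem dim_fibIdeal (hfib : ∀ y : ↥(Spec (CommRingCat.of A)),
      topologicalKrullDim ↥((X ↘ Spec (CommRingCat.of A)).fiber y) ≤ 1) (𝔪 : Ideal A) [h𝔪 : 𝔪.IsMaximal] :
    topologicalKrullDim (fibIdeal (X := X) 𝔪).subscheme ≤ 1 := by
  obtain ⟨t, ht, -⟩ := exists_lift (X := X) 𝔪
  let y : ↥(Spec (CommRingCat.of A)) := (⟨𝔪, h𝔪.isPrime⟩ : PrimeSpectrum A)
  refine le_trans ?_ (hfib y)
  rw [FibreDim.Basic.topologicalKrullDim_fiber]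
  let i := (fibIdeal (X := X) 𝔪).subschemeι
  have hmem : ∀ z, i z ∈ (X ↘ Spec (CommRingCat.of A)).base ⁻¹' {y} := fun z => by
    have h := Scheme.Hom.comp_apply i (X ↘ Spec (CommRingCat.of A)) z
    rw [← ht, Scheme.Hom.comp_apply] at h
    show (X ↘ Spec (CommRingCat.of A)) (i z) = y
    rw [← h]
    refine PrimeSpectrum.ext ?_
    change Ideal.comap (Ideal.Quotient.mk 𝔪) (PrimeSpectrum.asIdeal (t z)) = 𝔪
    letI := Ideal.Quotient.field 𝔪
    rw [(Ideal.eq_bot_or_top (PrimeSpectrum.asIdeal (t z))).resolve_right (t z).isPrime.ne_top,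
      ← RingHom.ker_eq_comap_bot, Ideal.mk_ker]
  refine Topology.IsInducing.topologicalKrullDim_le (f := fun z => (⟨i z, hmem z⟩ : _)) ?_
  exact i.isClosedEmbedding.isInducing.codRestrict hmem

omit [IsNoetherianRing A] in
/-- `H¹` is right exact on coherent modules. -/
theorem h1_of_epi (A : Type u) [CommRing A] [IsNoetherianRing A] {X : Scheme.{u}}
    [X.Over (Spec (CommRingCat.of A))] [IsProper (X ↘ Spec (CommRingCat.of A))]
    (h2 : ∀ M : X.Modules, Coh.IsCoh M → Subsingleton (Coh.HH X M 2)) {P Q : X.Modules}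
    (hP : Coh.IsCoh P) (hQ : Coh.IsQCoh Q) (φ : P ⟶ Q) [Epi φ]
    (h : Subsingleton (Coh.HH X P 1)) : Subsingleton (Coh.HH X Q 1) :=
  SectionSurj.subsingleton_of_epi A φ h (h2 _ (by
    haveI : IsLocallyNoetherian X := LocallyOfFiniteType.isLocallyNoetherian (X ↘ Spec (CommRingCat.of A))
    exact CohBasics.Closure.isCoh_kernel φ hP hQ))

include h2

variable (h1 : Subsingleton (Coh.HH X (Coh.structureModule X) 1))
  (hfib : ∀ y : ↥(Spec (CommRingCat.of A)),
    topologicalKrullDim ↥((X ↘ Spec (CommRingCat.of A)).fiber y) ≤ 1)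
  {L : X.Modules} (hL : PicF.IsInvertible L)
  (hnef : ∀ (K : Type u) [Field K] (i : A →+* K) (J : X.IdealSheafData)
    (t : J.subscheme ⟶ Spec (CommRingCat.of K)),
    AlgebraicGeometry.IsIntegral J.subscheme → topologicalKrullDim ↥J.subscheme = 1 →
    t ≫ Spec.map (CommRingCat.ofHom i) = J.subschemeι ≫ (X ↘ Spec (CommRingCat.of A)) →
    0 ≤ @Curv2.deg K _ J.subscheme ⟨t⟩ ((Scheme.Modules.pullback J.subschemeι).obj L) 1)

include h1 hfib hL hnef

/-- On a closed fibre: no `H¹`, and generated by global sections. -/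
theorem fibre (𝔪 : Ideal A) [𝔪.IsMaximal] :
    Subsingleton (Coh.HH X (CohB1.tensorMod L (_root_.ClSub.quotMod (fibIdeal (X := X) 𝔪))) 1) ∧
      ∀ x, Ample.GG.GenAt (CohB1.tensorMod L (_root_.ClSub.quotMod (fibIdeal (X := X) 𝔪))) x := by
  haveI : IsLocallyNoetherian X := LocallyOfFiniteType.isLocallyNoetherian (X ↘ Spec (CommRingCat.of A))
  set J := fibIdeal (X := X) 𝔪
  letI := Ideal.Quotient.field 𝔪
  obtain ⟨t, ht, htp⟩ := exists_lift (X := X) 𝔪
  letI : J.subscheme.Over (Spec (CommRingCat.of (A ⧸ 𝔪))) := ⟨t⟩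
  haveI : IsProper (J.subscheme ↘ Spec (CommRingCat.of (A ⧸ 𝔪))) := htp
  haveI := TensorMod.QCohInv.isQCoh_structureModule J.subscheme
  have hd := dim_fibIdeal (X := X) hfib 𝔪
  have h1q : Subsingleton (Coh.HH X (_root_.ClSub.quotMod J) 1) :=
    haveI := ClSub.Quot.epi_toSubscheme J
    h1_of_epi A h2 (Snapper.Twist.isCoh_structureModule X) (IdealTwist.isCoh_quot J).1
      (_root_.ClSub.toSubscheme J) h1
  have h1Z : Subsingleton (Coh.HH J.subscheme (Coh.structureModule J.subscheme) 1) :=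
    (ZarCoh.Morph.affineEquiv J.subschemeι (Coh.structureModule J.subscheme) 1).toEquiv.subsingleton_congr.mp h1q
  set L' := (Scheme.Modules.pullback J.subschemeι).obj L
  have hL' : PicF.IsInvertible L' := PicLoc.isInvertible_pullback J.subschemeι hL
  haveI := TensorMod.QCohInv.isQCoh_of_isInvertible hL'
  have hn : NefDescent.IsNef (A ⧸ 𝔪) J.subscheme L' := by
    intro J' hJ' hd'
    let i := J'.subschemeι ≫ J.subschemeι
    let φ := i.toImage
    haveI : IsIso φ := inferInstance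
    haveI := hJ'
    haveI := SchImage.Integral.isIntegral i
    letI : J'.subscheme.Over (Spec (CommRingCat.of (A ⧸ 𝔪))) := ⟨J'.subschemeι ≫ t⟩
    letI : i.image.Over (Spec (CommRingCat.of (A ⧸ 𝔪))) := ⟨inv φ ≫ J'.subschemeι ≫ t⟩
    have hφ : φ ≫ (i.image ↘ Spec (CommRingCat.of (A ⧸ 𝔪))) = J'.subscheme ↘ Spec (CommRingCat.of (A ⧸ 𝔪)) :=
      IsIso.hom_inv_id_assoc φ _
    have hdi : topologicalKrullDim i.image = 1 :=
      ((asIso φ).hom.homeomorph.isHomeomorph.topologicalKrullDim_eq).symm.trans hd'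
    have h := hnef (A ⧸ 𝔪) (Ideal.Quotient.mk 𝔪) i.ker (inv φ ≫ J'.subschemeι ≫ t)
      (inferInstanceAs (AlgebraicGeometry.IsIntegral i.image)) hdi (by
        rw [Category.assoc, Category.assoc, ht, IsIso.inv_comp_eq, ← Category.assoc,
          ← Category.assoc φ]
        exact congrArg (· ≫ _) i.toImage_imageι.symm)
    refine h.trans_eq ?_
    refine (SurfInt.PushIso.deg_pullback φ hφ (PicLoc.isInvertible_pullback i.imageι hL)).symm.trans ?_
    exact congrArg (· - _) (Euler.euler_eq_of_iso (k := A ⧸ 𝔪)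
      ((Scheme.Modules.pullbackComp φ i.imageι).app L ≪≫ (Scheme.Modules.pullbackCongr i.toImage_imageι).app L ≪≫
        ((Scheme.Modules.pullbackComp J'.subschemeι J.subschemeι).app L).symm))
  obtain ⟨hs, hgg⟩ := NefDescent.main (k := A ⧸ 𝔪) hd hL' h1Z hn
  let e : CohB1.tensorMod L (_root_.ClSub.quotMod J) ≅ (Coh.push J.subschemeι).obj L' :=
    (Modules.ProjFormula.projIso J.subschemeι (Modules.DualBasis.hasDBases_of_isFinLocFree
      (TensorMod.LocFree.of_rank (TensorMod.LocFree.of_isInvertible hL)))).app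
        (Coh.structureModule J.subscheme) ≪≫ (Coh.push J.subschemeι).mapIso (rightUnit _)
  refine ⟨H34.HOne.h1_of_iso e.symm
    ((ZarCoh.Morph.affineEquiv J.subschemeι L' 1).toEquiv.subsingleton_congr.mpr hs), fun x => ?_⟩
  by_cases hx : x ∈ J.support
  · obtain ⟨z, rfl⟩ : x ∈ Set.range J.subschemeι := by rw [J.range_subschemeι]; exact hx
    exact (SurfInt.Semiample.genAt_push J.subschemeι (H34.GlobGen.gl_eq_top_of_gg hgg z)).of_iso e.symm
  · refine NefGG.genAt_of_subsingleton ?_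
    by_contra hc
    have : x ∈ CohB1.support (CohB1.tensorMod L (_root_.ClSub.quotMod J)) := hc
    rw [Snapper.Twist.support_twist hL, ClSub.Quot.support_quotMod] at this
    exact hx this

/-- `H¹(L) = 0`. -/
theorem subsingleton_h1 : Subsingleton (Coh.HH X L 1) := by
  haveI : IsLocallyNoetherian X := LocallyOfFiniteType.isLocallyNoetherian (X ↘ Spec (CommRingCat.of A))
  haveI : Module.Finite A (Coh.HH X L 1) :=
    ProperFin.Assembly.qfin_of_isCoh Snapper.Finite.facts L (Degree.isCoh_of_isInvertible hL) 1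
  suffices key : ∀ 𝔪 : Ideal A, 𝔪.IsMaximal → (⊤ : Submodule A (Coh.HH X L 1)) ≤ 𝔪 • ⊤ by
    have hann : Module.annihilator A (Coh.HH X L 1) = ⊤ := by
      by_contra hne
      obtain ⟨𝔪, h𝔪, hle⟩ := _root_.Ideal.exists_le_maximal _ hne
      obtain ⟨r, hr, hr0⟩ := Submodule.exists_sub_one_mem_and_smul_eq_zero_of_fg_of_le_smul 𝔪 ⊤
        Module.Finite.fg_top (key 𝔪 h𝔪)
      have h1r : r ∈ 𝔪 := hle (Module.mem_annihilator.mpr fun n => hr0 n Submodule.mem_top)
      exact h𝔪.ne_top ((_root_.Ideal.eq_top_iff_one _).mpr (by simpa using sub_mem h1r hr))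
    exact Module.annihilator_eq_top_iff.mp hann
  intro 𝔪 h𝔪 z _
  obtain ⟨r, a, ha⟩ := Submodule.fg_iff_exists_fin_generating_family.mp (IsNoetherian.noetherian 𝔪)
  haveI : HasFiniteBiproducts X.Modules := HasFiniteBiproducts.of_hasFiniteProducts
  let g : Fin r → Γ(X, ⊤) := fun j => Coh.toGlobal (X ↘ Spec (CommRingCat.of A)) (a j)
  let φ : (⨁ fun _ : Fin r => L) ⟶ L := biproduct.desc fun j => CurveBundle.EndAlg.scal L (g j)
  set C := cokernel φ
  have hLc : Coh.IsCoh L := Degree.isCoh_of_isInvertible hL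
  haveI := hLc.1
  have hbc : Coh.IsCoh (⨁ fun _ : Fin r => L) := by
    let T : X.Modules ⥤ X.Modules := (TensorMod.Basic.tensorFunctor X).obj L
    haveI : PreservesColimitsOfSize.{0, 0} T := preservesSmallestColimits_of_preservesColimits T
    haveI : PreservesColimitsOfShape (Discrete (Fin r)) T := inferInstance
    let e₁ : T.obj (FlatMod.freeMod X r) ≅ ∐ fun _ : Fin r => L :=
      PreservesCoproduct.iso T _ ≪≫ Sigma.mapIso fun _ => rightUnit L
    exact CohBasics.Closure.isCoh_of_iso (e₁ ≪≫ (biproduct.isoCoproduct fun _ : Fin r => L).symm)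
      (Snapper.Twist.isCoh_twist hL (Perfect.Coherent.isCoh_freeMod X r))
  have hCc : Coh.IsCoh C := CohBasics.Closure.isCoh_cokernel φ hbc.1 hLc
  haveI := hCc.1
  have hC1 : Subsingleton (Coh.HH X C 1) := by
    obtain ⟨i⟩ := NefGG.nonempty_iso_tensor_quot (N := C) (fibIdeal (X := X) 𝔪) fun V b hb n => by
      have hgj : ∀ j, CurveBundle.EndAlg.scal C (g j) = 0 := fun j => by
        rw [← cancel_epi (cokernel.π φ), ← CurveBundle.EndAlg.scal_comm, comp_zero,
          ← biproduct.ι_desc (fun j => CurveBundle.EndAlg.scal L (g j)) j, Category.assoc]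
        exact (congrArg (biproduct.ι _ j ≫ ·) (cokernel.condition φ)).trans comp_zero
      let ψ := (X.presheaf.map (homOfLE (le_top (a := V.1))).op).hom.comp
        (Coh.toGlobal (X ↘ Spec (CommRingCat.of A)))
      have hle : 𝔪.map ψ ≤ (Submodule.span Γ(X, V.1) ({n} : Set Γ(C, V.1))).annihilator := by
        rw [← ha]
        change (Ideal.span (Set.range a)).map ψ ≤ _
        rw [Ideal.map_span, Ideal.span_le]
        rintro _ ⟨_, ⟨j, rfl⟩, rfl⟩
        rw [SetLike.mem_coe, Submodule.mem_annihilator_span_singleton]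
        exact (CurveBundle.EndAlg.scal_app C (g j) V.1 n).symm.trans (by rw [hgj j]; rfl)
      rw [fibIdeal_ideal] at hb
      exact (Submodule.mem_annihilator_span_singleton _ _).mp (hle hb)
    haveI : Epi (tmap (𝟙 (_root_.ClSub.quotMod (fibIdeal (X := X) 𝔪))) (cokernel.π φ)) := by
      haveI : PreservesColimitsOfSize.{0, 0}
          ((TensorMod.Basic.tensorFunctor X).obj (_root_.ClSub.quotMod (fibIdeal (X := X) 𝔪))) :=
        preservesSmallestColimits_of_preservesColimits _
      exact inferInstanceAs (Epi (((TensorMod.Basic.tensorFunctor X).obj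
        (_root_.ClSub.quotMod (fibIdeal (X := X) 𝔪))).map (cokernel.π φ)))
    exact h1_of_epi A h2 (Snapper.Twist.isCoh_twist hL (IdealTwist.isCoh_quot _)) hCc.1
      ((TensorMod.Basic.comm L _).hom ≫ tmap (𝟙 _) (cokernel.π φ) ≫ i.hom) (fibre h2 h1 hfib hL hnef 𝔪).1
  -- right exactness at `L`
  have hsurj : Function.Surjective (mapK A φ 1) := by
    let K := kernel (cokernel.π φ)
    let l : (⨁ fun _ : Fin r => L) ⟶ K := kernel.lift _ φ (cokernel.condition φ)
    haveI : Epi l := (ShortComplex.exact_cokernel φ).epi_kernelLift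
    intro w
    let S := ShortComplex.mk (kernel.ι (cokernel.π φ)) (cokernel.π φ) (kernel.condition _)
    have hS : S.ShortExact := { exact := ShortComplex.exact_kernel _ }
    obtain ⟨u, hu⟩ := (LES.exactK₂ A hS 1 w).mp (hC1.elim _ _)
    let T := ShortComplex.mk (kernel.ι l) l (kernel.condition l)
    have hT : T.ShortExact := { exact := ShortComplex.exact_kernel l }
    haveI : Subsingleton (Coh.HH X T.X₁ 2) :=
      h2 _ (CohBasics.Closure.isCoh_kernel l hbc (CohBasics.Closure.isCoh_kernel _ hLc hCc.1).1)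
    obtain ⟨v, hv⟩ := (exactK₃ A hT 1 2 rfl u).mp (Subsingleton.elim _ _)
    refine ⟨v, ?_⟩
    rw [← kernel.lift_ι (cokernel.π φ) φ (cokernel.condition φ), LES.mapK_comp, LinearMap.comp_apply]
    exact (congrArg (mapK A (kernel.ι (cokernel.π φ)) 1) hv).trans hu
  obtain ⟨y, rfl⟩ := hsurj z
  let h : ((⨁ fun _ : Fin r => L) ⟶ L) →+ Coh.HH X L 1 :=
    AddMonoidHom.mk' (fun ψ => mapK A ψ 1 y) fun u v => by rw [SectionSurj.mapK_add]; rfl
  change h φ ∈ _
  rw [show φ = ∑ j, biproduct.π (fun _ : Fin r => L) j ≫ CurveBundle.EndAlg.scal L (g j) from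
    biproduct.desc_eq, map_sum]
  refine Submodule.sum_mem _ fun j _ => ?_
  change mapK A (_ ≫ _) 1 y ∈ _
  rw [LES.mapK_comp, LinearMap.comp_apply]
  exact Submodule.smul_mem_smul (show a j ∈ 𝔪 from ha ▸ Submodule.subset_span ⟨j, rfl⟩) Submodule.mem_top

/-- Generated by global sections. -/
theorem isGloballyGenerated : Curv2.IsGloballyGenerated L := by
  haveI : IsLocallyNoetherian X := LocallyOfFiniteType.isLocallyNoetherian (X ↘ Spec (CommRingCat.of A))
  have hs := subsingleton_h1 h2 h1 hfib hL hnef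
  let f := X ↘ Spec (CommRingCat.of A)
  refine Ample.GG.isGloballyGenerated_of_genAt fun x => ?_
  obtain ⟨𝔪, h𝔪, hle⟩ := _root_.Ideal.exists_le_maximal _
    (f x).isPrime.ne_top
  let y : ↥(Spec (CommRingCat.of A)) := (⟨𝔪, h𝔪.isPrime⟩ : PrimeSpectrum A)
  have hsp : f x ⤳ y := (PrimeSpectrum.le_iff_specializes _ _).mp hle
  obtain ⟨x₀, hxx₀, hx₀⟩ := f.isClosedMap.specializingMap hsp
  have hmem : x₀ ∈ (fibIdeal (X := X) 𝔪).support := by
    rw [fibIdeal, Scheme.IdealSheafData.support_comap]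
    refine (?_ : f x₀ ∈ (Spec.map (CommRingCat.ofHom (Ideal.Quotient.mk 𝔪))).ker.support)
    rw [hx₀, ← SetLike.mem_coe, Scheme.Hom.support_ker]
    haveI := h𝔪.isPrime
    exact subset_closure ⟨(⟨⊥, Ideal.isPrime_bot⟩ : PrimeSpectrum (A ⧸ 𝔪)),
      PrimeSpectrum.ext ((RingHom.ker_eq_comap_bot _).symm.trans Ideal.mk_ker)⟩
  set J := fibIdeal (X := X) 𝔪
  haveI : 𝔪.IsMaximal := h𝔪
  let S := Snapper.Twist.twistSeq L (ClSub.Quot.idealSeq J)
  have hS : S.ShortExact := Snapper.Twist.twistSeq_shortExact hL (ClSub.Quot.idealSeq_shortExact J)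
  obtain ⟨r, a, ha⟩ := Submodule.fg_iff_exists_fin_generating_family.mp (IsNoetherian.noetherian 𝔪)
  have hgen : ∀ z, Ample.GG.GenAt (_root_.ClSub.idealMod J) z := by
    obtain ⟨t, ht, -⟩ := exists_lift (X := X) 𝔪
    have hz0 : ∀ j, J.subschemeι.app ⊤ (Coh.toGlobal f (a j)) = 0 := fun j => by
      have h1 : (J.subschemeι ≫ f).appTop ((Scheme.ΓSpecIso (CommRingCat.of A)).inv (a j)) = 0 := by
        have hq : (Spec.map (CommRingCat.ofHom (Ideal.Quotient.mk 𝔪))).appTop
            ((Scheme.ΓSpecIso (CommRingCat.of A)).inv (a j)) = 0 := by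
          refine (congr($(Scheme.ΓSpecIso_inv_naturality (CommRingCat.ofHom (Ideal.Quotient.mk 𝔪))) (a j))).symm.trans ?_
          exact (congrArg (Scheme.ΓSpecIso (CommRingCat.of (A ⧸ 𝔪))).inv
            (Ideal.Quotient.eq_zero_iff_mem.mpr (show a j ∈ 𝔪 from ha ▸ Submodule.subset_span ⟨j, rfl⟩))).trans (map_zero _)
        rw [← ht, Scheme.Hom.comp_appTop, CommRingCat.comp_apply, hq, map_zero]
      exact h1
    choose s hs using fun j => (ClSub.Sections.mem_range_idealModι_app_iff J ⊤ _).mpr (hz0 j)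
    intro z
    refine eq_top_iff.2 fun v _ => ?_
    obtain ⟨U, hzU, n, rfl⟩ := (_root_.ClSub.idealMod J).presheaf.exists_germ_eq v
    obtain ⟨V, hVU, hzV⟩ := ClSub.Basis.exists_affine_le hzU
    rw [← ClSub.Basis.germ_map hVU hzV n]
    set n' : Γ(_root_.ClSub.idealMod J, V.1) := (_root_.ClSub.idealMod J).presheaf.map (homOfLE hVU).op n
    let sV : Fin r → Γ(_root_.ClSub.idealMod J, V.1) := fun j => TensorMod.Dual.rs _ le_top (s j)
    have hn' : n' ∈ Submodule.span Γ(X, V.1) (Set.range sV) := by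
      let ιl : Γ(_root_.ClSub.idealMod J, V.1) →ₗ[Γ(X, V.1)] Γ(X, V.1) :=
        { toFun := fun m => (_root_.ClSub.idealModι J).app V.1 m
          map_add' := fun m m' => map_add _ m m'
          map_smul' := fun c m => Scheme.Modules.Hom.app_smul _ c m }
      have hmem : ιl n' ∈ J.ideal V :=
        (ClSub.Sections.mem_range_idealModι_app_affine_iff J V _).mp ⟨n', rfl⟩
      have hsub : (J.ideal V : Submodule Γ(X, V.1) Γ(X, V.1)) ≤
          (Submodule.span Γ(X, V.1) (Set.range sV)).map ιl := by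
        rw [fibIdeal_ideal, ← ha]
        refine (show (Ideal.span (Set.range a)).map _ ≤ _ from ?_)
        rw [Ideal.map_span, Ideal.span_le]
        rintro _ ⟨_, ⟨j, rfl⟩, rfl⟩
        refine ⟨sV j, Submodule.subset_span ⟨j, rfl⟩, ?_⟩
        exact (TensorMod.HomGlue.rs_app (_root_.ClSub.idealModι J) le_top (s j)).symm.trans
          (congrArg (X.presheaf.map (homOfLE le_top).op) (hs j))
      obtain ⟨m, hm, hme⟩ := hsub hmem
      exact ClSub.Sections.idealModι_app_injective J V.1 hme ▸ hm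
    have h3 : (_root_.ClSub.idealMod J).presheaf.germ V.1 z hzV n' ∈ Submodule.span (X.presheaf.stalk z)
        (Set.range fun j => (_root_.ClSub.idealMod J).presheaf.germ V.1 z hzV (sV j)) := by
      clear_value n'
      induction hn' using Submodule.span_induction with
      | mem x hx =>
        obtain ⟨j, rfl⟩ := hx
        exact Submodule.subset_span ⟨j, rfl⟩
      | zero => rw [map_zero]; exact zero_mem _
      | add x y _ _ hx hy => rw [map_add]; exact add_mem hx hy
      | smul c x _ hx => rw [Modules.StalkModule.germ_smul]; exact Submodule.smul_mem _ _ hx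
    refine Submodule.span_mono ?_ h3
    rintro _ ⟨j, rfl⟩
    exact ⟨s j, (TopCat.Presheaf.germ_res_apply _ (homOfLE le_top) z hzV (s j)).symm⟩
  haveI : CompactSpace X := QuasiCompact.compactSpace_of_compactSpace f
  obtain ⟨m, p, hp⟩ := ProjCoh.Gen.exists_epi_freeMod (IdealTwist.isCoh_ideal J) hgen
  haveI := hp
  obtain ⟨q, hq⟩ := H34.DefAmple.exists_epi_tensor L p
  have hker : Subsingleton (Coh.HH X (CohB1.tensorMod L (_root_.ClSub.idealMod J)) 1) := by
    have hsum := H34.HOne.h1_sigma (fun _ : Fin m => L) fun _ => hs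
    haveI := hq
    refine h1_of_epi A h2 ?_ (Snapper.Twist.isCoh_twist hL (IdealTwist.isCoh_ideal J)).1 q hsum
    let T : X.Modules ⥤ X.Modules := (TensorMod.Basic.tensorFunctor X).obj L
    haveI : PreservesColimitsOfSize.{0, 0} T := preservesSmallestColimits_of_preservesColimits T
    haveI : PreservesColimitsOfShape (Discrete (Fin m)) T := inferInstance
    let e₁ : T.obj (FlatMod.freeMod X m) ≅ ∐ fun _ : Fin m => L :=
      PreservesCoproduct.iso T _ ≪≫ Sigma.mapIso fun _ => rightUnit L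
    exact CohBasics.Closure.isCoh_of_iso e₁
      (Snapper.Twist.isCoh_twist hL (Perfect.Coherent.isCoh_freeMod X m))
  haveI : Epi S.g := hS.epi_g
  let g' : CohB1.tensorMod L (Coh.structureModule X) ⟶ CohB1.tensorMod L (_root_.ClSub.quotMod J) := S.g
  haveI : Epi g' := hS.epi_g
  have hgenx₀ : Ample.GG.GenAt L x₀ := by
    refine (SurfInt.Semiample.genAt_of_lift
      (TensorMod.Invertible.isInvertible_tensorMod hL (PicLoc.isInvertible_structureModule X)) g'
      (H34.HOne.app_top_surjective hS hker) ((fibre h2 h1 hfib hL hnef 𝔪).2 x₀) ?_).of_iso (rightUnit L)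
    rw [Snapper.Twist.support_twist hL, ClSub.Quot.support_quotMod]
    exact hmem
  obtain ⟨s, hsx⟩ := Ample.GG.exists_genLocus_of_genAt hL hgenx₀
  have hxs : x ∈ CohB1.genLocus L s := hxx₀.mem_open (CohB1.genLocus L s).isOpen hsx
  refine eq_top_iff.2 fun v _ => ?_
  obtain ⟨b, rfl⟩ := (H34.UFDExt.Gen.IsGen.stalk_bijective (M := L)
    (fun W hW => Ample.Basis.isGen_genLocus s W hW) hxs).2 v
  exact Submodule.smul_mem _ _ (Submodule.subset_span ⟨s.app ⊤ (TensorMod.Gen.one X ⊤), by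
    rw [← Ample.GenLocus.rs_sv s (le_top : CohB1.genLocus L s ≤ ⊤)]
    exact (TopCat.Presheaf.germ_res_apply L.presheaf (homOfLE le_top) x hxs _).symm⟩)

end Groth.Agent.Lib.Curves.RelNef
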