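import Groth.Agent.Lib.Curves.Clifford

/-!
# Linear slope bounds from Clifford's inequality and Riemann's formula
-/

set_option autoImplicit false
universe u

open CategoryTheory AlgebraicGeometry

namespace Groth.Agent.Lib.Curves.SlopeBound

variable (k : Type u) [Field k] [IsAlgClosed k] {X : Scheme.{u}} [X.Over (Spec (CommRingCat.of k))]
  [IsProper (X ↘ Spec (CommRingCat.of k))] [IsIntegral X]

/-- `h⁰(M) = e + 1 - g` or `2 (h⁰(M) - 1) ≤ e`. -/
theorem dichotomy (hdim : topologicalKrullDim X ≤ 1) {M : X.Modules} (hM : PicF.IsInvertible M)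
    (hs : 0 < Module.finrank k (Coh.HH X M 0)) :
    (Module.finrank k (Coh.HH X M 0) : ℤ) = Curv2.deg k X M 1 + 1 - Curv2.genus k X ∨
      2 * ((Module.finrank k (Coh.HH X M 0) : ℤ) - 1) ≤ Curv2.deg k X M 1 := by
  have h0 := GlobalSections.finrank_h0_structure k X
  rcases subsingleton_or_nontrivial (Coh.HH X M 1) with h | h
  · left
    have hr := Degree.riemann_roch hdim h0 hM
    have h1 : Euler.hdim k X M 1 = 0 := Module.finrank_zero_of_subsingleton
    rw [h1] at hr
    simpa [Euler.hdim] using hr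
  · right
    have hnt : Nontrivial (Coh.HH X M 0) := Module.nontrivial_of_finrank_pos hs
    have := Clifford.two_mul_hdim_zero_le k hdim h0 hM hnt h
    simp only [Euler.hdim] at this
    linarith

theorem le_of_dichotomy {d e g : ℤ} (hg : 0 ≤ g) {m h : ℤ} (hm : 1 ≤ m) (hh : m + 1 ≤ h)
    (hd : 2 * g ≤ d) (he : e ≤ d) (hor : h = e + 1 - g ∨ 2 * (h - 1) ≤ e) :
    d * m ≤ e * (d - g) := by
  rcases hor with hor | hor
  · have h1 : 0 ≤ (d - e) * g := mul_nonneg (by linarith) hg
    have h2 : 0 ≤ d * (e - g - m) := mul_nonneg (by linarith) (by linarith)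
    linarith [h1, h2]
  · have h1 : 0 ≤ e * (d - 2 * g) := mul_nonneg (by linarith) (by linarith)
    have h2 : 0 ≤ d * (e - 2 * m) := mul_nonneg (by linarith) (by linarith)
    linarith [h1, h2]

theorem lt_of_dichotomy {d e g : ℤ} (hg : 1 ≤ g) {m h : ℤ} (hm : 1 ≤ m) (hh : m + 1 ≤ h)
    (hd : 2 * g < d) (he : e ≤ d) (hlt : e < d ∨ m < d - g)
    (hor : h = e + 1 - g ∨ 2 * (h - 1) ≤ e) : d * m < e * (d - g) := by
  rcases hor with hor | hor
  · rcases eq_or_lt_of_le he with he' | he'
    · subst he'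
      have hlt' : m < e - g := hlt.resolve_left (lt_irrefl _)
      exact mul_lt_mul_of_pos_left hlt' (by linarith)
    · have h1 : 0 < (d - e) * g := mul_pos (by linarith) (by linarith)
      have h2 : 0 ≤ d * (e - g - m) := mul_nonneg (by linarith) (by linarith)
      linarith [h1, h2]
  · have h1 : 0 < e * (d - 2 * g) := mul_pos (by linarith) (by linarith)
    have h2 : 0 ≤ d * (e - 2 * m) := mul_nonneg (by linarith) (by linarith)
    linarith [h1, h2]

end Groth.Agent.Lib.Curves.SlopeBound
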