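import Groth.Agent.Lib.Curves.Clifford
import Groth.Agent.Lib.TFOne.Euler
import Groth.Agent.Lib.TFOne.Push
import Groth.Agent.Lib.TFOne.EDeg

/-!
# Cohomology of torsion-free quotients on unions of components of a reduced curve

If, for each component in `T`, dropping it does not preserve `H¹` of the quotient on `T`, then
`h⁰` of that quotient is at most `h¹(O_T)`.
-/

set_option autoImplicit false
set_option linter.style.haveILetI false
universe u

open CategoryTheory CategoryTheory.Limits AlgebraicGeometry Opposite TopologicalSpace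

noncomputable section

namespace Groth.Agent.Lib.Curves.SubUnion

open Groth.Agent.Lib Groth.Agent.Lib.Modules
open Groth.Agent.Lib.Curves.LES (mapK mapK_comp exactK₁ exactK₂ exactK₃)
open Groth.Agent.Lib.Modules.StalkModule (stalkMapₗ stalkMapₗ_germ stalkMapₗ_comp stalkMapₗ_zero)

variable {X : Scheme.{u}}

/-- The union of the closures of a finite set of points. -/
def uT (S : Finset X) : Set X := ⋃ η ∈ S, closure ({η} : Set X)

/-- A finite set of generic points of components. -/
def IsGen (S : Finset X) : Prop := ∀ η ∈ S, η ∈ genericPoints X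

lemma IsGen.mono {S S' : Finset X} (h : IsGen S) (hs : S' ⊆ S) : IsGen S' :=
  fun η hη => h η (hs hη)

lemma isUnion_uT {S : Finset X} (hS : IsGen S) : TFOne.Push.IsUnion (uT S) :=
  ⟨(fun η => closure ({η} : Set X)) '' (S : Set X), by
    rintro _ ⟨η, hη, rfl⟩; exact hS η hη, by rw [Set.sUnion_image]; rfl⟩

lemma isClosed_uT (S : Finset X) : IsClosed (uT S) :=
  S.finite_toSet.isClosed_biUnion fun _ _ => isClosed_closure

lemma mem_uT_of_mem {S : Finset X} {η : X} (h : η ∈ S) : η ∈ uT S :=
  Set.mem_biUnion (x := η) h (subset_closure rfl)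

lemma mem_uT_iff {S : Finset X} {η : X} (hη : η ∈ genericPoints X) : η ∈ uT S ↔ η ∈ S := by
  refine ⟨fun h => ?_, mem_uT_of_mem⟩
  obtain ⟨η', hη', hmem⟩ := Set.mem_iUnion₂.mp h
  exact Flat55.GenericPoints.eq_of_specializes hη (specializes_iff_mem_closure.mpr hmem) ▸ hη'

lemma uT_mono {S S' : Finset X} (h : S' ⊆ S) : uT S' ⊆ uT S :=
  Set.biUnion_subset_biUnion_left fun _ hη => h hη

/-- A submodule of a torsion-free module is torsion-free. -/
theorem isTorsionFree_of_mono {M N : X.Modules} (f : M ⟶ N) [Mono f] (hN : TorSh.IsTorsionFree N) :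
    TorSh.IsTorsionFree M := fun x => ⟨fun _ hc _ _ h =>
  (StalkModule.mono_iff_stalkMapₗ_injective f).mp inferInstance x
    ((hN x).isSMulRegular hc ((map_smul _ _ _).symm.trans ((congrArg (stalkMapₗ f x) h).trans
      (map_smul _ _ _))))⟩

lemma stalk_comp_apply {A B C : X.Modules} (f : A ⟶ B) (g : B ⟶ C) (x : X)
    (v : A.presheaf.stalk x) : stalkMapₗ (f ≫ g) x v = stalkMapₗ g x (stalkMapₗ f x v) := by
  rw [stalkMapₗ_comp]; rfl

lemma stalk_σ_eq_zero (G : X.Modules) (t : Γ(G, ⊤)) (x : X)
    (h : G.presheaf.germ ⊤ x trivial t = 0) : stalkMapₗ (Clifford.σ G t) x = 0 := by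
  let one : Γ(Coh.structureModule X, ⊤) := (show Γ(X, ⊤) from 1)
  have h1 : stalkMapₗ (Clifford.σ G t) x ((Coh.structureModule X).presheaf.germ ⊤ x trivial one) = 0 := by
    rw [stalkMapₗ_germ]
    exact (congrArg _ (Clifford.σ_one G t)).trans h
  refine LinearMap.ext fun v => ?_
  obtain ⟨U, hx, s, rfl⟩ := TopCat.Presheaf.exists_germ_eq (Coh.structureModule X).presheaf v
  let r : Γ(X, U) := s
  let oneU : Γ(Coh.structureModule X, U) :=
    (Coh.structureModule X).presheaf.map (homOfLE le_top).op one
  have hs : s = r • oneU := by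
    change (r : Γ(X, U)) = r * X.presheaf.map (homOfLE le_top).op (1 : Γ(X, ⊤))
    exact (mul_one r).symm.trans (congrArg (r * ·) (map_one _).symm)
  have hg : (Coh.structureModule X).presheaf.germ U x hx oneU =
      (Coh.structureModule X).presheaf.germ ⊤ x trivial one :=
    TopCat.Presheaf.germ_res_apply _ _ _ _ _
  rw [hs, StalkModule.germ_smul, map_smul, hg, h1, smul_zero]
  rfl

lemma subsingleton_cokernel_stalk {A B : X.Modules} (f : A ⟶ B) {x : X}
    (h : Function.Surjective (stalkMapₗ f x)) : Subsingleton ((cokernel f).presheaf.stalk x) := by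
  refine subsingleton_of_forall_eq 0 fun q => ?_
  obtain ⟨v, rfl⟩ := (StalkModule.epi_iff_stalkMapₗ_surjective (cokernel.π f)).mp inferInstance x q
  obtain ⟨w, rfl⟩ := h v
  rw [← stalk_comp_apply, cokernel.condition, stalkMapₗ_zero]
  rfl

lemma mem_stalk_kernel {A B : X.Modules} (f : A ⟶ B) {x : X} {v : A.presheaf.stalk x}
    (hv : stalkMapₗ f x v = 0) : ∃ w, stalkMapₗ (kernel.ι f) x w = v :=
  (ShortComplex.ab_exact_iff _).mp ((Stalk.exact_iff_stalk
    (ShortComplex.mk (kernel.ι f) f (kernel.condition f))).mp (ShortComplex.exact_kernel f) x) v hv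

variable (k : Type u) [Field k] [X.Over (Spec (CommRingCat.of k))]
  [IsProper (X ↘ Spec (CommRingCat.of k))]

/-- Onto in degree one when the map is onto at all generic points. -/
theorem mapK_surjective_of_generic (hdim : topologicalKrullDim X ≤ 1) {A B : X.Modules} (f : A ⟶ B)
    (h : ∀ η ∈ genericPoints X, Function.Surjective (stalkMapₗ f η)) :
    Function.Surjective (mapK k f 1) := by
  haveI := GlobalSections.noetherianSpace_of_proper k X
  have h1 : Function.Surjective (mapK k (Abelian.factorThruImage f) 1) := by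
    let e := Abelian.factorThruImage f
    exact Euler.surjective_h1 (k := k) (S := ShortComplex.mk (kernel.ι e) e (kernel.condition e))
      { exact := ShortComplex.exact_kernel e } (Positivity.subsingleton_HH_of_two_le hdim _ 2 le_rfl)
  have h2 : Function.Surjective (mapK k (Abelian.image.ι f) 1) :=
    Clifford.mapK_surjective_one k hdim _ fun η hη => subsingleton_cokernel_stalk _ fun v => by
      obtain ⟨w, rfl⟩ := h η hη v
      exact ⟨stalkMapₗ (Abelian.factorThruImage f) η w,
        (stalk_comp_apply _ _ _ _).symm.trans (by rw [Abelian.image.fac])⟩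
  rw [← Abelian.image.fac f, mapK_comp]
  exact h2.comp h1

variable [IsReduced X]

section Quot

variable {M : X.Modules} (hM : TFOne.IsTF1 X M) {S : Finset X} (hS : IsGen S)

include hM hS

omit [X.Over (Spec (CommRingCat.of k))] [IsProper (X ↘ Spec (CommRingCat.of k))] in
/-- At a generic point in `T` a nonzero germ generates the quotient on `T`. -/
lemma exists_smul {G : X.Modules} {π : M ⟶ G} (hG : TFOne.IsQuotOn X M (uT S) G π) {η : X}
    (hη : η ∈ S) {g : G.presheaf.stalk η} (hg : g ≠ 0) (v : G.presheaf.stalk η) :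
    ∃ c : X.presheaf.stalk η, c • g = v := by
  have hgen := hS η hη
  obtain ⟨e⟩ := hM.2.2 η hgen
  have hF : IsField (X.presheaf.stalk η) :=
    ModelFibre.MaxPoint.isField_stalk fun y hy => Flat55.GenericPoints.eq_of_specializes hgen hy
  have hb := TFOne.Generic.bijective_stalk hM hG hgen (mem_uT_of_mem hη)
  obtain ⟨m, rfl⟩ := hb.2 g
  obtain ⟨w, rfl⟩ := hb.2 v
  obtain ⟨c, hc⟩ := hF.mul_inv_cancel (a := e m) fun h0 => hg (by
    rw [e.map_eq_zero_iff.mp h0, map_zero])
  refine ⟨e w * c, ?_⟩
  rw [← map_smul]
  congr 1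
  apply e.injective
  rw [map_smul, smul_eq_mul, mul_assoc, mul_comm c, hc, mul_one]

omit [X.Over (Spec (CommRingCat.of k))] [IsProper (X ↘ Spec (CommRingCat.of k))] in
/-- The restriction between quotients on nested unions. -/
lemma exists_restrict [IsLocallyNoetherian X] {G : X.Modules} {π : M ⟶ G} (hG : TFOne.IsQuotOn X M (uT S) G π)
    {S' : Finset X} (hsub : S' ⊆ S) {G' : X.Modules} {π' : M ⟶ G'}
    (hG' : TFOne.IsQuotOn X M (uT S') G' π') : ∃ r : G ⟶ G', π ≫ r = π' ∧ Epi r := by
  haveI := hG'.2.1.1
  haveI := hG'.1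
  obtain ⟨r, hr⟩ := TFOne.Generic.exists_factor hM hG hG'.2.2.1 π' fun η _ h =>
    LinearMap.ext fun _ => @Subsingleton.elim _
      (TFOne.Generic.subsingleton_stalk hG' fun h' => h (uT_mono hsub h')) _ _
  exact ⟨r, hr, epi_of_epi_fac hr⟩

end Quot

/-- The structure sheaf on a union. -/
abbrev OS (S : Finset X) : X.Modules := TFOne.EDeg.OT (isClosed_uT S)

/-- The restriction to a union. -/
abbrev toOS (S : Finset X) : Coh.structureModule X ⟶ OS S :=
  TFOne.EDeg.toOT (isClosed_uT S)

omit [IsProper (X ↘ Spec (CommRingCat.of k))] [X.Over (Spec (CommRingCat.of k))] in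
lemma isQuotOn_OS [IsLocallyNoetherian X] {S : Finset X} (hS : IsGen S) :
    TFOne.IsQuotOn X (Coh.structureModule X) (uT S) (OS S) (toOS S) :=
  TFOne.EDeg.isQuotOn_OT _ (isUnion_uT hS)

variable {M : X.Modules} (hM : TFOne.IsTF1 X M)

include hM

/-- **The bound**: `h⁰(G) ≤ h¹(O_T)`. -/
theorem hdim_zero_le (hdim : topologicalKrullDim X ≤ 1) {S : Finset X} (hS : IsGen S)
    {G : X.Modules} {π : M ⟶ G} (hG : TFOne.IsQuotOn X M (uT S) G π)
    (hne : ∀ η ∈ S, ∃ (S' : Finset X) (G' : X.Modules) (π' : M ⟶ G'), S' ⊆ S ∧
      (∀ x ∈ S, x ∉ S' → x = η) ∧ η ∉ S' ∧ TFOne.IsQuotOn X M (uT S') G' π' ∧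
      ∀ r : G ⟶ G', π ≫ r = π' → ¬ Function.Injective (mapK k r 1)) :
    Euler.hdim k X G 0 ≤ Euler.hdim k X (OS S) 1 := by
  classical
  haveI := GlobalSections.isNoetherian_of_proper k X
  haveI := GlobalSections.noetherianSpace_of_proper k X
  haveI := hG.2.1.1
  letI := GlobalSections.secModule k G
  haveI : Module.Finite k (G.val.obj (op ⊤) : Type u) :=
    haveI := (Finiteness.isGood_of_isCoh (k := k) hdim hG.2.1).fin₀
    Module.Finite.equiv (GlobalSections.h0Linear k G)
  -- germs at a point
  have hgadd : ∀ (x : X) (a b : (G.val.obj (op ⊤) : Type u)),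
      G.presheaf.germ ⊤ x trivial (show Γ(G, ⊤) from a + b) =
        G.presheaf.germ ⊤ x trivial (show Γ(G, ⊤) from a) +
          G.presheaf.germ ⊤ x trivial (show Γ(G, ⊤) from b) := fun x a b => map_add _ _ _
  let V : Finset X → Submodule k (G.val.obj (op ⊤) : Type u) := fun S' =>
    { carrier := {t | ∀ η ∈ S, η ∉ S' → G.presheaf.germ ⊤ η trivial (show Γ(G, ⊤) from t) = 0}
      zero_mem' := fun η _ _ => map_zero _
      add_mem' := fun ha hb η h1 h2 => by rw [hgadd, ha η h1 h2, hb η h1 h2, add_zero]
      smul_mem' := fun c t ht η h1 h2 => by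
        change G.presheaf.germ ⊤ η trivial
          ((show Γ(X, ⊤) from CurveBundle.EndAlg.cst X k c) • (show Γ(G, ⊤) from t)) = 0
        rw [StalkModule.germ_smul, ht η h1 h2, smul_zero] }
  have hvan : ∀ (t : Γ(G, ⊤)), (∀ η ∈ S, G.presheaf.germ ⊤ η trivial t = 0) → t = 0 := fun t ht =>
    Support.eq_zero_of_germ_eq_zero t fun x hx _ =>
      TFOne.Generic.germ_eq_zero hG.2.2.1 hx t fun η hη _ => by
        by_cases h : η ∈ S
        · exact ht η h
        · exact @Subsingleton.elim _ (TFOne.Generic.subsingleton_stalk hG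
            fun h' => h ((mem_uT_iff hη).mp h')) _ _
  suffices key : ∀ S' : Finset X, S' ⊆ S →
      Module.finrank k (V S') ≤ Euler.hdim k X (OS S') 1 by
    have htop : V S = ⊤ := eq_top_iff.mpr fun t _ η h1 h2 => absurd h1 h2
    have h := key S le_rfl
    rw [htop, finrank_top] at h
    exact (GlobalSections.h0Linear k G).finrank_eq.trans_le h
  intro S'
  induction S' using Finset.induction_on with
  | empty =>
    intro _
    have hbot : V ∅ = ⊥ := (Submodule.eq_bot_iff _).mpr fun t ht =>
      hvan t fun η hη => ht η hη (Finset.notMem_empty η)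
    rw [hbot, finrank_bot]
    exact Nat.zero_le _
  | @insert η₀ S'' hnot ih =>
    intro hsub
    have hη₀ : η₀ ∈ S := hsub (Finset.mem_insert_self _ _)
    have hsub'' : S'' ⊆ S := (Finset.subset_insert _ _).trans hsub
    have hgen' := hS.mono hsub
    obtain ⟨Sr, G', π', hSr, hSr', hηSr, hG', hr0⟩ := hne η₀ hη₀
    obtain ⟨r, hr, hrepi⟩ := exists_restrict hM hS hG hSr hG'
    haveI := hG'.2.1.1
    have hnin := hr0 r hr
    rw [injective_iff_map_eq_zero] at hnin
    push Not at hnin
    obtain ⟨y, hy, hy0⟩ := hnin
    haveI := Module.Free.of_divisionRing k (Coh.HH X G 1)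
    haveI : Module.Projective k (Coh.HH X G 1) := Module.Projective.of_free
    obtain ⟨φ, hφ⟩ : ∃ φ : Module.Dual k (Coh.HH X G 1), φ y ≠ 0 := by
      by_contra h
      push Not at h
      exact hy0 ((Module.forall_dual_apply_eq_zero_iff k y).1 h)
    -- the two structure sheaves
    have hO' := isQuotOn_OS hgen'
    have hO'' := isQuotOn_OS (hS.mono hsub'')
    haveI := hO'.1
    haveI := hO'.2.1.1
    haveI := hO''.2.1.1
    obtain ⟨q, hq, hqepi⟩ := exists_restrict (TFOne.EDeg.isTF1_structure (X := X)) hgen' hO'
      (Finset.subset_insert η₀ S'') hO''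
    -- sections supported in `S'` act through `OS S'`
    have hg : ∀ t : V (insert η₀ S''), ∃ g : OS (insert η₀ S'') ⟶ G,
        toOS (insert η₀ S'') ≫ g = Clifford.σ G (show Γ(G, ⊤) from t.1) := fun t =>
      TFOne.Generic.exists_factor (TFOne.EDeg.isTF1_structure (X := X)) hO' hG.2.2.1 _
        fun η hη hn => by
          by_cases h : η ∈ S
          · exact stalk_σ_eq_zero G _ η (t.2 η h fun h' => hn (mem_uT_of_mem h'))
          · exact LinearMap.ext fun _ => @Subsingleton.elim _
              (TFOne.Generic.subsingleton_stalk hG fun h' => h ((mem_uT_iff hη).mp h')) _ _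
    choose g hg using hg
    let K := LinearMap.ker (mapK k q 1)
    let Ψ : V (insert η₀ S'') →ₗ[k] Module.Dual k K :=
      { toFun := fun t => (φ.comp (mapK k (g t) 1)).comp K.subtype
        map_add' := fun a b => by
          have he : g (a + b) = g a + g b := by
            rw [← cancel_epi (toOS (insert η₀ S'')), Preadditive.comp_add, hg, hg, hg]
            exact Clifford.σ_add G _ _
          ext z
          change φ (mapK k (g (a + b)) 1 z.1) = φ (mapK k (g a) 1 z.1) + φ (mapK k (g b) 1 z.1)
          rw [he, Clifford.mapK_add]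
          exact map_add φ _ _
        map_smul' := fun c a => by
          have he : g (c • a) = g a ≫ CurveBundle.EndAlg.scal G (CurveBundle.EndAlg.cst X k c) := by
            rw [← cancel_epi (toOS (insert η₀ S'')), ← Category.assoc, hg, hg]
            exact Clifford.σ_smul k G c _
          ext z
          change φ (mapK k (g (c • a)) 1 z.1) = c • φ (mapK k (g a) 1 z.1)
          rw [he, mapK_comp, Clifford.mapK_scal]
          exact map_smul φ c _ }
    have hker : LinearMap.ker Ψ ≤ (V S'').comap (V (insert η₀ S'')).subtype := by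
      intro t ht η hη hη''
      by_cases hn : η = η₀
      · subst hn
        by_contra hne0
        -- the map on the parts supported at `η`
        have hw : (kernel.ι q ≫ g t) ≫ r = 0 := by
          refine TFOne.Generic.eq_zero_of_generic hG'.2.2.1 _ fun η' hη' => LinearMap.ext fun v => ?_
          rw [Category.assoc, stalk_comp_apply, stalk_comp_apply, LinearMap.zero_apply]
          by_cases h1 : η' ∈ S''
          · have hz : stalkMapₗ q η' (stalkMapₗ (kernel.ι q) η' v) = 0 := by
              rw [← stalk_comp_apply, kernel.condition, stalkMapₗ_zero]; rfl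
            rw [(TFOne.Generic.bijective_factor (TFOne.EDeg.isTF1_structure (X := X)) hO' hO'' hq hη'
              (mem_uT_of_mem (Finset.mem_insert_of_mem h1)) (mem_uT_of_mem h1)).1
                (hz.trans (map_zero _).symm), map_zero, map_zero]
          · by_cases h2 : η' = η
            · subst h2
              exact @Subsingleton.elim _ (TFOne.Generic.subsingleton_stalk hG'
                fun h' => hηSr ((mem_uT_iff hη').mp h')) _ _
            · rw [@Subsingleton.elim _ (TFOne.Generic.subsingleton_stalk hO' fun h' =>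
                (Finset.mem_insert.mp ((mem_uT_iff hη').mp h')).elim h2 h1)
                  (stalkMapₗ (kernel.ι q) η' v) 0, map_zero, map_zero]
        let f : kernel q ⟶ kernel r := kernel.lift r (kernel.ι q ≫ g t) hw
        have hf : Function.Surjective (mapK k f 1) := by
          refine mapK_surjective_of_generic k hdim f fun η' hη' v => ?_
          have hinj := (StalkModule.mono_iff_stalkMapₗ_injective (kernel.ι r)).mp inferInstance η'
          by_cases h2 : η' = η
          · subst h2
            obtain ⟨c, hc⟩ := exists_smul hM hS hG hη hne0 (stalkMapₗ (kernel.ι r) η' v)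
            let o : (OS (insert η' S'')).presheaf.stalk η' := stalkMapₗ (toOS (insert η' S'')) η'
              (c • (Coh.structureModule X).presheaf.germ ⊤ η' trivial
                (show Γ(Coh.structureModule X, ⊤) from (1 : Γ(X, ⊤))))
            obtain ⟨w, hw'⟩ := mem_stalk_kernel q (v := o) (@Subsingleton.elim _
              (TFOne.Generic.subsingleton_stalk hO'' fun h' => hη'' ((mem_uT_iff hη').mp h')) _ _)
            refine ⟨w, hinj ?_⟩
            rw [← stalk_comp_apply, kernel.lift_ι, stalk_comp_apply, hw', ← stalk_comp_apply, hg,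
              map_smul, stalkMapₗ_germ, ← hc]
            exact congrArg (fun s => c • G.presheaf.germ ⊤ η' trivial s) (Clifford.σ_one G _)
          · refine ⟨0, hinj ?_⟩
            rw [map_zero, map_zero]
            symm
            have hz : stalkMapₗ r η' (stalkMapₗ (kernel.ι r) η' v) = 0 := by
              rw [← stalk_comp_apply, kernel.condition, stalkMapₗ_zero]; rfl
            by_cases h3 : η' ∈ S
            · exact (TFOne.Generic.bijective_factor hM hG hG' hr hη' (mem_uT_of_mem h3)
                (mem_uT_of_mem (by_contra fun h4 => h2 (hSr' η' h3 h4)))).1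
                  (hz.trans (map_zero _).symm)
            · exact @Subsingleton.elim _ (TFOne.Generic.subsingleton_stalk hG
                fun h' => h3 ((mem_uT_iff hη').mp h')) _ _
        obtain ⟨w, hw'⟩ := (exactK₂ k (S := ShortComplex.mk (kernel.ι r) r (kernel.condition r))
          { exact := ShortComplex.exact_kernel r } 1 y).mp hy
        obtain ⟨z, rfl⟩ := hf w
        have hzK : mapK k (kernel.ι q) 1 z ∈ K :=
          (exactK₂ k (S := ShortComplex.mk (kernel.ι q) q (kernel.condition q))
            { exact := ShortComplex.exact_kernel q } 1 _).mpr ⟨z, rfl⟩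
        refine hφ ?_
        rw [← hw']
        change φ (mapK k (kernel.ι r) 1 (mapK k f 1 z)) = 0
        rw [← LinearMap.comp_apply (mapK k (kernel.ι r) 1), ← mapK_comp, kernel.lift_ι, mapK_comp]
        exact LinearMap.congr_fun ht ⟨_, hzK⟩
      · exact t.2 η hη fun h => (Finset.mem_insert.mp h).elim hn hη''
    haveI := (Finiteness.isGood_of_isCoh (k := k) hdim hO'.2.1).fin₁
    haveI := (Finiteness.isGood_of_isCoh (k := k) hdim hO''.2.1).fin₁
    have h1 := LinearMap.finrank_range_add_finrank_ker Ψ
    have h2 : Module.finrank k (LinearMap.range Ψ) ≤ Module.finrank k K :=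
      (Submodule.finrank_le _).trans Subspace.dual_finrank_eq.le
    have h3 : Module.finrank k (LinearMap.ker Ψ) ≤ Module.finrank k (V S'') :=
      (Submodule.finrank_mono hker).trans (LinearMap.finrank_le_finrank_of_injective
        (f := ((V (insert η₀ S'')).subtype.restrict (q := V S'') fun t ht => ht))
        fun a b h => Subtype.ext (Subtype.ext (congrArg Subtype.val h :)))
    have h4 : Euler.hdim k X (OS S'') 1 + Module.finrank k K = Euler.hdim k X (OS (insert η₀ S'')) 1 := by
      have hsur : Function.Surjective (mapK k q 1) :=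
        Euler.surjective_h1 (k := k) (S := ShortComplex.mk (kernel.ι q) q (kernel.condition q))
          { exact := ShortComplex.exact_kernel q } (Positivity.subsingleton_HH_of_two_le hdim _ 2 le_rfl)
      have := LinearMap.finrank_range_add_finrank_ker (mapK k q 1)
      rw [LinearMap.range_eq_top.mpr hsur, finrank_top] at this
      exact this
    have := ih hsub''
    omega

end Groth.Agent.Lib.Curves.SubUnion
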