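import Groth.Agent.Lib.Curves.SubUnionConst
import Groth.Agent.Lib.Curves.GenusOne

/-!
# Subcurves carrying `H¹` of a twisted ideal, and global generation on reduced curves
-/

set_option autoImplicit false
set_option linter.style.haveILetI false
universe u

open CategoryTheory CategoryTheory.Limits AlgebraicGeometry Opposite TopologicalSpace

noncomputable section

namespace Groth.Agent.Lib.Curves.SubUnion

open Groth.Agent.Lib Groth.Agent.Lib.Modules
open Groth.Agent.Lib.Curves.LES (mapK isoK)

variable {X : Scheme.{u}} (k : Type u) [Field k] [X.Over (Spec (CommRingCat.of k))]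
  [IsProper (X ↘ Spec (CommRingCat.of k))] [IsReduced X]
  {L : X.Modules} {Z : X.IdealSheafData}

/-- The generic points of the components. -/
def gens : Finset X :=
  haveI := GlobalSections.noetherianSpace_of_proper k X
  (genericPoints.finite (α := X) NoetherianSpace.finite_irreducibleComponents).toFinset

omit [IsReduced X] in
lemma mem_gens {η : X} : η ∈ gens (X := X) k ↔ η ∈ genericPoints X := Set.Finite.mem_toFinset _

variable (hdim : topologicalKrullDim X ≤ 1) (hL : PicF.IsInvertible L)
  (hZ : ∀ η ∈ genericPoints X, η ∉ (Z.support : Set X))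

include hdim hL hZ

/-- On all of `X` the quotient is the twisted ideal itself. -/
theorem nonempty_iso_gens :
    Nonempty (CohB1.tensorMod (_root_.ClSub.idealMod Z) L ≅ GT L Z (gens (X := X) k)) := by
  have hS : IsGen (gens (X := X) k) := fun η h => (mem_gens k).mp h
  have hG := isQuotOn_GT k hdim hL hZ hS
  have hM := isTF1_twist k hL hZ
  haveI := GlobalSections.isNoetherian_of_proper k X
  haveI := hM.1.1
  haveI := hG.1
  haveI : Mono (πT L Z (gens (X := X) k)) := TFOne.Generic.mono_of_generic hM.2.1 _ fun η hη =>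
    (TFOne.Generic.bijective_stalk hM hG hη (mem_uT_of_mem ((mem_gens k).mpr hη))).1
  haveI := isIso_of_mono_of_epi (πT L Z (gens (X := X) k))
  exact ⟨asIso (πT L Z (gens (X := X) k))⟩

/-- Euler characteristic and cohomology of the structure sheaf of a union. -/
theorem structure_data {S : Finset X} (hne : S.Nonempty) :
    letI : (idl S).subscheme.Over (Spec (CommRingCat.of k)) :=
      ⟨(idl S).subschemeι ≫ (X ↘ Spec (CommRingCat.of k))⟩
    (Curv2.genus k (idl S).subscheme = Euler.hdim k X (OS S) 1) ∧
      Curv2.euler k X (OS S) = (Euler.hdim k X (OS S) 0 : ℤ) - (Euler.hdim k X (OS S) 1 : ℤ) ∧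
      0 < Euler.hdim k X (OS S) 0 := by
  letI : (idl S).subscheme.Over (Spec (CommRingCat.of k)) :=
    ⟨(idl S).subschemeι ≫ (X ↘ Spec (CommRingCat.of k))⟩
  haveI := GlobalSections.noetherianSpace_of_proper k X
  haveI := TensorMod.QCohInv.isQCoh_structureModule (idl S).subscheme
  refine ⟨((ZarCoh.Linear.affineLinearEquiv (idl S).subschemeι rfl
    (Coh.structureModule (idl S).subscheme) 1).finrank_eq).symm,
    Euler.euler_eq (Positivity.subsingleton_HH_of_two_le hdim _), ?_⟩
  haveI := (Finiteness.isGood_of_isCoh (k := k) hdim (IdealTwist.isCoh_quot (idl S))).fin₀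
  obtain ⟨η, hη⟩ := hne
  haveI : Nontrivial (Coh.HH X (OS S) 0) := by
    refine (GlobalSections.h0Equiv (OS S)).toEquiv.nontrivial_congr.mpr ?_
    obtain ⟨y, -⟩ := (Scheme.IdealSheafData.range_subschemeι (idl S)).ge
      (show η ∈ (idl S).support from mem_uT_of_mem hη)
    haveI : Nonempty (idl S).subscheme := ⟨y⟩
    haveI : Nonempty (⊤ : (idl S).subscheme.Opens) := ⟨⟨y, trivial⟩⟩
    exact (inferInstance : Nontrivial Γ((idl S).subscheme, ⊤))
  exact Module.finrank_pos

open scoped Classical in
/-- The numerical consequence of a union whose `H¹` drops on every smaller union. -/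
theorem deg_le {S : Finset X} (hS : IsGen S) (hconn : _root_.IsPreconnected (uT S))
    (hne : S.Nonempty)
    (hinj : ∀ η ∈ S, ∀ r : GT L Z S ⟶ GT L Z (S.erase η), πT L Z S ≫ r = πT L Z (S.erase η) →
      ¬ Function.Injective (mapK k r 1)) :
    @Curv2.deg k _ (idl S).subscheme ⟨(idl S).subschemeι ≫ (X ↘ Spec (CommRingCat.of k))⟩
        ((Scheme.Modules.pullback (idl S).subschemeι).obj L) 1 + (Euler.hdim k X (GT L Z S) 1 : ℤ) ≤
      2 * (Euler.hdim k X (OS S) 1 : ℤ) - (Euler.hdim k X (OS S) 0 : ℤ) +
        (Euler.hdim k X (_root_.ClSub.quotMod (Z ⊔ idl S)) 0 : ℤ) := by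
  classical
  haveI := GlobalSections.noetherianSpace_of_proper k X
  have hM := isTF1_twist k hL hZ
  have h0 := hdim_zero_le k hM hdim hS (isQuotOn_GT k hdim hL hZ hS) fun η hη =>
    ⟨S.erase η, GT L Z (S.erase η), πT L Z (S.erase η), Finset.erase_subset _ _,
      fun x hx hx' => by_contra fun h => hx' (Finset.mem_erase.mpr ⟨h, hx⟩),
      Finset.notMem_erase _ _,
      isQuotOn_GT k hdim hL hZ (hS.mono (Finset.erase_subset _ _)), hinj η hη⟩
  obtain ⟨hd, hY⟩ := deg_eq k hdim hL hZ hS
  obtain ⟨-, hO, -⟩ := structure_data k hdim hL hZ hne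
  have hGχ : Curv2.euler k X (GT L Z S) =
      (Euler.hdim k X (GT L Z S) 0 : ℤ) - (Euler.hdim k X (GT L Z S) 1 : ℤ) :=
    Euler.euler_eq (Positivity.subsingleton_HH_of_two_le hdim _)
  omega

/-- **A connected union with small degree carries `H¹`.** -/
theorem exists_connected {S₀ : Finset X} (hS₀ : IsGen S₀)
    (h : Nontrivial (Coh.HH X (GT L Z S₀) 1)) :
    ∃ S ⊆ S₀, IsGen S ∧ S.Nonempty ∧ _root_.IsPreconnected (uT S) ∧
      @Curv2.deg k _ (idl S).subscheme ⟨(idl S).subschemeι ≫ (X ↘ Spec (CommRingCat.of k))⟩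
          ((Scheme.Modules.pullback (idl S).subschemeι).obj L) 1 ≤
        -2 * Curv2.euler k X (OS S) +
          (Euler.hdim k X (_root_.ClSub.quotMod (Z ⊔ idl S)) 0 : ℤ) := by
  classical
  haveI := GlobalSections.noetherianSpace_of_proper k X
  haveI := GlobalSections.isNoetherian_of_proper k X
  have hM := isTF1_twist k hL hZ
  induction hn : S₀.card using Nat.strong_induction_on generalizing S₀ with
  | _ n ih =>
    by_cases hsmall : ∃ S' ⊂ S₀, Nontrivial (Coh.HH X (GT L Z S') 1)
    · obtain ⟨S', hS', h'⟩ := hsmall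
      obtain ⟨S, hS, hrest⟩ := ih S'.card (hn ▸ Finset.card_lt_card hS') (hS₀.mono hS'.1) h' rfl
      exact ⟨S, hS.trans hS'.1, hrest⟩
    push Not at hsmall
    have hne : S₀.Nonempty := by
      rw [Finset.nonempty_iff_ne_empty]
      rintro rfl
      refine not_subsingleton _ (Positivity.IsTorsion.subsingleton_HH_succ hdim
        (Q := GT L Z (∅ : Finset X)) (fun η hη => ?_) 0)
      exact TFOne.Generic.subsingleton_stalk (isQuotOn_GT k hdim hL hZ hS₀) fun h' =>
        Finset.notMem_empty η ((mem_uT_iff hη).mp h')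
    have hconn : _root_.IsPreconnected (uT S₀) := by
      by_contra hc
      obtain ⟨SA, SB, hA, hB, hcov, hdisj⟩ := exists_split hc
      obtain ⟨r, hr, -⟩ := exists_restrict hM hS₀ (isQuotOn_GT k hdim hL hZ hS₀) hA.1
        (isQuotOn_GT k hdim hL hZ (hS₀.mono hA.1))
      haveI := hsmall SA hA
      haveI hB1 := hsmall SB hB
      exact not_subsingleton _ ((injective_h1_of_disjoint k hM hS₀ hA.1 hB.1 hcov hdisj
        (isQuotOn_GT k hdim hL hZ hS₀) (isQuotOn_GT k hdim hL hZ (hS₀.mono hA.1))
        (isQuotOn_GT k hdim hL hZ (hS₀.mono hB.1)) hB1 r hr).subsingleton)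
    have h1 := deg_le k hdim hL hZ hS₀ hconn hne fun η hη r _ hi => by
      haveI := hsmall _ (Finset.erase_ssubset hη)
      exact not_subsingleton _ hi.subsingleton
    have h2 := hdim_OS_le k hdim hL hconn hne h
    obtain ⟨-, hO, -⟩ := structure_data k hdim hL hZ hne
    exact ⟨S₀, subset_rfl, hS₀, hne, hconn, by omega⟩

omit hdim hL hZ

variable (L) in
/-- The degree hypothesis: `deg ≥ 2g` on every connected subcurve. -/
def DegBound : Prop :=
  ∀ S : Finset X, IsGen S → S.Nonempty → _root_.IsPreconnected (uT S) →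
    2 * (Euler.hdim k X (OS S) 1 : ℤ) ≤
      @Curv2.deg k _ (idl S).subscheme ⟨(idl S).subschemeι ≫ (X ↘ Spec (CommRingCat.of k))⟩
        ((Scheme.Modules.pullback (idl S).subschemeι).obj L) 1

include hdim hL hZ

/-- No `H¹` away from the finite subscheme. -/
theorem subsingleton_of_disjoint (hd : DegBound k L) {S₀ : Finset X} (hS₀ : IsGen S₀)
    (hdisj : Disjoint (Z.support : Set X) (uT S₀)) : Subsingleton (Coh.HH X (GT L Z S₀) 1) := by
  rw [← not_nontrivial_iff_subsingleton]
  intro h
  obtain ⟨S, hsub, hS, hne, hconn, hle⟩ := exists_connected k hdim hL hZ hS₀ h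
  have h2 := hd S hS hne hconn
  obtain ⟨-, hO, hpos⟩ := structure_data k hdim hL hZ hne
  have hz : Euler.hdim k X (_root_.ClSub.quotMod (Z ⊔ idl S)) 0 = 0 := by
    haveI : Subsingleton (Coh.HH X (_root_.ClSub.quotMod (Z ⊔ idl S)) 0) :=
      (GlobalSections.h0Equiv _).toEquiv.subsingleton_congr.mpr
        (subsingleton_of_forall_eq 0 fun t => Support.eq_zero_of_germ_eq_zero
          (M := _root_.ClSub.quotMod (Z ⊔ idl S)) _ fun x _ hx => by
          rw [ClSub.Quot.support_quotMod, Scheme.IdealSheafData.support_sup] at hx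
          exact absurd (uT_mono hsub hx.2) (Set.disjoint_left.mp hdisj hx.1))
    exact Module.finrank_zero_of_subsingleton
  omega

omit hZ in
/-- **Global generation** of a module of degree at least `2g` on every connected subcurve. -/
theorem isGloballyGenerated [ConnectedSpace X] (hdim1 : topologicalKrullDim X = 1)
    (hd : DegBound k L) : Curv2.IsGloballyGenerated L := by
  classical
  haveI := GlobalSections.noetherianSpace_of_proper k X
  haveI := GlobalSections.isNoetherian_of_proper k X
  rw [PointIdeal.isGloballyGenerated_iff (k := k) hdim hL]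
  intro x hx
  set Z := PointIdeal.ptI hx with hZdef
  have hZ : ∀ η ∈ genericPoints X, η ∉ (Z.support : Set X) := fun η hη h => by
    rw [hZdef, PointIdeal.support_ptI, Set.mem_singleton_iff] at h
    exact not_isClosed_generic hdim1 hη (h ▸ hx)
  have hM := isTF1_twist k hL hZ
  set z := Euler.hdim k X (_root_.ClSub.quotMod Z) 0 with hz
  have hzpos : 0 < z := GenusOne.hdim_quot_pos hdim hx
  suffices key : ∀ (n : ℕ) (S : Finset X), S.card = n → IsGen S → Euler.hdim k X (GT L Z S) 1 < z by
    have hlt := key _ _ rfl (fun η h => (mem_gens k).mp h : IsGen (gens (X := X) k))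
    obtain ⟨e⟩ := nonempty_iso_gens k hdim hL hZ
    rw [← Euler.hdim_eq_of_iso e 1] at hlt
    refine lt_of_le_of_ne (PointIdeal.hdim_twist_ideal_point hx hdim hL).1 fun he => ?_
    have hχ := Degree.euler_ses (A := CohB1.tensorMod (_root_.ClSub.idealMod Z) L)
      (B := CohB1.tensorMod (Coh.structureModule X) L) (C := CohB1.tensorMod (_root_.ClSub.quotMod Z) L)
      (CurveBundle.Twist.shortExact hL (ClSub.Quot.idealSeq_shortExact Z))
      (Finiteness.isGood_of_isCoh (k := k) hdim (CurveBundle.Twist.isCoh hL (IdealTwist.isCoh_ideal Z)))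
      (Finiteness.isGood_of_isCoh (k := k) hdim
        (CurveBundle.Twist.isCoh hL (Degree.isCoh_structureModule (X := X))))
      (Finiteness.isGood_of_isCoh (k := k) hdim (CurveBundle.Twist.isCoh hL (IdealTwist.isCoh_quot Z)))
    have hT : Positivity.IsTorsion (CohB1.tensorMod (_root_.ClSub.quotMod Z) L) := fun η hη =>
      subsingleton_LQ k hL Z (hZ η hη)
    rw [Euler.euler_eq_of_iso (TensorMod.Basic.leftUnit L), hT.euler hdim,
      Euler.euler_eq (Positivity.subsingleton_HH_of_two_le hdim _),
      Euler.euler_eq (Positivity.subsingleton_HH_of_two_le hdim _)] at hχ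
    have hq : Module.finrank k (Coh.HH X (CohB1.tensorMod (_root_.ClSub.quotMod Z) L) 0) = z :=
      PointIdeal.hdim_twist_point hx hL
    rw [hq] at hχ
    omega
  intro n
  induction n using Nat.strong_induction_on with
  | _ n ih =>
    intro S hn hS
    by_contra hge
    push Not at hge
    have hsmall : ∀ S' ⊂ S, Euler.hdim k X (GT L Z S') 1 < z := fun S' h =>
      ih _ (hn ▸ Finset.card_lt_card h) S' rfl (hS.mono h.1)
    have hninj : ∀ S' ⊂ S, ∀ r : GT L Z S ⟶ GT L Z S', ¬ Function.Injective (mapK k r 1) :=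
      fun S' h r hi => by
        haveI := (Finiteness.isGood_of_isCoh (k := k) hdim (isCoh_GT k (Z := Z) hL S')).fin₁
        have := LinearMap.finrank_le_finrank_of_injective hi
        exact absurd (hsmall S' h) (not_lt.mpr (hge.trans this))
    have hxS : x ∈ uT S := by
      by_contra hxS
      haveI := subsingleton_of_disjoint k hdim hL hZ hd hS (by
        rw [hZdef, PointIdeal.support_ptI]; exact Set.disjoint_singleton_left.mpr hxS)
      have : Euler.hdim k X (GT L Z S) 1 = 0 := Module.finrank_zero_of_subsingleton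
      omega
    have hne : S.Nonempty := by
      obtain ⟨η, hη, -⟩ := Set.mem_iUnion₂.mp hxS
      exact ⟨η, hη⟩
    have hconn : _root_.IsPreconnected (uT S) := by
      by_contra hc
      obtain ⟨SA, SB, hA, hB, hcov, hdisj⟩ := exists_split hc
      wlog hxB : x ∉ uT SB generalizing SA SB
      · exact this SB SA hB hA (fun η h => (hcov η h).symm) hdisj.symm
          fun h => Set.disjoint_left.mp hdisj h (not_not.mp hxB)
      obtain ⟨r, hr, -⟩ := exists_restrict hM hS (isQuotOn_GT k hdim hL hZ hS) hA.1
        (isQuotOn_GT k hdim hL hZ (hS.mono hA.1))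
      have hB1 := subsingleton_of_disjoint k hdim hL hZ hd (hS.mono hB.1) (by
        rw [hZdef, PointIdeal.support_ptI]; exact Set.disjoint_singleton_left.mpr hxB)
      exact hninj SA hA r (injective_h1_of_disjoint k hM hS hA.1 hB.1 hcov hdisj
        (isQuotOn_GT k hdim hL hZ hS) (isQuotOn_GT k hdim hL hZ (hS.mono hA.1))
        (isQuotOn_GT k hdim hL hZ (hS.mono hB.1)) hB1 r hr)
    have h1 := deg_le k hdim hL hZ hS hconn hne fun η hη r _ =>
      hninj _ (Finset.erase_ssubset hη) r
    have hsup : Z ⊔ idl S = Z := sup_eq_left.mpr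
      (Scheme.IdealSheafData.le_support_iff_le_vanishingIdeal.mp
        (fun y hy => (Set.mem_singleton_iff.mp hy) ▸ hxS))
    rw [hsup, ← hz] at h1
    have h2 := hd S hS hne hconn
    obtain ⟨-, -, hpos⟩ := structure_data k hdim hL hZ hne
    omega

end Groth.Agent.Lib.Curves.SubUnion
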