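import Groth.Agent.Lib.Curves.SubUnion
import Groth.Agent.Lib.Curves.IdealTwist
import Groth.Agent.Lib.Curves.NefGG

/-!
# Twisted ideals of finite subschemes on unions of components of a reduced curve
-/

set_option autoImplicit false
set_option linter.style.haveILetI false
universe u

open CategoryTheory CategoryTheory.Limits AlgebraicGeometry Opposite TopologicalSpace

noncomputable section

namespace Groth.Agent.Lib.Curves.SubUnion

open Groth.Agent.Lib Groth.Agent.Lib.Modules
open Groth.Agent.Lib.Curves.LES (mapK mapK_comp exactK₁ exactK₂ exactK₃ isoK)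
open Groth.Agent.Lib.Modules.StalkModule (stalkMapₗ stalkMapₗ_germ stalkMapₗ_comp stalkMapₗ_zero)
open Groth.Agent.Lib.TensorMod.Basic (comm leftUnit tensorIso tensorBy tmap)

variable {X : Scheme.{u}}

/-- A disconnected union splits into two smaller disjoint unions. -/
theorem exists_split [NoetherianSpace X] {S : Finset X} (h : ¬ _root_.IsPreconnected (uT S)) :
    ∃ SA SB : Finset X, SA ⊂ S ∧ SB ⊂ S ∧ (∀ η ∈ S, η ∈ SA ∨ η ∈ SB) ∧ Disjoint (uT SA) (uT SB) := by
  classical
  rw [isPreconnected_iff_subset_of_disjoint_closed] at h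
  push Not at h
  obtain ⟨u, v, hu, hv, huv, hdisj, hnu, hnv⟩ := h
  let SA := S.filter (· ∈ u)
  let SB := S.filter (· ∈ v)
  have hA : uT SA ⊆ uT S ∩ u := Set.subset_inter (uT_mono (Finset.filter_subset _ _))
    (Set.iUnion₂_subset fun η hη =>
      closure_minimal (Set.singleton_subset_iff.mpr (Finset.mem_filter.mp hη).2) hu)
  have hB : uT SB ⊆ uT S ∩ v := Set.subset_inter (uT_mono (Finset.filter_subset _ _))
    (Set.iUnion₂_subset fun η hη =>
      closure_minimal (Set.singleton_subset_iff.mpr (Finset.mem_filter.mp hη).2) hv)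
  refine ⟨SA, SB, ?_, ?_, fun η hη => ?_, Set.disjoint_left.mpr fun x h1 h2 => ?_⟩
  · exact (Finset.filter_subset _ _).ssubset_of_ne fun he =>
      hnu fun x hx => (hA (show x ∈ uT SA by rwa [show SA = S from he])).2
  · exact (Finset.filter_subset _ _).ssubset_of_ne fun he =>
      hnv fun x hx => (hB (show x ∈ uT SB by rwa [show SB = S from he])).2
  · exact (huv (mem_uT_of_mem hη)).imp (fun h => Finset.mem_filter.mpr ⟨hη, h⟩)
      fun h => Finset.mem_filter.mpr ⟨hη, h⟩
  · exact Set.notMem_empty x (hdisj ▸ ⟨(hA h1).1, (hA h1).2, (hB h2).2⟩)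

variable (k : Type u) [Field k] [X.Over (Spec (CommRingCat.of k))]
  [IsProper (X ↘ Spec (CommRingCat.of k))] [IsReduced X]

/-- On a disjoint union, a part without `H¹` may be dropped. -/
theorem injective_h1_of_disjoint {M : X.Modules} (hM : TFOne.IsTF1 X M) {S SA SB : Finset X}
    (hS : IsGen S) (hA : SA ⊆ S) (hB : SB ⊆ S) (hcov : ∀ η ∈ S, η ∈ SA ∨ η ∈ SB)
    (hdisj : Disjoint (uT SA) (uT SB)) {G GA GB : X.Modules} {π : M ⟶ G} {πA : M ⟶ GA}
    {πB : M ⟶ GB} (hG : TFOne.IsQuotOn X M (uT S) G π) (hGA : TFOne.IsQuotOn X M (uT SA) GA πA)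
    (hGB : TFOne.IsQuotOn X M (uT SB) GB πB) (h1 : Subsingleton (Coh.HH X GB 1))
    (r : G ⟶ GA) (hr : π ≫ r = πA) : Function.Injective (mapK k r 1) := by
  haveI := GlobalSections.isNoetherian_of_proper k X
  haveI := hG.2.1.1
  haveI := hGA.2.1.1
  haveI := hGB.2.1.1
  haveI := QCoh.Closure.isQCoh_kernel r
  obtain ⟨rB, hrB, hepi⟩ := exists_restrict hM hS hG hB hGB
  let f := kernel.ι r ≫ rB
  have hker : ∀ (η : X) (v : (kernel r).presheaf.stalk η),
      stalkMapₗ r η (stalkMapₗ (kernel.ι r) η v) = 0 := fun η v => by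
    rw [← stalk_comp_apply, kernel.condition, stalkMapₗ_zero]; rfl
  haveI : Mono f := TFOne.Generic.mono_of_generic (isTorsionFree_of_mono (kernel.ι r) hG.2.2.1) f
    fun η hη => (injective_iff_map_eq_zero _).mpr fun v hv => by
      have hinj := (StalkModule.mono_iff_stalkMapₗ_injective (kernel.ι r)).mp inferInstance η
      refine hinj (Eq.trans ?_ (map_zero _).symm)
      by_cases h : η ∈ S
      · rcases hcov η h with h' | h'
        · exact (TFOne.Generic.bijective_factor hM hG hGA hr hη (mem_uT_of_mem h) (mem_uT_of_mem h')).1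
            ((hker η v).trans (map_zero _).symm)
        · refine (TFOne.Generic.bijective_factor hM hG hGB hrB hη (mem_uT_of_mem h) (mem_uT_of_mem h')).1
            (Eq.trans ?_ (map_zero _).symm)
          rw [← stalk_comp_apply]
          exact hv
      · exact @Subsingleton.elim _
          (TFOne.Generic.subsingleton_stalk hG fun h' => h ((mem_uT_iff hη).mp h')) _ _
  haveI : Epi f := (StalkModule.epi_iff_stalkMapₗ_surjective f).mpr fun x g => by
    by_cases hx : x ∈ uT SB
    · obtain ⟨g', rfl⟩ := (StalkModule.epi_iff_stalkMapₗ_surjective rB).mp hepi x g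
      obtain ⟨w, hw⟩ := mem_stalk_kernel r (v := g') (@Subsingleton.elim _
        (TFOne.Generic.subsingleton_stalk hGA fun h => Set.disjoint_left.mp hdisj h hx) _ _)
      exact ⟨w, by rw [stalk_comp_apply, hw]⟩
    · exact ⟨0, @Subsingleton.elim _ (TFOne.Generic.subsingleton_stalk hGB hx) _ _⟩
  haveI : IsIso f := isIso_of_mono_of_epi f
  haveI := H34.HOne.h1_of_iso (asIso f).symm h1
  refine (injective_iff_map_eq_zero _).mpr fun y hy => ?_
  obtain ⟨z, rfl⟩ := (exactK₂ k (S := ShortComplex.mk (kernel.ι r) r (kernel.condition r))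
    (haveI : Epi r := by
      haveI := hGA.1
      exact epi_of_epi_fac hr
     { exact := ShortComplex.exact_kernel r }) 1 y).mp hy
  exact (congrArg _ (Subsingleton.elim z 0)).trans (map_zero _)

/-- The reduced ideal of a union. -/
abbrev idl (S : Finset X) : X.IdealSheafData :=
  Scheme.IdealSheafData.vanishingIdeal ⟨uT S, isClosed_uT S⟩

omit [X.Over (Spec (CommRingCat.of k))] [IsProper (X ↘ Spec (CommRingCat.of k))] [IsReduced X] in
lemma support_idl (S : Finset X) : ((idl S).support : Set X) = uT S := rfl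

variable (L : X.Modules) (Z : X.IdealSheafData)

/-- `L ⊗ O_T`. -/
abbrev LQ (J : X.IdealSheafData) : X.Modules := CohB1.tensorMod (ClSub.quotMod J) L

/-- The restriction `L_T ⟶ L_{Z ∩ T}`. -/
def qZ (S : Finset X) : LQ L (idl S) ⟶ LQ L (Z ⊔ idl S) :=
  tmap (NefGG.quotHom (idl S) (Z ⊔ idl S) le_sup_right) (𝟙 L)

/-- The sections of `L_T` vanishing on `Z`. -/
abbrev GT (S : Finset X) : X.Modules := kernel (qZ L Z S)

omit [X.Over (Spec (CommRingCat.of k))] [IsProper (X ↘ Spec (CommRingCat.of k))] [IsReduced X] in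
lemma comp_eq_zero (S : Finset X) :
    _root_.ClSub.idealModι Z ≫ _root_.ClSub.toSubscheme (idl S) ≫
      NefGG.quotHom (idl S) (Z ⊔ idl S) le_sup_right = 0 := by
  rw [NefGG.toSubscheme_quotHom]
  exact NefGG.idealModι_toSubscheme_of_le Z _ le_sup_left

omit [X.Over (Spec (CommRingCat.of k))] [IsProper (X ↘ Spec (CommRingCat.of k))] [IsReduced X] in
lemma exact_quot (S : Finset X) :
    (ShortComplex.mk (_root_.ClSub.idealModι Z ≫ _root_.ClSub.toSubscheme (idl S))
      (NefGG.quotHom (idl S) (Z ⊔ idl S) le_sup_right)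
      (by rw [Category.assoc]; exact comp_eq_zero Z S)).Exact := by
  refine (Stalk.exact_iff_stalk _).mpr fun x => (ShortComplex.ab_exact_iff _).mpr fun v hv => ?_
  obtain ⟨U, hxU, m, rfl⟩ := (_root_.ClSub.quotMod (idl S)).presheaf.exists_germ_eq v
  have hv' : (_root_.ClSub.quotMod (Z ⊔ idl S)).presheaf.germ U x hxU
      ((NefGG.quotHom (idl S) (Z ⊔ idl S) le_sup_right).app U m) = 0 :=
    (stalkMapₗ_germ _ hxU m).symm.trans hv
  obtain ⟨W, hxW, iWU, _, hW⟩ := TopCat.Presheaf.germ_eq
    (F := (_root_.ClSub.quotMod (Z ⊔ idl S)).presheaf) x hxU hxU _ 0 (hv'.trans (map_zero _).symm)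
  obtain ⟨V, hVW, hxV⟩ := ClSub.Basis.exists_affine_le hxW
  have hVU : V.1 ≤ U := hVW.trans iWU.le
  obtain ⟨s, hs⟩ := ClSub.Sections.toSubscheme_app_surjective (idl S) V
    ((_root_.ClSub.quotMod (idl S)).presheaf.map (homOfLE hVU).op m)
  have h0 : (_root_.ClSub.toSubscheme (Z ⊔ idl S)).app V.1 s = 0 := by
    rw [← NefGG.toSubscheme_quotHom (idl S) (Z ⊔ idl S) le_sup_right, Scheme.Modules.Hom.comp_app,
      ConcreteCategory.comp_apply]
    refine (congrArg _ hs).trans ?_
    refine (ClSub.Basis.map_app _ hVU m).trans ?_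
    have hW' := congrArg ((_root_.ClSub.quotMod (Z ⊔ idl S)).presheaf.map (homOfLE hVW).op) hW
    rw [map_zero, map_zero, ← ConcreteCategory.comp_apply, ← Functor.map_comp] at hW'
    exact hW'
  obtain ⟨a, ha, b, hb, hab⟩ : ∃ a ∈ Z.ideal V, ∃ b ∈ (idl S).ideal V, a + b = s := by
    have h : (show Γ(X, V.1) from s) ∈ (Z ⊔ idl S).ideal V := by
      rw [← (Z ⊔ idl S).ker_subschemeι_app V]
      exact RingHom.mem_ker.mpr h0
    exact Submodule.mem_sup.mp h
  obtain ⟨w, hw⟩ := (ClSub.Sections.mem_range_idealModι_app_affine_iff Z V a).mpr ha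
  refine ⟨(_root_.ClSub.idealMod Z).presheaf.germ V.1 x hxV w, ?_⟩
  refine (stalkMapₗ_germ _ hxV w).trans ?_
  refine Eq.trans ?_ (ClSub.Basis.germ_map hVU hxV m)
  rw [← hs]
  refine congrArg _ ?_
  rw [Scheme.Modules.Hom.comp_app]
  refine (congrArg ((_root_.ClSub.toSubscheme (idl S)).app V.1) hw).trans ?_
  have hb0 : (_root_.ClSub.toSubscheme (idl S)).app V.1 b = 0 := by
    have hb' := hb
    rw [← (idl S).ker_subschemeι_app V] at hb'
    exact (RingHom.mem_ker.mp hb' :)
  rw [← hab]
  exact ((map_add ((_root_.ClSub.toSubscheme (idl S)).app V.1).hom a b).trans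
    ((congrArg (_ + ·) hb0).trans (add_zero _))).symm

/-- The map onto the twisted ideal of `Z ∩ T` in `T`. -/
def πT (S : Finset X) : CohB1.tensorMod (_root_.ClSub.idealMod Z) L ⟶ GT L Z S :=
  kernel.lift _ (tmap (_root_.ClSub.idealModι Z ≫ _root_.ClSub.toSubscheme (idl S)) (𝟙 L)) (by
    haveI : Epi (NefGG.quotHom (idl S) (Z ⊔ idl S) le_sup_right) := NefGG.epi_quotHom _ _ _
    exact (H34.HOne.exact_tensor L (exact_quot Z S)).1)

omit [X.Over (Spec (CommRingCat.of k))] [IsProper (X ↘ Spec (CommRingCat.of k))] [IsReduced X] in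
lemma epi_πT (S : Finset X) : Epi (πT L Z S) := by
  haveI : Epi (NefGG.quotHom (idl S) (Z ⊔ idl S) le_sup_right) := NefGG.epi_quotHom _ _ _
  obtain ⟨w, hw⟩ := H34.HOne.exact_tensor L (exact_quot Z S)
  exact (ShortComplex.exact_iff_epi_kernel_lift _).mp (hw w).1

omit [X.Over (Spec (CommRingCat.of k))] [IsProper (X ↘ Spec (CommRingCat.of k))] [IsReduced X] in
lemma epi_qZ (S : Finset X) : Epi (qZ L Z S) := by
  haveI : Epi (NefGG.quotHom (idl S) (Z ⊔ idl S) le_sup_right) := NefGG.epi_quotHom _ _ _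
  obtain ⟨w, hw⟩ := H34.HOne.exact_tensor L (exact_quot Z S)
  exact (hw w).2

variable {L Z} (hdim : topologicalKrullDim X ≤ 1) (hL : PicF.IsInvertible L)
  (hZ : ∀ η ∈ genericPoints X, η ∉ (Z.support : Set X))

include k hdim hL

lemma isTorsionFree_LQ {S : Finset X} (hS : IsGen S) : TorSh.IsTorsionFree (LQ L (idl S)) := by
  haveI := GlobalSections.isNoetherian_of_proper k X
  obtain ⟨e⟩ := NefGG.exists_pushIso (k := k) hdim hL (idl S)
  have hL' : PicF.IsInvertible ((Scheme.Modules.pullback (idl S).subschemeι).obj L) :=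
    PicLoc.isInvertible_pullback _ hL
  haveI := TensorMod.QCohInv.isQCoh_of_isInvertible hL'
  haveI : IsLocallyNoetherian (idl S).subscheme :=
    LocallyOfFiniteType.isLocallyNoetherian (idl S).subschemeι
  exact isTorsionFree_of_mono (comm _ _ ≪≫ e).hom
    (TFOne.Push.isTorsionFree_push (isClosed_uT S) (isUnion_uT hS)
      (CurveBundle.Coherent.isTorsionFree (TensorMod.LocFree.of_rank
        (TensorMod.LocFree.of_isInvertible hL'))))

omit hdim in
lemma isCoh_GT (S : Finset X) : Coh.IsCoh (GT L Z S) := by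
  haveI := GlobalSections.isNoetherian_of_proper k X
  exact CohBasics.Closure.isCoh_kernel _ (CurveBundle.Twist.isCoh hL (IdealTwist.isCoh_quot _))
    (CurveBundle.Twist.isCoh hL (IdealTwist.isCoh_quot _)).1

omit hdim in
lemma subsingleton_LQ (J : X.IdealSheafData) {x : X} (hx : x ∉ (J.support : Set X)) :
    Subsingleton ((LQ L J).presheaf.stalk x) :=
  Support.not_mem_support_iff.mp (by rwa [CurveBundle.Twist.support_twist hL, ClSub.Quot.support_quotMod])

omit hdim in
include hZ in
lemma bijective_ι {S : Finset X} {η : X} (hη : η ∈ genericPoints X) :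
    Function.Bijective (stalkMapₗ (kernel.ι (qZ L Z S)) η) := by
  refine ⟨(StalkModule.mono_iff_stalkMapₗ_injective _).mp inferInstance η, fun v => ?_⟩
  exact mem_stalk_kernel _ (@Subsingleton.elim _ (subsingleton_LQ k hL (Z ⊔ idl S) fun h => by
    rw [Scheme.IdealSheafData.support_sup] at h
    exact hZ η hη h.1) _ _)

include hZ

/-- The quotients on unions. -/
theorem isQuotOn_GT {S : Finset X} (hS : IsGen S) :
    TFOne.IsQuotOn X (CohB1.tensorMod (_root_.ClSub.idealMod Z) L) (uT S) (GT L Z S) (πT L Z S) := by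
  haveI := GlobalSections.isNoetherian_of_proper k X
  have hc := isCoh_GT k (Z := Z) hL S
  refine ⟨epi_πT L Z S, hc, isTorsionFree_of_mono (kernel.ι _) (isTorsionFree_LQ k hdim hL hS),
    subset_antisymm (fun x hx => ?_) ?_⟩
  · by_contra hn
    exact hx (@Function.Injective.subsingleton _ _ _
      ((StalkModule.mono_iff_stalkMapₗ_injective (kernel.ι (qZ L Z S))).mp inferInstance x)
      (subsingleton_LQ k hL (idl S) hn))
  · haveI := hc.2
    refine Set.iUnion₂_subset fun η hη =>
      closure_minimal (Set.singleton_subset_iff.mpr ?_) (Support.isClosed_support _)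
    intro hsub
    have hmem : η ∈ CohB1.support (LQ L (idl S)) := by
      rw [CurveBundle.Twist.support_twist hL, ClSub.Quot.support_quotMod, support_idl]
      exact mem_uT_of_mem hη
    exact hmem (Equiv.subsingleton (Equiv.ofBijective _ (bijective_ι k hL hZ (hS η hη))).symm)

omit hdim in
/-- The twisted ideal is torsion-free of rank one. -/
theorem isTF1_twist : TFOne.IsTF1 X (CohB1.tensorMod (_root_.ClSub.idealMod Z) L) := by
  haveI := GlobalSections.isNoetherian_of_proper k X
  haveI := IdealTwist.mono_incl Z hL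
  refine ⟨CurveBundle.Twist.isCoh hL (IdealTwist.isCoh_ideal Z),
    isTorsionFree_of_mono (IdealTwist.incl Z L) (CurveBundle.Coherent.isTorsionFree
      (TensorMod.LocFree.of_rank (TensorMod.LocFree.of_isInvertible hL))), fun η hη => ?_⟩
  haveI : Epi (ClSub.Quot.idealSeq Z).g := (ClSub.Quot.idealSeq_shortExact Z).epi_g
  obtain ⟨w, hw⟩ := H34.HOne.exact_tensor L (ClSub.Quot.idealSeq_shortExact Z).exact
  have hb : Function.Bijective (stalkMapₗ (tmap (_root_.ClSub.idealModι Z) (𝟙 L)) η) := by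
    refine ⟨?_, fun v => (ShortComplex.ab_exact_iff _).mp
      ((Stalk.exact_iff_stalk _).mp (hw w).1 η) v
        (@Subsingleton.elim _ (subsingleton_LQ k hL Z (hZ η hη)) _ _)⟩
    haveI : Mono (tmap (_root_.ClSub.idealModι Z) (𝟙 L) ≫ (leftUnit L).hom) := IdealTwist.mono_incl Z hL
    haveI : Mono (tmap (_root_.ClSub.idealModι Z) (𝟙 L)) :=
      mono_of_mono (tmap (_root_.ClSub.idealModι Z) (𝟙 L)) (leftUnit L).hom
    exact (StalkModule.mono_iff_stalkMapₗ_injective _).mp inferInstance η
  obtain ⟨b⟩ := CurveBundle.Coherent.exists_basis_stalk (TensorMod.LocFree.of_isInvertible hL) η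
  exact ⟨(LinearEquiv.ofBijective _ hb).trans
    ((LinearEquiv.ofBijective (stalkMapₗ (leftUnit L).hom η)
      ((StalkModule.isIso_iff_stalkMapₗ_bijective _).mp inferInstance η)).trans
      (b.equivFun.trans (LinearEquiv.funUnique (Fin 1) _ _)))⟩

/-- `deg(L|_T) + χ(O_T) = χ(G_T) + h⁰(O_{Z ∩ T})`. -/
theorem deg_eq {S : Finset X} (hS : IsGen S) :
    @Curv2.deg k _ (idl S).subscheme ⟨(idl S).subschemeι ≫ (X ↘ Spec (CommRingCat.of k))⟩
        ((Scheme.Modules.pullback (idl S).subschemeι).obj L) 1 +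
      @Curv2.euler k _ (idl S).subscheme ⟨(idl S).subschemeι ≫ (X ↘ Spec (CommRingCat.of k))⟩
        (Coh.structureModule (idl S).subscheme) =
      Curv2.euler k X (GT L Z S) +
        (Euler.hdim k X (_root_.ClSub.quotMod (Z ⊔ idl S)) 0 : ℤ) ∧
    @Curv2.euler k _ (idl S).subscheme ⟨(idl S).subschemeι ≫ (X ↘ Spec (CommRingCat.of k))⟩
        (Coh.structureModule (idl S).subscheme) = Curv2.euler k X (OS S) := by
  haveI := GlobalSections.isNoetherian_of_proper k X
  haveI := GlobalSections.noetherianSpace_of_proper k X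
  letI : (idl S).subscheme.Over (Spec (CommRingCat.of k)) :=
    ⟨(idl S).subschemeι ≫ (X ↘ Spec (CommRingCat.of k))⟩
  haveI := TensorMod.QCohInv.isQCoh_of_isInvertible (PicLoc.isInvertible_pullback (idl S).subschemeι hL)
  haveI := TensorMod.QCohInv.isQCoh_structureModule (idl S).subscheme
  obtain ⟨e⟩ := NefGG.exists_pushIso (k := k) hdim hL (idl S)
  have h1 : Curv2.euler k X (LQ L (idl S)) =
      Curv2.euler k (idl S).subscheme ((Scheme.Modules.pullback (idl S).subschemeι).obj L) := by
    rw [Euler.euler_eq_of_iso (comm _ _ ≪≫ e), SurfInt.Push.euler_push (idl S).subschemeι rfl]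
  have h2 : Curv2.euler k (idl S).subscheme (Coh.structureModule (idl S).subscheme) =
      Curv2.euler k X (OS S) := (SurfInt.Push.euler_push (idl S).subschemeι rfl _).symm
  refine ⟨?_, h2⟩
  have hT : ∀ η ∈ genericPoints X,
      Subsingleton ((_root_.ClSub.quotMod (Z ⊔ idl S)).presheaf.stalk η) := fun η hη =>
    Support.not_mem_support_iff.mp (by
      rw [ClSub.Quot.support_quotMod, Scheme.IdealSheafData.support_sup]
      exact fun h => hZ η hη h.1)
  have h3 : Curv2.euler k X (LQ L (Z ⊔ idl S)) =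
      (Euler.hdim k X (_root_.ClSub.quotMod (Z ⊔ idl S)) 0 : ℤ) := by
    rw [Euler.euler_eq_of_iso (comm _ _), TFOne.EDeg.euler_tensor_torsion hdim
      (TensorMod.LocFree.of_isInvertible hL) (IdealTwist.isCoh_quot _) hT, Nat.cast_one, one_mul]
    exact Positivity.IsTorsion.euler hdim hT
  haveI := epi_qZ L Z S
  have h4 := Degree.euler_ses (k := k) (f := kernel.ι (qZ L Z S)) (g := qZ L Z S) (w := kernel.condition _)
    { exact := ShortComplex.exact_kernel _ }
    (Finiteness.isGood_of_isCoh (k := k) hdim (isCoh_GT k hL S))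
    (Finiteness.isGood_of_isCoh (k := k) hdim (CurveBundle.Twist.isCoh hL (IdealTwist.isCoh_quot _)))
    (Finiteness.isGood_of_isCoh (k := k) hdim (CurveBundle.Twist.isCoh hL (IdealTwist.isCoh_quot _)))
  rw [h3, h1] at h4
  simp only [Curv2.deg, Nat.cast_one, one_mul]
  linarith

end Groth.Agent.Lib.Curves.SubUnion
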