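import Groth.Agent.Lib.Curves.TraceBound
import Mathlib.AlgebraicGeometry.Fiber

/-!
# Finite covers with reduced generic fibre
-/

set_option autoImplicit false
universe u

open CategoryTheory CategoryTheory.Limits AlgebraicGeometry TopologicalSpace Opposite
open scoped TensorProduct

noncomputable section

namespace Groth.Agent.Lib.Curves.TraceReduced

open Groth.Agent.Lib

/-- Reduced generic fibre and characteristic zero make the trace form nondegenerate. -/
theorem traceForm_injective (A B K : Type u) [CommRing A] [CommRing B] [Algebra A B]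
    [Module.Finite A B] [Module.Free A B] [Field K] [CharZero K] [Algebra A K]
    (hAK : Function.Injective (algebraMap A K)) [IsReduced (K ⊗[A] B)] :
    Function.Injective (Algebra.traceForm A B) := by
  have : Module.Finite K (K ⊗[A] B) := inferInstance
  have : IsArtinianRing (K ⊗[A] B) := IsArtinianRing.of_finite K _
  have hfe : Algebra.FormallyEtale K (K ⊗[A] B) :=
    (Algebra.FormallyEtale.iff_exists_algEquiv_prod K (K ⊗[A] B)).mpr
      ⟨MaximalSpectrum (K ⊗[A] B), inferInstance, fun m => (K ⊗[A] B) ⧸ m.asIdeal,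
        fun m => Ideal.Quotient.field m.asIdeal, inferInstance,
        (IsArtinianRing.equivPi (K ⊗[A] B)).restrictScalars K, fun m => by
          let := Ideal.Quotient.field m.asIdeal
          exact Algebra.IsAlgebraic.isSeparable_of_perfectField⟩
  have := Unram.TraceEtale.finitePresentation_of_free K (K ⊗[A] B)
  have het : Algebra.Etale K (K ⊗[A] B) := {}
  have hinj := ((Unram.TraceEtale.etale_iff_bijective_traceForm K (K ⊗[A] B)).mp het).1
  refine (injective_iff_map_eq_zero _).mpr fun b hb => ?_
  refine Algebra.TensorProduct.includeRight_injective (A := K) (B := B) hAK ?_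
  rw [map_zero, Algebra.TensorProduct.includeRight_apply]
  refine (injective_iff_map_eq_zero _).mp hinj _ (LinearMap.ext fun y => ?_)
  rw [LinearMap.zero_apply, Algebra.traceForm_apply]
  induction y using TensorProduct.induction_on with
  | zero => rw [mul_zero, map_zero]
  | add a c ha hc => rw [mul_add, map_add, ha, hc, add_zero]
  | tmul c m =>
    have e : ((1 : K) ⊗ₜ[A] b) * (c ⊗ₜ[A] m) = c • ((1 : K) ⊗ₜ[A] (b * m)) := by
      rw [Algebra.TensorProduct.tmul_mul_tmul, TensorProduct.smul_tmul', smul_eq_mul, one_mul, mul_one]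
    rw [e, map_smul, Unram.TraceEtale.trace_one_tmul, ← Algebra.traceForm_apply, hb,
      LinearMap.zero_apply, map_zero, smul_zero]

/-- The generic fibre over an affine open. -/
theorem isReduced_tensor {Y C : Scheme.{u}} (g : Y ⟶ C) [IsAffineHom g] [IsIntegral C] {V : C.Opens}
    (hV : IsAffineOpen V) (hη : genericPoint C ∈ V)
    (hred : AlgebraicGeometry.IsReduced (g.fiber (genericPoint C))) :
    letI := (g.app V).hom.toAlgebra
    _root_.IsReduced ((hV.primeIdealOf ⟨genericPoint C, hη⟩).asIdeal.ResidueField ⊗[Γ(C, V)] Γ(Y, g ⁻¹ᵁ V)) := by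
  let p : Spec Γ(C, V) := hV.primeIdealOf ⟨genericPoint C, hη⟩
  have hp : hV.fromSpec p = genericPoint C := hV.fromSpec_primeIdealOf _
  letI := (g.app V).hom.toAlgebra
  have hsq : IsPullback (hV.preimage g).fromSpec (Spec.map (g.app V)) g hV.fromSpec := by
    refine (isPullback_morphismRestrict g V).flip.of_iso (hV.preimage g).isoSpec (Iso.refl _)
      hV.isoSpec (Iso.refl _) ?_ ?_ ?_ ?_
    · simp [← IsAffineOpen.isoSpec_inv_ι]
    · simp [IsAffineOpen.isoSpec_hom, Scheme.Opens.toSpecΓ_naturality]
    · simp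
    · simp [← IsAffineOpen.isoSpec_inv_ι]
  have h2 := isPullback_fiberToSpecResidueField_of_isPullback hsq p
  haveI : IsIso (Spec.map (hV.fromSpec.residueFieldMap p)) := inferInstance
  have hiso := h2.isIso_fst_of_isIso
  rw [← hp] at hred
  haveI : AlgebraicGeometry.IsReduced ((Spec.map (g.app V)).fiber p) :=
    @isReduced_of_isOpenImmersion _ (g.fiber (hV.fromSpec p)) _
      (@IsOpenImmersion.of_isIso _ _ _ hiso) hred
  let e := Arrow.leftFunc.mapIso (Spec.fiberToSpecResidueFieldIso Γ(C, V) Γ(Y, g ⁻¹ᵁ V) p)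
  haveI : AlgebraicGeometry.IsReduced
      (Spec (CommRingCat.of (p.asIdeal.Fiber Γ(Y, g ⁻¹ᵁ V)))) :=
    @isReduced_of_isOpenImmersion _ _ e.inv _ ‹_›
  exact (affine_isReduced_iff _).mp this

end Groth.Agent.Lib.Curves.TraceReduced
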