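import Groth.Agent.Lib.Curves.SubUnionMain
import Groth.Agent.Lib.Curves.NormGenus
import Groth.Agent.Lib.Curves.H0Components
import Groth.Agent.Lib.Cyc.PP.Count
import Groth.Agent.Lib.SurfInt.H2Vanish
import Groth.Agent.Lib.RefHull.LocFree
import Groth.Agent.H4.CartierUFD
import Groth.Agent.H25.Multi.CurveStalk
import Groth.Agent.H75.RedSub
import Groth.Agent.S1561

/-!
# Divisors of regular points on reduced curves
-/

set_option autoImplicit false
set_option linter.style.haveILetI false
universe u

open CategoryTheory CategoryTheory.Limits AlgebraicGeometry Opposite TopologicalSpace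

noncomputable section

namespace Groth.Agent.Lib.Curves.UniformPoints

open Groth.Agent.Lib Groth.Agent.Lib.Modules
open Groth.Agent.Lib.Curves.SubUnion

variable (k : Type u) [Field k] [IsAlgClosed k] {X : Scheme.{u}} [X.Over (Spec (CommRingCat.of k))]
  [IsProper (X ↘ Spec (CommRingCat.of k))] [IsReduced X] [ConnectedSpace X]
  (hdim : topologicalKrullDim X = 1)

include hdim in
/-- Enough regular points on every component. -/
theorem exists_points (n : ℕ) : ∃ T : Finset X,
    (∀ x ∈ T, IsClosed ({x} : Set X) ∧ IsRegularLocalRing (X.presheaf.stalk x) ∧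
      ringKrullDim (X.presheaf.stalk x) = 1) ∧
    (∀ η ∈ gens (X := X) k, ∃ F ⊆ T, F.card = n ∧ ∀ x ∈ F, x ∈ closure ({η} : Set X)) ∧
    T.card ≤ n * (gens (X := X) k).card := by
  classical
  haveI := GlobalSections.noetherianSpace_of_proper k X
  haveI := GlobalSections.isNoetherian_of_proper k X
  haveI := LocallyOfFiniteType.jacobsonSpace (X ↘ Spec (CommRingCat.of k))
  haveI : LocallyOfFinitePresentation (X ↘ Spec (CommRingCat.of k)) :=
    Lib.JacCrit.OverField.locallyOfFinitePresentation _
  obtain ⟨hreg, hdense⟩ := S1561.result k X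
  have hequi : ∀ Z ∈ irreducibleComponents (X : Type u), topologicalKrullDim Z = 1 := by
    intro Z hZ
    refine le_antisymm ((topologicalKrullDim_subspace_le X Z).trans hdim.le) ?_
    by_contra hlt
    obtain ⟨η, hη, hC⟩ := Flat55.GenericPoints.exists_closure_eq hZ
    refine generic_notMem (X := X) hdim
      (Z := Scheme.IdealSheafData.vanishingIdeal ⟨Z, isClosed_of_mem_irreducibleComponents Z hZ⟩) ?_ hη
      (by rw [Scheme.IdealSheafData.coe_support_vanishingIdeal]; exact hC.le (subset_closure rfl))
    rw [Scheme.IdealSheafData.coe_support_vanishingIdeal]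
    exact Order.le_of_lt_succ (lt_of_not_ge hlt)
  have hstep : ∀ η ∈ gens (X := X) k, ∀ m : ℕ, ∃ F : Finset X, F.card = m ∧
      ∀ x ∈ F, IsClosed ({x} : Set X) ∧ IsRegularLocalRing (X.presheaf.stalk x) ∧
        x ∈ closure ({η} : Set X) := by
    intro η hη m
    induction m with
    | zero => exact ⟨∅, rfl, by simp⟩
    | succ m ih =>
      obtain ⟨F, hF, hFp⟩ := ih
      have hFc : IsClosed (F : Set X) := by
        rw [← Set.biUnion_of_singleton (F : Set X)]
        exact F.finite_toSet.isClosed_biUnion fun x hx => (hFp x hx).1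
      let O : Set X := (((X ↘ Spec (CommRingCat.of k)).smoothLocus : Set X) \
        uT ((gens (X := X) k).erase η)) \ (F : Set X)
      have hO : IsOpen O :=
        ((X ↘ Spec (CommRingCat.of k)).smoothLocus.isOpen.sdiff (isClosed_uT _)).sdiff hFc
      have hgen : η ∈ genericPoints X := (mem_gens k).mp hη
      have hηO : η ∈ O := ⟨⟨NormStalk.generic_mem_dense hdense hgen,
        fun h => Finset.notMem_erase _ _ ((mem_uT_iff hgen).mp h)⟩,
        fun h => not_isClosed_generic hdim hgen (hFp η h).1⟩
      obtain ⟨z, hzO, hzc⟩ := nonempty_inter_closedPoints ⟨η, hηO⟩ hO.isLocallyClosed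
      obtain ⟨η', hη', hC⟩ := Flat55.GenericPoints.exists_closure_eq
        (irreducibleComponent_mem_irreducibleComponents z)
      have hz : z ∈ closure ({η'} : Set X) := hC.ge mem_irreducibleComponent
      have : η' = η := by
        by_contra hne
        exact hzO.1.2 (Set.mem_biUnion (x := η') (Finset.mem_erase.mpr ⟨hne, (mem_gens k).mpr hη'⟩) hz)
      subst this
      refine ⟨insert z F, by rw [Finset.card_insert_of_notMem hzO.2, hF], fun x hx => ?_⟩
      rcases Finset.mem_insert.mp hx with rfl | h
      · exact ⟨hzc, (hreg _).mp hzO.1.1, hz⟩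
      · exact hFp x h
  choose F hF hFp using fun η : {η // η ∈ gens (X := X) k} => hstep η.1 η.2 n
  refine ⟨Finset.univ.biUnion F, fun x hx => ?_, fun η hη =>
    ⟨F ⟨η, hη⟩, Finset.subset_biUnion_of_mem F (Finset.mem_univ _), hF _,
      fun x hx => (hFp _ x hx).2.2⟩, ?_⟩
  · obtain ⟨η, -, hxη⟩ := Finset.mem_biUnion.mp hx
    exact ⟨(hFp η x hxη).1, (hFp η x hxη).2.1,
      Groth.Agent.H25.Multi.CurveStalk.ringKrullDim_stalk X hequi x (hFp η x hxη).1⟩
  · refine Finset.card_biUnion_le.trans ?_
    rw [Finset.sum_congr rfl (fun η _ => hF η), Finset.sum_const, Finset.card_univ,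
      Fintype.card_coe, smul_eq_mul, mul_comm]

/-- The ideal of a finite set of closed points. -/
abbrev IT (T : Finset X) (hT : ∀ x ∈ T, IsClosed ({x} : Set X)) : X.IdealSheafData :=
  Scheme.IdealSheafData.vanishingIdeal ⟨(T : Set X), by
    rw [← Set.biUnion_of_singleton (T : Set X)]
    exact T.finite_toSet.isClosed_biUnion fun x hx => hT x hx⟩

omit [IsAlgClosed k] [IsReduced X] [ConnectedSpace X] in
include k in
/-- The ideal of finitely many regular points of dimension one is invertible. -/
theorem isInvertible_IT (T : Finset X) (hT : ∀ x ∈ T, IsClosed ({x} : Set X))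
    (hreg : ∀ x ∈ T, IsRegularLocalRing (X.presheaf.stalk x) ∧ ringKrullDim (X.presheaf.stalk x) = 1) :
    PicF.IsInvertible (_root_.ClSub.idealMod (IT T hT)) := by
  haveI := GlobalSections.isNoetherian_of_proper k X
  have hmem : ∀ y ∈ (IT T hT).support, y ∈ T := fun y hy => by
    have : y ∈ ((IT T hT).support : Set X) := hy
    rwa [IT, Scheme.IdealSheafData.coe_support_vanishingIdeal] at this
  refine ClSub.Cartier.isInvertible_idealMod
    (Groth.Agent.H4.CartierUFD.isEffCartier_of_assoc _ (fun y hy _ => (hreg y (hmem y hy)).2) fun y hy => ?_)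
  haveI := (hreg y (hmem y hy)).1
  haveI := Regular.Quotient.isDomain (X.presheaf.stalk y)
  haveI := RefHull.LocFree.isPrincipalIdealRing_of_regular (X.presheaf.stalk y) (hreg y (hmem y hy)).2.le
  exact ⟨inferInstance, inferInstance⟩

omit [IsReduced X] [ConnectedSpace X] in
include k in
/-- `h⁰` of a coherent sheaf with finite support is at least the number of its points. -/
theorem card_le_hdim (hd : topologicalKrullDim X ≤ 1) {Q : X.Modules} (hQ : Coh.IsCoh Q)
    (htor : Positivity.IsTorsion Q) (hfin : {z | Nontrivial (Q.presheaf.stalk z)}.Finite)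
    (s : Finset X) (hs : ∀ x ∈ s, IsClosed ({x} : Set X) ∧ Nontrivial (Q.presheaf.stalk x))
    (hcl : ∀ z, Nontrivial (Q.presheaf.stalk z) → IsClosed ({z} : Set X)) :
    s.card ≤ Euler.hdim k X Q 0 := by
  classical
  haveI := GlobalSections.isNoetherian_of_proper k X
  haveI := GlobalSections.noetherianSpace_of_proper k X
  have hlen : ∀ z, Nontrivial (Q.presheaf.stalk z) →
      Module.length (X.presheaf.stalk z) (Q.presheaf.stalk z) ≠ ⊤ := fun z hz =>
    Cyc.SheafLen.length_ne_top hQ z fun y hy hny => (hy.mem_closed (hcl y hny) rfl).symm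
  have hsum := @Cyc.PP.Count.euler_eq_sum X k _ _ _ _ Q hQ.2 hfin
    (fun z hz => NormEuler.residueFieldMap_finite z (hcl z hz)) hlen 1
  have hgood := Finiteness.isGood_of_isCoh (k := k) hd hQ
  have hE : Curv2.euler k X Q = FGA.eulerCharLE k X Q 1 := by
    rw [hgood.euler, FGA.eulerCharLE, Finset.sum_range_succ, Finset.sum_range_one]
    simp only [Euler.hdim, pow_zero, one_mul, pow_one, neg_one_mul]
    ring
  rw [← hE, htor.euler hd] at hsum
  have hsub : s ⊆ hfin.toFinset := fun x hx => (Set.Finite.mem_toFinset hfin).2 (hs x hx).2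
  have h1 : (s.card : ℤ) ≤ ∑ z ∈ hfin.toFinset,
      ((Module.length (X.presheaf.stalk z) (Q.presheaf.stalk z)).toNat : ℤ) *
        ((X ↘ Spec (CommRingCat.of k)).residueDegree z : ℤ) := by
    refine le_trans ?_ (Finset.sum_le_sum_of_subset_of_nonneg hsub fun z _ _ => by positivity)
    rw [Finset.card_eq_sum_ones, Nat.cast_sum]
    refine Finset.sum_le_sum fun z hz => ?_
    haveI := (hs z hz).2
    rw [NormEuler.residueDegree_eq, NormGenus.finrank_residueField k X (hs z hz).1, Nat.cast_one, mul_one]
    obtain ⟨m, hm⟩ := ENat.ne_top_iff_exists.mp (hlen z (hs z hz).2)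
    have hpos : m ≠ 0 := fun h0 => not_subsingleton (Q.presheaf.stalk z)
      (Module.length_eq_zero_iff.mp (hm.symm.trans (by rw [h0]; rfl)))
    rw [← hm, ENat.toNat_natCast]
    exact_mod_cast Nat.one_le_iff_ne_zero.mpr hpos
  rw [← hsum] at h1
  exact_mod_cast h1

omit [IsReduced X] [ConnectedSpace X] in
include k in
/-- `h⁰(O_T) = #T`. -/
theorem hdim_quot_IT (hd : topologicalKrullDim X ≤ 1) (T : Finset X) (hT : ∀ x ∈ T, IsClosed ({x} : Set X)) :
    Euler.hdim k X (_root_.ClSub.quotMod (IT T hT)) 0 = T.card := by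
  set I := IT T hT
  letI : I.subscheme.Over (Spec (CommRingCat.of k)) := ⟨I.subschemeι ≫ (X ↘ Spec (CommRingCat.of k))⟩
  haveI : IsProper (I.subscheme ↘ Spec (CommRingCat.of k)) :=
    inferInstanceAs (IsProper (I.subschemeι ≫ (X ↘ Spec (CommRingCat.of k))))
  haveI := GlobalSections.noetherianSpace_of_proper k I.subscheme
  haveI : IsReduced I.subscheme := H75.RedSub.isReduced_vanishingIdeal _
  haveI := TensorMod.QCohInv.isQCoh_structureModule I.subscheme
  haveI := (Finiteness.isGood_of_isCoh (k := k) hd (IdealTwist.isCoh_quot I)).fin₀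
  haveI : FiniteDimensional k (Coh.HH I.subscheme (Coh.structureModule I.subscheme) 0) :=
    Module.Finite.equiv (ZarCoh.Linear.affineLinearEquiv I.subschemeι rfl (Coh.structureModule I.subscheme) 0)
  have hr : Set.range I.subschemeι = (T : Set X) :=
    (Scheme.IdealSheafData.range_subschemeι I).trans (Scheme.IdealSheafData.coe_support_vanishingIdeal _)
  haveI : Finite I.subscheme := by
    haveI := (hr ▸ T.finite_toSet : (Set.range I.subschemeι).Finite).to_subtype
    exact Finite.of_injective (Set.rangeFactorization I.subschemeι)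
      fun a b h => I.subschemeι.isClosedEmbedding.injective (congrArg Subtype.val h :)
  haveI : T1Space I.subscheme := ⟨fun z => by
    have : ({z} : Set I.subscheme) = I.subschemeι ⁻¹' {I.subschemeι z} := Set.ext fun w =>
      ⟨fun h => congrArg I.subschemeι h, fun h => I.subschemeι.isClosedEmbedding.injective h⟩
    rw [this]
    exact (hT _ (hr.le ⟨z, rfl⟩)).preimage I.subschemeι.continuous⟩
  haveI : DiscreteTopology I.subscheme := inferInstance
  refine ((ZarCoh.Linear.affineLinearEquiv I.subschemeι rfl
    (Coh.structureModule I.subscheme) 0).finrank_eq).trans ?_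
  rw [H0Components.finrank_h0_eq_card k]
  have hb : Function.Bijective (ConnectedComponents.mk : I.subscheme → _) :=
    ⟨fun a b h => Set.mem_singleton_iff.mp ((connectedComponent_eq_singleton b).le (ConnectedComponents.coe_eq_coe'.mp h)),
      ConnectedComponents.surjective_coe⟩
  rw [← Nat.card_eq_of_bijective _ hb,
    Nat.card_congr ((Equiv.ofInjective _ I.subschemeι.isClosedEmbedding.injective).trans (Equiv.setCongr hr))]
  simp

end Groth.Agent.Lib.Curves.UniformPoints
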