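import Groth.Agent.Lib.Curves.WeierstrassSect
import Groth.Agent.Lib.LefPen45.HypSheaf
import Groth.Agent.Lib.ProjTilde.QCoh
import Mathlib.AlgebraicGeometry.Morphisms.ClosedImmersion
import Mathlib.AlgebraicGeometry.EllipticCurve.Affine.Basic

/-!
# A curve of genus one is the plane cubic satisfied by `x` and `y`
-/

set_option autoImplicit false
set_option linter.style.haveILetI false
universe u

open CategoryTheory CategoryTheory.Limits AlgebraicGeometry Opposite TopologicalSpace
open MvPolynomial LefPen Groth.Agent.Lib.ProjSpace Groth.Agent.Lib.LefPen45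

noncomputable section

attribute [local instance] Curv2.stalkAlgebra

namespace Groth.Agent.Lib.Curves.WeierstrassCubic

variable {k : Type u} [Field k]

/-- The Weierstrass cubic in `X, Y, Z`. -/
def cubic (a : WeierstrassCurve k) : MvPolynomial (Fin (2 + 1)) k :=
  X 1 ^ 2 * X 2 + C a.a₁ * X 0 * X 1 * X 2 + C a.a₃ * X 1 * X 2 ^ 2 - X 0 ^ 3
    - C a.a₂ * X 0 ^ 2 * X 2 - C a.a₄ * X 0 * X 2 ^ 2 - C a.a₆ * X 2 ^ 3

/-- `k[X][Y] → k[u, v]`. -/
def ι₂ : Polynomial (Polynomial k) →+* MvPolynomial (Fin 2) k :=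
  Polynomial.eval₂RingHom (Polynomial.aeval (X 0 : MvPolynomial (Fin 2) k)).toRingHom (X 1)

theorem ι₂_surjective : Function.Surjective (ι₂ (k := k)) := by
  intro p
  induction p using MvPolynomial.induction_on with
  | C c => exact ⟨Polynomial.C (Polynomial.C c), by simp [ι₂]⟩
  | add p q hp hq =>
    obtain ⟨a, rfl⟩ := hp; obtain ⟨b, rfl⟩ := hq
    exact ⟨a + b, map_add _ _ _⟩
  | mul_X p i hp =>
    obtain ⟨a, rfl⟩ := hp
    fin_cases i
    · exact ⟨a * Polynomial.C Polynomial.X, by simp [ι₂]⟩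
    · exact ⟨a * Polynomial.X, by simp [ι₂]⟩

theorem ι₂_polynomial (a : WeierstrassCurve k) :
    ι₂ a.toAffine.polynomial = Chart.dehomJ k (2 : Fin 3) (cubic a) := by
  have h0 : (Fin.insertNth (2 : Fin 3) (1 : MvPolynomial (Fin 2) k) X : Fin 3 → MvPolynomial (Fin 2) k) 0 = X 0 := rfl
  have h1 : (Fin.insertNth (2 : Fin 3) (1 : MvPolynomial (Fin 2) k) X : Fin 3 → MvPolynomial (Fin 2) k) 1 = X 1 := rfl
  have h2 : (Fin.insertNth (2 : Fin 3) (1 : MvPolynomial (Fin 2) k) X : Fin 3 → MvPolynomial (Fin 2) k) 2 = 1 := rfl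
  simp [ι₂, WeierstrassCurve.Affine.polynomial, Chart.dehomJ, cubic, h0, h1, h2, Polynomial.eval₂_pow]
  ring

/-- The relations between `x` and `y` are the multiples of the cubic. -/
theorem dvd_of_aeval {K : Type u} [Field K] [Algebra k K] (hK : _root_.FunFld.IsFunctionField k K)
    (hgK : _root_.FunFld.genus k K = 1) {P : _root_.FunFld.Place k K} (hP : P.deg = 1) {x y : K}
    (hx : x ∈ _root_.FunFld.L (Finsupp.single P 2)) (hx2 : P.ord x = -2)
    (hy : y ∈ _root_.FunFld.L (Finsupp.single P 3)) (hy3 : P.ord y = -3)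
    (a : WeierstrassCurve k)
    (hrel : y ^ 2 + algebraMap k K a.a₁ * x * y + algebraMap k K a.a₃ * y =
      x ^ 3 + algebraMap k K a.a₂ * x ^ 2 + algebraMap k K a.a₄ * x + algebraMap k K a.a₆)
    {G : MvPolynomial (Fin 2) k} (hG : aeval ![x, y] G = 0) :
    Chart.dehomJ k (2 : Fin 3) (cubic a) ∣ G := by
  obtain ⟨Q, rfl⟩ := ι₂_surjective G
  let e : Polynomial (Polynomial k) →+* K :=
    Polynomial.eval₂RingHom (Polynomial.aeval x).toRingHom y
  have he : ∀ R, aeval ![x, y] (ι₂ R) = e R := by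
    intro R
    induction R using Polynomial.induction_on' with
    | add p q hp hq => simp only [map_add, hp, hq]
    | monomial n p =>
      simp only [ι₂, e, Polynomial.coe_eval₂RingHom, Polynomial.eval₂_monomial, map_mul, map_pow,
        aeval_X]
      congr 1
      exact (Polynomial.aeval_algHom_apply (aeval ![x, y]) (X 0 : MvPolynomial (Fin 2) k) p).symm.trans
        (by simp)
  have hmon : a.toAffine.polynomial.Monic := WeierstrassCurve.Affine.monic_polynomial
  set R := Q %ₘ a.toAffine.polynomial with hR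
  have hdeg : R.natDegree < 2 := by
    have := Polynomial.natDegree_modByMonic_lt Q hmon (by
      intro h1
      have h2 : a.toAffine.polynomial.natDegree = 2 := WeierstrassCurve.Affine.natDegree_polynomial
      rw [h1, Polynomial.natDegree_one] at h2
      omega)
    rwa [WeierstrassCurve.Affine.natDegree_polynomial] at this
  have hQ : Q = R + a.toAffine.polynomial * (Q /ₘ a.toAffine.polynomial) :=
    (Polynomial.modByMonic_add_div Q a.toAffine.polynomial).symm
  have hF : e a.toAffine.polynomial = 0 := by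
    simp [e, WeierstrassCurve.Affine.polynomial, Polynomial.eval₂_pow]
    linear_combination hrel
  have hR0 : e R = 0 := by
    have h := hG
    rw [he, hQ, map_add, map_mul, hF, zero_mul, add_zero] at h
    exact h
  have hR' : R = Polynomial.C (R.coeff 1) * Polynomial.X + Polynomial.C (R.coeff 0) :=
    Polynomial.eq_X_add_C_of_natDegree_le_one (by omega)
  rw [hR'] at hR0
  set p := R.coeff 0
  set q := R.coeff 1
  simp only [e, map_add, map_mul, Polynomial.coe_eval₂RingHom, Polynomial.eval₂_C,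
    Polynomial.eval₂_X, AlgHom.toRingHom_eq_coe, RingHom.coe_coe] at hR0
  set N := p.natDegree + q.natDegree + 1 with hN
  have hli := (FunFld.Elliptic.fam_spec hK hgK hP hx hx2 hy hy3 (n := 2 * N + 2) (by omega)).1
  rw [Fintype.linearIndependent_iff] at hli
  have hsum := hli (Sum.elim (fun i => p.coeff i) fun i => q.coeff i) (by
    rw [Fintype.sum_sum_type]
    simp only [FunFld.Elliptic.fam, Sum.elim_inl, Sum.elim_inr]
    rw [Fin.sum_univ_eq_sum_range (fun i => p.coeff i • x ^ i) ((2 * N + 2) / 2 + 1),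
      ← Polynomial.aeval_eq_sum_range' (by omega)]
    rw [Fin.sum_univ_eq_sum_range (fun i => q.coeff i • (x ^ i * y)) ((2 * N + 2 - 1) / 2)]
    simp only [← smul_mul_assoc]
    rw [← Finset.sum_mul, ← Polynomial.aeval_eq_sum_range' (by omega)]
    linear_combination hR0)
  have hp : p = 0 := Polynomial.ext fun i => by
    by_cases hi : i < (2 * N + 2) / 2 + 1
    · simpa using hsum (Sum.inl ⟨i, hi⟩)
    · rw [Polynomial.coeff_zero, Polynomial.coeff_eq_zero_of_natDegree_lt (by omega)]
  have hq : q = 0 := Polynomial.ext fun i => by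
    by_cases hi : i < (2 * N + 2 - 1) / 2
    · simpa using hsum (Sum.inr ⟨i, hi⟩)
    · rw [Polynomial.coeff_zero, Polynomial.coeff_eq_zero_of_natDegree_lt (by omega)]
  have hRz : R = 0 := by rw [hR', hp, hq, map_zero, zero_mul, zero_add]
  rw [← ι₂_polynomial, hQ, hRz, zero_add, map_mul]
  exact dvd_mul_right _ _

/-- Cancelling a prime that does not divide. -/
theorem dvd_of_dvd_pow_mul {R : Type*} [CommRing R] [IsDomain R] {F p : R} (hp : Prime p)
    (hpF : ¬ p ∣ F) : ∀ (n : ℕ) (G : R), F ∣ p ^ n * G → F ∣ G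
  | 0, G, h => by simpa using h
  | n + 1, G, ⟨m, hm⟩ => by
    obtain ⟨m', rfl⟩ : p ∣ m := (hp.dvd_or_dvd (show p ∣ F * m from ⟨p ^ n * G, by rw [← hm]; ring⟩)).resolve_left hpF
    exact dvd_of_dvd_pow_mul hp hpF n G ⟨m', mul_left_cancel₀ hp.ne_zero (by linear_combination hm)⟩

/-- The variable `Z` does not divide the cubic on the charts `X ≠ 0`, `Y ≠ 0`. -/
theorem not_dvd (a : WeierstrassCurve k) {j : Fin 3} (hj : j ≠ 2) :
    ¬ (X 1 : MvPolynomial (Fin 2) k) ∣ Chart.dehomJ k j (cubic a) := by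
  rintro ⟨m, hm⟩
  have h := congrArg (MvPolynomial.eval (![1, 0] : Fin 2 → k)) hm
  rw [Chart.eval_dehomJ, map_mul, eval_X] at h
  fin_cases j
  · simp [cubic, Fin.insertNth_zero', Fin.cons] at h
  · simp [cubic, Fin.insertNth, Fin.succAboveCases] at h
  · exact hj rfl

variable {E : Scheme.{u}} [E.Over (Spec (CommRingCat.of k))]
  [IsProper (E ↘ Spec (CommRingCat.of k))] [IsIntegral E]

/-- **The plane cubic model.** -/
theorem exists_iso_cubic [GeometricallyIntegral (E ↘ Spec (CommRingCat.of k))]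
    (h : CurveFF.CurveHyp E) (hg : Curv2.genus k E = 1)
    (o : CurveFF.CPt E) (hdeg : Euler.hdim k E (ClSub.quotMod (PointIdeal.ptI o.2)) 0 = 1)
    {x y : E.functionField}
    (hx : x ∈ _root_.FunFld.L (Finsupp.single (CurveFF.placeOf k h o) 2))
    (hx2 : (CurveFF.placeOf k h o).ord x = -2)
    (hy : y ∈ _root_.FunFld.L (Finsupp.single (CurveFF.placeOf k h o) 3))
    (hy3 : (CurveFF.placeOf k h o).ord y = -3)
    (a : WeierstrassCurve k)
    (hrel : y ^ 2 + algebraMap k E.functionField a.a₁ * x * y + algebraMap k E.functionField a.a₃ * y =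
      x ^ 3 + algebraMap k E.functionField a.a₂ * x ^ 2 + algebraMap k E.functionField a.a₄ * x +
        algebraMap k E.functionField a.a₆)
    (W : LefPen.Form 2 k 3) (hW : (W : MvPolynomial (Fin (2 + 1)) k) = cubic a) :
    ∃ e : E ≅ (LefPen.hypIdeal W).subscheme,
      e.hom ≫ (LefPen.hypIdeal W).subschemeι ≫ CohB1.ProjSpace.toSpec 2 k =
        E ↘ Spec (CommRingCat.of k) := by
  obtain ⟨r, hη, hci, hr, hα⟩ := WeierstrassSect.exists_embedding h hg o hdeg hx hx2 hy hy3
  haveI := hci
  have h0 : Module.finrank k (Coh.HH E (Coh.structureModule E) 0) = 1 := by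
    haveI := GlobalSections.isNoetherian_of_proper k E
    haveI := h.dvr o.1 o.2
    obtain ⟨M, hM, hMd⟩ := DegreeOne.exists_deg_of_point (k := k) h.dim o.2 inferInstance
    rw [hdeg] at hMd
    exact DegreeOne.h0_eq_one h.dim.le hM hMd
  have hK : _root_.FunFld.IsFunctionField k E.functionField := CurveFF.isFunctionField h h0
  have hgK : _root_.FunFld.genus k E.functionField = 1 := (CurveFF.genus_eq h h0).symm.trans hg
  set P := CurveFF.placeOf k h o
  have hPdeg : P.deg = 1 := by
    rw [CurveFF.deg_placeOf]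
    exact (PointIdeal.hdim_quot_point (k := k) o.2).symm.trans hdeg
  let T : Fin 3 → E.functionField := ![x, y, 1]
  have hT : ∀ i, T i ≠ 0 := fun i => by
    fin_cases i
    · exact FunFld.Elliptic.ne_zero_of_ord P (f := x) (by rw [hx2]; norm_num)
    · exact FunFld.Elliptic.ne_zero_of_ord P (f := y) (by rw [hy3]; norm_num)
    · exact one_ne_zero
  -- functions on the charts
  let φ : ∀ j : Fin 3, MvPolynomial (Fin 2) k →+* Γ(CohB1.ProjSpace 2 k, chart 2 k j) := fun j =>
    (Proj.awayToSection (CohB1.polyGrading 2 k) (MvPolynomial.X j)).hom.comp (Charts.chartEquiv k j).toRingHom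
  have hφbij : ∀ j, Function.Bijective (φ j) := fun j => by
    haveI : IsIso (Proj.awayToSection (CohB1.polyGrading 2 k) (MvPolynomial.X j)) :=
      (Proj.basicOpenIsoAway (CohB1.polyGrading 2 k) _ (Charts.X_mem_one j) one_pos).isIso_hom
    exact (ConcreteCategory.bijective_of_isIso
      (Proj.awayToSection (CohB1.polyGrading 2 k) (MvPolynomial.X j))).comp (Charts.chartEquiv k j).bijective
  have hφX : ∀ (j : Fin 3) (m : Fin 2), φ j (X m) = ProjMor.Frame.fr (CohB1.polyGrading 2 k)
      ⟨MvPolynomial.X j, MvPolynomial.isHomogeneous_X k j⟩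
      ⟨MvPolynomial.X (j.succAbove m), MvPolynomial.isHomogeneous_X k _⟩ := fun j m => by
    refine congrArg (Proj.awayToSection (CohB1.polyGrading 2 k) (MvPolynomial.X j)).hom ?_
    refine (Charts.chartEquiv_X j m).trans (HomogeneousLocalization.val_injective _ ?_)
    rw [Charts.val_coord, HomogeneousLocalization.Away.val_mk]
    simp
  have hφW : ∀ j, φ j (Chart.dehomJ k j (cubic a)) = dehom W j := fun j => by
    rw [← hW]
    refine congrArg (Proj.awayToSection (CohB1.polyGrading 2 k) (MvPolynomial.X j)).hom ?_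
    exact Chart.chartEquiv_dehomJ_eq_mk k j (e := 3) (by simpa using W.2)
  have hev : ∀ (j : Fin 3) (G : MvPolynomial (Fin 2) k),
      (E.presheaf.germ (r ⁻¹ᵁ chart 2 k j) (genericPoint E) (hη j)).hom (r.app (chart 2 k j) (φ j G)) =
        aeval (fun m => T (j.succAbove m) / T j) G := by
    intro j G
    have key : ((E.presheaf.germ (r ⁻¹ᵁ chart 2 k j) (genericPoint E) (hη j)).hom.comp
        ((r.app (chart 2 k j)).hom.comp (φ j))) =
        (aeval (fun m => T (j.succAbove m) / T j) : MvPolynomial (Fin 2) k →ₐ[k] E.functionField).toRingHom := by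
      refine MvPolynomial.ringHom_ext (fun c => ?_) fun m => ?_
      · simp only [RingHom.comp_apply, AlgHom.toRingHom_eq_coe, RingHom.coe_coe, aeval_C]
        change (E.presheaf.germ (r ⁻¹ᵁ chart 2 k j) (genericPoint E) (hη j)).hom
          ((r.app (chart 2 k j)).hom ((Proj.awayToSection (CohB1.polyGrading 2 k) (MvPolynomial.X j)).hom
            (Charts.chartEquiv k j (MvPolynomial.C c)))) = _
        rw [Charts.chartEquiv_C, ← Chart.cst_eq k r j c, Chart.cst, CommRingCat.hom_comp, RingHom.comp_apply]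
        have hle : r ⁻¹ᵁ chart 2 k j ≤ ⊤ := le_top
        have e1 : (r ≫ CohB1.ProjSpace.toSpec 2 k).appLE ⊤ (r ⁻¹ᵁ chart 2 k j) le_top =
            (E ↘ Spec (CommRingCat.of k)).appTop ≫ E.presheaf.map (homOfLE hle).op := by
          rw [hr]; rfl
        rw [e1]
        exact E.presheaf.germ_res_apply (homOfLE hle) (genericPoint E) (hη j) _
      · simp only [RingHom.comp_apply, AlgHom.toRingHom_eq_coe, RingHom.coe_coe, aeval_X]
        rw [hφX, eq_div_iff (hT j)]
        exact hα (j.succAbove m) j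
    exact RingHom.congr_fun key G
  have hker : ∀ (j : Fin 3) (G : MvPolynomial (Fin 2) k),
      φ j G ∈ r.ker.ideal (HypSheaf.chartAff k j) ↔ aeval (fun m => T (j.succAbove m) / T j) G = 0 := by
    intro j G
    rw [Scheme.Hom.ker_apply, RingHom.mem_ker, ← hev j G]
    exact ⟨fun h' => (congrArg _ h').trans (map_zero _), fun h' =>
      germ_injective_of_isIntegral E (genericPoint E) (hη j) (h'.trans (map_zero _).symm)⟩
  have hdvd : ∀ j, Chart.dehomJ k j (cubic a) ∈
      RingHom.ker (aeval (fun m => T (j.succAbove m) / T j) : MvPolynomial (Fin 2) k →ₐ[k] E.functionField) := by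
    intro j
    have key : ∀ F : MvPolynomial (Fin 3) k, aeval (fun m => T (j.succAbove m) / T j) (Chart.dehomJ k j F) =
        aeval (fun i => T i / T j) F := fun F => by
      change ((aeval fun m => T (j.succAbove m) / T j).comp (Chart.dehomJ k j)) F = _
      congr 1
      refine algHom_ext fun i => ?_
      rcases Fin.eq_self_or_eq_succAbove j i with rfl | ⟨m, rfl⟩ <;>
        simp [Chart.dehomJ, hT]
    rw [RingHom.mem_ker, key]
    have hz := hT j
    simp only [cubic, map_sub, map_add, map_mul, map_pow, aeval_C, aeval_X]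
    simp only [T, show (![x, y, 1] : Fin 3 → E.functionField) 0 = x from rfl,
      show (![x, y, 1] : Fin 3 → E.functionField) 1 = y from rfl,
      show (![x, y, 1] : Fin 3 → E.functionField) 2 = 1 from rfl] at hz ⊢
    field_simp
    linear_combination hrel
  have h2 : ∀ G, aeval (fun m => T ((2 : Fin 3).succAbove m) / T 2) G = 0 →
      Chart.dehomJ k (2 : Fin 3) (cubic a) ∣ G := fun G hG => by
    refine dvd_of_aeval hK hgK hPdeg hx hx2 hy hy3 a hrel ?_
    rw [← hG]
    refine congrArg (fun f => aeval f G) (funext fun m => ?_)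
    fin_cases m <;> simp [T, Fin.succAbove]
  -- the two ideals
  have hchart : ∀ j, (hypIdeal W).ideal (HypSheaf.chartAff k j) = r.ker.ideal (HypSheaf.chartAff k j) := by
    have hle : ∀ j, (hypIdeal W).ideal (HypSheaf.chartAff k j) ≤ r.ker.ideal (HypSheaf.chartAff k j) := fun j => by
      rw [HypSheaf.hypIdeal_chart, Ideal.span_le, Set.singleton_subset_iff, ← hφW, SetLike.mem_coe, hker]
      exact hdvd j
    have htwo : (hypIdeal W).ideal (HypSheaf.chartAff k (2 : Fin 3)) = r.ker.ideal (HypSheaf.chartAff k 2) := by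
      refine le_antisymm (hle 2) fun s hs => ?_
      obtain ⟨G, rfl⟩ := (hφbij 2).2 s
      rw [HypSheaf.hypIdeal_chart, ← hφW, Ideal.mem_span_singleton]
      exact map_dvd (φ 2) (h2 G ((hker 2 G).mp hs))
    intro j
    by_cases hj : j = 2
    · subst hj; exact htwo
    refine le_antisymm (hle j) fun s hs => ?_
    obtain ⟨G, rfl⟩ := (hφbij j).2 s
    let U := HypSheaf.chartAff k j
    let z : Γ(CohB1.ProjSpace 2 k, U.1) := φ j (X 1)
    let W₀ := (CohB1.ProjSpace 2 k).affineBasicOpen (U := U) z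
    have hWU : W₀.1 ≤ U.1 := (CohB1.ProjSpace 2 k).basicOpen_le z
    have hW2 : W₀.1 ≤ (HypSheaf.chartAff k (2 : Fin 3)).1 := by
      have hs2 : j.succAbove 1 = 2 := by fin_cases j <;> simp_all <;> decide
      intro p hp
      have hp' : p ∈ (CohB1.ProjSpace 2 k).basicOpen z := hp
      simp only [z, hφX, hs2, ProjMor.Frame.fr] at hp'
      have hX2 : (X 2 : MvPolynomial (Fin (2 + 1)) k) ∈ CohB1.polyGrading 2 k (1 • 1) := by
        simpa using MvPolynomial.isHomogeneous_X k (2 : Fin 3)
      have hp'' := (ProjTilde.QCoh.basicOpen_awayToSection (𝒜 := CohB1.polyGrading 2 k)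
        (MvPolynomial.isHomogeneous_X k j) 1 (X 2) hX2).le hp'
      exact fun hc => hp'' (Ideal.mul_mem_left _ _ hc)
    have hres : (CohB1.ProjSpace 2 k).presheaf.map (homOfLE hWU).op (φ j G) ∈
        ((hypIdeal W).ideal U).map ((CohB1.ProjSpace 2 k).presheaf.map (homOfLE hWU).op).hom := by
      have e3 : (hypIdeal W).ideal W₀ = r.ker.ideal W₀ := by
        rw [← (hypIdeal W).map_ideal (U := W₀) (V := HypSheaf.chartAff k 2) hW2,
          ← r.ker.map_ideal (U := W₀) (V := HypSheaf.chartAff k 2) hW2, htwo]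
      erw [(hypIdeal W).map_ideal (U := W₀) (V := U) hWU, e3, ← r.ker.map_ideal (U := W₀) (V := U) hWU]
      exact Ideal.mem_map_of_mem _ hs
    letI := ((CohB1.ProjSpace 2 k).presheaf.map (homOfLE hWU).op).hom.toAlgebra
    haveI : IsLocalization.Away z Γ(CohB1.ProjSpace 2 k, W₀.1) := U.2.isLocalization_basicOpen z
    obtain ⟨⟨⟨m, hm⟩, ⟨_, n, rfl⟩⟩, hmn⟩ :=
      (IsLocalization.mem_map_algebraMap_iff (Submonoid.powers z) Γ(CohB1.ProjSpace 2 k, W₀.1)).mp hres
    obtain ⟨⟨_, n', rfl⟩, hc⟩ := (IsLocalization.eq_iff_exists (Submonoid.powers z)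
      Γ(CohB1.ProjSpace 2 k, W₀.1)).mp ((map_mul _ _ _).trans hmn)
    rw [HypSheaf.hypIdeal_chart, ← hφW, Ideal.mem_span_singleton] at hm ⊢
    obtain ⟨M, rfl⟩ := hm
    obtain ⟨M, rfl⟩ := (hφbij j).2 M
    refine map_dvd (φ j) (dvd_of_dvd_pow_mul (X_prime (i := (1 : Fin 2))) (not_dvd a hj) (n + n') G ?_)
    refine ⟨X 1 ^ n' * M, (hφbij j).1 ?_⟩
    simp only [map_mul, map_pow] at hc ⊢
    linear_combination hc
  have heq : hypIdeal W = r.ker := by
    refine Scheme.IdealSheafData.ext_of_iSup_eq_top (fun j => HypSheaf.chartAff k j) ?_ hchart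
    exact Basic.iSup_basicOpen_X_eq_top 2 k
  have hsub : (hypIdeal W).subschemeι.ker = r.ker := by rw [Scheme.IdealSheafData.ker_subschemeι, heq]
  let e₁ := IsClosedImmersion.lift (hypIdeal W).subschemeι r hsub.le
  let e₂ := IsClosedImmersion.lift r (hypIdeal W).subschemeι hsub.ge
  refine ⟨⟨e₁, e₂, ?_, ?_⟩, ?_⟩
  · rw [← cancel_mono r, Category.assoc, IsClosedImmersion.lift_fac, IsClosedImmersion.lift_fac, Category.id_comp]
  · rw [← cancel_mono (hypIdeal W).subschemeι, Category.assoc, IsClosedImmersion.lift_fac,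
      IsClosedImmersion.lift_fac, Category.id_comp]
  · rw [← Category.assoc, show e₁ ≫ (hypIdeal W).subschemeι = r from IsClosedImmersion.lift_fac _ _ _, hr]

end Groth.Agent.Lib.Curves.WeierstrassCubic
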