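import Groth.Agent.Lib.Curves.RationalPoint
import Groth.Agent.Lib.Curves.IdealEval
import Groth.Agent.Lib.Curves.VeryAmple
import Groth.Agent.Lib.CurveFF.Genus
import Groth.Agent.Lib.CurveFF.Hyp
import Groth.Agent.Lib.FunFld.Elliptic
import Groth.Agent.Lib.LefPen45.Chart
import Groth.Agent.S7933

/-!
# Sections of `O(3o)` on a curve of genus one and the map they define
-/

set_option autoImplicit false
set_option linter.style.haveILetI false
universe u

open CategoryTheory CategoryTheory.Limits AlgebraicGeometry Opposite TopologicalSpace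
open Groth.Agent.Lib.TensorMod Groth.Agent.Lib.TensorMod.Basic Groth.Agent.Lib.TensorMod.Gen
  Groth.Agent.Lib.TensorMod.Dual
  Groth.Agent.Lib.TensorMod.HomGlue Groth.Agent.Lib.Modules
  Groth.Agent.Lib.Ample.GenLocus Groth.Agent.Lib.ProjMor.Sec

noncomputable section

attribute [local instance] Curv2.stalkAlgebra

namespace Groth.Agent.Lib.Curves.WeierstrassSect

/-- The germ of a generator is torsion free. -/
theorem germ_gen_smul_eq_zero {X : Scheme.{u}} [IsIntegral X] {L : X.Modules} {U : X.Opens}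
    {e : Γ(L, U)} (he : IsGen L U e) {y : X} (hy : y ∈ U) {a : X.presheaf.stalk y}
    (h : a • L.presheaf.germ U y hy e = 0) : a = 0 := by
  obtain ⟨W, hW, b, rfl⟩ := TopCat.Presheaf.exists_germ_eq X.presheaf a
  have hWU : y ∈ W ⊓ U := ⟨hW, hy⟩
  rw [← TopCat.Presheaf.germ_res_apply X.presheaf (homOfLE (inf_le_left : W ⊓ U ≤ W)) y hWU b]
    at h ⊢
  rw [← TopCat.Presheaf.germ_res_apply L.presheaf (homOfLE (inf_le_right : W ⊓ U ≤ U)) y hWU e,
    ← StalkModule.germ_smul, ← map_zero (L.presheaf.germ (W ⊓ U) y hWU).hom] at h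
  obtain ⟨W', hW', i, i', h'⟩ := TopCat.Presheaf.germ_eq L.presheaf y _ _ _ _ h
  rw [map_zero, Scheme.Modules.map_smul] at h'
  have h1 : X.presheaf.map i.op (X.presheaf.map (homOfLE (inf_le_left : W ⊓ U ≤ W)).op b) = 0 := by
    refine (he W' (i.le.trans inf_le_right)).1 ?_
    refine Eq.trans ?_ ((h'.trans (zero_smul Γ(X, W') _).symm))
    exact congrArg (_ • ·) (rs_rs L (inf_le_right : W ⊓ U ≤ U) i.le e).symm
  rw [← TopCat.Presheaf.germ_res_apply X.presheaf i y hW', h1, map_zero]

/-- The canonical section of `O(D)` does not vanish off `D`. -/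
theorem evQ_section_ne_zero {X : Scheme.{u}} {p x : X} (hx : IsClosed ({x} : Set X)) (hxp : x ≠ p)
    {J : X.IdealSheafData} {L : X.Modules} (hL : PicF.IsInvertible L)
    (eL : CohB1.tensorMod (ClSub.idealMod J) L ≅ Coh.structureModule X) (hJ : (J.support : Set X) = {p}) :
    (PointIdeal.evQ hx L).app ⊤ ((eL.inv ≫ IdealTwist.incl J L).app ⊤ (1 : Γ(X, ⊤))) ≠ 0 := by
  intro h0
  have hg : (eL.inv ≫ IdealTwist.incl J L) ≫ PointIdeal.evQ hx L = 0 := Free.unitHom_ext (by
    rw [Scheme.Modules.Hom.comp_app]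
    exact h0)
  have hg' : IdealTwist.incl J L ≫ PointIdeal.evQ hx L = 0 := by
    rw [← cancel_epi eL.inv, ← Category.assoc, comp_zero]
    exact hg
  have hxs : x ∈ CohB1.support (CohB1.tensorMod (ClSub.quotMod (PointIdeal.ptI hx)) L) := by
    rw [PointIdeal.support_twist_quot hx hL]; rfl
  haveI := PointIdeal.epi_evQ hx hL
  refine hxs (subsingleton_of_forall_eq 0 fun w => ?_)
  obtain ⟨v, rfl⟩ := (StalkModule.epi_iff_stalkMapₗ_surjective (PointIdeal.evQ hx L)).1 inferInstance x w
  obtain ⟨v', rfl⟩ : v ∈ Set.range (StalkModule.stalkMapₗ (IdealTwist.incl J L) x) := by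
    have hex := (ShortComplex.ab_exact_iff_function_exact _).mp ((Stalk.exact_iff_stalk _).mp
      (CurveBundle.Twist.shortExact hL (ClSub.Quot.idealSeq_shortExact J)).exact x)
    haveI : Subsingleton ((CohB1.tensorMod (ClSub.quotMod J) L).presheaf.stalk x) := by
      have hsupp : CohB1.support (CohB1.tensorMod (ClSub.quotMod J) L) ⊆ {p} := by
        rw [CurveBundle.Twist.support_twist hL, ClSub.Quot.support_quotMod, hJ]
      by_contra hns
      exact hxp (hsupp hns)
    obtain ⟨u', hu'⟩ := (hex (StalkModule.stalkMapₗ (leftUnit L).inv x v)).mp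
      (@Subsingleton.elim _ this _ _)
    refine ⟨u', ?_⟩
    rw [IdealTwist.incl, StalkModule.stalkMapₗ_comp]
    erw [LinearMap.comp_apply]
    refine (congrArg _ hu').trans ?_
    rw [← LinearMap.comp_apply, ← StalkModule.stalkMapₗ_comp, Iso.inv_hom_id, StalkModule.stalkMapₗ_id]
    rfl
  rw [← LinearMap.comp_apply, ← StalkModule.stalkMapₗ_comp, hg', StalkModule.stalkMapₗ_zero]
  rfl

variable {k : Type u} [Field k] {X : Scheme.{u}} [X.Over (Spec (CommRingCat.of k))]
  [IsProper (X ↘ Spec (CommRingCat.of k))] [IsIntegral X]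

open Classical in
/-- Sections of `O(3 o)` are the functions with at most a triple pole at `o`; those given by
`x`, `y`, `1` define a closed immersion with these ratios. -/
theorem exists_embedding [GeometricallyIntegral (X ↘ Spec (CommRingCat.of k))]
    (h : CurveFF.CurveHyp X) (hg : Curv2.genus k X = 1)
    (o : CurveFF.CPt X) (hdeg : Euler.hdim k X (ClSub.quotMod (PointIdeal.ptI o.2)) 0 = 1)
    {x y : X.functionField}
    (hx : x ∈ _root_.FunFld.L (Finsupp.single (CurveFF.placeOf k h o) 2))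
    (hx2 : (CurveFF.placeOf k h o).ord x = -2)
    (hy : y ∈ _root_.FunFld.L (Finsupp.single (CurveFF.placeOf k h o) 3))
    (hy3 : (CurveFF.placeOf k h o).ord y = -3) :
    ∃ (r : X ⟶ CohB1.ProjSpace 2 k) (hη : ∀ j : Fin 3, genericPoint X ∈ r ⁻¹ᵁ LefPen.chart 2 k j),
      IsClosedImmersion r ∧ r ≫ CohB1.ProjSpace.toSpec 2 k = X ↘ Spec (CommRingCat.of k) ∧
        ∀ i j : Fin 3, (X.presheaf.germ (r ⁻¹ᵁ LefPen.chart 2 k j) (genericPoint X) (hη j)).hom
          (r.app (LefPen.chart 2 k j) (ProjMor.Frame.fr (CohB1.polyGrading 2 k)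
            ⟨MvPolynomial.X j, MvPolynomial.isHomogeneous_X k j⟩
            ⟨MvPolynomial.X i, MvPolynomial.isHomogeneous_X k i⟩)) * (![x, y, 1] : Fin 3 → X.functionField) j =
          (![x, y, 1] : Fin 3 → X.functionField) i := by
  haveI := GlobalSections.isNoetherian_of_proper k X
  have hdim := h.dim
  have hd1 := hdim.le
  haveI := h.dvr o.1 o.2
  have hP : IsPrincipalIdealRing (X.presheaf.stalk o.1) := inferInstance
  set I := PointIdeal.ptI o.2 with hIdef
  have hsupp : (I.support : Set X) = {o.1} := PointIdeal.support_ptI o.2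
  have hI : BlowUp.IsEffCartierIdeal I := by
    refine H4.CartierUFD.isEffCartier_of_assoc _ (fun z hz _ => ?_) fun z hz => ?_ <;>
      (obtain rfl : z = o.1 := by
        have : z ∈ (I.support : Set X) := hz
        rwa [hsupp] at this)
    · exact GenusZero.one_le_dim_stalk hdim o.2
    · exact ⟨inferInstance, inferInstance⟩
  have h0 : Module.finrank k (Coh.HH X (Coh.structureModule X) 0) = 1 := by
    obtain ⟨M, hM, hMd⟩ := DegreeOne.exists_deg_of_point (k := k) hdim o.2 hP
    rw [hdeg] at hMd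
    exact DegreeOne.h0_eq_one hd1 hM hMd
  have hχ : Curv2.euler k X (Coh.structureModule X) = 0 := by
    rw [Degree.euler_structureModule hd1 h0, hg]; norm_num
  have hK : _root_.FunFld.IsFunctionField k X.functionField := CurveFF.isFunctionField h h0
  have hgK : _root_.FunFld.genus k X.functionField = 1 := (CurveFF.genus_eq h h0).symm.trans hg
  set P := CurveFF.placeOf k h o with hPdef
  have hPdeg : P.deg = 1 := by
    rw [hPdef, CurveFF.deg_placeOf]
    exact (PointIdeal.hdim_quot_point (k := k) o.2).symm.trans hdeg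
  -- the invertible module
  have hI3 : PicF.IsInvertible (ClSub.idealMod (I ^ 3)) :=
    ClSub.Cartier.isInvertible_idealMod (Ideal.EffCartier.isEffCartier_pow hI 3)
  obtain ⟨L, hL, ⟨eL₀⟩⟩ := Invertible.exists_inverse hI3
  obtain ⟨eL⟩ : Nonempty (CohB1.tensorMod (ClSub.idealMod (I ^ 3)) L ≅ Coh.structureModule X) :=
    ⟨eL₀⟩
  have hLinv : ClSub.IsInverseOf L (ClSub.idealMod (I ^ (2 + 1))) := ⟨comm _ _ ≪≫ eL⟩
  obtain ⟨-, hχL, hL0⟩ := Groth.Agent.S7933.h0_h1_of_inverse hdim hχ o.2 hI hdeg 2 L hLinv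
  have hdL : Curv2.deg k X L 1 = 3 := by rw [Degree.deg_eq, hχL, hχ]; norm_num
  have hgg : Curv2.IsGloballyGenerated L := by
    rw [PointIdeal.isGloballyGenerated_iff (k := k) hd1 hL]
    intro z hz
    refine lt_of_le_of_ne (PointIdeal.hdim_twist_ideal_point (k := k) hz hd1 hL).1 fun heq => ?_
    by_cases hzo : z = o.1
    · subst hzo
      obtain ⟨e2⟩ := SurfInt.Mul.nonempty_idealMod_mul (Ideal.EffCartier.isEffCartier_pow hI (1 + 1)) I
      obtain ⟨-, -, h'⟩ := Groth.Agent.S7933.h0_h1_of_inverse hdim hχ o.2 hI hdeg 1 _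
        ⟨tensorIso (comm _ _) (Iso.refl _) ≪≫ assoc _ _ _ ≪≫ tensorIso (Iso.refl L) (comm _ _ ≪≫ e2 ≪≫
          eqToIso (by rw [← pow_succ])) ≪≫ hLinv.some⟩
      rw [h', hL0] at heq
      omega
    · exact evQ_section_ne_zero hz hzo hL eL (by rw [Scheme.IdealSheafData.support_pow_succ, hsupp])
        ((PointIdeal.hdim_eq_iff (k := k) hz hd1 hL).mp heq _)
  -- a chart at `o`
  obtain ⟨U, e₀, hoU, he₀⟩ := Gen.isInvertible_iff.1 hL o.1
  obtain ⟨V, hoV, hVU, g, -, hIV⟩ := Ideal.EffCartier.exists_gen hI o.1 hoU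
  set e : Γ(L, V.1) := rs L hVU e₀ with hedef
  have he : IsGen L V.1 e := he₀.res hVU
  haveI : Nonempty V.1 := ⟨⟨o.1, hoV⟩⟩
  have hηV : genericPoint X ∈ V.1 :=
    (genericPoint_specializes o.1).mem_open V.1.2 hoV
  choose cf hcf using fun t : Γ(L, ⊤) => exists_coord he (rs L le_top t)
  have hcf_inj : ∀ a b : Γ(X, V.1), a • e = b • e → a = b := fun a b hab => by
    refine (he V.1 le_rfl).1 ?_
    simpa only [rs_self] using hab
  let gη : Γ(X, V.1) →+* X.functionField := (X.presheaf.germ V.1 (genericPoint X) hηV).hom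
  have hgη : Function.Injective gη := germ_injective_of_isIntegral X (genericPoint X) hηV
  set s₀ : Γ(L, ⊤) := (eL.inv ≫ IdealTwist.incl (I ^ 3) L).app ⊤ (1 : Γ(X, ⊤)) with hs₀
  -- `s₀` vanishes at most to order three at `o`
  have hF1 : ∀ (W : X.affineOpens) (hW : W.1 ≤ V.1), o.1 ∈ W.1 → ∀ b : Γ(X, W.1),
      X.presheaf.map (homOfLE hW).op (cf s₀) ≠ b * X.presheaf.map (homOfLE hW).op (g ^ 4) := by
    intro W hW hoW b hb
    have hIW : (I ^ 4).ideal W = Ideal.span {X.presheaf.map (homOfLE hW).op (g ^ 4)} := by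
      rw [Scheme.IdealSheafData.ideal_pow, Pi.pow_apply,
        Ideal.EffCartier.ideal_eq_span_of_le (U := V) (V := W) hW hIV, Ideal.span_singleton_pow,
        ← map_pow]
    have hev : (IdealEval.evI (I ^ 4) L).app ⊤ s₀ = 0 := by
      refine IdealEval.app_eq_zero _ hL s₀ fun z hz => ?_
      rw [Scheme.IdealSheafData.support_pow_succ, hsupp, Set.mem_singleton_iff] at hz
      subst hz
      refine ⟨W, rs L hW e, X.presheaf.map (homOfLE hW).op (cf s₀), hoW, he.res hW, ?_, ?_⟩
      · rw [hIW]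
        exact Ideal.mem_span_singleton'.mpr ⟨b, hb.symm⟩
      · have h1 := congrArg (rs L hW) (hcf s₀)
        rw [rs_rs, rs_smul] at h1
        exact h1
    letI := GlobalSections.secModule k L
    have hs0 : (show (L.val.obj (op ⊤) : Type u) from s₀) ≠ 0 := by
      intro h0'
      obtain ⟨z, hz⟩ : ∃ z : X, z ≠ o.1 ∧ IsClosed ({z} : Set X) := by
        haveI : JacobsonSpace X := LocallyOfFiniteType.jacobsonSpace (X ↘ Spec (CommRingCat.of k))
        obtain ⟨z, hz1, hz2⟩ := nonempty_inter_closedPoints (X := X) (Z := ({o.1} : Set X)ᶜ)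
          ⟨genericPoint X, fun he' => IdealTwist.genericPoint_not_mem hdim (Z := I) (by
            rw [hsupp]; exact topologicalKrullDim_zero_of_discreteTopology ({o.1} : Set X)) (by
            rw [hsupp]; exact he')⟩ o.2.isOpen_compl.isLocallyClosed
        exact ⟨z, hz1, hz2⟩
      exact evQ_section_ne_zero hz.2 hz.1 hL eL (by rw [Scheme.IdealSheafData.support_pow_succ, hsupp])
        ((congrArg ((PointIdeal.evQ hz.2 L).app ⊤) h0').trans (map_zero _))
    have hle := IdealEval.finrank_le_hdim (k := k) (I ^ 4) hd1 hL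
      (Submodule.span k {(show (L.val.obj (op ⊤) : Type u) from s₀)}) (by
        intro t ht
        obtain ⟨c, rfl⟩ := Submodule.mem_span_singleton.mp ht
        refine (Scheme.Modules.Hom.app_smul _ (U := ⊤) (Coh.toGlobal (X ↘ Spec (CommRingCat.of k)) c) s₀).trans ?_
        exact (congrArg _ hev).trans (smul_zero (A := Γ(CohB1.tensorMod (ClSub.quotMod (I ^ 4)) L, ⊤)) _))
    rw [finrank_span_singleton hs0] at hle
    obtain ⟨e4⟩ := SurfInt.Mul.nonempty_idealMod_mul (Ideal.EffCartier.isEffCartier_pow hI 3) I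
    have hiso : CohB1.tensorMod (ClSub.idealMod (I ^ 4)) L ≅ ClSub.idealMod I :=
      tensorIso (eqToIso (by rw [← pow_succ]) ≪≫ e4.symm ≪≫ comm _ _) (Iso.refl L) ≪≫ assoc _ _ _ ≪≫
        tensorIso (Iso.refl _) eL ≪≫ rightUnit _
    rw [Euler.hdim_eq_of_iso hiso 0] at hle
    have hIi := GenusZero.isInvertible_ptI hdim o.2 hP
    have hdI := Degree.deg_idealMod (k := k) hd1 hIi (IdealTwist.genericPoint_not_mem hdim (by
      rw [hsupp]; exact topologicalKrullDim_zero_of_discreteTopology ({o.1} : Set X)))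
    have hnn := Positivity.deg_nonneg_of_nontrivial (k := k) hd1 hIi
      (Degree.isGood_structureModule hd1) (Degree.isGood hd1 hIi)
      (Module.nontrivial_of_finrank_pos (R := k) (show 0 < Euler.hdim k X (ClSub.idealMod I) 0 by omega))
    rw [hdeg] at hdI
    omega
  set f₀ := gη (cf s₀) with hf₀
  have hf₀0 : f₀ ≠ 0 := fun h' => hF1 V le_rfl hoV 0 (by
    rw [hgη (h'.trans (map_zero gη).symm), map_zero, zero_mul])
  letI := GlobalSections.secModule k L
  have hcf_add : ∀ t t', cf (t + t') = cf t + cf t' := fun t t' => hcf_inj _ _ (by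
    rw [add_smul, ← hcf, ← hcf, ← hcf, rs_add])
  have hgt : ∀ c : k, gη (X.presheaf.map (homOfLE (le_top : V.1 ≤ ⊤)).op
      (Coh.toGlobal (X ↘ Spec (CommRingCat.of k)) c)) = algebraMap k X.functionField c := fun c =>
    X.presheaf.germ_res_apply (homOfLE le_top) (genericPoint X) hηV _
  have hcf_smul : ∀ (c : k) (t : (L.val.obj (op ⊤) : Type u)),
      cf (c • t) = X.presheaf.map (homOfLE (le_top : V.1 ≤ ⊤)).op
        (Coh.toGlobal (X ↘ Spec (CommRingCat.of k)) c) * cf t := fun c t => hcf_inj _ _ (by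
    rw [mul_smul]
    exact (hcf _).symm.trans ((rs_smul L le_top (Coh.toGlobal (X ↘ Spec (CommRingCat.of k)) c) t).trans
      (congrArg _ (hcf t))))
  let Φ : (L.val.obj (op ⊤) : Type u) →ₗ[k] X.functionField :=
    { toFun := fun t => gη (cf t) / f₀
      map_add' := fun t t' => (congrArg (gη · / f₀) (hcf_add t t')).trans (by rw [map_add, add_div])
      map_smul' := fun c t => by
        rw [RingHom.id_apply, hcf_smul, map_mul, hgt, Algebra.smul_def, mul_div_assoc] }
  have hgermη : ∀ t : Γ(L, ⊤), L.presheaf.germ ⊤ (genericPoint X) trivial t =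
      (show X.presheaf.stalk (genericPoint X) from gη (cf t)) • L.presheaf.germ V.1 (genericPoint X) hηV e := fun t => by
    refine (TopCat.Presheaf.germ_res_apply L.presheaf (homOfLE (le_top : V.1 ≤ ⊤)) _ hηV t).symm.trans ?_
    exact (congrArg _ (hcf t)).trans (StalkModule.germ_smul hηV _ _)
  have hΦinj : Function.Injective Φ := by
    refine (injective_iff_map_eq_zero _).mpr fun t ht => ?_
    have h1 : cf t = 0 := hgη (((div_eq_zero_iff).mp ht).resolve_right hf₀0 |>.trans (map_zero gη).symm)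
    refine TopCat.Presheaf.section_ext ⟨L.presheaf, L.isSheaf⟩ ⊤ (show Γ(L, ⊤) from t) 0 fun z _ => ?_
    refine Eq.trans ?_ (map_zero (L.presheaf.germ ⊤ z trivial).hom).symm
    obtain ⟨W, eW, hzW, heW⟩ := Gen.isInvertible_iff.1 hL z
    obtain ⟨c, hc⟩ := exists_coord heW (rs L (le_top : W ≤ ⊤) t)
    haveI : Nonempty W := ⟨⟨z, hzW⟩⟩
    have hηW : genericPoint X ∈ W := (genericPoint_specializes z).mem_open W.2 hzW
    have h2 : (L.presheaf.germ ⊤ (genericPoint X) trivial (show Γ(L, ⊤) from t)) = 0 := by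
      rw [hgermη, h1, map_zero]
      exact zero_smul _ _
    have h3 : X.presheaf.germ W (genericPoint X) hηW c = 0 := by
      refine germ_gen_smul_eq_zero heW hηW ?_
      rw [← StalkModule.germ_smul, ← hc]
      exact (TopCat.Presheaf.germ_res_apply L.presheaf _ _ hηW _).trans h2
    have h4 : c = 0 := germ_injective_of_isIntegral X (genericPoint X) hηW (h3.trans (map_zero _).symm)
    refine (TopCat.Presheaf.germ_res_apply L.presheaf (homOfLE (le_top : W ≤ ⊤)) z hzW _).symm.trans ?_
    rw [show L.presheaf.map (homOfLE (le_top : W ≤ ⊤)).op (show Γ(L, ⊤) from t) = c • eW from hc, h4,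
      zero_smul, map_zero]
  -- the image
  have hΦmem : ∀ t, Φ t ∈ _root_.FunFld.L (Finsupp.single P (3 : ℤ)) := by
    intro t
    refine FunFld.Degree.mem_L_iff_ord.mpr (or_iff_not_imp_left.mpr fun ht0 Q => ?_)
    obtain ⟨q, rfl⟩ := CurveFF.placeOf_surjective h Q
    haveI := h.dvr q.1 q.2
    by_cases hq : q = o
    · subst hq
      rw [Finsupp.single_eq_same]
      set O := X.presheaf.stalk q.1 with hOdef
      set π : O := X.presheaf.germ V.1 q.1 hoV g with hπdef
      have hmax : IsLocalRing.maximalIdeal O = Ideal.span {π} := by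
        letI := TopCat.Presheaf.algebra_section_stalk X.presheaf (⟨q.1, hoV⟩ : V.1)
        haveI := V.2.isLocalization_stalk ⟨q.1, hoV⟩
        have hp : I.ideal V = (V.2.primeIdealOf ⟨q.1, hoV⟩).asIdeal := by
          refine le_antisymm (fun a ha => ?_) fun a ha => ?_
          · rw [← IsLocalization.AtPrime.to_map_mem_maximal_iff O (V.2.primeIdealOf ⟨q.1, hoV⟩).asIdeal]
            intro hu
            have h2 : q.1 ∈ X.basicOpen a := (X.mem_basicOpen a q.1 hoV).mpr hu
            exact ((Scheme.mem_zeroLocus_iff X _ _).mp ((Scheme.IdealSheafData.mem_support_iff_of_mem (U := V) hoV).mp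
              (show q.1 ∈ (I.support : Set X) from hsupp ▸ rfl))) a ha h2
          · exact PointIdeal.mem_ideal_of_germ q.2 hoV a
              ((IsLocalization.AtPrime.to_map_mem_maximal_iff O _ a).mpr ha)
        rw [← IsLocalization.AtPrime.map_eq_maximalIdeal (V.2.primeIdealOf ⟨q.1, hoV⟩).asIdeal, ← hp, hIV,
          Ideal.map_span, Set.image_singleton]
        rfl
      have hπ : Irreducible π := (IsDiscreteValuationRing.irreducible_iff_uniformizer π).mpr hmax
      set a₀ : O := X.presheaf.germ V.1 q.1 hoV (cf s₀)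
      have hndvd : ¬ π ^ 4 ∣ a₀ := by
        rintro ⟨b, hb⟩
        obtain ⟨W₀, hqW₀, bW, rfl⟩ := X.presheaf.exists_germ_eq b
        rw [hπdef, ← map_pow, ← TopCat.Presheaf.germ_res_apply X.presheaf
          (homOfLE (inf_le_right : W₀ ⊓ V.1 ≤ V.1)) q.1 ⟨hqW₀, hoV⟩ (g ^ 4),
          ← TopCat.Presheaf.germ_res_apply X.presheaf (homOfLE (inf_le_left : W₀ ⊓ V.1 ≤ W₀)) q.1 ⟨hqW₀, hoV⟩ bW] at hb
        obtain ⟨W', hW'a, hqW', hle'⟩ := exists_isAffineOpen_mem_and_subset (show q.1 ∈ W₀ ⊓ V.1 from ⟨hqW₀, hoV⟩)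
        have hle : W' ≤ W₀ ⊓ V.1 := hle'
        refine hF1 ⟨W', hW'a⟩ (hle.trans inf_le_right) hqW' (X.presheaf.map (homOfLE (hle.trans inf_le_left)).op bW) ?_
        refine germ_injective_of_isIntegral X q.1 hqW' ?_
        erw [map_mul, TopCat.Presheaf.germ_res_apply, TopCat.Presheaf.germ_res_apply,
          TopCat.Presheaf.germ_res_apply]
        refine hb.trans ?_
        erw [TopCat.Presheaf.germ_res_apply, TopCat.Presheaf.germ_res_apply]
        rw [mul_comm]
      have ha₀ : a₀ ≠ 0 := fun h' => hndvd (h' ▸ dvd_zero _)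
      obtain ⟨n, u, hu⟩ := IsDiscreteValuationRing.eq_unit_mul_pow_irreducible ha₀ hπ
      have hn : n ≤ 3 := by
        by_contra hn
        exact hndvd (hu ▸ Dvd.dvd.mul_left (pow_dvd_pow π (by omega)) _)
      set A := algebraMap O X.functionField
      have hga : ∀ c : Γ(X, V.1), A (X.presheaf.germ V.1 q.1 hoV c) = gη c := fun c =>
        Scheme.algebraMap_germ_eq_germToFunctionField (X := X) hoV c
      have hval : (CurveFF.placeOf k h q).1 (A π) = WithZero.exp (-1 : ℤ) := by
        refine (IsDedekindDomain.HeightOneSpectrum.valuation_of_algebraMap _ _).trans ?_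
        exact IsDedekindDomain.HeightOneSpectrum.intValuation_singleton _ hπ.ne_zero hmax
      have hle : (CurveFF.placeOf k h q).1 (Φ t * A π ^ 3) ≤ 1 := by
        refine CurveFF.val_placeAt_le_one_iff.mpr
          ⟨X.presheaf.germ V.1 q.1 hoV (cf t) * ↑(u⁻¹) * π ^ (3 - n), ?_⟩
        change A _ = gη (cf t) / f₀ * _
        have hf : f₀ = A u * A π ^ n := by rw [hf₀, ← hga, ← map_pow, ← map_mul, ← hu]
        have hAu : A u ≠ 0 := (u.isUnit.map A).ne_zero
        have hAπ : A π ≠ 0 := fun h' => hπ.ne_zero (IsFractionRing.injective O X.functionField (h'.trans (map_zero _).symm))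
        rw [map_mul, map_mul, map_pow, hga, map_units_inv, hf]
        have h3 : A π ^ 3 = A π ^ n * A π ^ (3 - n) := by rw [← pow_add, Nat.add_sub_cancel' hn]
        rw [h3]
        field_simp
      rw [map_mul, map_pow, hval] at hle
      have hv : (CurveFF.placeOf k h q).1 (Φ t) ≤ WithZero.exp (3 : ℤ) := by
        rw [← WithZero.exp_nsmul] at hle
        calc (CurveFF.placeOf k h q).1 (Φ t)
            = (CurveFF.placeOf k h q).1 (Φ t) * WithZero.exp (3 • (-1 : ℤ)) * WithZero.exp (3 : ℤ) := by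
              rw [mul_assoc, ← WithZero.exp_add]; norm_num
          _ ≤ 1 * WithZero.exp (3 : ℤ) := mul_le_mul_left hle _
          _ = WithZero.exp (3 : ℤ) := one_mul _
      exact ((FunFld.Place.val_le_exp_iff _).mp hv).resolve_left ht0
    · rw [Finsupp.single_eq_of_ne (fun he' => hq (CurveFF.placeOf_injective h he')), neg_zero]
      obtain hlr | hlr := PointIdeal.span_or_app_eq_zero q.2 hL s₀
      · have hm : L.presheaf.germ ⊤ q.1 trivial t ∈
            Submodule.span (X.presheaf.stalk q.1) {L.presheaf.germ ⊤ q.1 trivial s₀} := by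
          rw [hlr q.1 (specializes_rfl)]; exact Submodule.mem_top
        obtain ⟨a, ha⟩ := Submodule.mem_span_singleton.mp hm
        obtain ⟨W, hW, b, rfl⟩ := TopCat.Presheaf.exists_germ_eq X.presheaf a
        have hΦ : Φ t = algebraMap (X.presheaf.stalk q.1) X.functionField (X.presheaf.germ W q.1 hW b) := by
          haveI : Nonempty W := ⟨⟨q.1, hW⟩⟩
          rw [Scheme.algebraMap_germ_eq_germToFunctionField (X := X) hW b]
          have hsp : genericPoint X ⤳ q.1 := genericPoint_specializes q.1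
          have hηW : genericPoint X ∈ W := hsp.mem_open W.2 hW
          have hηWt : genericPoint X ∈ W ⊓ ⊤ := ⟨hηW, trivial⟩
          rw [← TopCat.Presheaf.germ_res_apply L.presheaf (homOfLE (le_top : W ≤ ⊤)) q.1 hW t,
            ← TopCat.Presheaf.germ_res_apply L.presheaf (homOfLE (le_top : W ≤ ⊤)) q.1 hW s₀,
            ← StalkModule.germ_smul] at ha
          obtain ⟨W', hW', i, i', h'⟩ := TopCat.Presheaf.germ_eq L.presheaf q.1 _ _ _ _ ha
          have h5 := congrArg (L.presheaf.germ W' (genericPoint X) (hsp.mem_open W'.2 hW')) h'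
          erw [TopCat.Presheaf.germ_res_apply, TopCat.Presheaf.germ_res_apply, StalkModule.germ_smul,
            TopCat.Presheaf.germ_res_apply, TopCat.Presheaf.germ_res_apply, hgermη, hgermη, smul_smul] at h5
          have h6 := sub_eq_zero.mp (germ_gen_smul_eq_zero he hηV
            ((sub_smul _ _ _).trans (sub_eq_zero.mpr h5)))
          change gη (cf t) / f₀ = _
          rw [div_eq_iff hf₀0]
          exact h6.symm
        rw [hΦ]
        exact (FunFld.Place.val_le_one_iff _).mp (CurveFF.val_placeAt_le_one_iff.mpr ⟨_, rfl⟩)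
      · exact absurd hlr (evQ_section_ne_zero q.2 (fun he' => hq (Subtype.ext he')) hL eL
          (by rw [Scheme.IdealSheafData.support_pow_succ, hsupp]))
  obtain ⟨hli, hspanL⟩ := FunFld.Elliptic.fam_spec hK hgK hPdeg hx hx2 hy hy3 (n := 3) (by norm_num)
  haveI : Module.Finite k (L.val.obj (op ⊤) : Type u) := by
    haveI := (Degree.isGood (k := k) hd1 hL).fin₀
    exact Module.Finite.equiv (GlobalSections.h0Linear k L)
  have hfr : Module.finrank k (L.val.obj (op ⊤) : Type u) = 3 :=
    (GlobalSections.h0Linear k L).finrank_eq.symm.trans hL0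
  let T₀ : Fin 3 → X.functionField := ![x, y, 1]
  have hT₀ : Set.range T₀ = Set.range (FunFld.Elliptic.fam x y 3) := by
    ext z
    constructor
    · rintro ⟨i, rfl⟩
      fin_cases i
      · exact ⟨Sum.inl 1, by simp [T₀, FunFld.Elliptic.fam]⟩
      · exact ⟨Sum.inr 0, by simp [T₀, FunFld.Elliptic.fam]⟩
      · exact ⟨Sum.inl 0, by simp [T₀, FunFld.Elliptic.fam]⟩
    · rintro ⟨s, rfl⟩
      rcases s with i | i <;> fin_cases i
      · exact ⟨2, by simp [T₀, FunFld.Elliptic.fam]⟩
      · exact ⟨0, by simp [T₀, FunFld.Elliptic.fam]⟩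
      · exact ⟨1, by simp [T₀, FunFld.Elliptic.fam]⟩
  have hrange : LinearMap.range Φ = _root_.FunFld.L (Finsupp.single P (3 : ℤ)) := by
    haveI : FiniteDimensional k (_root_.FunFld.L (Finsupp.single P (3 : ℤ))) := by
      rw [← Nat.cast_ofNat (R := ℤ) (n := 3), ← hspanL]
      exact FiniteDimensional.span_of_finite k (Set.finite_range _)
    refine Submodule.eq_of_le_of_finrank_eq ?_ ?_
    · rintro _ ⟨t, rfl⟩; exact hΦmem t
    · rw [LinearMap.finrank_range_of_inj hΦinj, hfr, ← Nat.cast_ofNat (R := ℤ) (n := 3), ← hspanL,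
        finrank_span_eq_card hli]
      rfl
  have hpre : ∀ i, ∃ t, Φ t = T₀ i := fun i => by
    rw [← LinearMap.mem_range, hrange, ← Nat.cast_ofNat (R := ℤ) (n := 3), ← hspanL]
    exact Submodule.subset_span (hT₀ ▸ ⟨i, rfl⟩)
  choose T hT using hpre
  have hspanT : Submodule.span k (Set.range T) = ⊤ := by
    refine Submodule.map_injective_of_injective hΦinj ?_
    rw [Submodule.map_top, hrange, Submodule.map_span, ← Set.range_comp,
      show (Φ ∘ T) = T₀ from funext hT, hT₀, ← Nat.cast_ofNat (R := ℤ) (n := 3), ← hspanL]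
  obtain ⟨r, hci, hr, τ, hτ⟩ := VeryAmple.exists_closedImmersion_of_span (AlgebraicClosure k) hdim hL hgg
    (n := 2) (by norm_num) hL0 (fun X' _ _ gX hpb => by
      haveI := BaseChange.isProper hpb
      have hdim' : topologicalKrullDim X' = 1 := (BaseChange.topologicalKrullDim_eq hpb).trans hdim
      refine SepCriterion.separates_of_deg hdim'.le ?_ (PicLoc.isInvertible_pullback gX hL) ?_
      · exact (BaseChange.hdim_structureModule hpb 0).trans h0
      · rw [BaseChange.genus_eq hpb, BaseChange.deg_eq hpb hd1 hdim'.le hL, hdL, hg]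
        norm_num) T hspanT
  let el : Fin 3 → (CohB1.polyGrading 2 k) 1 := fun i => ⟨MvPolynomial.X i, MvPolynomial.isHomogeneous_X k i⟩
  have hcv := ProjMor.Main.cover (ProjMor.Poly.lin_mem 2 k) (ProjMor.Poly.adjoin_lin 2 k)
  have hinv : PicF.IsInvertible (Twist.twist (CohB1.polyGrading 2 k) 1) :=
    ProjTilde.Invertible.twist_isInvertible_of_cover (fun z => by
      obtain ⟨c, hc⟩ := hcv z
      exact ⟨c, c.2, hc⟩) 1
  have hloc : ∀ i, r ⁻¹ᵁ LefPen.chart 2 k i = ProjMor.Sec.locus (T i) := fun i => by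
    rw [← congrArg ProjMor.Sec.locus (hτ i)]
    exact ((congrArg (r ⁻¹ᵁ ·) (ProjMor.Frame.locus_g hcv (el i))).symm.trans
      ((locus_pullback hinv r _).symm.trans (locus_iso τ _).symm))
  have hT0 : ∀ i, Φ (T i) ≠ 0 := fun i => by
    rw [hT]
    fin_cases i
    · exact FunFld.Elliptic.ne_zero_of_ord P (f := x) (by rw [hx2]; norm_num)
    · exact FunFld.Elliptic.ne_zero_of_ord P (f := y) (by rw [hy3]; norm_num)
    · exact one_ne_zero
  have hη : ∀ i, genericPoint X ∈ r ⁻¹ᵁ LefPen.chart 2 k i := fun i => by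
    rw [hloc]
    have hc : gη (cf (T i)) ≠ 0 := fun h' => hT0 i (show gη (cf (T i)) / f₀ = 0 by rw [h', zero_div])
    have hmem : genericPoint X ∈ X.basicOpen (cf (T i)) := (X.mem_basicOpen _ _ hηV).mpr (isUnit_iff_ne_zero.mpr hc)
    refine le_locus (U := X.basicOpen (cf (T i))) ?_ hmem
    have h1 : gl (T i) (X.basicOpen (cf (T i))) =
        (show Γ(X, X.basicOpen (cf (T i))) from X.presheaf.map (homOfLE (X.basicOpen_le (cf (T i)))).op (cf (T i))) •
        rs L (X.basicOpen_le (cf (T i))) e := by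
      have h2 := congrArg (rs L (X.basicOpen_le (cf (T i)))) (hcf (T i))
      exact (rs_rs L _ _ _).symm.trans (h2.trans (rs_smul L _ _ _))
    rw [h1]
    exact IsGen_smul_isUnit (he.res _) (RingedSpace.isUnit_res_basicOpen _ _)
  refine ⟨r, hη, hci, hr, fun i j => ?_⟩
  have hrel := ProjMor.Embed.ratio_of_iso (a := el j) (b := el i) τ (hτ j) (hτ i)
    (le_rfl : r ⁻¹ᵁ LefPen.chart 2 k j ≤ _)
  have hrel' := congrArg (L.presheaf.germ _ (genericPoint X) (hη j)) hrel
  rw [StalkModule.germ_smul] at hrel'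
  have hgl : ∀ t : Γ(L, ⊤), L.presheaf.germ _ (genericPoint X) (hη j) (gl t (r ⁻¹ᵁ LefPen.chart 2 k j)) =
      (show X.presheaf.stalk (genericPoint X) from gη (cf t)) • L.presheaf.germ V.1 (genericPoint X) hηV e :=
    fun t => (TopCat.Presheaf.germ_res_apply L.presheaf _ _ (hη j) t).trans (hgermη t)
  replace hrel' := (hgl (T i)).symm.trans (hrel'.trans ((congrArg (_ • ·) (hgl (T j))).trans (smul_smul _ _ _)))
  have hα := sub_eq_zero.mp (germ_gen_smul_eq_zero he hηV
    ((sub_smul _ _ _).trans (sub_eq_zero.mpr hrel')))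
  show _ * T₀ j = T₀ i
  rw [← hT, ← hT]
  change _ * (gη (cf (T j)) / f₀) = gη (cf (T i)) / f₀
  rw [← mul_div_assoc]
  refine congrArg (· / f₀) (Eq.trans ?_ hα.symm)
  erw [Scheme.Hom.appLE_eq_app]
  rfl

end Groth.Agent.Lib.Curves.WeierstrassSect
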